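import Cfsg.Agent.RankThreeFus.Frame

/-!
# S1730, branch (B), last case (B8*): helper48's kill (I.1)

`Eone.false_of_prod`: in the frame `Fr S A U z f x s` let `t ∈ T` be a square root of `z` with
`[Q, t] ≤ A`, `[s, t] ∈ A` and `t t^x t^(x²) ∈ A`.  There is no involution `b ∈ Q` with `[b, f] = z`,
`[b, s] = 1` and `b b^x b^(x²) ∈ A`: otherwise `G` would have 2-rank at least four.
-/

set_option autoImplicit false

namespace Cfsg.Agent.RankThreeFus

open Subgroup Cfsg.Agent.Lib.GoldschmidtFusion Cfsg.Agent.StdL2.G23Aut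

variable {G : Type*} [Group G]

namespace Eone

theorem four {U : Subgroup G} (hc : Nat.card U = 4) (hs : ∀ a ∈ U, a * a = 1) {a b : G} (ha : a ∈ U)
    (hb : b ∈ U) (ha1 : a ≠ 1) (hb1 : b ≠ 1) (hab : a ≠ b) {c : G} (hcU : c ∈ U) :
    c = 1 ∨ c = a ∨ c = b ∨ c = a * b := by
  classical
  have h4 : (U : Set G).ncard = 4 := hc
  have hfin : (U : Set G).Finite := Set.finite_of_ncard_ne_zero (by rw [h4]; norm_num)
  have hab1 : a * b ≠ 1 := fun h => hab (by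
    rw [← mul_inv_eq_one, inv_eq_of_mul_eq_one_right (hs b hb)]; exact h)
  have hab2 : a * b ≠ a := fun h => hb1 (by simpa using h)
  have hab3 : a * b ≠ b := fun h => ha1 (by simpa using h)
  have h1 : (({1, a, b, a * b} : Finset G) : Set G) = U := by
    refine Set.eq_of_subset_of_ncard_le ?_ ?_ hfin
    · intro x hx
      simp only [Finset.coe_insert, Finset.coe_singleton, Set.mem_insert_iff, Set.mem_singleton_iff] at hx
      rcases hx with rfl | rfl | rfl | rfl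
      · exact U.one_mem
      · exact ha
      · exact hb
      · exact U.mul_mem ha hb
    · rw [h4, Set.ncard_coe_finset]
      rw [Finset.card_insert_of_notMem, Finset.card_insert_of_notMem, Finset.card_insert_of_notMem,
        Finset.card_singleton]
      · simpa using ha1
      · simp only [Finset.mem_insert, Finset.mem_singleton, not_or]
        exact ⟨hab, fun h => hab2 h.symm⟩
      · simp only [Finset.mem_insert, Finset.mem_singleton, not_or]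
        exact ⟨fun h => ha1 h.symm, fun h => hb1 h.symm, fun h => hab1 h.symm⟩
  have h2 : c ∈ (({1, a, b, a * b} : Finset G) : Set G) := by rw [h1]; exact hcU
  simpa using h2

/-- An element `y` of odd order with `g ^ y = g a`, `a ^ y = a`, `a² = 1` centralises `g`. -/
theorem odd_trick {y g a : G} (hodd : Odd (orderOf y)) (h1 : y * g * y⁻¹ = g * a)
    (h2 : y * a = a * y) (h3 : a * a = 1) : a = 1 := by
  have key : ∀ n : ℕ, y ^ n * g * (y ^ n)⁻¹ = g * a ^ n := by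
    intro n
    induction n with
    | zero => simp
    | succ n ih =>
      have h4 : y * a ^ n * y⁻¹ = a ^ n := by
        rw [mul_inv_eq_iff_eq_mul]
        exact (Commute.pow_right (show Commute y a from h2) n).eq
      calc y ^ (n + 1) * g * (y ^ (n + 1))⁻¹ = y * (y ^ n * g * (y ^ n)⁻¹) * y⁻¹ := by
            rw [pow_succ']; group
        _ = (y * g * y⁻¹) * (y * a ^ n * y⁻¹) := by rw [ih]; group
        _ = g * a ^ (n + 1) := by rw [h1, h4, mul_assoc, ← pow_succ']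
  have h5 := key (orderOf y)
  rw [pow_orderOf_eq_one] at h5
  have h6 : a ^ orderOf y = 1 := by
    have : g * a ^ orderOf y = g * 1 := by rw [← h5]; group
    exact mul_left_cancel this
  obtain ⟨m, hm⟩ := hodd
  rw [hm, pow_add, pow_mul, pow_two, h3, one_pow, one_mul, pow_one] at h6
  exact h6

variable {S : Sylow 2 G} {A U : Subgroup G} {z f x s : G} (h : Fr S A U z f x s)

include h

theorem odd_x : Odd (orderOf x) := by
  obtain ⟨k, hk⟩ := h.xo
  rw [hk]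
  exact Odd.pow (by decide)

theorem p2U : x * z * x⁻¹ ∈ U := mem_norm h.xU h.zU

theorem p3U : x * (x * z * x⁻¹) * x⁻¹ ∈ U := mem_norm h.xU (p2U h)

theorem sqU {a : G} (ha : a ∈ U) : a * a = 1 := h.sqA (h.UA ha)

theorem p2_ne : x * z * x⁻¹ ≠ 1 := fun hh => h.z1 (by
  have : z = x⁻¹ * (x * z * x⁻¹) * x := by group
  rw [this, hh]; group)

theorem p3_ne_z : x * (x * z * x⁻¹) * x⁻¹ ≠ z := by
  intro hh
  apply h.xz
  obtain ⟨m, hm⟩ := (odd_x h)
  have h1 : Commute (x ^ 2) z := by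
    have : x ^ 2 * z * (x ^ 2)⁻¹ = z := by
      calc x ^ 2 * z * (x ^ 2)⁻¹ = x * (x * z * x⁻¹) * x⁻¹ := by rw [pow_two]; group
        _ = z := hh
    exact mul_inv_eq_iff_eq_mul.1 this
  have h2 : x = ((x ^ 2) ^ m)⁻¹ := by
    have h3 : (x ^ 2) ^ m * x = 1 := by
      rw [← pow_mul, ← pow_succ, ← hm, pow_orderOf_eq_one]
    exact (inv_eq_of_mul_eq_one_right h3).symm
  have h3 : Commute x z := by
    rw [h2]
    exact (h1.pow_left m).inv_left
  rw [mul_inv_eq_iff_eq_mul]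
  exact h3.eq

theorem p3_eq : x * (x * z * x⁻¹) * x⁻¹ = z * (x * z * x⁻¹) := by
  rcases Eone.four h.cardU (fun a ha => (sqU h) ha) h.zU (p2U h) h.z1 (p2_ne h) (fun hh => h.xz hh.symm)
    (p3U h) with h1 | h1 | h1 | h1
  · exfalso
    apply (p2_ne h)
    have : x * z * x⁻¹ = x⁻¹ * (x * (x * z * x⁻¹) * x⁻¹) * x := by group
    rw [this, h1]; group
  · exact absurd h1 (p3_ne_z h)
  · exfalso
    apply h.xz
    have : z = x⁻¹ * (x * z * x⁻¹) * x := by group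
    have h2 : x * z * x⁻¹ = x⁻¹ * (x * (x * z * x⁻¹) * x⁻¹) * x := by group
    rw [h1] at h2
    rw [h2]; group
  · exact h1

theorem mem_U {a : G} (ha : a ∈ U) : a = 1 ∨ a = z ∨ a = x * z * x⁻¹ ∨ a = z * (x * z * x⁻¹) :=
  Eone.four h.cardU (fun a ha => (sqU h) ha) h.zU (p2U h) h.z1 (p2_ne h) (fun hh => h.xz hh.symm) ha

theorem commU {a b : G} (ha : a ∈ U) (hb : b ∈ U) : a * b = b * a := h.commA (h.UA ha) (h.UA hb)


/-- Rank at most three: there are no two commuting involutions centralising `U` and acting on `f` as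
`z` and as `z ^ x`. -/
theorem false_of_comm [Finite G] {a b : G} (ha : ∀ u ∈ U, a * u = u * a) (hb : ∀ u ∈ U, b * u = u * b)
    (haa : a * a = 1) (hbb : b * b = 1) (hab : a * b = b * a) (haf : a * f * a⁻¹ = f * z)
    (hbf : b * f * b⁻¹ = f * (x * z * x⁻¹)) : False := by
  have hzc : ∀ y ∈ zpowers a, ∀ u ∈ U, u * y = y * u := by
    intro y hy u hu
    rcases zpowers_cases haa y hy with rfl | rfl
    · simp
    · exact (ha u hu).symm
  have h1 := sup_elem (X := U) (Y := zpowers a) (fun u hu => sqU h hu) (zpowers_sq haa)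
    (fun u hu v hv => commU h hu hv) (comm_of_sq' (zpowers_sq haa)) (fun u hu y hy => hzc y hy u hu)
  have hcb : ∀ y ∈ U ⊔ zpowers a, b * y = y * b := by
    have h2 : U ⊔ zpowers a ≤ centralizer ({b} : Set G) := by
      refine sup_le ?_ ?_
      · intro u hu
        rw [mem_centralizer_singleton_iff]
        exact (hb u hu).symm
      · rw [zpowers_le, mem_centralizer_singleton_iff]
        exact hab
    intro y hy
    exact (mem_centralizer_singleton_iff.1 (h2 hy)).symm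
  have h2 := sup_elem (X := U ⊔ zpowers a) (Y := zpowers b) h1.2 (zpowers_sq hbb) h1.1
    (comm_of_sq' (zpowers_sq hbb)) (by
      intro u hu y hy
      rcases zpowers_cases hbb y hy with rfl | rfl
      · simp
      · exact (hcb u hu).symm)
  have h3 := card_le h.hyp.rank h2.2
  have h4 : a ∉ U := by
    intro haU
    have h5 : a * f = f * a := h.commA (h.UA haU) h.fA
    rw [h5, mul_inv_cancel_right] at haf
    exact h.z1 (by simpa using haf.symm)
  have hact : ∀ y ∈ U ⊔ zpowers a, y * f * y⁻¹ = f ∨ y * f * y⁻¹ = f * z := by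
    have hle : U ⊔ zpowers a ≤ closure ((U : Set G) ∪ {a}) := by
      refine sup_le (fun u hu => subset_closure (Or.inl hu)) ?_
      rw [zpowers_le]
      exact subset_closure (Or.inr rfl)
    have hgen : ∀ y ∈ ((U : Set G) ∪ {a}), (y * f * y⁻¹ = f ∨ y * f * y⁻¹ = f * z) ∧ y * z = z * y := by
      rintro y (hy | hy)
      · refine ⟨Or.inl ?_, h.commA (h.UA hy) h.zA⟩
        rw [h.commA (h.UA hy) h.fA, mul_inv_cancel_right]
      · rw [Set.mem_singleton_iff] at hy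
        subst hy
        exact ⟨Or.inr haf, ha z h.zU⟩
    have hz2 : z * z = 1 := h.sqA h.zA
    have hall : ∀ y ∈ closure ((U : Set G) ∪ {a}), (y * f * y⁻¹ = f ∨ y * f * y⁻¹ = f * z) ∧ y * z = z * y := by
      intro y hy
      induction hy using closure_induction with
      | mem y hy => exact hgen y hy
      | one => simp
      | mul y w _ _ ihy ihw =>
        obtain ⟨hy1, hy2⟩ := ihy
        obtain ⟨hw1, hw2⟩ := ihw
        have hc : y * w * z = z * (y * w) := by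
          rw [mul_assoc, hw2, ← mul_assoc, hy2, mul_assoc]
        refine ⟨?_, hc⟩
        have e1 : y * w * f * (y * w)⁻¹ = y * (w * f * w⁻¹) * y⁻¹ := by group
        have hyz : y * z * y⁻¹ = z := by rw [hy2, mul_inv_cancel_right]
        rw [e1]
        rcases hw1 with hw1 | hw1 <;> rw [hw1]
        · exact hy1
        · have e2 : y * (f * z) * y⁻¹ = (y * f * y⁻¹) * (y * z * y⁻¹) := by group
          rw [e2, hyz]
          rcases hy1 with hy1 | hy1 <;> rw [hy1]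
          · right; rfl
          · left
            rw [mul_assoc, hz2, mul_one]
      | inv y _ ih =>
        obtain ⟨hy1, hy2⟩ := ih
        have hc : y⁻¹ * z = z * y⁻¹ := by
          rw [inv_mul_eq_iff_eq_mul, ← mul_assoc, hy2, mul_assoc, mul_inv_cancel, mul_one]
        refine ⟨?_, hc⟩
        rcases hy1 with hy1 | hy1
        · left
          rw [← mul_left_cancel_iff (a := y), ← mul_right_cancel_iff (a := y⁻¹), hy1]; group
        · right
          have e3 : y⁻¹ * f * y⁻¹⁻¹ = y⁻¹ * ((y * f * y⁻¹) * z⁻¹) * y := by rw [hy1]; group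
          rw [e3, inv_eq_of_mul_eq_one_left hz2]
          have e4 : y⁻¹ * (y * f * y⁻¹ * z) * y = f * (y⁻¹ * z) * y := by group
          rw [e4, hc]; group
    exact fun y hy => (hall y (hle hy)).1
  have h5 : b ∉ U ⊔ zpowers a := by
    intro hbU
    rcases hact b hbU with h6 | h6
    · rw [hbf] at h6
      exact p2_ne h (by simpa using h6)
    · rw [hbf] at h6
      exact h.xz (mul_left_cancel h6)
  have h6 : U < U ⊔ zpowers a := by
    refine lt_of_le_of_ne le_sup_left (fun hh => h4 ?_)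
    rw [hh]
    exact le_sup_right (a := U) (mem_zpowers a)
  have h7 : U ⊔ zpowers a < (U ⊔ zpowers a) ⊔ zpowers b := by
    refine lt_of_le_of_ne le_sup_left (fun hh => h5 ?_)
    rw [hh]
    exact le_sup_right (a := U ⊔ zpowers a) (mem_zpowers b)
  have h8 := card_dvd_of_le h6.le
  have h9 := card_dvd_of_le h7.le
  have h10 : Nat.card U ≠ Nat.card (U ⊔ zpowers a : Subgroup G) := fun hh =>
    h6.ne (Subgroup.eq_of_le_of_card_ge h6.le hh.ge)
  have h11 : Nat.card (U ⊔ zpowers a : Subgroup G) ≠ Nat.card ((U ⊔ zpowers a) ⊔ zpowers b : Subgroup G) :=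
    fun hh => h7.ne (Subgroup.eq_of_le_of_card_ge h7.le hh.ge)
  rw [h.cardU] at h8 h10
  obtain ⟨m, hm⟩ := h8
  obtain ⟨k, hk⟩ := h9
  have hpos : 0 < Nat.card ((U ⊔ zpowers a) ⊔ zpowers b : Subgroup G) := Nat.card_pos
  rw [hk, hm] at h3 hpos h11
  rw [hm] at h10
  have hm1 : m ≠ 1 := fun hh => h10 (by rw [hh])
  have hk1 : k ≠ 1 := fun hh => h11 (by rw [hh, mul_one])
  have hm0 : m ≠ 0 := fun hh => by simp [hh] at hpos
  have hk0 : k ≠ 0 := fun hh => by simp [hh] at hpos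
  have hm2 : 2 ≤ m := by omega
  have hk2 : 2 ≤ k := by omega
  nlinarith


/-- conjugation by `x` -/
theorem p3_conj : x * (x * (x * z * x⁻¹) * x⁻¹) * x⁻¹ = z := by
  have h1 : x * (x * (x * z * x⁻¹) * x⁻¹) * x⁻¹ = (x * z * x⁻¹) * (x * (x * z * x⁻¹) * x⁻¹) := by
    conv_lhs => rw [p3_eq h]
    group
  rw [h1]
  have h2 := h.sqA (h.UA (p2U h))
  have h3 := commU h h.zU (p2U h)
  rw [p3_eq h, h3, ← mul_assoc, h2, one_mul]

theorem cube_U {u : G} (hu : u ∈ U) : x * (x * (x * u * x⁻¹) * x⁻¹) * x⁻¹ = u := by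
  have h2 : x * (x * (x * (x * z * x⁻¹) * x⁻¹) * x⁻¹) * x⁻¹ = x * z * x⁻¹ := by rw [p3_conj h]
  rcases mem_U h hu with rfl | rfl | rfl | rfl
  · group
  · exact p3_conj h
  · exact h2
  · have h3 : x * (x * (x * (z * (x * z * x⁻¹)) * x⁻¹) * x⁻¹) * x⁻¹ =
        (x * (x * (x * z * x⁻¹) * x⁻¹) * x⁻¹) * (x * (x * (x * (x * z * x⁻¹) * x⁻¹) * x⁻¹) * x⁻¹) := by
      group
    rw [h3, h2, p3_conj h]

theorem norm_U {u : G} (hu : u ∈ U) : u * (x * u * x⁻¹) * (x * (x * u * x⁻¹) * x⁻¹) = 1 := by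
  have hz := h.sqA h.zA
  have hp := h.sqA (h.UA (p2U h))
  have hc := commU h h.zU (p2U h)
  have e1 : z * (x * z * x⁻¹) * (x * (x * z * x⁻¹) * x⁻¹) = 1 := by
    rw [p3_eq h]
    exact h.sqA (A.mul_mem h.zA (h.UA (p2U h)))
  have e2 : (x * z * x⁻¹) * (x * (x * z * x⁻¹) * x⁻¹) * (x * (x * (x * z * x⁻¹) * x⁻¹) * x⁻¹) = 1 := by
    have : (x * z * x⁻¹) * (x * (x * z * x⁻¹) * x⁻¹) * (x * (x * (x * z * x⁻¹) * x⁻¹) * x⁻¹) =
      x * (z * (x * z * x⁻¹) * (x * (x * z * x⁻¹) * x⁻¹)) * x⁻¹ := by group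
    rw [this, e1]; group
  rcases mem_U h hu with rfl | rfl | rfl | rfl
  · group
  · exact e1
  · exact e2
  · have e3 : ∀ v ∈ U, ∀ w ∈ U, v * w * (x * (v * w) * x⁻¹) * (x * (x * (v * w) * x⁻¹) * x⁻¹) =
        (v * (x * v * x⁻¹) * (x * (x * v * x⁻¹) * x⁻¹)) * (w * (x * w * x⁻¹) * (x * (x * w * x⁻¹) * x⁻¹)) := by
      intro v hv w hw
      have a1 := mem_norm h.xU hv
      have a2 := mem_norm h.xU a1
      have b1 := mem_norm h.xU hw
      have b2 := mem_norm h.xU b1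
      have g1 : x * (v * w) * x⁻¹ = (x * v * x⁻¹) * (x * w * x⁻¹) := by group
      have g2 : x * (x * (v * w) * x⁻¹) * x⁻¹ = (x * (x * v * x⁻¹) * x⁻¹) * (x * (x * w * x⁻¹) * x⁻¹) := by
        group
      rw [g2, g1]
      generalize x * (x * v * x⁻¹) * x⁻¹ = v2 at *
      generalize x * (x * w * x⁻¹) * x⁻¹ = w2 at *
      generalize x * v * x⁻¹ = v1 at *
      generalize x * w * x⁻¹ = w1 at *
      calc v * w * (v1 * w1) * (v2 * w2) = v * (w * v1) * w1 * v2 * w2 := by group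
        _ = v * (v1 * w) * w1 * v2 * w2 := by rw [commU h hw a1]
        _ = v * v1 * w * (w1 * v2) * w2 := by group
        _ = v * v1 * w * (v2 * w1) * w2 := by rw [commU h b1 a2]
        _ = v * v1 * (w * v2) * w1 * w2 := by group
        _ = v * v1 * (v2 * w) * w1 * w2 := by rw [commU h hw a2]
        _ = _ := by group
    rw [e3 _ h.zU _ (p2U h), e1, e2, one_mul]

/-- `C_U(x) = 1` -/
theorem fix_U {u : G} (hu : u ∈ U) (hx : x * u * x⁻¹ = u) : u = 1 := by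
  have h1 := norm_U h hu
  rw [hx, hx] at h1
  have h2 := sqU h hu
  rw [h2, one_mul] at h1
  exact h1

/-- `C_A(x) = ⟨f⟩` -/
theorem fix_A [Finite G] {a : G} (ha : a ∈ A) (hx : x * a * x⁻¹ = a) : a = 1 ∨ a = f := by
  have hff : f * f = 1 := h.sqA h.fA
  have hxf : x * f * x⁻¹ = f := by rw [h.xf, mul_inv_cancel_right]
  rcases h.mem_A ha with h1 | h1
  · exact Or.inl (fix_U h h1 hx)
  · right
    have h2 : x * (f * a) * x⁻¹ = f * a := by
      have : x * (f * a) * x⁻¹ = (x * f * x⁻¹) * (x * a * x⁻¹) := by group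
      rw [this, hxf, hx]
    have h3 := fix_U h h1 h2
    rw [← inv_eq_of_mul_eq_one_right h3]
    exact (inv_eq_of_mul_eq_one_right hff)

theorem cube_A [Finite G] {a : G} (ha : a ∈ A) : x * (x * (x * a * x⁻¹) * x⁻¹) * x⁻¹ = a := by
  have hff : f * f = 1 := h.sqA h.fA
  have hxf : x * f * x⁻¹ = f := by rw [h.xf, mul_inv_cancel_right]
  rcases h.mem_A ha with h1 | h1
  · exact cube_U h h1
  · have h2 := cube_U h h1
    have h3 : x * (x * (x * (f * a) * x⁻¹) * x⁻¹) * x⁻¹ =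
        (x * (x * (x * f * x⁻¹) * x⁻¹) * x⁻¹) * (x * (x * (x * a * x⁻¹) * x⁻¹) * x⁻¹) := by group
    rw [h3, hxf, hxf, hxf] at h2
    exact mul_left_cancel h2

/-- If `x³` moves `g` inside `g A` then it centralises `g`. -/
theorem cube_trick [Finite G] {g a : G} (ha : a ∈ A) (hg : x * (x * (x * g * x⁻¹) * x⁻¹) * x⁻¹ = g * a) :
    a = 1 := by
  have h1 : Odd (orderOf (x ^ 3)) := by
    obtain ⟨k, hk⟩ := h.xo
    have h2 : orderOf (x ^ 3) ∣ 3 ^ k := by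
      rw [← hk]
      exact orderOf_pow_dvd 3
    exact Odd.of_dvd_nat (Odd.pow (by decide)) h2
  refine Eone.odd_trick (y := x ^ 3) (g := g) h1 ?_ ?_ (h.sqA ha)
  · rw [← hg, pow_succ, pow_two]; group
  · have h2 := cube_A h ha
    have h3 : x ^ 3 * a * (x ^ 3)⁻¹ = a := by
      rw [← h2]
      conv_rhs => rw [h2, ← h2]
      conv_lhs => rw [h2]
      rw [pow_succ, pow_two]; group
    exact mul_inv_eq_iff_eq_mul.1 h3


/-- three involutions `b, b^x, b^(x²)` of `Q` with product one, `[b, f] = z` -/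
theorem false_of_cycle [Finite G] {b : G} (hbU : ∀ u ∈ U, b * u = u * b) (hbb : b * b = 1)
    (hbf : b * f * b⁻¹ = f * z) (hF : b * (x * b * x⁻¹) * (x * (x * b * x⁻¹) * x⁻¹) = 1) : False := by
  have h2 : (x * b * x⁻¹) * (x * b * x⁻¹) = 1 := by
    have : (x * b * x⁻¹) * (x * b * x⁻¹) = x * (b * b) * x⁻¹ := by group
    rw [this, hbb]; group
  have h3 : (x * (x * b * x⁻¹) * x⁻¹) * (x * (x * b * x⁻¹) * x⁻¹) = 1 := by
    have : (x * (x * b * x⁻¹) * x⁻¹) * (x * (x * b * x⁻¹) * x⁻¹) = x * ((x * b * x⁻¹) * (x * b * x⁻¹)) * x⁻¹ := by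
      group
    rw [this, h2]; group
  have h4 : b * (x * b * x⁻¹) = x * (x * b * x⁻¹) * x⁻¹ := by
    rw [← inv_eq_of_mul_eq_one_left h3]
    exact eq_inv_of_mul_eq_one_left hF
  have h5 : (x * b * x⁻¹) * b = x * (x * b * x⁻¹) * x⁻¹ := by
    rw [← inv_eq_of_mul_eq_one_left h3, ← h4, mul_inv_rev, inv_eq_of_mul_eq_one_left h2,
      inv_eq_of_mul_eq_one_left hbb]
  refine false_of_comm h (a := b) (b := x * b * x⁻¹) hbU ?_ hbb h2 (h4.trans h5.symm) hbf ?_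
  · intro u hu
    have h6 : x⁻¹ * u * x ∈ U := mem_norm' h.xU hu
    have h7 := hbU _ h6
    calc x * b * x⁻¹ * u = x * (b * (x⁻¹ * u * x)) * x⁻¹ := by group
      _ = x * ((x⁻¹ * u * x) * b) * x⁻¹ := by rw [h7]
      _ = u * (x * b * x⁻¹) := by group
  · have hxf : x * f * x⁻¹ = f := by rw [h.xf, mul_inv_cancel_right]
    have hxf' : x⁻¹ * f * x = f := by
      have : x⁻¹ * f * x = x⁻¹ * (x * f * x⁻¹) * x := by rw [hxf]
      rw [this]; group
    calc x * b * x⁻¹ * f * (x * b * x⁻¹)⁻¹ = x * (b * (x⁻¹ * f * x) * b⁻¹) * x⁻¹ := by group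
      _ = x * (f * z) * x⁻¹ := by rw [hxf', hbf]
      _ = (x * f * x⁻¹) * (x * z * x⁻¹) := by group
      _ = _ := by rw [hxf]

/-- `F = b b^x b^(x²) ∈ A` is `1` or `f z^x` -/
theorem prod_cases [Finite G] {b : G} (hbS : b ∈ (S : Subgroup G)) (hbU : ∀ u ∈ U, b * u = u * b)
    (hbb : b * b = 1) (hbf : b * f * b⁻¹ = f * z)
    (hF : b * (x * b * x⁻¹) * (x * (x * b * x⁻¹) * x⁻¹) ∈ A) :
    b * (x * b * x⁻¹) * (x * (x * b * x⁻¹) * x⁻¹) = 1 ∨
      b * (x * b * x⁻¹) * (x * (x * b * x⁻¹) * x⁻¹) = f * (x * z * x⁻¹) := by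
  have hff : f * f = 1 := h.sqA h.fA
  have hzz : z * z = 1 := h.sqA h.zA
  have hb' : b⁻¹ = b := inv_eq_of_mul_eq_one_left hbb
  have hxf : x * f * x⁻¹ = f := by rw [h.xf, mul_inv_cancel_right]
  have hbA : b ∈ normalizer (A : Set G) := h.hyp.norm hbS
  set F := b * (x * b * x⁻¹) * (x * (x * b * x⁻¹) * x⁻¹) with hFd
  have hXF : x * F * x⁻¹ ∈ A := mem_norm h.xA hF
  have h1 : x * (x * (x * b * x⁻¹) * x⁻¹) * x⁻¹ = b * ((b⁻¹ * F⁻¹ * b) * (x * F * x⁻¹)) := by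
    rw [hFd]; simp [mul_assoc]
  have hmem : (b⁻¹ * F⁻¹ * b) * (x * F * x⁻¹) ∈ A :=
    A.mul_mem (mem_norm' hbA (A.inv_mem hF)) hXF
  have h2 := cube_trick h hmem h1
  have h3 : x * F * x⁻¹ = b * F * b⁻¹ := by
    have h4 : x * F * x⁻¹ = (b⁻¹ * F⁻¹ * b)⁻¹ := eq_inv_of_mul_eq_one_right h2
    rw [h4, hb']; group
    rw [zpow_neg_one, hb']
  rcases h.mem_A hF with h5 | h5
  · left
    refine fix_U h h5 ?_
    rw [h3, hbU _ h5, mul_inv_cancel_right]
  · right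
    set u := f * F with hu
    have hFu : F = f * u := by rw [hu, ← mul_assoc, hff, one_mul]
    rw [hFu] at h3
    have h6 : x * (f * u) * x⁻¹ = f * (x * u * x⁻¹) := by
      have : x * (f * u) * x⁻¹ = (x * f * x⁻¹) * (x * u * x⁻¹) := by group
      rw [this, hxf]
    have h7 : b * (f * u) * b⁻¹ = f * (z * u) := by
      have : b * (f * u) * b⁻¹ = (b * f * b⁻¹) * (b * u * b⁻¹) := by group
      rw [this, hbf, hbU _ h5, mul_inv_cancel_right, mul_assoc]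
    rw [h6, h7] at h3
    have h8 : x * u * x⁻¹ = z * u := mul_left_cancel h3
    have h9 := norm_U h h5
    have h10 : x * (x * u * x⁻¹) * x⁻¹ = z := by
      have h11 : u * (x * u * x⁻¹) = z := by
        rw [h8, commU h h.zU h5, ← mul_assoc, sqU h h5, one_mul]
      rw [h11] at h9
      rw [← inv_eq_of_mul_eq_one_right h9]
      exact inv_eq_of_mul_eq_one_left hzz
    have h12 := cube_U h h5
    rw [h10] at h12
    rw [hFu, ← h12]

omit h in
/-- Elements of `T` commute with elements of `A`. -/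
theorem commT {a t : G} (ha : a ∈ A) (ht : t ∈ TT S A) : a * t = t * a :=
  (mem_cent_iff.1 ht.2 a ha).symm

theorem Tx {t : G} (ht : t ∈ TT S A) : x * t * x⁻¹ ∈ TT S A := mem_norm h.xT ht

/-- normalised square roots of `z` -/
structure Root (S : Sylow 2 G) (A U : Subgroup G) (z x s t : G) : Prop where
  mem : t ∈ TT S A
  sq : t * t = z
  Q : ∀ g ∈ ((S : Subgroup G) ⊓ centralizer (U : Set G) : Subgroup G), g * t * g⁻¹ * t⁻¹ ∈ A
  s : s * t * s⁻¹ * t⁻¹ ∈ A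
  prod : t * (x * t * x⁻¹) * (x * (x * t * x⁻¹) * x⁻¹) = 1
  cube : x * (x * (x * t * x⁻¹) * x⁻¹) * x⁻¹ = t
  comm : t * (x * t * x⁻¹) = (x * t * x⁻¹) * t

theorem exists_root [Finite G] {t : G} (htT : t ∈ TT S A) (htt : t * t = z)
    (htQ : ∀ g ∈ ((S : Subgroup G) ⊓ centralizer (U : Set G) : Subgroup G), g * t * g⁻¹ * t⁻¹ ∈ A)
    (hts : s * t * s⁻¹ * t⁻¹ ∈ A)
    (ht3 : t * (x * t * x⁻¹) * (x * (x * t * x⁻¹) * x⁻¹) ∈ A) : ∃ t', Root S A U z x s t' := by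
  have hff : f * f = 1 := h.sqA h.fA
  have hzz : z * z = 1 := h.sqA h.zA
  have hpp : (x * z * x⁻¹) * (x * z * x⁻¹) = 1 := h.sqA (h.UA (p2U h))
  have hxf : x * f * x⁻¹ = f := by rw [h.xf, mul_inv_cancel_right]
  -- the cube
  have hT2 := Tx h htT
  have hT3 := Tx h hT2
  set F := t * (x * t * x⁻¹) * (x * (x * t * x⁻¹) * x⁻¹) with hFd
  have hXF : x * F * x⁻¹ ∈ A := mem_norm h.xA ht3
  have hFinv : F⁻¹ = F := h.invA ht3
  have h1 : x * (x * (x * t * x⁻¹) * x⁻¹) * x⁻¹ = t * (F⁻¹ * (x * F * x⁻¹)) := by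
    have h2 : x * (x * (x * t * x⁻¹) * x⁻¹) * x⁻¹ = F⁻¹ * t * (x * F * x⁻¹) := by
      rw [hFd]; simp [mul_assoc]
    rw [h2, commT (A.inv_mem ht3) htT, mul_assoc]
  have h2 := cube_trick h (A.mul_mem (A.inv_mem ht3) hXF) h1
  have hcube : x * (x * (x * t * x⁻¹) * x⁻¹) * x⁻¹ = t := by rw [h1, h2, mul_one]
  have hXF' : x * F * x⁻¹ = F := (inv_mul_eq_one.1 h2).symm
  -- commutation
  have hcomm : t * (x * t * x⁻¹) = (x * t * x⁻¹) * t := by
    have hc : (x * t * x⁻¹) * t * (x * t * x⁻¹)⁻¹ * t⁻¹ ∈ A :=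
      htQ _ (h.T_le_Q hT2)
    set c := (x * t * x⁻¹) * t * (x * t * x⁻¹)⁻¹ * t⁻¹ with hcd
    have h3 : (x * t * x⁻¹) * t = c * (t * (x * t * x⁻¹)) := by rw [hcd]; group
    have h4 : (x * (x * t * x⁻¹) * x⁻¹) = (t * (x * t * x⁻¹))⁻¹ * F := by rw [hFd]; group
    have h5 : (x * (x * t * x⁻¹) * x⁻¹) * (x * (x * t * x⁻¹) * x⁻¹) = x * (x * z * x⁻¹) * x⁻¹ := by
      have : (x * (x * t * x⁻¹) * x⁻¹) * (x * (x * t * x⁻¹) * x⁻¹) = x * (x * (t * t) * x⁻¹) * x⁻¹ := by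
        group
      rw [this, htt]
    have hT12 : t * (x * t * x⁻¹) ∈ TT S A := (TT S A).mul_mem htT hT2
    have h6 : ((t * (x * t * x⁻¹))⁻¹ * F) * ((t * (x * t * x⁻¹))⁻¹ * F) =
        (t * (x * t * x⁻¹) * (t * (x * t * x⁻¹)))⁻¹ := by
      have h7 : F * (t * (x * t * x⁻¹))⁻¹ = (t * (x * t * x⁻¹))⁻¹ * F :=
        commT ht3 ((TT S A).inv_mem hT12)
      calc ((t * (x * t * x⁻¹))⁻¹ * F) * ((t * (x * t * x⁻¹))⁻¹ * F) =
            (t * (x * t * x⁻¹))⁻¹ * (F * (t * (x * t * x⁻¹))⁻¹) * F := by group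
        _ = (t * (x * t * x⁻¹))⁻¹ * (t * (x * t * x⁻¹))⁻¹ * (F * F) := by rw [h7]; group
        _ = _ := by rw [h.sqA ht3, mul_one, ← mul_inv_rev]
    rw [h4, h6] at h5
    have h8 : t * (x * t * x⁻¹) * (t * (x * t * x⁻¹)) = c * (z * (x * z * x⁻¹)) := by
      calc t * (x * t * x⁻¹) * (t * (x * t * x⁻¹)) = t * ((x * t * x⁻¹) * t) * (x * t * x⁻¹) := by group
        _ = (t * c) * t * (x * (t * t) * x⁻¹) := by rw [h3]; group
        _ = c * (t * t) * (x * (t * t) * x⁻¹) := by rw [← commT hc htT]; group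
        _ = _ := by rw [htt]; group
    rw [h8, p3_eq h] at h5
    have h9 : (c * (z * (x * z * x⁻¹)))⁻¹ = c * (z * (x * z * x⁻¹)) :=
      h.invA (A.mul_mem hc (A.mul_mem h.zA (h.UA (p2U h))))
    rw [h9] at h5
    have h10 : c = 1 := by simpa using h5
    rw [h3, h10, one_mul]
  rcases fix_A h ht3 hXF' with h3 | h3
  · exact ⟨t, htT, htt, htQ, hts, h3, hcube, hcomm⟩
  · have hfT : f ∈ TT S A := h.A_le_T h.fA
    have hft := commT h.fA htT
    have hft2 := commT h.fA hT2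
    have hft3 := commT h.fA hT3
    have k2 : x * (t * f) * x⁻¹ = (x * t * x⁻¹) * f := by
      have : x * (t * f) * x⁻¹ = (x * t * x⁻¹) * (x * f * x⁻¹) := by group
      rw [this, hxf]
    have k3 : x * (x * (t * f) * x⁻¹) * x⁻¹ = (x * (x * t * x⁻¹) * x⁻¹) * f := by
      rw [k2]
      have : x * ((x * t * x⁻¹) * f) * x⁻¹ = (x * (x * t * x⁻¹) * x⁻¹) * (x * f * x⁻¹) := by group
      rw [this, hxf]
    refine ⟨t * f, (TT S A).mul_mem htT hfT, ?_, ?_, ?_, ?_, ?_, ?_⟩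
    · calc t * f * (t * f) = t * (f * t) * f := by group
        _ = (t * t) * (f * f) := by rw [hft]; group
        _ = z := by rw [htt, hff, mul_one]
    · intro g hg
      have hgA : g ∈ normalizer (A : Set G) := h.hyp.norm hg.1
      have k4 : g * (t * f) * g⁻¹ * (t * f)⁻¹ = (g * t * g⁻¹ * t⁻¹) * (t * (g * f * g⁻¹ * f⁻¹) * t⁻¹) := by
        group
      have k5 : g * f * g⁻¹ * f⁻¹ ∈ A := A.mul_mem (mem_norm hgA h.fA) (A.inv_mem h.fA)
      rw [k4, ← commT k5 htT, mul_inv_cancel_right]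
      exact A.mul_mem (htQ g hg) k5
    · have hsA : s ∈ normalizer (A : Set G) := h.hyp.norm h.sS
      have k4 : s * (t * f) * s⁻¹ * (t * f)⁻¹ = (s * t * s⁻¹ * t⁻¹) * (t * (s * f * s⁻¹ * f⁻¹) * t⁻¹) := by
        group
      have k5 : s * f * s⁻¹ * f⁻¹ ∈ A := A.mul_mem (mem_norm hsA h.fA) (A.inv_mem h.fA)
      rw [k4, ← commT k5 htT, mul_inv_cancel_right]
      exact A.mul_mem hts k5
    · rw [k3, k2]
      calc t * f * ((x * t * x⁻¹) * f) * ((x * (x * t * x⁻¹) * x⁻¹) * f) =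
            t * (f * (x * t * x⁻¹)) * (f * (x * (x * t * x⁻¹) * x⁻¹)) * f := by group
        _ = t * (x * t * x⁻¹) * (f * (x * (x * t * x⁻¹) * x⁻¹)) * (f * f) := by
            rw [hft2, hft3]
            calc _ = t * (x * t * x⁻¹) * (f * (x * (x * t * x⁻¹) * x⁻¹)) * (f * f) := by group
              _ = _ := by rw [hft3]
        _ = F * f := by rw [hft3, hff, mul_one, hFd]; group
        _ = 1 := by rw [h3, hff]
    · have k6 : x * (x * (x * (t * f) * x⁻¹) * x⁻¹) * x⁻¹ =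
        (x * (x * (x * t * x⁻¹) * x⁻¹) * x⁻¹) * f := by
        rw [k3]
        have : x * ((x * (x * t * x⁻¹) * x⁻¹) * f) * x⁻¹ =
          (x * (x * (x * t * x⁻¹) * x⁻¹) * x⁻¹) * (x * f * x⁻¹) := by group
        rw [this, hxf]
      rw [k6, hcube]
    · rw [k2]
      calc t * f * ((x * t * x⁻¹) * f) = t * (f * (x * t * x⁻¹)) * f := by group
        _ = (t * (x * t * x⁻¹)) * (f * f) := by rw [hft2]; group
        _ = ((x * t * x⁻¹) * t) * (f * f) := by rw [hcomm]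
        _ = (x * t * x⁻¹) * (t * f) * f := by group
        _ = (x * t * x⁻¹) * (f * t) * f := by rw [hft]
        _ = (x * t * x⁻¹) * f * (t * f) := by group


theorem s_conj_p2 : s * (x * z * x⁻¹) * s⁻¹ = x * (x * z * x⁻¹) * x⁻¹ := by
  have h1 : s * (x * z * x⁻¹) * s⁻¹ = (s * x * s⁻¹) * (s * z * s⁻¹) * (s * x * s⁻¹)⁻¹ := by group
  have h2 : s * z * s⁻¹ = z := by rw [h.zc s h.sS, mul_inv_cancel_right]
  have h3 := p3_conj h
  rw [h1, h2, h.sx]
  calc x⁻¹ * z * x⁻¹⁻¹ = x⁻¹ * (x * (x * (x * z * x⁻¹) * x⁻¹) * x⁻¹) * x⁻¹⁻¹ := by rw [h3]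
    _ = _ := by group

/-- `C_U(s) = ⟨z⟩` -/
theorem fix_s {u : G} (hu : u ∈ U) (hs : s * u * s⁻¹ = u) : u = 1 ∨ u = z := by
  have h1 := s_conj_p2 h
  have hz : s * z * s⁻¹ = z := by rw [h.zc s h.sS, mul_inv_cancel_right]
  have h2 : x * (x * z * x⁻¹) * x⁻¹ ≠ x * z * x⁻¹ := by
    intro hh
    apply h.xz
    have : z = x⁻¹ * (x * z * x⁻¹) * x := by group
    have h3 : x * z * x⁻¹ = x⁻¹ * (x * (x * z * x⁻¹) * x⁻¹) * x := by group
    rw [hh] at h3
    rw [h3]; group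
  rcases mem_U h hu with h3 | h3 | h3 | h3
  · exact Or.inl h3
  · exact Or.inr h3
  · exfalso
    rw [h3, h1] at hs
    exact h2 hs
  · exfalso
    have h4 : s * (z * (x * z * x⁻¹)) * s⁻¹ = (s * z * s⁻¹) * (s * (x * z * x⁻¹) * s⁻¹) := by group
    rw [h3, h4, hz, h1] at hs
    exact h2 (mul_left_cancel hs)

/-- `C_A(b) = U` if `[b, f] = z` -/
theorem fix_b [Finite G] {b a : G} (hbU : ∀ u ∈ U, b * u = u * b) (hbf : b * f * b⁻¹ = f * z)
    (ha : a ∈ A) (hba : b * a * b⁻¹ = a) : a ∈ U := by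
  have hff : f * f = 1 := h.sqA h.fA
  rcases h.mem_A ha with h1 | h1
  · exact h1
  · exfalso
    have h2 := hbU _ h1
    have h3 : b * (f * a) * b⁻¹ = f * a := by rw [h2, mul_inv_cancel_right]
    have h4 : b * (f * a) * b⁻¹ = (b * f * b⁻¹) * (b * a * b⁻¹) := by group
    rw [h4, hbf, hba] at h3
    have h5 : f * z = f := mul_right_cancel h3
    exact h.z1 (by simpa using h5)

theorem s_conj_x (g : G) : s * (x * g * x⁻¹) * s⁻¹ = x⁻¹ * (s * g * s⁻¹) * x := by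
  have : s * (x * g * x⁻¹) * s⁻¹ = (s * x * s⁻¹) * (s * g * s⁻¹) * (s * x * s⁻¹)⁻¹ := by group
  rw [this, h.sx, inv_inv]

/-- `[s, t] ∈ U` for a normalised square root `t`. -/
theorem root_s [Finite G] {t : G} (R : Root S A U z x s t) : s * t * s⁻¹ * t⁻¹ ∈ U := by
  have hff : f * f = 1 := h.sqA h.fA
  have hxf : x * f * x⁻¹ = f := by rw [h.xf, mul_inv_cancel_right]
  have htT := R.mem
  have hT2 := Tx h htT
  have hT3 := Tx h hT2
  have hprod := R.prod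
  have hcube := R.cube
  have hcomm := R.comm
  obtain ⟨t2, ht2⟩ : ∃ t2, x * t * x⁻¹ = t2 := ⟨_, rfl⟩
  obtain ⟨t3, ht3⟩ : ∃ t3, x * t2 * x⁻¹ = t3 := ⟨_, rfl⟩
  rw [ht2] at hT2 hT3 hprod hcube hcomm
  rw [ht3] at hT3 hprod hcube
  have hcomm23 : t2 * t3 = t3 * t2 := by
    have := congrArg (fun g => x * g * x⁻¹) hcomm
    have e1 : x * (t * t2) * x⁻¹ = (x * t * x⁻¹) * (x * t2 * x⁻¹) := by group
    have e2 : x * (t2 * t) * x⁻¹ = (x * t2 * x⁻¹) * (x * t * x⁻¹) := by group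
    rw [e1, e2, ht2, ht3] at this
    exact this
  have hsA : s ∈ normalizer (A : Set G) := h.hyp.norm h.sS
  set a := s * t * s⁻¹ * t⁻¹ with ha
  have haA : a ∈ A := R.s
  have st : s * t * s⁻¹ = a * t := by rw [ha]; group
  have y1 : x⁻¹ * t * x = t3 := by rw [← hcube]; group
  have y3 : x⁻¹ * t3 * x = t2 := by rw [← ht3]; group
  have st2 : s * t2 * s⁻¹ = (x⁻¹ * a * x) * t3 := by
    rw [← ht2, s_conj_x h, st]
    calc x⁻¹ * (a * t) * x = (x⁻¹ * a * x) * (x⁻¹ * t * x) := by group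
      _ = _ := by rw [y1]
  have st3 : s * t3 * s⁻¹ = (x⁻¹ * (x⁻¹ * a * x) * x) * t2 := by
    rw [← ht3, s_conj_x h, st2]
    calc x⁻¹ * ((x⁻¹ * a * x) * t3) * x = (x⁻¹ * (x⁻¹ * a * x) * x) * (x⁻¹ * t3 * x) := by group
      _ = _ := by rw [y3]
  have ha1 : x⁻¹ * a * x ∈ A := mem_norm' h.xA haA
  have ha2 : x⁻¹ * (x⁻¹ * a * x) * x ∈ A := mem_norm' h.xA ha1
  have h2 : (s * t * s⁻¹) * (s * t2 * s⁻¹) * (s * t3 * s⁻¹) = s * (t * t2 * t3) * s⁻¹ := by group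
  rw [hprod, st, st2, st3] at h2
  have h3 : a * t * (x⁻¹ * a * x * t3) * (x⁻¹ * (x⁻¹ * a * x) * x * t2) =
      a * (x⁻¹ * a * x) * (x⁻¹ * (x⁻¹ * a * x) * x) * (t * t2 * t3) := by
    generalize x⁻¹ * (x⁻¹ * a * x) * x = a2 at *
    generalize x⁻¹ * a * x = a1 at *
    have g1 := commT ha1 htT
    have g2 := commT ha2 htT
    have g3 := commT ha2 hT3
    calc a * t * (a1 * t3) * (a2 * t2) = a * (t * a1) * (t3 * a2) * t2 := by group
      _ = a * (a1 * t) * (a2 * t3) * t2 := by rw [g1, g3]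
      _ = a * a1 * (t * a2) * (t3 * t2) := by group
      _ = a * a1 * (a2 * t) * (t2 * t3) := by rw [g2, hcomm23]
      _ = _ := by group
  rw [h3, hprod, mul_one] at h2
  have h4 : a * (x⁻¹ * a * x) * (x⁻¹ * (x⁻¹ * a * x) * x) = 1 := by rw [h2]; group
  have haU : a ∈ U := by
    rcases h.mem_A haA with h5 | h5
    · exact h5
    · exfalso
      set u := f * a with hu
      have hau : a = f * u := by rw [hu, ← mul_assoc, hff, one_mul]
      have hxf' : x⁻¹ * f * x = f := by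
        have : x⁻¹ * f * x = x⁻¹ * (x * f * x⁻¹) * x := by rw [hxf]
        rw [this]; group
      have hu1 : x⁻¹ * u * x ∈ U := mem_norm' h.xU h5
      have hu2 : x⁻¹ * (x⁻¹ * u * x) * x ∈ U := mem_norm' h.xU hu1
      have e1 : x⁻¹ * (f * u) * x = f * (x⁻¹ * u * x) := by
        have : x⁻¹ * (f * u) * x = (x⁻¹ * f * x) * (x⁻¹ * u * x) := by group
        rw [this, hxf']
      have e2 : x⁻¹ * (f * (x⁻¹ * u * x)) * x = f * (x⁻¹ * (x⁻¹ * u * x) * x) := by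
        have : x⁻¹ * (f * (x⁻¹ * u * x)) * x = (x⁻¹ * f * x) * (x⁻¹ * (x⁻¹ * u * x) * x) := by group
        rw [this, hxf']
      rw [hau, e1, e2] at h4
      have hn : u * (x⁻¹ * u * x) * (x⁻¹ * (x⁻¹ * u * x) * x) ∈ U :=
        U.mul_mem (U.mul_mem h5 hu1) hu2
      have h6 : f * u * (f * (x⁻¹ * u * x)) * (f * (x⁻¹ * (x⁻¹ * u * x) * x)) =
          f * (u * (x⁻¹ * u * x) * (x⁻¹ * (x⁻¹ * u * x) * x)) := by
        generalize x⁻¹ * (x⁻¹ * u * x) * x = u2 at *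
        generalize x⁻¹ * u * x = u1 at *
        have g1 := h.commA h.fA (h.UA h5)
        have g2 := h.commA h.fA (A.mul_mem (h.UA h5) (h.UA hu1))
        calc f * u * (f * u1) * (f * u2) = f * (u * f) * u1 * f * u2 := by group
          _ = (f * f) * (u * u1) * f * u2 := by rw [← g1]; group
          _ = (f * f) * (f * (u * u1)) * u2 := by rw [g2]; group
          _ = _ := by rw [hff]; group
      rw [h6] at h4
      apply h.fU
      have h7 : f = (u * (x⁻¹ * u * x) * (x⁻¹ * (x⁻¹ * u * x) * x))⁻¹ := eq_inv_of_mul_eq_one_left h4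
      rw [h7]
      exact U.inv_mem hn
  exact haU

/-- helper48's (I.1), with the hypothesis that `s` centralises `[b, t]`. -/
theorem false_of_root_fix [Finite G] {t b : G} (R : Root S A U z x s t)
    (hbS : b ∈ ((S : Subgroup G) ⊓ centralizer (U : Set G) : Subgroup G)) (hbb : b * b = 1)
    (hbf : b * f * b⁻¹ = f * z) (hsc : s * (b * t * b⁻¹ * t⁻¹) * s⁻¹ = b * t * b⁻¹ * t⁻¹)
    (hF : b * (x * b * x⁻¹) * (x * (x * b * x⁻¹) * x⁻¹) ∈ A) : False := by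
  have hff : f * f = 1 := h.sqA h.fA
  have hzz : z * z = 1 := h.sqA h.zA
  have hbU : ∀ u ∈ U, b * u = u * b := mem_cent_iff.1 hbS.2
  have hb' : b⁻¹ = b := inv_eq_of_mul_eq_one_left hbb
  have hxf : x * f * x⁻¹ = f := by rw [h.xf, mul_inv_cancel_right]
  have hf' : f⁻¹ = f := h.invA h.fA
  rcases prod_cases h hbS.1 hbU hbb hbf hF with h1 | hFv
  · exact false_of_cycle h hbU hbb hbf h1
  have htT := R.mem
  have hT2 := Tx h htT
  have hT3 := Tx h hT2
  -- the action of b on the t_i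
  have key : ∀ w ∈ TT S A, (b * w * b⁻¹ * w⁻¹ ∈ A) → b * w * b⁻¹ * w⁻¹ ∈ U := by
    intro w hw hwA
    have hwT' : (b * w * b⁻¹ * w⁻¹) * w = w * (b * w * b⁻¹ * w⁻¹) := commT hwA hw
    refine fix_b h hbU hbf hwA ?_
    set c := b * w * b⁻¹ * w⁻¹ with hc
    have h2 : b * w * b⁻¹ = c * w := by rw [hc]; group
    have h3 : b * (c * w) * b⁻¹ = w := by
      rw [← h2, hb']
      calc b * (b * w * b) * b = (b * b) * w * (b * b) := by group
        _ = w := by rw [hbb]; group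
    have h4 : b * (c * w) * b⁻¹ = (b * c * b⁻¹) * (c * w) := by
      calc b * (c * w) * b⁻¹ = (b * c * b⁻¹) * (b * w * b⁻¹) := by group
        _ = _ := by rw [h2]
    rw [h4, ← mul_assoc] at h3
    have h5 : b * c * b⁻¹ * c = 1 := by simpa using h3
    rw [eq_inv_of_mul_eq_one_left h5, h.invA hwA]
  have hQt := R.Q
  have hc1 := key t htT (hQt b hbS)
  have hx' : x⁻¹ ∈ normalizer (((S : Subgroup G) ⊓ centralizer (U : Set G) : Subgroup G) : Set G) :=
    inv_mem h.xQ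
  have hq2 : b * (x * t * x⁻¹) * b⁻¹ * (x * t * x⁻¹)⁻¹ ∈ A := by
    have h2 : x⁻¹ * b * x ∈ ((S : Subgroup G) ⊓ centralizer (U : Set G) : Subgroup G) := mem_norm' h.xQ hbS
    have h3 := mem_norm h.xA (hQt _ h2)
    have h4 : x * ((x⁻¹ * b * x) * t * (x⁻¹ * b * x)⁻¹ * t⁻¹) * x⁻¹ =
      b * (x * t * x⁻¹) * b⁻¹ * (x * t * x⁻¹)⁻¹ := by group
    rwa [h4] at h3
  have hq3 : b * (x * (x * t * x⁻¹) * x⁻¹) * b⁻¹ * (x * (x * t * x⁻¹) * x⁻¹)⁻¹ ∈ A := by
    have h2 : x⁻¹ * (x⁻¹ * b * x) * x ∈ ((S : Subgroup G) ⊓ centralizer (U : Set G) : Subgroup G) :=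
      mem_norm' h.xQ (mem_norm' h.xQ hbS)
    have h3 := mem_norm h.xA (mem_norm h.xA (hQt _ h2))
    have h4 : x * (x * ((x⁻¹ * (x⁻¹ * b * x) * x) * t * (x⁻¹ * (x⁻¹ * b * x) * x)⁻¹ * t⁻¹) * x⁻¹) * x⁻¹ =
      b * (x * (x * t * x⁻¹) * x⁻¹) * b⁻¹ * (x * (x * t * x⁻¹) * x⁻¹)⁻¹ := by group
    rwa [h4] at h3
  have hc2 := key _ hT2 hq2
  have hc3 := key _ hT3 hq3
  obtain ⟨t2, ht2⟩ : ∃ t2, x * t * x⁻¹ = t2 := ⟨_, rfl⟩
  obtain ⟨t3, ht3⟩ : ∃ t3, x * t2 * x⁻¹ = t3 := ⟨_, rfl⟩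
  obtain ⟨p2, hp2⟩ : ∃ p2, x * z * x⁻¹ = p2 := ⟨_, rfl⟩
  obtain ⟨p3, hp3⟩ : ∃ p3, x * p2 * x⁻¹ = p3 := ⟨_, rfl⟩
  have hprod := R.prod
  have hcube := R.cube
  have hcomm := R.comm
  have hp2U := p2U h
  have hp3U := p3U h
  have hp3z := p3_conj h
  have hp23 := p3_eq h
  rw [ht2] at hT2 hT3 hq2 hq3 hc2 hc3 hprod hcube hcomm
  rw [ht3] at hT3 hq3 hc3 hprod hcube
  rw [hp2] at hp2U hp3U hp3z hp23 hFv
  rw [hp3] at hp3U hp3z hp23
  have hcomm23 : t2 * t3 = t3 * t2 := by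
    have := congrArg (fun g => x * g * x⁻¹) hcomm
    have e1 : x * (t * t2) * x⁻¹ = (x * t * x⁻¹) * (x * t2 * x⁻¹) := by group
    have e2 : x * (t2 * t) * x⁻¹ = (x * t2 * x⁻¹) * (x * t * x⁻¹) := by group
    rw [e1, e2, ht2, ht3] at this
    exact this
  have hcomm31 : t3 * t = t * t3 := by
    have := congrArg (fun g => x * g * x⁻¹) hcomm23
    have e1 : x * (t2 * t3) * x⁻¹ = (x * t2 * x⁻¹) * (x * t3 * x⁻¹) := by group
    have e2 : x * (t3 * t2) * x⁻¹ = (x * t3 * x⁻¹) * (x * t2 * x⁻¹) := by group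
    rw [e1, e2, ht3, hcube] at this
    exact this
  set c1 := b * t * b⁻¹ * t⁻¹ with hc1d
  set c2 := b * t2 * b⁻¹ * t2⁻¹ with hc2d
  set c3 := b * t3 * b⁻¹ * t3⁻¹ with hc3d
  have b1 : b * t * b⁻¹ = c1 * t := by rw [hc1d]; group
  have b2 : b * t2 * b⁻¹ = c2 * t2 := by rw [hc2d]; group
  have b3 : b * t3 * b⁻¹ = c3 * t3 := by rw [hc3d]; group
  have hcp : c1 * c2 * c3 = 1 := by
    have h2 : (b * t * b⁻¹) * (b * t2 * b⁻¹) * (b * t3 * b⁻¹) = b * (t * t2 * t3) * b⁻¹ := by group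
    rw [hprod, b1, b2, b3] at h2
    have h3 : c1 * t * (c2 * t2) * (c3 * t3) = c1 * c2 * c3 * (t * t2 * t3) := by
      have g1 := commT (h.UA hc2) htT
      have g2 := commT (h.UA hc3) htT
      have g3 := commT (h.UA hc3) hT2
      calc c1 * t * (c2 * t2) * (c3 * t3) = c1 * (t * c2) * (t2 * c3) * t3 := by group
        _ = c1 * c2 * (t * c3) * t2 * t3 := by rw [← g1, ← g3]; group
        _ = _ := by rw [← g2]; group
    rw [h3, hprod, mul_one] at h2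
    rw [h2]; group
  -- the action of F
  have hX1 : x * c1 * x⁻¹ ∈ U := mem_norm h.xU hc1
  have hX3 : x * c3 * x⁻¹ ∈ U := mem_norm h.xU hc3
  have hX2 : x * c2 * x⁻¹ ∈ U := mem_norm h.xU hc2
  have hXX2 : x * (x * c2 * x⁻¹) * x⁻¹ ∈ U := mem_norm h.xU hX2
  have hE : x * (x * c2 * x⁻¹) * x⁻¹ * (x * c3 * x⁻¹) * c1 = 1 := by
    have f3 : (x * (x * b * x⁻¹) * x⁻¹) * t * (x * (x * b * x⁻¹) * x⁻¹)⁻¹ =
        x * (x * c2 * x⁻¹) * x⁻¹ * t := by
      have : (x * (x * b * x⁻¹) * x⁻¹) * t * (x * (x * b * x⁻¹) * x⁻¹)⁻¹ =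
        x * (x * (b * (x⁻¹ * (x⁻¹ * t * x) * x) * b⁻¹) * x⁻¹) * x⁻¹ := by simp [mul_assoc]
      have h4 : x⁻¹ * (x⁻¹ * t * x) * x = t2 := by
        rw [← hcube, ← ht3]; group
      rw [this, h4, b2]
      have : x * (x * (c2 * t2) * x⁻¹) * x⁻¹ = (x * (x * c2 * x⁻¹) * x⁻¹) * (x * (x * t2 * x⁻¹) * x⁻¹) := by
        group
      rw [this, ht3, hcube]
    have f2 : (x * b * x⁻¹) * t * (x * b * x⁻¹)⁻¹ = x * c3 * x⁻¹ * t := by
      have : (x * b * x⁻¹) * t * (x * b * x⁻¹)⁻¹ = x * (b * (x⁻¹ * t * x) * b⁻¹) * x⁻¹ := by group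
      have h4 : x⁻¹ * t * x = t3 := by rw [← hcube]; group
      rw [this, h4, b3]
      have : x * (c3 * t3) * x⁻¹ = (x * c3 * x⁻¹) * (x * t3 * x⁻¹) := by group
      rw [this, hcube]
    have f1 : (b * (x * b * x⁻¹) * (x * (x * b * x⁻¹) * x⁻¹)) * t *
        (b * (x * b * x⁻¹) * (x * (x * b * x⁻¹) * x⁻¹))⁻¹ = t := by
      rw [commT hF htT, mul_inv_cancel_right]
    have hb2U : ∀ u ∈ U, (x * b * x⁻¹) * u * (x * b * x⁻¹)⁻¹ = u := by
      intro u hu
      have h6 : x⁻¹ * u * x ∈ U := mem_norm' h.xU hu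
      have h7 := hbU _ h6
      calc (x * b * x⁻¹) * u * (x * b * x⁻¹)⁻¹ = x * (b * (x⁻¹ * u * x)) * b⁻¹ * x⁻¹ := by group
        _ = x * ((x⁻¹ * u * x) * b) * b⁻¹ * x⁻¹ := by rw [h7]
        _ = u := by group
    have f4 : (b * (x * b * x⁻¹) * (x * (x * b * x⁻¹) * x⁻¹)) * t *
        (b * (x * b * x⁻¹) * (x * (x * b * x⁻¹) * x⁻¹))⁻¹ =
        b * ((x * b * x⁻¹) * ((x * (x * b * x⁻¹) * x⁻¹) * t * (x * (x * b * x⁻¹) * x⁻¹)⁻¹) *
          (x * b * x⁻¹)⁻¹) * b⁻¹ := by group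
    rw [f4, f3] at f1
    have f5 : (x * b * x⁻¹) * (x * (x * c2 * x⁻¹) * x⁻¹ * t) * (x * b * x⁻¹)⁻¹ =
        x * (x * c2 * x⁻¹) * x⁻¹ * (x * c3 * x⁻¹ * t) := by
      have : (x * b * x⁻¹) * (x * (x * c2 * x⁻¹) * x⁻¹ * t) * (x * b * x⁻¹)⁻¹ =
        ((x * b * x⁻¹) * (x * (x * c2 * x⁻¹) * x⁻¹) * (x * b * x⁻¹)⁻¹) *
          ((x * b * x⁻¹) * t * (x * b * x⁻¹)⁻¹) := by group
      rw [this, hb2U _ hXX2, f2]
    rw [f5] at f1
    have f6 : b * (x * (x * c2 * x⁻¹) * x⁻¹ * (x * c3 * x⁻¹ * t)) * b⁻¹ =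
        (x * (x * c2 * x⁻¹) * x⁻¹ * (x * c3 * x⁻¹)) * (c1 * t) := by
      have h8 := hbU _ (U.mul_mem hXX2 hX3)
      calc b * (x * (x * c2 * x⁻¹) * x⁻¹ * (x * c3 * x⁻¹ * t)) * b⁻¹ =
            (b * (x * (x * c2 * x⁻¹) * x⁻¹ * (x * c3 * x⁻¹))) * t * b⁻¹ := by group
        _ = (x * (x * c2 * x⁻¹) * x⁻¹ * (x * c3 * x⁻¹)) * (b * t * b⁻¹) := by rw [h8]; group
        _ = _ := by rw [b1]
    rw [f6, ← mul_assoc] at f1
    simpa using f1
  -- solve
  have hc3e : c3 = c1 * c2 := by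
    have h2 : c3 = (c1 * c2)⁻¹ := eq_inv_of_mul_eq_one_right hcp
    rw [h2, h.invA (A.mul_mem (h.UA hc1) (h.UA hc2))]
  have hc2e : c2 = x * (x * c1 * x⁻¹) * x⁻¹ := by
    rw [hc3e] at hE
    have n1 := norm_U h hc1
    have n2 := norm_U h hc2
    have hXX1 : x * (x * c1 * x⁻¹) * x⁻¹ ∈ U := mem_norm h.xU hX1
    have g0 : x * (c1 * c2) * x⁻¹ = (x * c1 * x⁻¹) * (x * c2 * x⁻¹) := by group
    rw [g0] at hE
    generalize x * (x * c1 * x⁻¹) * x⁻¹ = w1 at *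
    generalize x * (x * c2 * x⁻¹) * x⁻¹ = w2 at *
    generalize x * c1 * x⁻¹ = v1 at *
    generalize x * c2 * x⁻¹ = v2 at *
    have m1 : w1 = c1 * v1 := by
      rw [eq_inv_of_mul_eq_one_right n1, h.invA (A.mul_mem (h.UA hc1) (h.UA hX1))]
    have m2 : c2 = v2 * w2 := by
      rw [mul_assoc] at n2
      rw [eq_inv_of_mul_eq_one_left n2, h.invA (A.mul_mem (h.UA hX2) (h.UA hXX2))]
    have m3 : w2 * (v1 * v2) * c1 = (v2 * w2) * (c1 * v1) := by
      have k1 := commU h hX1 hX2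
      have k2 := commU h hXX2 hX2
      have k3 := commU h hX1 hc1
      calc w2 * (v1 * v2) * c1 = w2 * (v2 * v1) * c1 := by rw [k1]
        _ = (w2 * v2) * (v1 * c1) := by group
        _ = _ := by rw [k2, k3]
    rw [m3, ← m1, ← m2] at hE
    rw [eq_inv_of_mul_eq_one_left hE, h.invA (h.UA hXX1)]
  -- s
  have hsc1 : s * c1 * s⁻¹ = c1 := hsc
  -- conclusion: the involution `t_j f b`
  have fin : ∀ w ∈ TT S A, b * w * b⁻¹ = w⁻¹ →
      w * (b * (x * w * x⁻¹) * b⁻¹) * (x * (x * w * x⁻¹) * x⁻¹)⁻¹ = f * p2 → False := by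
    intro w hw hwb hwp
    have hwU : ∀ u ∈ U, w * u = u * w := fun u hu => (commT (h.UA hu) hw).symm
    have i2 : (w * b) * (w * b) = 1 := by
      calc (w * b) * (w * b) = w * (b * w * b⁻¹) * (b * b) := by group
        _ = 1 := by rw [hwb, hbb]; group
    refine false_of_cycle h (b := w * b) ?_ i2 ?_ ?_
    · intro u hu
      rw [mul_assoc, hbU u hu, ← mul_assoc, hwU u hu, mul_assoc]
    · calc w * b * f * (w * b)⁻¹ = w * (b * f * b⁻¹) * w⁻¹ := by group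
        _ = (f * z) * w * w⁻¹ := by rw [hbf, ← commT (A.mul_mem h.fA h.zA) hw]
        _ = _ := by group
    · have hbc : (b * (x * b * x⁻¹)) * (x * (x * w * x⁻¹) * x⁻¹) * (b * (x * b * x⁻¹))⁻¹ =
          (x * (x * w * x⁻¹) * x⁻¹)⁻¹ := by
        have k1 : b * (x * b * x⁻¹) = (f * p2) * (x * (x * b * x⁻¹) * x⁻¹) := by
          rw [← hFv]
          have : (x * (x * b * x⁻¹) * x⁻¹) * (x * (x * b * x⁻¹) * x⁻¹) = x * (x * (b * b) * x⁻¹) * x⁻¹ := by
            group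
          rw [mul_assoc (b * (x * b * x⁻¹)), this, hbb]; group
        have k2 : (x * (x * b * x⁻¹) * x⁻¹) * (x * (x * w * x⁻¹) * x⁻¹) * (x * (x * b * x⁻¹) * x⁻¹)⁻¹ =
            (x * (x * w * x⁻¹) * x⁻¹)⁻¹ := by
          calc _ = x * (x * (b * w * b⁻¹) * x⁻¹) * x⁻¹ := by group
            _ = _ := by rw [hwb]; simp [mul_assoc]
        have hw3 : (x * (x * w * x⁻¹) * x⁻¹)⁻¹ ∈ TT S A := (TT S A).inv_mem (Tx h (Tx h hw))
        rw [k1]
        calc f * p2 * (x * (x * b * x⁻¹) * x⁻¹) * (x * (x * w * x⁻¹) * x⁻¹) *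
              (f * p2 * (x * (x * b * x⁻¹) * x⁻¹))⁻¹ =
              (f * p2) * ((x * (x * b * x⁻¹) * x⁻¹) * (x * (x * w * x⁻¹) * x⁻¹) *
                (x * (x * b * x⁻¹) * x⁻¹)⁻¹) * (f * p2)⁻¹ := by group
          _ = (f * p2) * (x * (x * w * x⁻¹) * x⁻¹)⁻¹ * (f * p2)⁻¹ := by rw [k2]
          _ = (x * (x * w * x⁻¹) * x⁻¹)⁻¹ := by
              rw [commT (A.mul_mem h.fA (h.UA hp2U)) hw3, mul_inv_cancel_right]
      calc w * b * (x * (w * b) * x⁻¹) * (x * (x * (w * b) * x⁻¹) * x⁻¹) =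
            w * (b * (x * w * x⁻¹) * b⁻¹) * ((b * (x * b * x⁻¹)) * (x * (x * w * x⁻¹) * x⁻¹) *
              (b * (x * b * x⁻¹))⁻¹) * (b * (x * b * x⁻¹) * (x * (x * b * x⁻¹) * x⁻¹)) := by group
        _ = (w * (b * (x * w * x⁻¹) * b⁻¹) * (x * (x * w * x⁻¹) * x⁻¹)⁻¹) *
            (b * (x * b * x⁻¹) * (x * (x * b * x⁻¹) * x⁻¹)) := by rw [hbc]
        _ = 1 := by
            rw [hwp, hFv]
            exact h.sqA (A.mul_mem h.fA (h.UA hp2U))
  have hfT : f ∈ TT S A := h.A_le_T h.fA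
  have sq2 : t2 * t2 = p2 := by
    rw [← ht2, ← hp2, ← R.sq]; group
  have sq3 : t3 * t3 = p3 := by
    rw [← ht3, ← hp3, ← sq2]; group
  have hX : ∀ g : G, x * (g * f) * x⁻¹ = (x * g * x⁻¹) * f := by
    intro g
    have : x * (g * f) * x⁻¹ = (x * g * x⁻¹) * (x * f * x⁻¹) := by group
    rw [this, hxf]
  have hBf : ∀ g : G, b * (g * f) * b⁻¹ = (b * g * b⁻¹) * (f * z) := by
    intro g
    have : b * (g * f) * b⁻¹ = (b * g * b⁻¹) * (b * f * b⁻¹) := by group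
    rw [this, hbf]
  have ti : t⁻¹ = t * z := inv_eq_of_mul_eq_one_right (by rw [← mul_assoc, R.sq, hzz])
  have hp22 : p2 * p2 = 1 := h.sqA (h.UA hp2U)
  have hp33 : p3 * p3 = 1 := h.sqA (h.UA hp3U)
  have ti2 : t2⁻¹ = t2 * p2 := inv_eq_of_mul_eq_one_right (by rw [← mul_assoc, sq2, hp22])
  have hzp2 : z * p2 = p2 * z := commU h h.zU hp2U
  have hfz : f * z = z * f := h.commA h.fA h.zA
  have hfp2 : f * p2 = p2 * f := h.commA h.fA (h.UA hp2U)
  have hTinv : ∀ w ∈ TT S A, (w * f)⁻¹ = w⁻¹ * f := by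
    intro w hw
    rw [mul_inv_rev, hf', commT h.fA ((TT S A).inv_mem hw)]
  have hTA : ∀ w a w' a' : G, a ∈ A → w' ∈ TT S A → w * a * (w' * a') = w * w' * (a * a') := by
    intro w a w' a' ha hw'
    calc w * a * (w' * a') = w * (a * w') * a' := by group
      _ = _ := by rw [commT ha hw']; group
  rcases fix_s h hc1 hsc1 with h1 | h1
  · -- `c1 = 1`, `w = t f`
    have hc2' : c2 = 1 := by rw [hc2e, h1]; group
    rw [h1, one_mul] at b1
    rw [hc2', one_mul] at b2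
    refine fin (t * f) ((TT S A).mul_mem htT hfT) ?_ ?_
    · rw [hBf, b1, hTinv t htT, ti, hfz]; group
    · rw [hX, ht2, hX, ht3, hBf, b2, hTinv t3 hT3, hTA t f t2 (f * z) h.fA hT2,
        hTA _ _ t3⁻¹ f (A.mul_mem h.fA (A.mul_mem h.fA h.zA)) ((TT S A).inv_mem hT3)]
      have k1 : t * t2 = t3⁻¹ := eq_inv_of_mul_eq_one_left hprod
      have k2 : t3⁻¹ * t3⁻¹ = p3 := by
        rw [← mul_inv_rev, sq3, h.invA (h.UA hp3U)]
      rw [k1, k2, hp23]
      calc z * p2 * (f * (f * z) * f) = z * p2 * ((f * f) * z * f) := by group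
        _ = p2 * (z * z) * f := by rw [hff, hzp2]; group
        _ = f * p2 := by rw [hzz, hfp2]; group
  · -- `c1 = z`, `w = t2 f`
    have hc2' : c2 = p3 := by rw [hc2e, h1, hp2, hp3]
    have hc3' : c3 = p2 := by rw [hc3e, h1, hc2', hp23, ← mul_assoc, hzz, one_mul]
    rw [hc2'] at b2
    rw [hc3'] at b3
    refine fin (t2 * f) ((TT S A).mul_mem hT2 hfT) ?_ ?_
    · rw [hBf, b2, hTinv t2 hT2, ti2]
      have k1 := commT (h.UA hp3U) hT2
      calc p3 * t2 * (f * z) = t2 * p3 * (f * z) := by rw [k1]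
        _ = t2 * (z * p2) * (z * f) := by rw [hp23, hfz]
        _ = t2 * p2 * (z * z) * f := by rw [hzp2]; group
        _ = _ := by rw [hzz]; group
    · rw [hX, ht3, hX, hcube, hBf, b3, hTinv t htT]
      have k1 := commT (h.UA hp2U) hT3
      have k2 : t2 * t3 = t⁻¹ := by
        rw [mul_assoc] at hprod
        exact eq_inv_of_mul_eq_one_right hprod
      have k3 : t⁻¹ * t⁻¹ = z := by rw [← mul_inv_rev, R.sq, h.invA h.zA]
      calc t2 * f * (p2 * t3 * (f * z)) * (t⁻¹ * f) = t2 * f * (t3 * (p2 * (f * z))) * (t⁻¹ * f) := by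
            rw [k1]; group
        _ = t2 * t3 * (f * (p2 * (f * z))) * (t⁻¹ * f) := by rw [hTA _ _ _ _ h.fA hT3]
        _ = t2 * t3 * t⁻¹ * (f * (p2 * (f * z)) * f) := by
            rw [hTA _ _ _ _ (A.mul_mem h.fA (A.mul_mem (h.UA hp2U) (A.mul_mem h.fA h.zA)))
              ((TT S A).inv_mem htT)]
        _ = z * ((f * p2) * (f * z) * f) := by rw [k2, k3]; group
        _ = z * (p2 * (f * f) * z * f) := by rw [hfp2]; group
        _ = (z * p2) * (z * f) := by rw [hff]; group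
        _ = p2 * (z * z) * f := by rw [hzp2]; group
        _ = f * p2 := by rw [hzz, hfp2]; group

/-- helper48's (I.1). -/
theorem false_of_root [Finite G] {t b : G} (R : Root S A U z x s t)
    (hbS : b ∈ ((S : Subgroup G) ⊓ centralizer (U : Set G) : Subgroup G)) (hbb : b * b = 1)
    (hbf : b * f * b⁻¹ = f * z) (hsb : s * b = b * s)
    (hF : b * (x * b * x⁻¹) * (x * (x * b * x⁻¹) * x⁻¹) ∈ A) : False := by
  refine false_of_root_fix h R hbS hbb hbf ?_ hF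
  have hbU : ∀ u ∈ U, b * u = u * b := mem_cent_iff.1 hbS.2
  have haU := root_s h R
  set a := s * t * s⁻¹ * t⁻¹ with ha
  have st : s * t * s⁻¹ = a * t := by rw [ha]; group
  have hcA : b * t * b⁻¹ * t⁻¹ ∈ A := R.Q b hbS
  have h8 : s * (b * t * b⁻¹ * t⁻¹) * s⁻¹ = b * (a * t) * b⁻¹ * (a * t)⁻¹ := by
    rw [← st]
    calc s * (b * t * b⁻¹ * t⁻¹) * s⁻¹ = (s * b) * t * (s * b)⁻¹ * (s * t * s⁻¹)⁻¹ := by group
      _ = (b * s) * t * (b * s)⁻¹ * (s * t * s⁻¹)⁻¹ := by rw [hsb]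
      _ = _ := by group
  rw [h8]
  have h9 := hbU a haU
  calc b * (a * t) * b⁻¹ * (a * t)⁻¹ = (b * a) * t * b⁻¹ * t⁻¹ * a⁻¹ := by group
    _ = a * (b * t * b⁻¹ * t⁻¹) * a⁻¹ := by rw [h9]; group
    _ = (b * t * b⁻¹ * t⁻¹) * a * a⁻¹ := by rw [h.commA (h.UA haU) hcA]
    _ = _ := by rw [mul_inv_cancel_right]

/-- helper48's (I.1), form with an unnormalised square root `t` of `z`. -/
theorem false_of_prod [Finite G] {t b : G} (htT : t ∈ TT S A) (htt : t * t = z)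
    (htQ : ∀ g ∈ ((S : Subgroup G) ⊓ centralizer (U : Set G) : Subgroup G), g * t * g⁻¹ * t⁻¹ ∈ A)
    (hts : s * t * s⁻¹ * t⁻¹ ∈ A)
    (ht3 : t * (x * t * x⁻¹) * (x * (x * t * x⁻¹) * x⁻¹) ∈ A)
    (hbS : b ∈ ((S : Subgroup G) ⊓ centralizer (U : Set G) : Subgroup G)) (hbb : b * b = 1)
    (hbf : b * f * b⁻¹ = f * z) (hsb : s * b = b * s)
    (hF : b * (x * b * x⁻¹) * (x * (x * b * x⁻¹) * x⁻¹) ∈ A) : False := by
  obtain ⟨t', R⟩ := exists_root h htT htt htQ hts ht3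
  exact false_of_root h R hbS hbb hbf hsb hF

end Eone

end Cfsg.Agent.RankThreeFus
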