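import Cfsg.Agent.RankThreeFus.Star
import Cfsg.Agent.RankThreeFus.Eone

/-!
# S1730, type (a5), helper48's [B]: the commuting lemma

An involution `b ∈ Q` over the transvection with centre `z` and axis `U` does not commute with `v`, provided
`v b` satisfies (STAR).
-/

set_option autoImplicit false
set_option linter.style.haveILetI false

namespace Cfsg.Agent.RankThreeFus.AFive

open Subgroup Cfsg.Agent.Lib.GoldschmidtFusion Cfsg.Agent.StdL2.G23Aut Cfsg.Agent.RankThreeFus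

variable {G : Type*} [Group G] {S : Sylow 2 G} {A U : Subgroup G} {z f x v g t : G}

/-- A 2-element with nontrivial square has a power of order 4. -/
theorem exists_order_four {w : G} (hw : ∃ n, w ^ 2 ^ n = 1) (hww : w * w ≠ 1) :
    ∃ k : ℕ, w ^ k * w ^ k ≠ 1 ∧ (w ^ k * w ^ k) * (w ^ k * w ^ k) = 1 := by
  obtain ⟨n, hn⟩ := hw
  obtain ⟨m, -, hm⟩ := (Nat.dvd_prime_pow Nat.prime_two).1 (orderOf_dvd_of_pow_eq_one hn)
  have hm2 : 2 ≤ m := by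
    by_contra hlt
    apply hww
    have h1 : orderOf w ∣ 2 := by
      rw [hm]
      have : m ≤ 1 := by omega
      calc 2 ^ m ∣ 2 ^ 1 := pow_dvd_pow 2 this
        _ = 2 := by norm_num
    have h2 := orderOf_dvd_iff_pow_eq_one.1 h1
    rw [← pow_two]; exact h2
  refine ⟨2 ^ (m - 2), ?_, ?_⟩
  · intro h1
    rw [← pow_add, ← two_mul, ← pow_succ'] at h1
    have h2 := orderOf_dvd_of_pow_eq_one h1
    rw [hm] at h2
    have h3 := Nat.le_of_dvd (by positivity) h2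
    have h4 : 2 ^ (m - 2 + 1) < 2 ^ m := Nat.pow_lt_pow_right (by norm_num) (by omega)
    omega
  · rw [← pow_add, ← pow_add, ← two_mul, ← two_mul, ← mul_assoc]
    have : 2 * 2 * 2 ^ (m - 2) = 2 ^ m := by
      rw [show (2 : ℕ) * 2 = 2 ^ 2 by norm_num, ← pow_add]
      congr 1; omega
    rw [this, ← hm, pow_orderOf_eq_one]

/-- **[B]** -/
theorem no_comm [Finite G] (h : Fv S A U z f x v g) (R : Eone.Root S A U z x v t)
    (hx3 : ∀ q ∈ QQ S U, x ^ 3 * q = q * x ^ 3) {b : G} (hb : b ∈ QQ S U) (hbb : b * b = 1)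
    (hbf : b * f * b⁻¹ = f * z) (hvb : v * b = b * v)
    (hg : ∀ y ∈ QQ S U, ∀ k ∈ A, y * (v * b) * y⁻¹ = (v * b) * k → k = 1 ∨ k = z) : False := by
  have hF := h.toFr
  have hbi : b⁻¹ = b := inv_eq_of_mul_eq_one_left hbb
  have hvi : v⁻¹ = v := h.vi
  have hvx : v * x * v = x⁻¹ := by
    have := hF.sx
    rwa [hvi] at this
  have hxb : x ^ 3 * b = b * x ^ 3 := hx3 b hb
  -- `y = x b`, `φ = y³ x⁻³`
  obtain ⟨y, hy⟩ : ∃ y, y = x * b := ⟨_, rfl⟩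
  obtain ⟨s', hs'⟩ : ∃ s', s' = v * b := ⟨_, rfl⟩
  have hs'2 : s' * s' = 1 := by
    calc s' * s' = v * (b * v) * b := by rw [hs']; group
      _ = v * (v * b) * b := by rw [hvb]
      _ = (v * v) * (b * b) := by group
      _ = 1 := by rw [h.v2, hbb, one_mul]
  have hs'i : s'⁻¹ = s' := inv_eq_of_mul_eq_one_left hs'2
  have hsy : s' * y * s' = y⁻¹ := by
    calc s' * y * s' = v * (b * x * b) * (v * b) := by rw [hs', hy]; group
      _ = v * (b * x * b) * (b * v) := by rw [hvb]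
      _ = (v * b) * x * (b * b) * v := by group
      _ = b * (v * x * v) := by rw [hbb, hvb]; group
      _ = b⁻¹ * x⁻¹ := by rw [hvx, hbi]
      _ = y⁻¹ := by rw [hy, mul_inv_rev]
  have cyx : Commute y (x ^ 3) := by
    have c1 : Commute x (x ^ 3) := (Commute.refl x).pow_right 3
    have c2 : Commute b (x ^ 3) := hxb.symm
    rw [hy]; exact c1.mul_left c2
  obtain ⟨φ, hφ⟩ : ∃ φ, φ = y ^ 3 * (x ^ 3)⁻¹ := ⟨_, rfl⟩
  have cφy : Commute y φ := by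
    rw [hφ]
    exact ((Commute.refl y).pow_right 3).mul_right cyx.inv_right
  -- `φ` is inverted by `s'`
  have hsx3 : s' * x ^ 3 * s' = (x ^ 3)⁻¹ := by
    have hvx3 : v * x ^ 3 * v = (x ^ 3)⁻¹ := by
      have h1 : v * x ^ 3 * v⁻¹ = (v * x * v⁻¹) ^ 3 := (conj_pow).symm
      rw [hvi] at h1
      rw [h1, hvx, inv_pow]
    calc s' * x ^ 3 * s' = v * (b * x ^ 3) * (v * b) := by rw [hs']; group
      _ = v * (x ^ 3 * b) * (b * v) := by rw [hxb, hvb]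
      _ = v * x ^ 3 * (b * b) * v := by group
      _ = (x ^ 3)⁻¹ := by rw [hbb, mul_one, hvx3]
  have hsy3 : s' * y ^ 3 * s' = (y ^ 3)⁻¹ := by
    have h1 : s' * y ^ 3 * s'⁻¹ = (s' * y * s'⁻¹) ^ 3 := (conj_pow).symm
    rw [hs'i] at h1
    rw [h1, hsy, inv_pow]
  have hsφ : s' * φ * s' = φ⁻¹ := by
    have h1 : s' * (x ^ 3)⁻¹ * s' = x ^ 3 := by
      have h2 : (s' * x ^ 3 * s')⁻¹ = s'⁻¹ * (x ^ 3)⁻¹ * s'⁻¹ := by group
      rw [hsx3, hs'i, inv_inv] at h2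
      exact h2.symm
    calc s' * φ * s' = (s' * y ^ 3 * s') * (s' * (x ^ 3)⁻¹ * s') := by
          have h2 : (s' * y ^ 3 * s') * (s' * (x ^ 3)⁻¹ * s') = s' * y ^ 3 * (s' * s') * (x ^ 3)⁻¹ * s' := by group
          rw [h2, hs'2, hφ]; group
      _ = (y ^ 3)⁻¹ * x ^ 3 := by rw [hsy3, h1]
      _ = x ^ 3 * (y ^ 3)⁻¹ := (((cyx.pow_left 3).inv_left).eq)
      _ = φ⁻¹ := by rw [hφ]; group
  -- `φ = (x b x⁻¹) (x² b x⁻²) b`
  have hφe : φ = (x * b * x⁻¹) * (x * (x * b * x⁻¹) * x⁻¹) * b := by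
    have h1 : y ^ 3 = (x * b * x⁻¹) * (x * (x * b * x⁻¹) * x⁻¹) * (x ^ 3 * b) := by
      rw [hy, pow_succ, pow_succ, pow_one]; group
    rw [hφ, h1, hxb]; group
  have hxbQ : x * b * x⁻¹ ∈ QQ S U := mem_norm hF.xQ hb
  have hxxbQ : x * (x * b * x⁻¹) * x⁻¹ ∈ QQ S U := mem_norm hF.xQ hxbQ
  have hφQ : φ ∈ QQ S U := by rw [hφe]; exact mul_mem (mul_mem hxbQ hxxbQ) hb
  obtain ⟨b₁, hb₁⟩ : ∃ b₁, b₁ = x * b * x⁻¹ := ⟨_, rfl⟩
  obtain ⟨b₂, hb₂⟩ : ∃ b₂, b₂ = x * b₁ * x⁻¹ := ⟨_, rfl⟩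
  rw [← hb₁] at hφe hxbQ hxxbQ
  rw [← hb₂] at hφe hxxbQ
  -- `φ` centralises `f`
  have hφf : φ * f * φ⁻¹ = f := by
    obtain ⟨p, hp⟩ : ∃ p, p = x * z * x⁻¹ := ⟨_, rfl⟩
    have hpU : p ∈ U := by rw [hp]; exact hF.xzU
    have hxp : x * p * x⁻¹ = z * p := by rw [hp]; exact hF.xxz
    have hfx : x⁻¹ * f * x = f := by
      have h6 : x⁻¹ * f * x = x⁻¹ * (x * f * x⁻¹) * x := by rw [hF.xfc]
      rw [h6]; group
    have e1 : b₁ * f * b₁⁻¹ = f * p := by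
      calc b₁ * f * b₁⁻¹ = x * (b * (x⁻¹ * f * x) * b⁻¹) * x⁻¹ := by rw [hb₁]; group
        _ = x * (f * z) * x⁻¹ := by rw [hfx, hbf]
        _ = (x * f * x⁻¹) * (x * z * x⁻¹) := by group
        _ = f * p := by rw [hF.xfc, hp]
    have e2 : b₂ * f * b₂⁻¹ = f * (z * p) := by
      calc b₂ * f * b₂⁻¹ = x * (b₁ * (x⁻¹ * f * x) * b₁⁻¹) * x⁻¹ := by rw [hb₂]; group
        _ = x * (f * p) * x⁻¹ := by rw [hfx, e1]
        _ = (x * f * x⁻¹) * (x * p * x⁻¹) := by group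
        _ = f * (z * p) := by rw [hF.xfc, hxp]
    have c1 : ∀ q ∈ QQ S U, ∀ u ∈ U, q * u * q⁻¹ = u := fun q hq u hu => conj_eq_iff.2 (mem_cent_iff.1 hq.2 u hu)
    have e3 : b₂ * (f * z) * b₂⁻¹ = f * p := by
      calc b₂ * (f * z) * b₂⁻¹ = (b₂ * f * b₂⁻¹) * (b₂ * z * b₂⁻¹) := by group
        _ = f * (z * p) * z := by rw [e2, c1 b₂ hxxbQ z hF.zU]
        _ = f * (p * z) * z := by rw [hF.commA hF.zA (hF.UA hpU)]
        _ = f * p * (z * z) := by group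
        _ = f * p := by rw [hF.z2, mul_one]
    have e4 : b₁ * (f * p) * b₁⁻¹ = f := by
      calc b₁ * (f * p) * b₁⁻¹ = (b₁ * f * b₁⁻¹) * (b₁ * p * b₁⁻¹) := by group
        _ = f * p * p := by rw [e1, c1 b₁ hxbQ p hpU]
        _ = f * (p * p) := by group
        _ = f := by rw [hF.sqA (hF.UA hpU), mul_one]
    calc φ * f * φ⁻¹ = b₁ * (b₂ * (b * f * b⁻¹) * b₂⁻¹) * b₁⁻¹ := by rw [hφe]; group
      _ = f := by rw [hbf, e3, e4]
  have hφT : φ ∈ TT S A := hF.mem_T_of_fix hφQ hφf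
  -- `φ² = 1`
  have hφφ : φ * φ = 1 := by
    by_contra hne
    obtain ⟨n, hn⟩ := S.2 ⟨φ, hφT.1⟩
    have hn' : φ ^ 2 ^ n = 1 := by simpa using congrArg Subtype.val hn
    obtain ⟨k, hk1, hk2⟩ := exists_order_four ⟨n, hn'⟩ hne
    obtain ⟨ψ, hψ⟩ : ∃ ψ, ψ = φ ^ k := ⟨_, rfl⟩
    rw [← hψ] at hk1 hk2
    have hψT : ψ ∈ TT S A := by rw [hψ]; exact pow_mem hφT k
    have hψψA : ψ * ψ ∈ A := hF.mem_A_of_sq (mul_mem hψT hψT) hk2
    have hsψ : s' * ψ * s' = ψ⁻¹ := by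
      have h1 : s' * φ ^ k * s'⁻¹ = (s' * φ * s'⁻¹) ^ k := (conj_pow).symm
      rw [hs'i] at h1
      rw [hψ, h1, hsφ, inv_pow]
    have h1 : ψ⁻¹ * (v * b) * ψ⁻¹⁻¹ = (v * b) * (ψ * ψ) := by
      rw [inv_inv, ← hs']
      calc ψ⁻¹ * s' * ψ = (s' * ψ * s') * s' * ψ := by rw [hsψ]
        _ = s' * ψ * (s' * s') * ψ := by group
        _ = s' * (ψ * ψ) := by rw [hs'2]; group
    have hψQ : ψ⁻¹ ∈ QQ S U := inv_mem (hF.T_le_Q hψT)
    rcases hg _ hψQ _ hψψA h1 with h2 | h2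
    · exact hk1 h2
    · -- `z` commutes with `y = x b`
      have c1 : Commute y (ψ * ψ) := by
        rw [hψ]; exact (cφy.pow_right k).mul_right (cφy.pow_right k)
      rw [h2] at c1
      have c2 : Commute b z := mem_cent_iff.1 hb.2 z hF.zU
      have c3 : Commute x z := by
        have h3 : x = y * b⁻¹ := by rw [hy]; group
        rw [h3]
        exact c1.mul_left c2.inv_left
      exact hF.xz (conj_eq_iff.2 c3)
  have hφA : φ ∈ A := hF.mem_A_of_sq hφT hφφ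
  refine Eone.false_of_root hF R hb hbb hbf hvb ?_
  have h1 := mem_norm (hF.hyp.norm hb.1) hφA
  rw [hφe] at h1
  have h2 : b * (b₁ * b₂ * b) * b⁻¹ = b * b₁ * b₂ := by group
  rw [h2] at h1
  rw [← hb₁, ← hb₂]
  exact h1

end Cfsg.Agent.RankThreeFus.AFive
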