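import Cfsg.Agent.RankThreeFus.FtBase
import Cfsg.Agent.RankThreeFus.Eone

/-!
# S1730, type (a5): `x³` centralises `Q`

helper48's step (0): an `⟨x, v⟩`-invariant subgroup of `T` of minimal order not centralised by `x³` leads to
a contradiction with (STAR).
-/

set_option autoImplicit false
set_option linter.style.haveILetI false

namespace Cfsg.Agent.RankThreeFus.AFive

open Subgroup Cfsg.Agent.Lib.GoldschmidtFusion Cfsg.Agent.StdL2.G23Aut Cfsg.Agent.RankThreeFus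

variable {G : Type*} [Group G]

/-- A 3-element which fixes `a` and maps `w` to `w a`, `a` a 2-element, fixes `w`. -/
theorem fix_trick {S : Sylow 2 G} {y w a : G} {k : ℕ} (hy : y ^ 3 ^ k = 1) (haS : a ∈ (S : Subgroup G))
    (h1 : y * w * y⁻¹ = w * a) (h2 : y * a = a * y) : a = 1 := by
  have key : ∀ n : ℕ, y ^ n * w * (y ^ n)⁻¹ = w * a ^ n := by
    intro n
    induction n with
    | zero => simp
    | succ n ih =>
      have h4 : y * a ^ n * y⁻¹ = a ^ n :=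
        conj_eq_iff.2 ((show Commute y a from h2).pow_right n).eq
      calc y ^ (n + 1) * w * (y ^ (n + 1))⁻¹ = y * (y ^ n * w * (y ^ n)⁻¹) * y⁻¹ := by
            rw [pow_succ']; group
        _ = (y * w * y⁻¹) * (y * a ^ n * y⁻¹) := by rw [ih]; group
        _ = w * a ^ (n + 1) := by rw [h1, h4, mul_assoc, ← pow_succ']
  have h5 := key (3 ^ k)
  rw [hy] at h5
  have h6 : a ^ 3 ^ k = 1 := by
    have h7 : w * a ^ 3 ^ k = w * 1 := by rw [← h5]; group
    exact mul_left_cancel h7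
  exact eq_one_of_mem_two_three S.2 haS h6

/-- In a nontrivial finite 2-group the squares generate a proper subgroup. -/
theorem exists_squares_lt [Finite G] {X : Subgroup G} (hX : IsPGroup 2 X) (h1 : X ≠ ⊥) :
    ∃ K : Subgroup G, K ≤ X ∧ K ≠ X ∧ ∀ w ∈ X, w * w ∈ K := by
  haveI : Fact (Nat.Prime 2) := ⟨Nat.prime_two⟩
  obtain ⟨n, hn⟩ := IsPGroup.iff_card.1 hX
  rcases n with _ | n
  · exfalso
    apply h1
    rw [pow_zero] at hn
    exact Subgroup.card_eq_one.1 hn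
  · obtain ⟨K, hK⟩ := Sylow.exists_subgroup_card_pow_prime 2 (G := X) (n := n) (by
      rw [hn]; exact pow_dvd_pow 2 (Nat.le_succ n))
    have hidx : K.index = 2 := by
      have h2 := K.card_mul_index
      rw [hK, hn, pow_succ] at h2
      exact Nat.eq_of_mul_eq_mul_left (by positivity) h2
    refine ⟨K.map X.subtype, ?_, ?_, ?_⟩
    · rintro _ ⟨y, -, rfl⟩
      exact y.2
    · intro h3
      have h4 : Nat.card (K.map X.subtype) = Nat.card K :=
        (Nat.card_congr (K.equivMapOfInjective X.subtype X.subtype_injective).toEquiv).symm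
      rw [h3, hn, hK] at h4
      have h5 : 2 ^ n < 2 ^ (n + 1) := Nat.pow_lt_pow_right (by norm_num) (by omega)
      omega
    · intro w hw
      refine ⟨⟨w, hw⟩ * ⟨w, hw⟩, ?_, rfl⟩
      exact Subgroup.mul_self_mem_of_index_two hidx _

variable {S : Sylow 2 G} {A U : Subgroup G} {z f x v g t : G}

section

variable (h : Fv S A U z f x v g) (R : Eone.Root S A U z x v t)

include h R

theorem cube_T [Finite G] : ∀ n : ℕ, ∀ X : Subgroup G, Nat.card X = n → X ≤ TT S A →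
    x ∈ normalizer (X : Set G) → v ∈ normalizer (X : Set G) → ∀ w ∈ X, x ^ 3 * w = w * x ^ 3 := by
  intro n
  induction n using Nat.strong_induction_on with
  | _ n ih =>
  intro X hXn hXT hxX hvX
  obtain ⟨k, hk⟩ := h.x_pow
  obtain ⟨y, hy⟩ : ∃ y : G, y = x ^ 3 := ⟨_, rfl⟩
  have hyk : y ^ 3 ^ k = 1 := by rw [hy, ← pow_mul, mul_comm, pow_mul, hk, one_pow]
  have hyX : y ∈ normalizer (X : Set G) := by rw [hy]; exact pow_mem hxX 3
  have hyc : ∀ w : G, y * w * y⁻¹ = x * (x * (x * w * x⁻¹) * x⁻¹) * x⁻¹ := by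
    intro w
    rw [hy, pow_succ, pow_two]; group
  have hyA : ∀ a ∈ A, y * a * y⁻¹ = a := fun a ha => by
    rw [hyc]; exact Eone.cube_A h.toFr ha
  have hyt : y * t * y⁻¹ = t := by rw [hyc]; exact R.cube
  obtain ⟨t1, ht1⟩ : ∃ t1 : G, t1 = x * t * x⁻¹ := ⟨_, rfl⟩
  have hyt1 : y * t1 * y⁻¹ = t1 := by
    have h1 : y * t1 * y⁻¹ = x * (y * t * y⁻¹) * x⁻¹ := by
      rw [ht1, hy, pow_succ, pow_two]; group
    rw [h1, hyt, ht1]
  have hvy : v * y * v⁻¹ = y⁻¹ := by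
    rw [hy, ← conj_pow, h.sx, inv_pow]
  have hvy' : v * y⁻¹ * v⁻¹ = y := by
    have h1 : v * y⁻¹ * v⁻¹ = (v * y * v⁻¹)⁻¹ := by group
    rw [h1, hvy, inv_inv]
  have hTA : ∀ w ∈ X, ∀ a ∈ A, w * a = a * w := fun w hw a ha => mem_cent_iff.1 (hXT hw).2 a ha
  have hmem : ∀ w ∈ X, y * w * y⁻¹ ∈ X := fun w hw => mem_norm hyX hw
  have hXS : ∀ w ∈ X, w ∈ (S : Subgroup G) := fun w hw => (hXT hw).1
  -- the goal
  by_contra hcon
  have hcon' : ¬ ∀ w ∈ X, y * w = w * y := by rw [hy]; exact hcon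
  -- principle
  have hP : ∀ M : Subgroup G, M ≤ X → x ∈ normalizer (M : Set G) → v ∈ normalizer (M : Set G) →
      (∀ w ∈ X, w⁻¹ * (y * w * y⁻¹) ∈ M) → M = X := by
    intro M hMX hxM hvM hMw
    by_contra hne
    apply hcon'
    have hlt : Nat.card M < n := by
      rw [← hXn]
      refine lt_of_le_of_ne (Subgroup.card_le_of_le hMX) (fun h1 => hne ?_)
      exact Subgroup.eq_of_le_of_card_ge hMX h1.ge
    have h1 := ih _ hlt M rfl (hMX.trans hXT) hxM hvM
    rw [← hy] at h1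
    intro w hw
    have h2 := fix_trick (S := S) hyk (hXS _ (hMX (hMw w hw))) (w := w) (by group)
      (h1 _ (hMw w hw))
    have h3 : y * w * y⁻¹ = w := by
      have h4 : y * w * y⁻¹ = w * (w⁻¹ * (y * w * y⁻¹)) := by group
      rw [h4, h2, mul_one]
    exact conj_eq_iff.1 h3
  -- `X` commutes with `t` and `t1`
  have hxt : x⁻¹ * t * x = (t * t1)⁻¹ := by
    have h1 : x * (x * t1 * x⁻¹) * x⁻¹ = t := by rw [ht1]; exact R.cube
    have h2 : t * t1 * (x * t1 * x⁻¹) = 1 := by rw [ht1]; exact R.prod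
    have h3 : x⁻¹ * t * x = x * t1 * x⁻¹ := by
      calc x⁻¹ * t * x = x⁻¹ * (x * (x * t1 * x⁻¹) * x⁻¹) * x := by rw [h1]
        _ = _ := by group
    rw [h3]
    exact eq_inv_of_mul_eq_one_right h2
  have hvt : v * t * v⁻¹ * t⁻¹ ∈ A := R.s
  have hwt : ∀ w ∈ TT S A, w * t * w⁻¹ * t⁻¹ ∈ A := fun w hw => R.Q w (h.T_le_Q hw)
  have hxAi : ∀ a ∈ A, x⁻¹ * a * x ∈ A := fun a ha => mem_norm' h.xA ha
  have hXc : ∀ w ∈ X, w * t = t * w ∧ w * t1 = t1 * w := by
    have h1 : X ⊓ centralizer ({t, t1} : Set G) = X := by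
      have hmm : ∀ w, w ∈ X ⊓ centralizer ({t, t1} : Set G) ↔ w ∈ X ∧ w * t = t * w ∧ w * t1 = t1 * w := by
        intro w
        rw [mem_inf, mem_centralizer_iff]
        constructor
        · rintro ⟨h2, h3⟩
          exact ⟨h2, (h3 t (by simp)).symm, (h3 t1 (by simp)).symm⟩
        · rintro ⟨h2, h3, h4⟩
          refine ⟨h2, ?_⟩
          rintro u (rfl | hu)
          · exact h3.symm
          · rw [Set.mem_singleton_iff] at hu
            rw [hu]; exact h4.symm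
      refine hP _ inf_le_left ?_ ?_ ?_
      · refine mem_norm_of_conj fun w hw => ?_
        rw [hmm] at hw ⊢
        obtain ⟨h2, h3, h4⟩ := hw
        refine ⟨mem_norm hxX h2, ?_, ?_⟩
        · have h5 : w * (x⁻¹ * t * x) = (x⁻¹ * t * x) * w := by
            rw [hxt]
            have h6 : Commute w (t * t1) := (show Commute w t from h3).mul_right h4
            exact h6.inv_right.eq
          calc x * w * x⁻¹ * t = x * (w * (x⁻¹ * t * x)) * x⁻¹ := by group
            _ = x * ((x⁻¹ * t * x) * w) * x⁻¹ := by rw [h5]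
            _ = _ := by group
        · calc x * w * x⁻¹ * t1 = x * (w * t) * x⁻¹ := by rw [ht1]; group
            _ = x * (t * w) * x⁻¹ := by rw [h3]
            _ = _ := by rw [ht1]; group
      · refine mem_norm_of_conj fun w hw => ?_
        rw [hmm] at hw ⊢
        obtain ⟨h2, h3, h4⟩ := hw
        refine ⟨mem_norm hvX h2, ?_, ?_⟩
        · have h5 : v⁻¹ * t * v = (v * t * v⁻¹ * t⁻¹) * t := by rw [h.vi]; group
          have h6 : Commute w ((v * t * v⁻¹ * t⁻¹) * t) :=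
            (show Commute w _ from hTA w h2 _ hvt).mul_right h3
          calc v * w * v⁻¹ * t = v * (w * (v⁻¹ * t * v)) * v⁻¹ := by group
            _ = v * ((v⁻¹ * t * v) * w) * v⁻¹ := by rw [h5, h6.eq]
            _ = _ := by group
        · have h5 : v⁻¹ * t1 * v = (x⁻¹ * (v * t * v⁻¹ * t⁻¹) * x) * (t * t1)⁻¹ := by
            rw [← hxt]
            have h7 : v⁻¹ * x = x⁻¹ * v⁻¹ := by
              have h8 : v * x = x⁻¹ * v := by rw [← h.sx]; group
              rw [h.vi]; exact h8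
            have h9 : x⁻¹ * v = v * x := by
              have h8 : v * x = x⁻¹ * v := by rw [← h.sx]; group
              exact h8.symm
            calc v⁻¹ * t1 * v = (v⁻¹ * x) * t * (x⁻¹ * v) := by rw [ht1]; group
              _ = x⁻¹ * v⁻¹ * t * (v * x) := by rw [h7, h9]
              _ = x⁻¹ * (v⁻¹ * t * v) * x := by group
              _ = x⁻¹ * (v * t * v⁻¹) * x := by rw [h.vi]
              _ = _ := by group
          have h6 : Commute w ((x⁻¹ * (v * t * v⁻¹ * t⁻¹) * x) * (t * t1)⁻¹) := by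
            refine (show Commute w _ from hTA w h2 _ (hxAi _ hvt)).mul_right ?_
            exact ((show Commute w t from h3).mul_right h4).inv_right
          calc v * w * v⁻¹ * t1 = v * (w * (v⁻¹ * t1 * v)) * v⁻¹ := by group
            _ = v * ((v⁻¹ * t1 * v) * w) * v⁻¹ := by rw [h5, h6.eq]
            _ = _ := by group
      · intro w hw
        rw [hmm]
        -- an element of `A` times `u` is fixed by `y`
        have key : ∀ u : G, y * u * y⁻¹ = u → w * u * w⁻¹ * u⁻¹ ∈ A →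
            w⁻¹ * (y * w * y⁻¹) * u = u * (w⁻¹ * (y * w * y⁻¹)) := by
          intro u hyu hwu
          have h2 : y⁻¹ * u * y = u := by
            calc y⁻¹ * u * y = y⁻¹ * (y * u * y⁻¹) * y := by rw [hyu]
              _ = u := by group
          have h3 : (y * w * y⁻¹) * u * (y * w * y⁻¹)⁻¹ = w * u * w⁻¹ := by
            calc (y * w * y⁻¹) * u * (y * w * y⁻¹)⁻¹ = y * (w * (y⁻¹ * u * y) * w⁻¹) * y⁻¹ := by group
              _ = y * ((w * u * w⁻¹ * u⁻¹) * u) * y⁻¹ := by rw [h2]; group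
              _ = (y * (w * u * w⁻¹ * u⁻¹) * y⁻¹) * (y * u * y⁻¹) := by group
              _ = w * u * w⁻¹ := by rw [hyA _ hwu, hyu]; group
          calc w⁻¹ * (y * w * y⁻¹) * u
              = w⁻¹ * ((y * w * y⁻¹) * u * (y * w * y⁻¹)⁻¹) * (y * w * y⁻¹) := by group
            _ = w⁻¹ * (w * u * w⁻¹) * (y * w * y⁻¹) := by rw [h3]
            _ = _ := by group
        refine ⟨mul_mem (inv_mem hw) (hmem w hw), key t hyt (hwt w (hXT hw)), key t1 hyt1 ?_⟩
        have h4 : w * t1 * w⁻¹ * t1⁻¹ = x * ((x⁻¹ * w * x) * t * (x⁻¹ * w * x)⁻¹ * t⁻¹) * x⁻¹ := by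
          rw [ht1]; group
        rw [h4]
        exact mem_norm h.xA (hwt _ (mem_norm' h.xT (hXT hw)))
    intro w hw
    have h2 : w ∈ X ⊓ centralizer ({t, t1} : Set G) := by rw [h1]; exact hw
    have h3 := mem_centralizer_iff.1 h2.2
    exact ⟨(h3 t (by simp)).symm, (h3 t1 (by simp)).symm⟩
  -- squares
  have hXp : IsPGroup 2 X := S.2.to_le (hXT.trans inf_le_left)
  have hX1 : X ≠ ⊥ := by
    rintro rfl
    apply hcon'
    intro w hw
    rw [mem_bot.1 hw, mul_one, one_mul]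
  obtain ⟨K, hKX, hKne, hK⟩ := exists_squares_lt hXp hX1
  obtain ⟨Sq, hSq⟩ : ∃ Sq : Subgroup G, Sq = closure {u : G | ∃ w ∈ X, u = w * w} := ⟨_, rfl⟩
  have hSqX : Sq ≤ X := by
    rw [hSq, closure_le]
    rintro _ ⟨w, hw, rfl⟩
    exact mul_mem hw hw
  have hSqK : Sq ≤ K := by
    rw [hSq, closure_le]
    rintro _ ⟨w, hw, rfl⟩
    exact hK w hw
  have hSqne : Sq ≠ X := fun h1 => hKne (le_antisymm hKX (h1 ▸ hSqK))
  have hSqn : ∀ q : G, q ∈ normalizer (X : Set G) → q ∈ normalizer (Sq : Set G) := by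
    intro q hq
    refine mem_norm_of_conj fun u hu => ?_
    rw [hSq] at hu ⊢
    induction hu using closure_induction with
    | mem u hu =>
      obtain ⟨w, hw, rfl⟩ := hu
      refine subset_closure ⟨q * w * q⁻¹, mem_norm hq hw, ?_⟩
      group
    | one => simp
    | mul a b _ _ iha ihb =>
      have h1 : q * (a * b) * q⁻¹ = (q * a * q⁻¹) * (q * b * q⁻¹) := by group
      rw [h1]; exact mul_mem iha ihb
    | inv a _ iha =>
      have h1 : q * a⁻¹ * q⁻¹ = (q * a * q⁻¹)⁻¹ := by group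
      rw [h1]; exact inv_mem iha
  have hSqy : ∀ w ∈ Sq, y * w = w * y := by
    have hlt : Nat.card Sq < n := by
      rw [← hXn]
      refine lt_of_le_of_ne (Subgroup.card_le_of_le hSqX) (fun h1 => hSqne ?_)
      exact Subgroup.eq_of_le_of_card_ge hSqX h1.ge
    have h1 := ih _ hlt Sq rfl (hSqX.trans hXT) (hSqn x hxX) (hSqn v hvX)
    rw [← hy] at h1
    exact h1
  have hsqm : ∀ w ∈ X, w * w ∈ Sq := fun w hw => by
    rw [hSq]; exact subset_closure ⟨w, hw, rfl⟩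
  have hsqc : ∀ w ∈ X, ∀ u ∈ Sq, w * u = u * w := by
    have h1 : X ⊓ centralizer (Sq : Set G) = X := by
      refine hP _ inf_le_left ?_ ?_ ?_
      · exact mem_norm_of_conj fun w hw =>
          mem_inf.2 ⟨mem_norm hxX (mem_inf.1 hw).1, conj_mem_cent (hSqn x hxX) (mem_inf.1 hw).2⟩
      · exact mem_norm_of_conj fun w hw =>
          mem_inf.2 ⟨mem_norm hvX (mem_inf.1 hw).1, conj_mem_cent (hSqn v hvX) (mem_inf.1 hw).2⟩
      · intro w hw
        refine mem_inf.2 ⟨mul_mem (inv_mem hw) (hmem w hw), mem_cent_iff.2 fun u hu => ?_⟩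
        have hu1 : y * u * y⁻¹ = u := conj_eq_iff.2 (hSqy u hu)
        have h2 : y⁻¹ * u * y = u := by
          calc y⁻¹ * u * y = y⁻¹ * (y * u * y⁻¹) * y := by rw [hu1]
            _ = u := by group
        have hwu : w * u * w⁻¹ ∈ Sq := mem_norm (hSqn w (le_normalizer hw)) hu
        have h3 : (y * w * y⁻¹) * u * (y * w * y⁻¹)⁻¹ = w * u * w⁻¹ := by
          calc (y * w * y⁻¹) * u * (y * w * y⁻¹)⁻¹ = y * (w * (y⁻¹ * u * y) * w⁻¹) * y⁻¹ := by group
            _ = w * u * w⁻¹ := by rw [h2]; exact conj_eq_iff.2 (hSqy _ hwu)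
        calc w⁻¹ * (y * w * y⁻¹) * u
            = w⁻¹ * ((y * w * y⁻¹) * u * (y * w * y⁻¹)⁻¹) * (y * w * y⁻¹) := by group
          _ = w⁻¹ * (w * u * w⁻¹) * (y * w * y⁻¹) := by rw [h3]
          _ = _ := by group
    intro w hw u hu
    have h2 : w ∈ X ⊓ centralizer (Sq : Set G) := by rw [h1]; exact hw
    exact mem_cent_iff.1 h2.2 u hu
  -- squares are central, so commutators are central of order at most two
  have hsq : ∀ a ∈ X, ∀ b ∈ X, a * (b * b) = (b * b) * a := fun a ha b hb => hsqc a ha _ (hsqm b hb)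
  have hcm : ∀ a ∈ X, ∀ b ∈ X, a * b * a⁻¹ * b⁻¹ = (a * b) * (a * b) * (a * a)⁻¹ * (b * b)⁻¹ := by
    intro a ha b hb
    have h1 : (a * a)⁻¹ * b = b * (a * a)⁻¹ :=
      ((show Commute (a * a) b from (hsq b hb a ha).symm).inv_left).eq
    calc a * b * a⁻¹ * b⁻¹ = (a * b) * (a * b) * (b⁻¹ * ((a * a)⁻¹ * b)) * b⁻¹ * b⁻¹ := by group
      _ = (a * b) * (a * b) * (b⁻¹ * (b * (a * a)⁻¹)) * b⁻¹ * b⁻¹ := by rw [h1]
      _ = _ := by group
  have hcc : ∀ a ∈ X, ∀ b ∈ X, ∀ w ∈ X, Commute w (a * b * a⁻¹ * b⁻¹) := by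
    intro a ha b hb w hw
    rw [hcm a ha b hb]
    exact ((show Commute w _ from hsq w hw _ (mul_mem ha hb)).mul_right
      (show Commute w _ from hsq w hw a ha).inv_right).mul_right
      (show Commute w _ from hsq w hw b hb).inv_right
  have hc2 : ∀ a ∈ X, ∀ b ∈ X, (a * b * a⁻¹ * b⁻¹) * (a * b * a⁻¹ * b⁻¹) = 1 := by
    intro a ha b hb
    have h1 : (a * a) * b * (a * a)⁻¹ * b⁻¹ = 1 := by
      rw [← hsq b hb a ha]; group
    have h2 : (a * a) * b * (a * a)⁻¹ * b⁻¹ = (a * (a * b * a⁻¹ * b⁻¹)) * b * a⁻¹ * b⁻¹ := by group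
    rw [h2, (hcc a ha b hb a ha).eq] at h1
    rw [← h1]; group
  have hpow : ∀ a ∈ X, ∀ b ∈ X, (a * b) ^ 4 = a ^ 4 * b ^ 4 := by
    intro a ha b hb
    have h1 : (a * b) * (a * b) = (a * b * a⁻¹ * b⁻¹) * (b * b) * (a * a) := by
      rw [hcm a ha b hb]; group
    have h2 : (a * b) ^ 4 = ((a * b) * (a * b)) * ((a * b) * (a * b)) := by
      rw [← pow_two, ← pow_two, ← pow_mul]
    have hcA : ∀ w ∈ X, Commute w (a * b * a⁻¹ * b⁻¹) := hcc a ha b hb
    have h3 : Commute (b * b) (a * b * a⁻¹ * b⁻¹) := hcA _ (mul_mem hb hb)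
    have h4 : Commute (a * a) (a * b * a⁻¹ * b⁻¹) := hcA _ (mul_mem ha ha)
    have h5 : Commute (b * b) (a * a) := hsq _ (mul_mem hb hb) a ha
    rw [h2, h1]
    calc (a * b * a⁻¹ * b⁻¹) * (b * b) * (a * a) * ((a * b * a⁻¹ * b⁻¹) * (b * b) * (a * a))
        = (a * b * a⁻¹ * b⁻¹) * (((b * b) * (a * a)) * (a * b * a⁻¹ * b⁻¹)) * ((b * b) * (a * a)) := by
          simp only [mul_assoc]
      _ = (a * b * a⁻¹ * b⁻¹) * ((a * b * a⁻¹ * b⁻¹) * ((b * b) * (a * a))) * ((b * b) * (a * a)) := by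
          rw [(h3.mul_left h4).eq]
      _ = ((a * b * a⁻¹ * b⁻¹) * (a * b * a⁻¹ * b⁻¹)) * ((b * b) * (a * a)) * ((b * b) * (a * a)) := by
          simp only [mul_assoc]
      _ = ((b * b) * (a * a)) * ((a * a) * (b * b)) := by
          rw [hc2 a ha b hb, one_mul, h5.eq]
      _ = (b * b) * ((a * a) * (a * a)) * (b * b) := by simp only [mul_assoc]
      _ = ((a * a) * (a * a)) * (b * b) * (b * b) := by rw [((h5.mul_right h5)).eq]
      _ = a ^ 4 * b ^ 4 := by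
          have h6 : a ^ 4 = (a * a) * (a * a) := by rw [← pow_two, ← pow_two, ← pow_mul]
          have h7 : b ^ 4 = (b * b) * (b * b) := by rw [← pow_two, ← pow_two, ← pow_mul]
          rw [h6, h7]; simp only [mul_assoc]
  -- exponent four
  have h4X : ∀ w ∈ X, w ^ 4 = 1 := by
    obtain ⟨M, hM⟩ : ∃ M : Subgroup G, ∀ w, w ∈ M ↔ w ∈ X ∧ w ^ 4 = 1 :=
      ⟨{ carrier := {w | w ∈ X ∧ w ^ 4 = 1}
         mul_mem' := fun {a b} ha hb => ⟨mul_mem ha.1 hb.1, by
           rw [hpow a ha.1 b hb.1, ha.2, hb.2, one_mul]⟩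
         one_mem' := ⟨one_mem _, one_pow _⟩
         inv_mem' := fun {a} ha => ⟨inv_mem ha.1, by rw [inv_pow, ha.2, inv_one]⟩ }, fun w => Iff.rfl⟩
    have h1 : M = X := by
      refine hP M (fun w hw => ((hM w).1 hw).1) ?_ ?_ ?_
      · refine mem_norm_of_conj fun w hw => ?_
        rw [hM] at hw ⊢
        exact ⟨mem_norm hxX hw.1, by rw [conj_pow, hw.2]; group⟩
      · refine mem_norm_of_conj fun w hw => ?_
        rw [hM] at hw ⊢
        exact ⟨mem_norm hvX hw.1, by rw [conj_pow, hw.2]; group⟩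
      · intro w hw
        rw [hM]
        obtain ⟨d, hd⟩ : ∃ d, d = w⁻¹ * (y * w * y⁻¹) := ⟨_, rfl⟩
        rw [← hd]
        have hdX : d ∈ X := by rw [hd]; exact mul_mem (inv_mem hw) (hmem w hw)
        refine ⟨hdX, ?_⟩
        have h2 : w * d = y * w * y⁻¹ := by rw [hd]; group
        have h3 : (w * d) * (w * d) = w * w := by
          rw [h2]
          calc y * w * y⁻¹ * (y * w * y⁻¹) = y * (w * w) * y⁻¹ := by group
            _ = w * w := conj_eq_iff.2 (hSqy _ (hsqm w hw))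
        have h4 := hcm w hw d hdX
        rw [h3] at h4
        have h5 : w * d * w⁻¹ * d⁻¹ = (d * d)⁻¹ := by rw [h4]; group
        have h6 := hc2 w hw d hdX
        rw [h5] at h6
        have h7 : d ^ 4 = ((d * d)⁻¹ * (d * d)⁻¹)⁻¹ := by
          rw [← mul_inv_rev, inv_inv, ← pow_two, ← pow_two, ← pow_mul]
        rw [h7, h6, inv_one]
    intro w hw
    rw [← h1, hM] at hw
    exact hw.2
  -- the element `i` of order four
  obtain ⟨i, hi⟩ : ∃ i : G, i = t1 * (v * t1 * v⁻¹)⁻¹ := ⟨_, rfl⟩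
  have ht1T : t1 ∈ TT S A := by rw [ht1]; exact mem_norm h.xT R.mem
  have hvt1T : v * t1 * v⁻¹ ∈ TT S A := mem_norm (h.SnT h.vS) ht1T
  have hiT : i ∈ TT S A := by rw [hi]; exact mul_mem ht1T (inv_mem hvt1T)
  have hvt1 : v * t1 * v⁻¹ = (x⁻¹ * (v * t * v⁻¹ * t⁻¹) * x) * (t * t1)⁻¹ := by
    rw [← hxt]
    have h8 : v * x = x⁻¹ * v := by rw [← h.sx]; group
    have h7 : x⁻¹ * v⁻¹ = v⁻¹ * x := by rw [h.vi]; exact h8.symm
    calc v * t1 * v⁻¹ = (v * x) * t * (x⁻¹ * v⁻¹) := by rw [ht1]; group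
      _ = (x⁻¹ * v) * t * (v⁻¹ * x) := by rw [h8, h7]
      _ = _ := by group
  have ht1t : t1 * t = t * t1 := by rw [ht1]; exact R.comm.symm
  have hAT : ∀ a ∈ A, ∀ w ∈ TT S A, Commute w a := fun a ha w hw => mem_cent_iff.1 hw.2 a ha
  have hct1 : Commute t1 (v * t1 * v⁻¹) := by
    rw [hvt1]
    refine (hAT _ (hxAi _ hvt) t1 ht1T).mul_right ?_
    exact ((show Commute t1 t from ht1t).mul_right (Commute.refl t1)).inv_right
  have hii : i * i = z := by
    have h1 : i * i = (t1 * t1) * (v * (t1 * t1) * v⁻¹)⁻¹ := by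
      calc i * i = t1 * ((v * t1 * v⁻¹)⁻¹ * t1) * (v * t1 * v⁻¹)⁻¹ := by rw [hi]; group
        _ = t1 * (t1 * (v * t1 * v⁻¹)⁻¹) * (v * t1 * v⁻¹)⁻¹ := by rw [hct1.inv_right.eq]
        _ = _ := by group
    have h2 : t1 * t1 = x * z * x⁻¹ := by rw [ht1, ← R.sq]; group
    rw [h1, h2, Eone.s_conj_p2 h.toFr, Eone.p3_eq h.toFr, mul_inv_rev]
    have h3 : (x * z * x⁻¹) * (x * z * x⁻¹)⁻¹ = 1 := mul_inv_cancel _
    rw [← mul_assoc, h3, one_mul, h.zi]
  have hiy : y * i * y⁻¹ = i := by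
    have h1 : y * (v * t1 * v⁻¹) * y⁻¹ = v * t1 * v⁻¹ := by
      have h2 : y * v = v * y⁻¹ := by
        have h3 : v * y⁻¹ * v⁻¹ * v = y * v := by rw [hvy']
        rw [← h3]; group
      have h4 : v⁻¹ * y⁻¹ = y * v⁻¹ := by
        have h5 := congrArg (fun w => w⁻¹) h2
        simp only [mul_inv_rev, inv_inv] at h5
        exact h5
      have h6 : y⁻¹ * t1 * y = t1 := by
        calc y⁻¹ * t1 * y = y⁻¹ * (y * t1 * y⁻¹) * y := by rw [hyt1]
          _ = t1 := by group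
      calc y * (v * t1 * v⁻¹) * y⁻¹ = (y * v) * t1 * (v⁻¹ * y⁻¹) := by group
        _ = (v * y⁻¹) * t1 * (y * v⁻¹) := by rw [h2, h4]
        _ = v * (y⁻¹ * t1 * y) * v⁻¹ := by group
        _ = _ := by rw [h6]
    calc y * i * y⁻¹ = (y * t1 * y⁻¹) * (y * (v * t1 * v⁻¹) * y⁻¹)⁻¹ := by rw [hi]; group
      _ = i := by rw [hyt1, h1, hi]
  have hiX : ∀ w ∈ X, Commute w i := by
    intro w hw
    have h1 : Commute w t1 := (hXc w hw).2
    have h2 : Commute w (v * t1 * v⁻¹) := by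
      rw [hvt1]
      refine (hAT _ (hxAi _ hvt) w (hXT hw)).mul_right ?_
      exact ((show Commute w t from (hXc w hw).1).mul_right h1).inv_right
    rw [hi]
    exact h1.mul_right h2.inv_right
  -- all `w v w⁻¹ v` are central and fixed by `y`
  have hn : ∀ w ∈ X, y * CC v w * y⁻¹ = CC v w ∧ (∀ r ∈ X, Commute r (CC v w)) ∧ CC v w ∈ X := by
    intro w hw
    have hnX : CC v w ∈ X := by
      have h1 : CC v w = w * (v * w⁻¹ * v⁻¹) := by unfold CC; rw [h.vi]; group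
      rw [h1]; exact mul_mem hw (mem_norm hvX (inv_mem hw))
    obtain ⟨n, hnn⟩ : ∃ n, n = CC v w := ⟨_, rfl⟩
    rw [← hnn] at hnX ⊢
    have hnv : v * n * v⁻¹ = n⁻¹ := by rw [hnn]; exact CC_conj h.v2 w
    have hn4 : (n * n) * (n * n) = 1 := by
      have h1 := h4X n hnX
      rw [← h1, ← pow_two, ← pow_two, ← pow_mul]
    have hnnA : n * n ∈ A := h.mem_A_of_sq (hXT (mul_mem hnX hnX)) hn4
    -- elements `k` of `A` fixed by `v` with `m v m⁻¹ = k v`
    have hstar : ∀ m ∈ TT S A, ∀ k ∈ A, v * k = k * v → m * v * m⁻¹ = k * v → k = 1 ∨ k = z := by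
      intro m hm k hk hkv hmk
      have h5 : ∀ u ∈ U, v * u = u * v → u = 1 ∨ u = z := fun u hu h6 => h.cU hu h6
      rcases h.mem_A hk with h6 | h6
      · exact h5 k h6 hkv
      · exfalso
        have h7 : v * (f * k) = (f * k) * v := by
          rw [← mul_assoc, h.vf, mul_assoc, hkv, mul_assoc]
        have h8 : k = f * (f * k) := by rw [← mul_assoc, h.f2, one_mul]
        rcases h5 _ h6 h7 with h9 | h9
        · rw [h9, mul_one] at h8
          rw [h8] at hmk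
          exact h.not_star hm.1 (Or.inl (h.TfC hm)) (Or.inl hmk)
        · rw [h9] at h8
          rw [h8] at hmk
          refine h.not_star hm.1 (Or.inl (h.TfC hm)) (Or.inr ?_)
          rw [hmk, h.zfc]
    have hnn1 : n * n = 1 ∨ n * n = z := by
      refine hstar n (hXT hnX) _ hnnA ?_ ?_
      · have h1 : v * (n * n) * v⁻¹ = n * n := by
          have h2 : v * (n * n) * v⁻¹ = (v * n * v⁻¹) * (v * n * v⁻¹) := by group
          rw [h2, hnv]
          have h3 : n⁻¹ * n⁻¹ = (n * n)⁻¹ := by group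
          rw [h3]
          exact inv_eq_of_mul_eq_one_right hn4
        exact conj_eq_iff.1 h1
      · have h1 := CC_of_inv h.v2 hnv
        rw [← h1, CC_v h.v2]
    rcases hnn1 with h1 | h1
    · have hnA : n ∈ A := h.mem_A_of_sq (hXT hnX) h1
      exact ⟨hyA n hnA, fun r hr => hAT n hnA r (hXT hr), hnX⟩
    · have h2 : i * n * (i * n) = 1 := by
        have h3 : Commute n i := hiX n hnX
        calc i * n * (i * n) = i * (n * i) * n := by group
          _ = i * (i * n) * n := by rw [h3.eq]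
          _ = (i * i) * (n * n) := by group
          _ = 1 := by rw [hii, h1, h.z2]
      have h3 : i * n ∈ A := h.mem_A_of_sq (mul_mem hiT (hXT hnX)) h2
      have h4 : n = i⁻¹ * (i * n) := by group
      refine ⟨?_, ?_, hnX⟩
      · rw [h4]
        have h5 : y * i⁻¹ * y⁻¹ = i⁻¹ := by
          have h6 : y * i⁻¹ * y⁻¹ = (y * i * y⁻¹)⁻¹ := by group
          rw [h6, hiy]
        calc y * (i⁻¹ * (i * n)) * y⁻¹ = (y * i⁻¹ * y⁻¹) * (y * (i * n) * y⁻¹) := by group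
          _ = _ := by rw [h5, hyA _ h3]
      · intro r hr
        rw [h4]
        exact (hiX r hr).inv_right.mul_right (hAT _ h3 r (hXT hr))
  -- the contradiction
  apply hcon'
  intro w hw
  obtain ⟨hn1, hn2, hn3⟩ := hn w hw
  obtain ⟨hm1, hm2, hm3⟩ := hn _ (hmem w hw)
  obtain ⟨w', hw'⟩ : ∃ w', w' = y * w * y⁻¹ := ⟨_, rfl⟩
  rw [← hw'] at hm1 hm2 hm3
  have hform : ∀ r ∈ X, (∀ q ∈ X, Commute q (CC v r)) → v * r * v⁻¹ = r * (CC v r)⁻¹ := by
    intro r hr hcr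
    have h1 : (CC v r)⁻¹ = v * r * v⁻¹ * r⁻¹ := by
      unfold CC; rw [h.vi, mul_inv_rev, mul_inv_rev, mul_inv_rev, inv_inv, h.vi]; group
    have h2 : v * r * v⁻¹ = (CC v r)⁻¹ * r := by rw [h1]; group
    rw [h2]
    exact ((hcr r hr).inv_right.eq).symm
  have hf1 := hform w hw hn2
  have hw'X : w' ∈ X := by rw [hw']; exact hmem w hw
  have hf2 := hform w' hw'X hm2
  -- conjugate by `v` the definition of `w'`
  have h1 : v * w' * v⁻¹ = y⁻¹ * (v * w * v⁻¹) * y := by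
    have h2 : v * w' * v⁻¹ = (v * y * v⁻¹) * (v * w * v⁻¹) * (v * y * v⁻¹)⁻¹ := by rw [hw']; group
    rw [h2, hvy, inv_inv]
  rw [hf2, hf1] at h1
  obtain ⟨m, hm⟩ : ∃ m, m = (CC v w)⁻¹ * CC v w' := ⟨_, rfl⟩
  have hym : y * m * y⁻¹ = m := by
    have h3 : y * m * y⁻¹ = (y * CC v w * y⁻¹)⁻¹ * (y * CC v w' * y⁻¹) := by rw [hm]; group
    rw [h3, hn1, hm1, hm]
  have hmX : m ∈ X := by rw [hm]; exact mul_mem (inv_mem hn3) hm3
  have h4 : y⁻¹ * w * y = w' * m⁻¹ := by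
    have h5 : y⁻¹ * (w * (CC v w)⁻¹) * y = (y⁻¹ * w * y) * (CC v w)⁻¹ := by
      have h6 : y⁻¹ * (CC v w)⁻¹ * y = (CC v w)⁻¹ := by
        calc y⁻¹ * (CC v w)⁻¹ * y = y⁻¹ * (y * CC v w * y⁻¹)⁻¹ * y := by rw [hn1]
          _ = _ := by group
      calc y⁻¹ * (w * (CC v w)⁻¹) * y = (y⁻¹ * w * y) * (y⁻¹ * (CC v w)⁻¹ * y) := by group
        _ = _ := by rw [h6]
    rw [h5] at h1
    rw [hm]
    calc y⁻¹ * w * y = ((y⁻¹ * w * y) * (CC v w)⁻¹) * CC v w := by group
      _ = (w' * (CC v w')⁻¹) * CC v w := by rw [h1]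
      _ = _ := by group
  -- `y² w y⁻² = w m`
  have h7 : y ^ 2 * w * (y ^ 2)⁻¹ = w * m := by
    have h8 : y * (y⁻¹ * w * y) * y⁻¹ = w := by group
    rw [h4] at h8
    have h9 : y * (w' * m⁻¹) * y⁻¹ = (y * w' * y⁻¹) * (y * m * y⁻¹)⁻¹ := by group
    rw [h9, hym] at h8
    calc y ^ 2 * w * (y ^ 2)⁻¹ = y * w' * y⁻¹ := by rw [hw', pow_two]; group
      _ = (y * w' * y⁻¹ * m⁻¹) * m := by group
      _ = w * m := by rw [h8]
  have hy2k : (y ^ 2) ^ 3 ^ k = 1 := by rw [← pow_mul, mul_comm, pow_mul, hyk, one_pow]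
  have hy2m : y ^ 2 * m = m * y ^ 2 :=
    ((show Commute y m from conj_eq_iff.1 hym).pow_left 2).eq
  have hm1' := fix_trick (S := S) hy2k (hXS m hmX) h7 hy2m
  rw [hm1', mul_one] at h7
  have hyodd : Odd (orderOf y) := by
    have h8 : orderOf y ∣ 3 ^ k := orderOf_dvd_of_pow_eq_one hyk
    exact Odd.of_dvd_nat (Odd.pow (by decide)) h8
  exact conj_eq_iff.1 (conj_fix_of_sq hyodd h7)

/-- **CUBE** `x³` centralises `Q`. -/
theorem cube [Finite G] : ∀ q ∈ QQ S U, x ^ 3 * q = q * x ^ 3 := by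
  intro q hq
  obtain ⟨k, hk⟩ := h.x_pow
  have hT := cube_T h R _ (TT S A) rfl le_rfl h.xT (h.SnT h.vS)
  obtain ⟨y, hy⟩ : ∃ y : G, y = x ^ 3 := ⟨_, rfl⟩
  rw [← hy] at hT ⊢
  have hyk : y ^ 3 ^ k = 1 := by rw [hy, ← pow_mul, mul_comm, pow_mul, hk, one_pow]
  have hyA : ∀ a ∈ A, y * a * y⁻¹ = a := fun a ha => conj_eq_iff.2 (hT a (h.A_le_T ha))
  obtain ⟨u, hu, hqu⟩ := h.Qf hq
  have hyQ : y * q * y⁻¹ ∈ QQ S U := mem_norm (by rw [hy]; exact pow_mem h.xQ 3) hq
  obtain ⟨a, ha⟩ : ∃ a, a = q⁻¹ * (y * q * y⁻¹) := ⟨_, rfl⟩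
  have haQ : a ∈ QQ S U := by rw [ha]; exact mul_mem (inv_mem hq) hyQ
  have hyf : y⁻¹ * f * y = f := by
    calc y⁻¹ * f * y = y⁻¹ * (y * f * y⁻¹) * y := by rw [hyA f h.fA]
      _ = f := by group
  have h1 : (y * q * y⁻¹) * f * (y * q * y⁻¹)⁻¹ = q * f * q⁻¹ := by
    calc (y * q * y⁻¹) * f * (y * q * y⁻¹)⁻¹ = y * (q * (y⁻¹ * f * y) * q⁻¹) * y⁻¹ := by group
      _ = y * (f * u) * y⁻¹ := by rw [hyf, hqu]
      _ = q * f * q⁻¹ := by rw [hyA _ (mul_mem h.fA (h.UA hu)), hqu]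
  have haT : a ∈ TT S A := by
    refine h.mem_T_of_fix haQ ?_
    calc a * f * a⁻¹ = q⁻¹ * ((y * q * y⁻¹) * f * (y * q * y⁻¹)⁻¹) * q := by rw [ha]; group
      _ = q⁻¹ * (q * f * q⁻¹) * q := by rw [h1]
      _ = f := by group
  have h2 := fix_trick (S := S) hyk haT.1 (w := q) (by rw [ha]; group) (hT a haT)
  have h3 : y * q * y⁻¹ = q := by
    have h4 : y * q * y⁻¹ = q * a := by rw [ha]; group
    rw [h4, h2, mul_one]
  exact conj_eq_iff.1 h3

end

end Cfsg.Agent.RankThreeFus.AFive
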