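import Mathlib
import Cfsg.Agent.GH.Rank

/-!
# S1730, (B8*), type (a5): the end

A finite group with a normal abelian subgroup `B` generated by two elements such that the quotient is abelian
and generated by two elements has sectional 2-rank at most 4.
-/

set_option autoImplicit false

namespace Cfsg.Agent.RankThreeFus.RankEnd

open Subgroup Cfsg.Agent.GH.Rank

theorem cyclic_one {H : Type*} [Group H] [Finite H] (hc : IsCyclic H) : Cfsg.SectionalPRankLE 2 1 H := by
  have h := Cfsg.Agent.TwoFusion.SectionalRank.sectionalPRankLE_of_cyclic (G := H) (p := 2) (k := 0)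
    (by norm_num) (⊤ : Subgroup H) (by rw [index_top]; norm_num)
  exact h

/-- a commutative group generated by two elements has sectional rank at most two -/
theorem two_gen {H : Type*} [Group H] [Finite H] (hc : ∀ x y : H, x * y = y * x) {p q : H}
    (hpq : closure {p, q} = (⊤ : Subgroup H)) : Cfsg.SectionalPRankLE 2 2 H := by
  have hn : (zpowers p).Normal := ⟨fun x hx g => by
    have : g * x * g⁻¹ = x := by rw [hc g x, mul_inv_cancel_right]
    rwa [this]⟩
  have h1 : Cfsg.SectionalPRankLE 2 1 (QuotientGroup.mk' (zpowers p)).ker := by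
    apply cyclic_one
    rw [QuotientGroup.ker_mk']
    infer_instance
  have h2 : Cfsg.SectionalPRankLE 2 1 (QuotientGroup.mk' (zpowers p)).range := by
    apply cyclic_one
    have h3 : (QuotientGroup.mk' (zpowers p)).range = zpowers (QuotientGroup.mk' (zpowers p) q) := by
      rw [MonoidHom.range_eq_map, ← hpq, MonoidHom.map_closure, Set.image_pair,
        zpowers_eq_closure (QuotientGroup.mk' (zpowers p) q)]
      have h4 : (QuotientGroup.mk' (zpowers p)) p = 1 := by
        rw [← MonoidHom.mem_ker, QuotientGroup.ker_mk']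
        exact mem_zpowers p
      rw [h4]
      apply le_antisymm
      · rw [closure_le]
        intro x hx
        rcases hx with rfl | hx
        · exact one_mem _
        · exact subset_closure hx
      · exact closure_mono (by simp)
    rw [h3]
    infer_instance
  exact of_extension _ h1 h2

/-- **the rank bound** -/
theorem rank_four {H : Type*} [Group H] [Finite H] (B : Subgroup H) (hBn : B.Normal)
    (hBc : ∀ x ∈ B, ∀ y ∈ B, x * y = y * x) {p q : H} (hp : p ∈ B) (hq : q ∈ B) (hB : B ≤ closure {p, q})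
    {k v : H} (hS : ∀ g : H, g ∈ B ⊔ closure {k, v}) (hkv : k * v * k⁻¹ * v⁻¹ ∈ B) :
    Cfsg.SectionalPRankLE 2 4 H := by
  have h1 : Cfsg.SectionalPRankLE 2 2 (QuotientGroup.mk' B).ker := by
    have e : (QuotientGroup.mk' B).ker = B := QuotientGroup.ker_mk' B
    rw [e]
    apply two_gen (p := (⟨p, hp⟩ : B)) (q := (⟨q, hq⟩ : B))
    · intro x y
      exact Subtype.ext (hBc x x.2 y y.2)
    · rw [eq_top_iff]
      intro x _
      have h2 : (closure {(⟨p, hp⟩ : B), ⟨q, hq⟩}).map B.subtype = closure {p, q} := by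
        rw [MonoidHom.map_closure, Set.image_pair]
        rfl
      have h3 : (x : H) ∈ (closure {(⟨p, hp⟩ : B), ⟨q, hq⟩}).map B.subtype := by
        rw [h2]; exact hB x.2
      obtain ⟨y, hy, hyx⟩ := h3
      have : y = x := Subtype.ext hyx
      rwa [this] at hy
  have h2 : Cfsg.SectionalPRankLE 2 2 (H ⧸ B) := by
    have hg : closure {QuotientGroup.mk' B k, QuotientGroup.mk' B v} = (⊤ : Subgroup (H ⧸ B)) := by
      rw [eq_top_iff]
      intro x _
      obtain ⟨g, rfl⟩ := QuotientGroup.mk'_surjective B x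
      have h3 : QuotientGroup.mk' B g ∈ (B ⊔ closure {k, v}).map (QuotientGroup.mk' B) :=
        mem_map_of_mem _ (hS g)
      rw [Subgroup.map_sup, MonoidHom.map_closure, Set.image_pair] at h3
      have h4 : B.map (QuotientGroup.mk' B) = ⊥ := by
        rw [eq_bot_iff, map_le_iff_le_comap]
        intro b hb
        rw [mem_comap, mem_bot, ← MonoidHom.mem_ker, QuotientGroup.ker_mk']
        exact hb
      rwa [h4, bot_sup_eq] at h3
    refine two_gen ?_ hg
    have hcomm : QuotientGroup.mk' B k * QuotientGroup.mk' B v = QuotientGroup.mk' B v * QuotientGroup.mk' B k := by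
      have h5 : QuotientGroup.mk' B (k * v * k⁻¹ * v⁻¹) = 1 := by
        rw [← MonoidHom.mem_ker, QuotientGroup.ker_mk']
        exact hkv
      rw [map_mul, map_mul, map_mul, map_inv, map_inv] at h5
      rw [mul_inv_eq_one, mul_inv_eq_iff_eq_mul] at h5
      exact h5
    have h6 : IsMulCommutative (closure {QuotientGroup.mk' B k, QuotientGroup.mk' B v}) := by
      apply Subgroup.isMulCommutative_closure
      rintro x (rfl | rfl) y (rfl | rfl)
      · rfl
      · exact hcomm
      · exact hcomm.symm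
      · rfl
    intro x y
    have hx : x ∈ closure {QuotientGroup.mk' B k, QuotientGroup.mk' B v} := by rw [hg]; trivial
    have hy : y ∈ closure {QuotientGroup.mk' B k, QuotientGroup.mk' B v} := by rw [hg]; trivial
    have := h6.is_comm.comm ⟨x, hx⟩ ⟨y, hy⟩
    exact congrArg Subtype.val this
  refine of_extension (p := 2) (a := 2) (b := 2) (QuotientGroup.mk' B) h1 ?_
  have hr : (QuotientGroup.mk' B).range = ⊤ := MonoidHom.range_eq_top.2 (QuotientGroup.mk'_surjective B)
  rw [hr]
  exact of_equiv h2 topEquiv.symm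

/-- the form used: `S` a Sylow 2-subgroup -/
theorem main {G : Type*} [Group G] [Finite G] (S : Sylow 2 G) {B : Subgroup G} (hBS : B ≤ (S : Subgroup G))
    (hBn : ∀ s ∈ (S : Subgroup G), ∀ b ∈ B, s * b * s⁻¹ ∈ B)
    (hBc : ∀ x ∈ B, ∀ y ∈ B, x * y = y * x) {p q : G} (hp : p ∈ B) (hq : q ∈ B) (hB : B ≤ closure {p, q})
    {k v : G} (hkS : k ∈ (S : Subgroup G)) (hvS : v ∈ (S : Subgroup G))
    (hS : (S : Subgroup G) ≤ B ⊔ closure {k, v}) (hkv : k * v * k⁻¹ * v⁻¹ ∈ B) :
    Cfsg.SectionalPRankLE 2 4 G := by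
  have hf : Fact (Nat.Prime 2) := ⟨Nat.prime_two⟩
  apply Cfsg.Agent.TwoFusion.SectionalRank.sectionalPRankLE_of_sylow S
  have tr : ∀ {X : Subgroup G}, X ≤ (S : Subgroup G) → ∀ {x y : G} (hx : x ∈ (S : Subgroup G))
      (hy : y ∈ (S : Subgroup G)), X ≤ closure {x, y} →
      X.subgroupOf (S : Subgroup G) ≤ closure {(⟨x, hx⟩ : (S : Subgroup G)), ⟨y, hy⟩} := by
    intro X hX x y hx hy h a ha
    have h2 : (closure {(⟨x, hx⟩ : (S : Subgroup G)), ⟨y, hy⟩}).map (S : Subgroup G).subtype = closure {x, y} := by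
      rw [MonoidHom.map_closure, Set.image_pair]
      rfl
    have h3 : (a : G) ∈ (closure {(⟨x, hx⟩ : (S : Subgroup G)), ⟨y, hy⟩}).map (S : Subgroup G).subtype := by
      rw [h2]; exact h (mem_subgroupOf.1 ha)
    obtain ⟨b, hb, hba⟩ := h3
    have : b = a := Subtype.ext hba
    rwa [this] at hb
  refine rank_four (B.subgroupOf (S : Subgroup G)) ⟨fun b hb g => ?_⟩ ?_ (p := ⟨p, hBS hp⟩) (q := ⟨q, hBS hq⟩)
    ?_ ?_ (tr hBS _ _ hB) (k := ⟨k, hkS⟩) (v := ⟨v, hvS⟩) ?_ ?_
  · rw [mem_subgroupOf] at hb ⊢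
    exact hBn g g.2 b hb
  · intro x hx y hy
    exact Subtype.ext (hBc x (mem_subgroupOf.1 hx) y (mem_subgroupOf.1 hy))
  · exact mem_subgroupOf.2 hp
  · exact mem_subgroupOf.2 hq
  · intro g
    have h1 := hS g.2
    have h2 : (B.subgroupOf (S : Subgroup G) ⊔
        closure {(⟨k, hkS⟩ : (S : Subgroup G)), ⟨v, hvS⟩}).map (S : Subgroup G).subtype = B ⊔ closure {k, v} := by
      rw [Subgroup.map_sup, MonoidHom.map_closure, Set.image_pair, subgroupOf_map_subtype, inf_eq_left.2 hBS]
      rfl
    rw [← h2] at h1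
    obtain ⟨y, hy, hyx⟩ := h1
    have : y = g := Subtype.ext hyx
    rwa [this] at hy
  · exact mem_subgroupOf.2 hkv

end Cfsg.Agent.RankThreeFus.RankEnd
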