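import Cfsg.Agent.RankThreeFus.Star
import Cfsg.Agent.RankThreeFus.RankEnd
import Cfsg.Agent.Lib.CoprimeCommutator
import Cfsg.Agent.Solvable.UniqueOrderP

/-!
# S1730, (B8*), type (a5): the end of the argument

If all the commutators `[v, q]`, `q ∈ Q = C_S(U)`, lie in a cyclic subgroup `⟨c⟩ ∋ z` normalised by `Q`, then
`S` has a normal abelian subgroup `J = ⟨c, x c x⁻¹⟩` with `S/J` abelian and generated by two elements: so `G`
has sectional 2-rank at most 4.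
-/

set_option autoImplicit false
set_option linter.style.haveILetI false
set_option linter.unusedSectionVars false

namespace Cfsg.Agent.RankThreeFus.AEnd

open Subgroup Cfsg.Agent.Lib.GoldschmidtFusion Cfsg.Agent.StdL2.G23Aut

variable {G : Type*} [Group G]

/-- the involution of a cyclic 2-group -/
theorem eq_of_zpowers [Finite G] {c a b : G} (ha : a ∈ zpowers c) (hb : b ∈ zpowers c) (ha2 : a * a = 1) (ha1 : a ≠ 1)
    (hb2 : b * b = 1) (hb1 : b ≠ 1) : a = b := by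
  classical
  have ho : ∀ y : zpowers c, (y : G) * y = 1 → (y : G) ≠ 1 → orderOf y = 2 := by
    intro y hy hy1
    refine orderOf_eq_prime ?_ (fun h => hy1 (by rw [h]; rfl))
    rw [pow_two]
    exact Subtype.ext hy
  have ha' := ho ⟨a, ha⟩ ha2 ha1
  have hb' := ho ⟨b, hb⟩ hb2 hb1
  have := Fintype.ofFinite (zpowers c)
  have h2 : 2 ∣ Fintype.card (zpowers c) := by
    rw [← ha', ← Nat.card_eq_fintype_card]; exact orderOf_dvd_natCard _
  have h := IsCyclic.card_orderOf_eq_totient (α := zpowers c) h2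
  have h1 : Finset.card {y : zpowers c | orderOf y = 2} = 1 := by rw [h]; rfl
  rw [Finset.card_eq_one] at h1
  obtain ⟨y, hy⟩ := h1
  have ha3 : (⟨a, ha⟩ : zpowers c) ∈ ({y : zpowers c | orderOf y = 2} : Finset (zpowers c)) := by simpa using ha'
  have hb3 : (⟨b, hb⟩ : zpowers c) ∈ ({y : zpowers c | orderOf y = 2} : Finset (zpowers c)) := by simpa using hb'
  rw [hy, Finset.mem_singleton] at ha3 hb3
  exact congrArg Subtype.val (ha3.trans hb3.symm)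

/-- in a 2-group an element `d ≠ 1` has an involution among its powers -/
theorem exists_inv_pow {P : Subgroup G} (hP : IsPGroup 2 P) {d : G} (hd : d ∈ P) (hd1 : d ≠ 1) :
    ∃ i ∈ zpowers d, i * i = 1 ∧ i ≠ 1 := by
  obtain ⟨n, hn⟩ := hP ⟨d, hd⟩
  have hn' : d ^ 2 ^ n = 1 := congrArg Subtype.val hn
  clear hn
  induction n generalizing d with
  | zero => exact absurd (by simpa using hn') hd1
  | succ n ih =>
    by_cases h2 : d * d = 1
    · exact ⟨d, mem_zpowers d, h2, hd1⟩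
    · obtain ⟨i, hi, h3, h4⟩ := ih (d := d * d) (mul_mem hd hd) h2 (by
        rw [← pow_two, ← pow_mul, ← pow_succ']; exact hn')
      exact ⟨i, (zpowers_le.2 (mul_mem (mem_zpowers d) (mem_zpowers d))) hi, h3, h4⟩

variable [Finite G] {S : Sylow 2 G} {A U : Subgroup G} {z f x v g : G} (h : Fv S A U z f x v g)

include h

theorem xQ' {q : G} (hq : q ∈ QQ S U) : x * q * x⁻¹ ∈ QQ S U := mem_norm h.xQ hq

theorem xQi {q : G} (hq : q ∈ QQ S U) : x⁻¹ * q * x ∈ QQ S U := mem_norm' h.xQ hq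

theorem vQ {q : G} (hq : q ∈ QQ S U) : v * q * v⁻¹ ∈ QQ S U := mem_norm (h.SnQ h.vS) hq

/-- the end -/
theorem rank_le {c : G} (hc : c ∈ QQ S U)
    (hall : ∀ q ∈ QQ S U, v * (q * v * q⁻¹) ∈ zpowers c) (hn : ∀ q ∈ QQ S U, q * c * q⁻¹ ∈ zpowers c)
    (hz : z ∈ zpowers c) : Cfsg.SectionalPRankLE 2 4 G := by
  -- `B₀ = ⟨c⟩`
  set B₀ : Subgroup G := zpowers c with hB₀
  have hB₀n : ∀ q ∈ QQ S U, ∀ b ∈ B₀, q * b * q⁻¹ ∈ B₀ := by
    intro q hq b hb
    obtain ⟨k, rfl⟩ := hb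
    have h1 : q * c ^ k * q⁻¹ = (q * c * q⁻¹) ^ k := by rw [conj_zpow]
    change q * c ^ k * q⁻¹ ∈ B₀
    rw [h1]
    exact zpow_mem (hn q hq) k
  have hB₀Q : B₀ ≤ QQ S U := by rw [hB₀, zpowers_le]; exact hc
  -- `v q v⁻¹ = q b`, `b ∈ B₀`
  have hv1 : ∀ q ∈ QQ S U, ∃ b ∈ B₀, v * q * v⁻¹ = q * b := by
    intro q hq
    refine ⟨q⁻¹ * (v * q * v⁻¹), ?_, by group⟩
    have h1 := hall q⁻¹ (inv_mem hq)
    have h2 : q⁻¹ * (v * q * v⁻¹) = (v * (q⁻¹ * v * q⁻¹⁻¹))⁻¹ := by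
      rw [h.vi, inv_inv]
      have : (v * (q⁻¹ * v * q))⁻¹ = q⁻¹ * v⁻¹ * q * v⁻¹ := by group
      rw [this, h.vi]; group
    rw [h2]
    exact inv_mem h1
  -- `c₁`
  set c₁ : G := x * c * x⁻¹ with hc₁
  have hc₁Q : c₁ ∈ QQ S U := xQ' h hc
  have hB₁n : ∀ q ∈ QQ S U, q * c₁ * q⁻¹ ∈ zpowers c₁ := by
    intro q hq
    obtain ⟨k, hk⟩ := hn _ (xQi h hq)
    refine ⟨k, ?_⟩
    change c₁ ^ k = _
    have h1 : c₁ ^ k = x * c ^ k * x⁻¹ := by rw [hc₁, conj_zpow]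
    have h2 : c ^ k = x⁻¹ * q * x * c * (x⁻¹ * q * x)⁻¹ := hk
    rw [h1, h2, hc₁]; group
  have hv₁ : ∀ q ∈ QQ S U, ∃ b ∈ zpowers c₁, (x * v * x⁻¹) * q * (x * v * x⁻¹)⁻¹ = q * b := by
    intro q hq
    obtain ⟨b, hb, hbe⟩ := hv1 _ (xQi h hq)
    obtain ⟨k, rfl⟩ := hb
    refine ⟨c₁ ^ k, zpow_mem (mem_zpowers _) k, ?_⟩
    have h1 : c₁ ^ k = x * c ^ k * x⁻¹ := by rw [hc₁, conj_zpow]
    have h2 : (x * v * x⁻¹) * q * (x * v * x⁻¹)⁻¹ = x * (v * (x⁻¹ * q * x) * v⁻¹) * x⁻¹ := by group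
    rw [h2, hbe, h1]
    change x * (x⁻¹ * q * x * c ^ k) * x⁻¹ = _
    group
  -- the two cyclic groups meet trivially
  have hz1 : x * z * x⁻¹ ∈ zpowers c₁ := by
    obtain ⟨k, hk⟩ := hz
    refine ⟨k, ?_⟩
    have hk' : c ^ k = z := hk
    change c₁ ^ k = _
    rw [hc₁, conj_zpow, hk']
  have hmeet : ∀ b ∈ B₀, b ∈ zpowers c₁ → b = 1 := by
    intro b hb hb1
    by_contra hne
    obtain ⟨i, hi, hi2, hi1⟩ := exists_inv_pow (P := QQ S U) (S.2.to_le inf_le_left) (hB₀Q hb) hne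
    have h1 : i = z := eq_of_zpowers ((zpowers_le.2 hb) hi) hz hi2 hi1 h.z2 h.z1
    have h2 : i = x * z * x⁻¹ := by
      refine eq_of_zpowers ((zpowers_le.2 hb1) hi) hz1 hi2 hi1 ?_ h.xz1
      have : x * z * x⁻¹ * (x * z * x⁻¹) = x * (z * z) * x⁻¹ := by group
      rw [this, h.z2]; group
    exact h.xz (h2.symm.trans h1)
  have hcc : c * c₁ = c₁ * c := by
    have h1 : c * c₁ * c⁻¹ * c₁⁻¹ = 1 := by
      refine hmeet _ ?_ ?_
      · have : c * c₁ * c⁻¹ * c₁⁻¹ = c * (c₁ * c * c₁⁻¹)⁻¹ := by group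
        rw [this]
        exact mul_mem (mem_zpowers c) (inv_mem (hn _ hc₁Q))
      · exact mul_mem (hB₁n _ hc) (inv_mem (mem_zpowers c₁))
    rw [mul_inv_eq_one, mul_inv_eq_iff_eq_mul] at h1
    exact h1
  -- `J = ⟨c, c₁⟩`
  set J : Subgroup G := closure {c, c₁} with hJ
  have hcJ : c ∈ J := subset_closure (Or.inl rfl)
  have hc₁J : c₁ ∈ J := subset_closure (Or.inr rfl)
  have hB₀J : B₀ ≤ J := by rw [hB₀, zpowers_le]; exact hcJ
  have hB₁J : zpowers c₁ ≤ J := by rw [zpowers_le]; exact hc₁J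
  have hJQ : J ≤ QQ S U := by
    rw [hJ, closure_le]
    rintro y (rfl | rfl)
    · exact hc
    · exact hc₁Q
  have hJc : ∀ a ∈ J, ∀ b ∈ J, a * b = b * a := by
    have h6 : IsMulCommutative J := by
      apply Subgroup.isMulCommutative_closure
      rintro x (rfl | rfl) y (rfl | rfl)
      · rfl
      · exact hcc
      · exact hcc.symm
      · rfl
    intro a ha b hb
    exact congrArg Subtype.val (h6.is_comm.comm ⟨a, ha⟩ ⟨b, hb⟩)
  have hJn : ∀ q ∈ QQ S U, ∀ j ∈ J, q * j * q⁻¹ ∈ J := by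
    intro q hq j hj
    have h1 : J.map (MulAut.conj q).toMonoidHom ≤ J := by
      rw [hJ, MonoidHom.map_closure, closure_le]
      rintro _ ⟨y, (rfl | rfl), rfl⟩
      · exact hB₀J (hn q hq)
      · exact hB₁J (hB₁n q hq)
    exact h1 (mem_map_of_mem (MulAut.conj q).toMonoidHom hj)
  -- `x²` acts trivially on `Q / J`
  have hx2 : x ^ 2 = (x * v * x⁻¹) * v := by
    have h1 : v * x⁻¹ * v⁻¹ = x := h.sxi
    rw [h.vi] at h1
    have : x * v * x⁻¹ * v = x * (v * x⁻¹ * v) := by group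
    rw [this, h1, pow_two]
  have hx2J : ∀ q ∈ QQ S U, ∃ j ∈ J, x ^ 2 * q * (x ^ 2)⁻¹ = q * j := by
    intro q hq
    obtain ⟨b, hb, hbe⟩ := hv1 q hq
    obtain ⟨b1, hb1, hbe1⟩ := hv₁ q hq
    obtain ⟨b2, hb2, hbe2⟩ := hv₁ b (hB₀Q hb)
    refine ⟨b1 * (b * b2), mul_mem (hB₁J hb1) (mul_mem (hB₀J hb) (hB₁J hb2)), ?_⟩
    have h1 : x ^ 2 * q * (x ^ 2)⁻¹ = (x * v * x⁻¹) * (v * q * v⁻¹) * (x * v * x⁻¹)⁻¹ := by
      rw [hx2]; group
    have h2 : (x * v * x⁻¹) * (q * b) * (x * v * x⁻¹)⁻¹ =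
        ((x * v * x⁻¹) * q * (x * v * x⁻¹)⁻¹) * ((x * v * x⁻¹) * b * (x * v * x⁻¹)⁻¹) := by group
    rw [h1, hbe, h2, hbe1, hbe2]
    group
  have hxp : ∀ n : ℕ, ∀ q ∈ QQ S U, ∃ j ∈ J, (x ^ 2) ^ n * q * ((x ^ 2) ^ n)⁻¹ = q * j := by
    intro n
    induction n with
    | zero => intro q _; exact ⟨1, one_mem _, by simp⟩
    | succ n ih =>
      intro q hq
      obtain ⟨j, hj, hje⟩ := ih q hq
      obtain ⟨j1, hj1, hje1⟩ := hx2J (q * j) (mul_mem hq (hJQ hj))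
      refine ⟨j * j1, mul_mem hj hj1, ?_⟩
      have h1 : (x ^ 2) ^ (n + 1) * q * ((x ^ 2) ^ (n + 1))⁻¹ =
          x ^ 2 * ((x ^ 2) ^ n * q * ((x ^ 2) ^ n)⁻¹) * (x ^ 2)⁻¹ := by rw [pow_succ' (x ^ 2) n]; group
      rw [h1, hje, hje1]; group
  obtain ⟨kx, hkx⟩ : ∃ n : ℕ, (x ^ 2) ^ n = x := by
    obtain ⟨k, hk⟩ := h.xodd
    refine ⟨k + 1, ?_⟩
    rw [← pow_mul]
    have h5 : 2 * (k + 1) = orderOf x + 1 := by omega
    rw [h5, pow_succ, pow_orderOf_eq_one, one_mul]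
  have hxn : ∀ n : ℕ, ∀ q ∈ QQ S U, ∃ j ∈ J, x ^ n * q * (x ^ n)⁻¹ = q * j := by
    intro n q hq
    have h1 : x ^ n = (x ^ 2) ^ (kx * n) := by rw [pow_mul, hkx]
    rw [h1]
    exact hxp _ q hq
  have hxJ1 : ∀ n : ℕ, ∀ j ∈ J, x ^ n * j * (x ^ n)⁻¹ ∈ J := by
    intro n j hj
    obtain ⟨j', hj', he⟩ := hxn n j (hJQ hj)
    rw [he]
    exact mul_mem hj hj'
  have hxp' : ∀ a ∈ zpowers x, ∃ n : ℕ, a = x ^ n := by
    intro a ha
    rw [← mem_powers_iff_mem_zpowers] at ha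
    obtain ⟨n, hn⟩ := ha
    exact ⟨n, hn.symm⟩
  have hxJ : zpowers x ≤ normalizer (J : Set G) := by
    intro a ha
    rw [mem_normalizer_iff]
    intro j
    constructor
    · intro hj
      obtain ⟨n, rfl⟩ := hxp' a ha
      exact hxJ1 n j hj
    · intro hj
      obtain ⟨n, hn⟩ := hxp' a⁻¹ (inv_mem ha)
      have h1 := hxJ1 n _ hj
      rw [← hn] at h1
      have h2 : a⁻¹ * (a * j * a⁻¹) * a⁻¹⁻¹ = j := by group
      rwa [h2] at h1
  -- `K = C_Q(x)`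
  set K : Subgroup G := QQ S U ⊓ centralizer {x} with hK
  have hKx : ∀ k ∈ K, x * k = k * x := by
    intro k hk
    exact (mem_centralizer_singleton_iff.1 hk.2).symm
  have hKT : ∀ k ∈ K, k ∈ TT S A := fun k hk => h.fix_Q hk.1 (hKx k hk)
  -- `Q = J K`
  have hQJK : ∀ q ∈ QQ S U, ∃ k ∈ K, q⁻¹ * k ∈ J := by
    intro q hq
    obtain ⟨m, hm⟩ := h.x_pow
    have hf3 : Fact (Nat.Prime 3) := ⟨Nat.prime_three⟩
    have hP : IsPGroup 3 (zpowers x) := by
      rintro ⟨a, ha⟩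
      obtain ⟨n, rfl⟩ := hxp' a ha
      refine ⟨m, Subtype.ext ?_⟩
      change (x ^ n) ^ 3 ^ m = 1
      rw [← pow_mul, mul_comm, pow_mul, hm, one_pow]
    have h3 : ¬ 3 ∣ Nat.card J := by
      obtain ⟨n, hn⟩ := IsPGroup.iff_card.1 (S.2.to_le (hJQ.trans inf_le_left) : IsPGroup 2 J)
      rw [hn]
      intro hd
      have := (Nat.prime_three.dvd_of_dvd_pow hd)
      omega
    obtain ⟨k, hk, hkJ⟩ := Cfsg.Agent.Lib.CoprimeCommutator.exists_fixed_in_coset 3 (zpowers x) J hP hxJ h3 q (by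
      intro a ha
      obtain ⟨n, rfl⟩ := hxp' a ha
      obtain ⟨j, hj, he⟩ := hxn n q hq
      rw [he, inv_mul_cancel_left]
      exact hj)
    refine ⟨k, ⟨?_, ?_⟩, hkJ⟩
    · have : k = q * (q⁻¹ * k) := by group
      rw [this]
      exact mul_mem hq (hJQ hkJ)
    · exact mem_centralizer_singleton_iff.2 (mem_centralizer_iff.1 hk x (mem_zpowers x)).symm
  -- `f` does not commute with `c`
  have hfc : c * f ≠ f * c := by
    intro hcf
    -- `f` commutes with `v (b v b⁻¹)` for every `b ∈ Q`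
    obtain ⟨b, hb, hbf⟩ := h.tv _ h.xzU
    obtain ⟨k, hk⟩ := hall b hb
    have hk' : c ^ k = v * (b * v * b⁻¹) := hk
    have h1 : Commute (c ^ k) f := (show Commute c f from hcf).zpow_left k
    rw [hk'] at h1
    have hvf : v * f * v⁻¹ = f := conj_eq_iff.2 h.vf
    have hb1 : b⁻¹ * f * b = f * (x * z * x⁻¹) := by
      have e1 : b * (x * z * x⁻¹) * b⁻¹ = x * z * x⁻¹ :=
        conj_eq_iff.2 (mem_cent_iff.1 hb.2 _ h.xzU)
      have e2 : (x * z * x⁻¹) * (x * z * x⁻¹) = 1 := h.sqA (h.UA h.xzU)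
      have e3 : b * (f * (x * z * x⁻¹)) * b⁻¹ = f := by
        have : b * (f * (x * z * x⁻¹)) * b⁻¹ = (b * f * b⁻¹) * (b * (x * z * x⁻¹) * b⁻¹) := by group
        rw [this, hbf, e1, mul_assoc, e2, mul_one]
      calc b⁻¹ * f * b = b⁻¹ * (b * (f * (x * z * x⁻¹)) * b⁻¹) * b := by rw [e3]
        _ = _ := by group
    have hvx : v * (x * z * x⁻¹) * v⁻¹ = z * (x * z * x⁻¹) := by
      have e1 : v * (x * z * x⁻¹) * v⁻¹ = (v * x * v⁻¹) * (v * z * v⁻¹) * (v * x * v⁻¹)⁻¹ := by group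
      have e2 : x * (z * (x * z * x⁻¹)) * x⁻¹ = z := by
        have : x * (z * (x * z * x⁻¹)) * x⁻¹ = (x * z * x⁻¹) * (x * (x * z * x⁻¹) * x⁻¹) := by group
        rw [this, h.xxz, h.commA h.zA (h.UA h.xzU), ← mul_assoc, h.sqA (h.UA h.xzU), one_mul]
      rw [e1, h.sx, conj_eq_iff.2 h.vz]
      calc x⁻¹ * z * x⁻¹⁻¹ = x⁻¹ * (x * (z * (x * z * x⁻¹)) * x⁻¹) * x := by rw [e2]; group
        _ = _ := by group
    have h2 : (v * (b * v * b⁻¹)) * f * (v * (b * v * b⁻¹))⁻¹ = f * z := by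
      have e1 : (v * (b * v * b⁻¹)) * f * (v * (b * v * b⁻¹))⁻¹ =
          v * (b * (v * (b⁻¹ * f * b) * v⁻¹) * b⁻¹) * v⁻¹ := by group
      have e2 : v * (f * (x * z * x⁻¹)) * v⁻¹ = f * (z * (x * z * x⁻¹)) := by
        have : v * (f * (x * z * x⁻¹)) * v⁻¹ = (v * f * v⁻¹) * (v * (x * z * x⁻¹) * v⁻¹) := by group
        rw [this, hvf, hvx]
      have e3 : b * (f * (z * (x * z * x⁻¹))) * b⁻¹ = f * z := by
        have e4 : b * (f * (z * (x * z * x⁻¹))) * b⁻¹ =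
            (b * f * b⁻¹) * (b * (z * (x * z * x⁻¹)) * b⁻¹) := by group
        have e5 : b * (z * (x * z * x⁻¹)) * b⁻¹ = z * (x * z * x⁻¹) :=
          conj_eq_iff.2 (mem_cent_iff.1 hb.2 _ (mul_mem h.zU h.xzU))
        rw [e4, hbf, e5, h.commA h.zA (h.UA h.xzU)]
        calc f * (x * z * x⁻¹) * (x * z * x⁻¹ * z) = f * ((x * z * x⁻¹) * (x * z * x⁻¹)) * z := by group
          _ = f * z := by rw [h.sqA (h.UA h.xzU), mul_one]
      rw [e1, hb1, e2, e3]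
      have e6 : v * (f * z) * v⁻¹ = (v * f * v⁻¹) * (v * z * v⁻¹) := by group
      rw [e6, hvf, conj_eq_iff.2 h.vz]
    have h3 : (v * (b * v * b⁻¹)) * f * (v * (b * v * b⁻¹))⁻¹ = f := conj_eq_iff.2 h1
    rw [h3] at h2
    exact h.z1 (mul_eq_left.1 h2.symm)
  have hfaith : ∀ k ∈ K, k * c = c * k → k = 1 := by
    intro k hk hkc
    by_contra hne
    obtain ⟨i, hi, hi2, hi1⟩ := exists_inv_pow (P := QQ S U) (S.2.to_le inf_le_left) hk.1 hne
    have hiK : i ∈ K := (zpowers_le.2 hk) hi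
    rcases h.fix_A (h.mem_A_of_sq (hKT i hiK) hi2) (hKx i hiK) with h1 | h1
    · exact hi1 h1
    · apply hfc
      rw [← h1]
      obtain ⟨n, rfl⟩ := hi
      have : Commute c (k ^ n) := (show Commute k c from hkc).symm.zpow_right n
      exact this
  have hKc : ∀ a ∈ K, ∀ b ∈ K, a * b = b * a := by
    intro a ha b hb
    have h1 : (b * a)⁻¹ * (a * b) = 1 := by
      apply hfaith _ (mul_mem (inv_mem (mul_mem hb ha)) (mul_mem ha hb))
      obtain ⟨i, hi⟩ := hn a ha.1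
      obtain ⟨j, hj⟩ := hn b hb.1
      have hi' : a * c * a⁻¹ = c ^ i := hi.symm
      have hj' : b * c * b⁻¹ = c ^ j := hj.symm
      have h2 : (a * b) * c * (a * b)⁻¹ = c ^ (i * j) := by
        have : (a * b) * c * (a * b)⁻¹ = a * (b * c * b⁻¹) * a⁻¹ := by group
        rw [this, hj', ← conj_zpow, hi', zpow_mul]
      have h3 : (b * a) * c * (b * a)⁻¹ = c ^ (i * j) := by
        have : (b * a) * c * (b * a)⁻¹ = b * (a * c * a⁻¹) * b⁻¹ := by group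
        rw [this, hi', ← conj_zpow, hj', ← zpow_mul, mul_comm]
      have h4 : (b * a)⁻¹ * c ^ (i * j) * (b * a) = c := by rw [← h3]; group
      refine conj_eq_iff.1 ?_
      calc (b * a)⁻¹ * (a * b) * c * ((b * a)⁻¹ * (a * b))⁻¹
          = (b * a)⁻¹ * ((a * b) * c * (a * b)⁻¹) * (b * a) := by group
        _ = c := by rw [h2, h4]
    exact (inv_mul_eq_one.1 h1).symm
  obtain ⟨d, hd⟩ : ∃ d : G, K = zpowers d := by
    have hf2 : Fact (Nat.Prime 2) := ⟨Nat.prime_two⟩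
    have hK2 : IsPGroup 2 K := S.2.to_le (inf_le_left.trans inf_le_left)
    obtain ⟨a, ha⟩ := Cfsg.Agent.Solvable.UniqueOrderP.exists_eq_zpowers_of_comm (G := K) 2 hK2 (by
      have key : ∀ y : K, y ^ 2 = 1 → (y : G) = 1 ∨ (y : G) = f := by
        intro y hy
        rw [pow_two] at hy
        exact h.fix_A (h.mem_A_of_sq (hKT y y.2) (congrArg Subtype.val hy)) (hKx y y.2)
      intro y w hy1 hy hw
      rcases key y hy with h1 | h1
      · exact absurd (Subtype.ext h1) hy1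
      · rcases key w hw with h2 | h2
        · rw [show w = 1 from Subtype.ext h2]
          exact one_mem _
        · rw [show w = y from Subtype.ext (h2.trans h1.symm)]
          exact mem_zpowers y) ⊤ ⟨⟨fun a b => Subtype.ext (Subtype.ext (hKc a a.1.2 b b.1.2))⟩⟩
    refine ⟨a, le_antisymm ?_ (zpowers_le.2 a.2)⟩
    intro k hk
    have h1 : (⟨k, hk⟩ : K) ∈ zpowers a := by rw [← ha]; trivial
    obtain ⟨n, hn⟩ := h1
    exact ⟨n, congrArg Subtype.val hn⟩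
  have hdK : d ∈ K := by rw [hd]; exact mem_zpowers d
  have hdv : v * d = d * v := h.comm_K (hKT d hdK) (hKx d hdK)
  refine RankEnd.main S (B := J) (hJQ.trans inf_le_left) ?_ hJc hcJ hc₁J hJ.le (k := d) (v := v) hdK.1.1 h.vS ?_ ?_
  · -- `S` normalises `J`
    have hvJ : ∀ j ∈ J, v * j * v⁻¹ ∈ J := by
      intro j hj
      obtain ⟨b, hb, he⟩ := hv1 j (hJQ hj)
      rw [he]
      exact mul_mem hj (hB₀J hb)
    intro s hs j hj
    by_cases hsQ : s ∈ QQ S U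
    · exact hJn s hsQ j hj
    · have h1 : s * v ∈ QQ S U := h.mul_mem_Q hs h.vS hsQ h.v_notin_Q
      have h2 : s * j * s⁻¹ = (s * v) * (v * j * v⁻¹) * (s * v)⁻¹ := by
        calc s * j * s⁻¹ = (s * (v * v)) * j * (s * (v * v))⁻¹ := by rw [h.v2, mul_one]
          _ = _ := by group
      rw [h2]
      exact hJn _ h1 _ (hvJ j hj)
  · have hQle : QQ S U ≤ J ⊔ closure {d, v} := by
      intro q hq
      obtain ⟨k, hk, hkJ⟩ := hQJK q hq
      rw [hd] at hk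
      have h1 : q = k * (q⁻¹ * k)⁻¹ := by group
      rw [h1]
      have h2 : zpowers d ≤ J ⊔ closure {d, v} := by
        rw [zpowers_le]
        exact (le_sup_right : closure {d, v} ≤ J ⊔ closure {d, v}) (subset_closure (Or.inl rfl))
      exact mul_mem (h2 hk) (inv_mem ((le_sup_left : J ≤ _) hkJ))
    have hv' : v ∈ J ⊔ closure {d, v} :=
      (le_sup_right : closure {d, v} ≤ J ⊔ closure {d, v}) (subset_closure (Or.inr rfl))
    intro s hs
    by_cases hsQ : s ∈ QQ S U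
    · exact hQle hsQ
    · have h1 : s * v ∈ QQ S U := h.mul_mem_Q hs h.vS hsQ h.v_notin_Q
      have h2 : s = (s * v) * v := by rw [mul_assoc, h.v2, mul_one]
      rw [h2]
      exact mul_mem (hQle h1) hv'
  · have : d * v * d⁻¹ * v⁻¹ = 1 := by rw [← hdv]; group
    rw [this]
    exact one_mem _

end Cfsg.Agent.RankThreeFus.AEnd
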