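import Cfsg.Agent.RankThreeFus.Star

/-!
# S1730, (B8*), type (a5): the displacements `v · vᵠ` form a cyclic group

`Fv S A U z f x v g`, `i` of order 4 in `T` inverted by `v` with `[Q, i] ≤ A`, `r ∈ T` commuting with `i`,
`v r v⁻¹ = i r`.  If no involution of `Q` moving `f` to `f z` commutes with `v` (in the form `hB`), then
`{v (q v q⁻¹) : q ∈ Q}` is contained in a cyclic normal subgroup of `S`.
-/

set_option autoImplicit false

namespace Cfsg.Agent.RankThreeFus.AFiveC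

open Subgroup Cfsg.Agent.Lib.GoldschmidtFusion Cfsg.Agent.StdL2.G23Aut

variable {G : Type*} [Group G]

/-- (STAR) for `w`: no element of `Q` moves `w` to `w k` with `k ∈ A - ⟨z⟩`. -/
def Good (S : Sylow 2 G) (A U : Subgroup G) (z w : G) : Prop :=
  ∀ y ∈ QQ S U, ∀ k ∈ A, y * w * y⁻¹ = w * k → k = 1 ∨ k = z

/-- The element `i` of order 4. -/
structure Ii (S : Sylow 2 G) (A U : Subgroup G) (z v i r : G) : Prop where
  iT : i ∈ TT S A
  i2 : i * i = z
  vi : v * i * v⁻¹ = i⁻¹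
  Qi : ∀ q ∈ QQ S U, q * i * q⁻¹ * i⁻¹ ∈ A
  rT : r ∈ TT S A
  ri : r * i = i * r
  vr : v * r * v⁻¹ = i * r

theorem comm_of_sq {a b : G} (ha : a * a = 1) (hb : b * b = 1) (hab : (a * b) * (a * b) = 1) : a * b = b * a := by
  have h1 : a * b = (a * b)⁻¹ := eq_inv_of_mul_eq_one_left hab
  rw [h1, mul_inv_rev, inv_eq_of_mul_eq_one_left ha, inv_eq_of_mul_eq_one_left hb]

/-- A cyclic group has at most one involution. -/
theorem uniq_inv [Finite G] {w a b : G} (ha : a ∈ zpowers w) (hb : b ∈ zpowers w) (ha2 : a * a = 1)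
    (hb2 : b * b = 1) (ha1 : a ≠ 1) (hb1 : b ≠ 1) : a = b := by
  classical
  have hfin : Fintype (zpowers w) := Fintype.ofFinite _
  have h1 := IsCyclic.card_pow_eq_one_le (α := zpowers w) (n := 2) (by norm_num)
  by_contra hab
  have h2 : ({1, ⟨a, ha⟩, ⟨b, hb⟩} : Finset (zpowers w)) ⊆ Finset.univ.filter (fun y => y ^ 2 = 1) := by
    intro y hy
    rw [Finset.mem_filter]
    refine ⟨Finset.mem_univ _, ?_⟩
    rw [Finset.mem_insert, Finset.mem_insert, Finset.mem_singleton] at hy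
    rcases hy with rfl | rfl | rfl
    · exact one_pow 2
    · exact Subtype.ext (by rw [pow_two]; exact ha2)
    · exact Subtype.ext (by rw [pow_two]; exact hb2)
  have h3 : ({1, ⟨a, ha⟩, ⟨b, hb⟩} : Finset (zpowers w)).card = 3 := by
    rw [Finset.card_insert_of_notMem, Finset.card_insert_of_notMem, Finset.card_singleton]
    · rw [Finset.mem_singleton]
      intro h4
      exact hab (congrArg Subtype.val h4)
    · rw [Finset.mem_insert, Finset.mem_singleton]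
      rintro (h4 | h4)
      · exact ha1 (congrArg Subtype.val h4).symm
      · exact hb1 (congrArg Subtype.val h4).symm
  have h4 := Finset.card_le_card h2
  rw [h3] at h4
  omega

/-- Powers of an element inverted by `v` are inverted by `v`. -/
theorem inv_zp {v w y : G} (hw : v * w * v⁻¹ = w⁻¹) (hy : y ∈ zpowers w) : v * y * v⁻¹ = y⁻¹ := by
  obtain ⟨k, rfl⟩ := mem_zpowers_iff.1 hy
  rw [← conj_zpow, hw, inv_zpow]

/-- In a cyclic 2-group an element of order at least 8 has a power of order 8. -/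
theorem exists_pow_eight {w : G} {n : ℕ} (hn : w ^ 2 ^ n = 1) (h4 : w ^ 4 ≠ 1) :
    ∃ m ∈ zpowers w, m ^ 4 ≠ 1 ∧ m ^ 8 = 1 := by
  classical
  have hex : ∃ j, w ^ 2 ^ j = 1 := ⟨n, hn⟩
  set j := Nat.find hex with hj
  have h1 : w ^ 2 ^ j = 1 := Nat.find_spec hex
  have h2 : 3 ≤ j := by
    by_contra hlt
    push Not at hlt
    apply h4
    have h3 : w ^ 4 = (w ^ 2 ^ j) ^ (2 ^ (2 - j)) := by
      rw [← pow_mul, ← pow_add]
      have : j + (2 - j) = 2 := by omega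
      rw [this]
      norm_num
    rw [h3, h1, one_pow]
  refine ⟨w ^ 2 ^ (j - 3), pow_mem (mem_zpowers w) _, ?_, ?_⟩
  · intro h3
    have h5 : w ^ 2 ^ (j - 1) = 1 := by
      rw [← h3, ← pow_mul]
      congr 1
      have : j - 1 = (j - 3) + 2 := by omega
      rw [this, pow_add]
      norm_num
    have h6 := Nat.find_min' hex h5
    omega
  · rw [← h1, ← pow_mul]
    congr 1
    have : j = (j - 3) + 3 := by omega
    conv_rhs => rw [this, pow_add]
    norm_num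

theorem pow4 (m : G) : m ^ 4 = (m * m) * (m * m) := by
  simp only [pow_succ, pow_zero, one_mul, mul_assoc]

theorem pow8 (m : G) : m ^ 8 = ((m * m) * (m * m)) * ((m * m) * (m * m)) := by
  simp only [pow_succ, pow_zero, one_mul, mul_assoc]

section Basic

variable [Finite G] {S : Sylow 2 G} {A U : Subgroup G} {z f x v g i r : G} (h : Fv S A U z f x v g)

include h

theorem qz {q : G} (hq : q ∈ QQ S U) : q * z * q⁻¹ = z := h.zSc hq.1

theorem qA {q a : G} (hq : q ∈ QQ S U) (ha : a ∈ A) : q * a * q⁻¹ ∈ A := mem_norm (h.hyp.norm hq.1) ha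

theorem qA' {q a : G} (hq : q ∈ QQ S U) (ha : a ∈ A) : q⁻¹ * a * q ∈ A := mem_norm' (h.hyp.norm hq.1) ha

omit [Finite G] h in
theorem qU {q u : G} (hq : q ∈ QQ S U) (hu : u ∈ U) : q * u * q⁻¹ = u :=
  conj_eq_iff.2 (mem_cent_iff.1 hq.2 u hu)

theorem vA {a : G} (ha : a ∈ A) : v * a * v⁻¹ ∈ A := mem_norm (h.hyp.norm h.vS) ha

theorem vQ {q : G} (hq : q ∈ QQ S U) : v * q * v⁻¹ ∈ QQ S U := mem_norm (h.SnQ h.vS) hq

omit [Finite G] in
theorem fz_notin : f * z ∉ U := fun h1 => h.fU (by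
  have h2 := mul_mem h1 h.zU
  rwa [mul_assoc, h.z2, mul_one] at h2)

/-- `C_A(v)` -/
theorem cA {a : G} (ha : a ∈ A) (hv : v * a = a * v) : a = 1 ∨ a = z ∨ a = f ∨ a = f * z := by
  rcases h.mem_A ha with h1 | h1
  · rcases h.cU h1 hv with h2 | h2
    · exact Or.inl h2
    · exact Or.inr (Or.inl h2)
  · have h2 : v * (f * a) = f * a * v := by
      rw [← mul_assoc, h.vf, mul_assoc, hv, mul_assoc]
    rcases h.cU h1 h2 with h3 | h3
    · right; right; left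
      rw [eq_inv_of_mul_eq_one_right h3, h.fi]
    · right; right; right
      have h4 : a = f⁻¹ * (f * a) := by group
      rw [h4, h3, h.fi]

theorem vU {u : G} (hu : u ∈ U) (h1 : u ≠ 1) (h2 : u ≠ z) : v * u * v⁻¹ = z * u := by
  have h3 : v * u * v⁻¹ ∈ U := mem_norm (h.SnU h.vS) hu
  rcases h.U_cases hu h1 h2 h3 with h4 | h4 | h4 | h4
  · exact (h1 (conj_eq_one_iff.1 h4)).elim
  · exfalso
    apply h2
    have h5 : v * u = z * v := mul_inv_eq_iff_eq_mul.1 h4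
    rw [← h.vz] at h5
    exact mul_left_cancel h5
  · rcases h.cU hu (conj_eq_iff.1 h4) with h5 | h5
    · exact (h1 h5).elim
    · exact (h2 h5).elim
  · exact h4

/-- `[v, A] ≤ ⟨z⟩` -/
theorem va {a : G} (ha : a ∈ A) : v * a * v⁻¹ * a = 1 ∨ v * a * v⁻¹ * a = z := by
  have key : ∀ u ∈ U, v * u * v⁻¹ * u = 1 ∨ v * u * v⁻¹ * u = z := by
    intro u hu
    by_cases h1 : u = 1
    · left; rw [h1]; group
    by_cases h2 : u = z
    · left; rw [h2, h.zSc h.vS, h.z2]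
    right
    rw [vU h hu h1 h2, mul_assoc, h.sqA (h.UA hu), mul_one]
  rcases h.mem_A ha with h1 | h1
  · exact key a h1
  · have h2 : v * a * v⁻¹ * a = v * (f * a) * v⁻¹ * (f * a) := by
      have h3 : v * (f * a) * v⁻¹ * (f * a) = (v * f) * a * v⁻¹ * f * a := by group
      rw [h3, h.vf]
      have h4 : (v * a * v⁻¹) * f = f * (v * a * v⁻¹) := h.commA (vA h ha) h.fA
      have h5 : f * v * a * v⁻¹ * f * a = f * ((v * a * v⁻¹) * f) * a := by group
      rw [h5, h4, ← mul_assoc, h.f2, one_mul]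
    rw [h2]
    exact key _ h1

omit [Finite G] in
theorem good_conj {w q : G} (hw : Good S A U z w) (hq : q ∈ QQ S U) : Good S A U z (q * w * q⁻¹) := by
  intro y hy k hk hyw
  have h1 : (q⁻¹ * y * q) * w * (q⁻¹ * y * q)⁻¹ = w * (q⁻¹ * k * q) := by
    have h2 : (q⁻¹ * y * q) * w * (q⁻¹ * y * q)⁻¹ = q⁻¹ * (y * (q * w * q⁻¹) * y⁻¹) * q := by group
    rw [h2, hyw]; group
  have h3 := hw _ (mul_mem (mul_mem (inv_mem hq) hy) hq) _ (mem_norm' (h.hyp.norm hq.1) hk) h1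
  have h4 : k = q * (q⁻¹ * k * q) * q⁻¹ := by group
  rcases h3 with h3 | h3
  · left; rw [h4, h3]; group
  · right; rw [h4, h3]; exact h.zSc hq.1

theorem good_v : Good S A U z v := by
  intro y hy k hk hyv
  obtain ⟨u, hu, hfu⟩ := h.Qf hy
  have hsq : (v * k) * (v * k) = 1 := by
    rw [← hyv]
    have : (y * v * y⁻¹) * (y * v * y⁻¹) = y * (v * v) * y⁻¹ := by group
    rw [this, h.v2]; group
  have hvk : v * k = k * v := comm_of_sq h.v2 (h.sqA hk) hsq
  have hvu : v * u = u * v := by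
    have h1 : (v * k) * (f * u) = (f * u) * (v * k) := by
      rw [← hyv, ← hfu]
      have h2 : y * v * y⁻¹ * (y * f * y⁻¹) = y * (v * f) * y⁻¹ := by group
      have h3 : y * f * y⁻¹ * (y * v * y⁻¹) = y * (f * v) * y⁻¹ := by group
      rw [h2, h3, h.vf]
    have h4 : (v * k) * (f * u) = v * (f * u) * k := by
      rw [mul_assoc, h.commA hk (mul_mem h.fA (h.UA hu)), ← mul_assoc]
    rw [h4] at h1
    have h5 : v * (f * u) = f * u * v := by
      have h6 : (f * u) * (v * k) = (f * u * v) * k := by group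
      rw [h6] at h1
      exact mul_right_cancel h1
    have h7 : v * (f * u) = f * (v * u) := by rw [← mul_assoc, h.vf, mul_assoc]
    rw [h7, mul_assoc] at h5
    exact mul_left_cancel h5
  have hyf : y * f * y⁻¹ = f ∨ y * f * y⁻¹ = f * z := by
    rw [hfu]
    rcases h.cU hu hvu with h1 | h1
    · left; rw [h1, mul_one]
    · right; rw [h1]
  rcases cA h hk hvk with h1 | h1 | h1 | h1
  · exact Or.inl h1
  · exact Or.inr h1
  · exfalso
    refine h.not_star hy.1 hyf (Or.inl ?_)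
    rw [hyv, h1, h.vf]
  · exfalso
    refine h.not_star hy.1 hyf (Or.inr ?_)
    rw [hyv, h1, ← mul_assoc, h.vf, mul_assoc, h.vz, ← mul_assoc, h.zfc]

theorem good_vf : Good S A U z (v * f) := by
  intro y hy k hk hyv
  obtain ⟨u, hu, hfu⟩ := h.Qf hy
  have h1 : y * v * y⁻¹ = v * (f * k * (f * u)) := by
    have h2 : y * v * y⁻¹ = (y * (v * f) * y⁻¹) * (y * f * y⁻¹)⁻¹ := by group
    have h3 : (f * u)⁻¹ = f * u := h.invA (mul_mem h.fA (h.UA hu))
    rw [h2, hyv, hfu, h3]; group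
  have h4 := good_v h y hy _ (mul_mem (mul_mem h.fA hk) (mul_mem h.fA (h.UA hu))) h1
  have h5 : f * k * (f * u) = k * u := by
    rw [h.commA h.fA hk, mul_assoc, ← mul_assoc f, h.f2, one_mul]
  rw [h5] at h4 h1
  have hku : k * u = 1 ∨ k * u = z := h4
  have hvu : v * u = u * v := by
    have h6 : (v * (k * u)) * (f * u) = (f * u) * (v * (k * u)) := by
      rw [← h1, ← hfu]
      have h2 : y * v * y⁻¹ * (y * f * y⁻¹) = y * (v * f) * y⁻¹ := by group
      have h3 : y * f * y⁻¹ * (y * v * y⁻¹) = y * (f * v) * y⁻¹ := by group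
      rw [h2, h3, h.vf]
    have h7 : k * u ∈ A := mul_mem hk (h.UA hu)
    have h8 : (v * (k * u)) * (f * u) = v * (f * u) * (k * u) := by
      rw [mul_assoc, h.commA h7 (mul_mem h.fA (h.UA hu)), ← mul_assoc]
    rw [h8] at h6
    have h9 : v * (f * u) = f * u * v := by
      have h6' : (f * u) * (v * (k * u)) = (f * u * v) * (k * u) := by group
      rw [h6'] at h6
      exact mul_right_cancel h6
    have h7' : v * (f * u) = f * (v * u) := by rw [← mul_assoc, h.vf, mul_assoc]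
    rw [h7', mul_assoc] at h9
    exact mul_left_cancel h9
  have hk' : k = (k * u) * u := by rw [mul_assoc, h.sqA (h.UA hu), mul_one]
  rcases h.cU hu hvu with h6 | h6 <;> rcases hku with h7 | h7 <;> rw [h7, h6] at hk'
  · left; rw [hk', mul_one]
  · right; rw [hk', mul_one]
  · right; rw [hk', one_mul]
  · left; rw [hk', h.z2]

/-- squares of elements of `Q` lie in `T` -/
theorem sqT {q : G} (hq : q ∈ QQ S U) : q * q ∈ TT S A := by
  obtain ⟨u, hu, hfu⟩ := h.Qf hq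
  refine h.mem_T_of_fix (mul_mem hq hq) ?_
  have h1 : q * q * f * (q * q)⁻¹ = q * (q * f * q⁻¹) * q⁻¹ := by group
  have h2 : q * (f * u) * q⁻¹ = (q * f * q⁻¹) * (q * u * q⁻¹) := by group
  rw [h1, hfu, h2, hfu, qU hq hu, mul_assoc, h.sqA (h.UA hu), mul_one]

/-- elements of `Q` inverted by `v` with square in `A` have square in `⟨z⟩` -/
theorem sq_z {m : G} (hm : m ∈ QQ S U) (hv : v * m * v⁻¹ = m⁻¹) (hA : m * m ∈ A) : m * m = 1 ∨ m * m = z := by
  refine good_v h m⁻¹ (inv_mem hm) _ hA ?_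
  have h1 : v * m = m⁻¹ * v := mul_inv_eq_iff_eq_mul.1 hv
  rw [inv_inv, ← h1, mul_assoc]

/-- fourth powers: an element of `Q` inverted by `v`, of order 4, has square `z` -/
theorem sq_eq_z {m : G} (hm : m ∈ QQ S U) (hv : v * m * v⁻¹ = m⁻¹) (h4 : (m * m) * (m * m) = 1)
    (h2 : m * m ≠ 1) : m * m = z := by
  rcases sq_z h hm hv (h.mem_A_of_sq (sqT h hm) h4) with h1 | h1
  · exact (h2 h1).elim
  · exact h1

/-- an element of `Q` inverted by `v`, not in `T`, moves `f` to `f z` -/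
theorem f_of_inv {m : G} (hm : m ∈ QQ S U) (hv : v * m * v⁻¹ = m⁻¹) (hT : m ∉ TT S A) : m * f * m⁻¹ = f * z := by
  obtain ⟨u, hu, hfu⟩ := h.Qf hm
  have h1 : m⁻¹ * f * m = f * u := by
    have h2 : m⁻¹ * (m * f * m⁻¹) * m = (m⁻¹ * f * m) * (m⁻¹ * u * m) := by rw [hfu]; group
    have h3 : m⁻¹ * u * m = u := by
      have := qU (inv_mem hm) hu
      rwa [inv_inv] at this
    have h4 : m⁻¹ * (m * f * m⁻¹) * m = f := by group
    rw [h4, h3] at h2
    have h5 : f * u = m⁻¹ * f * m * (u * u) := by rw [← mul_assoc, ← h2]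
    rw [h5, h.sqA (h.UA hu), mul_one]
  have h6 : v * (m * f * m⁻¹) * v⁻¹ = m⁻¹ * f * m := by
    have h7 : v * (m * f * m⁻¹) * v⁻¹ = (v * m * v⁻¹) * (v * f * v⁻¹) * (v * m * v⁻¹)⁻¹ := by group
    rw [h7, hv, h.sf, inv_inv]
  rw [h1, hfu] at h6
  have h8 : v * (f * u) = (f * u) * v := conj_eq_iff.1 h6
  have h9 : v * (f * u) = f * (v * u) := by rw [← mul_assoc, h.vf, mul_assoc]
  rw [h9, mul_assoc] at h8
  rcases h.cU hu (mul_left_cancel h8) with h10 | h10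
  · exact (hT (h.mem_T_of_fix hm (by rw [hfu, h10, mul_one]))).elim
  · rw [hfu, h10]

section I
variable (I : Ii S A U z v i r)
include I

omit [Finite G] h in
theorem iQ (h : Fv S A U z f x v g) : i ∈ QQ S U := h.T_le_Q I.iT

omit [Finite G] h in
theorem rQ (h : Fv S A U z f x v g) : r ∈ QQ S U := h.T_le_Q I.rT

omit [Finite G] h in
theorem Ai {a : G} (ha : a ∈ A) : i * a = a * i := mem_cent_iff.1 I.iT.2 a ha

omit [Finite G] h in
theorem Ar {a : G} (ha : a ∈ A) : r * a = a * r := mem_cent_iff.1 I.rT.2 a ha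

omit [Finite G] in
theorem izi : i⁻¹ = i * z := by
  rw [← I.i2]
  have h1 : i * (i * i) = (i * i) * i := by group
  have h4 : (i * i) * (i * i) = 1 := by rw [I.i2]; exact h.z2
  rw [h1]
  refine inv_eq_of_mul_eq_one_left ?_
  rw [mul_assoc]
  exact h4

omit [Finite G] in
theorem iz' : i⁻¹ * z = i := by
  rw [izi h I, mul_assoc, h.z2, mul_one]

omit [Finite G] in
theorem vi' : v * i = i⁻¹ * v := mul_inv_eq_iff_eq_mul.1 I.vi

omit [Finite G] in
theorem iv' : i * v = v * i⁻¹ := by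
  have h1 : v * i⁻¹ * v⁻¹ = i := by
    have h2 : v * i⁻¹ * v⁻¹ = (v * i * v⁻¹)⁻¹ := by group
    rw [h2, I.vi, inv_inv]
  exact (mul_inv_eq_iff_eq_mul.1 h1).symm

omit [Finite G] in
theorem iv1 : i⁻¹ * v = v * i := (vi' h I).symm

/-- `r v r⁻¹ = v i` -/
theorem rvr : r * v * r⁻¹ = v * i := by
  have h1 : v * r = i * r * v := mul_inv_eq_iff_eq_mul.1 I.vr
  have h2 : r * v = i⁻¹ * (v * r) := by rw [h1]; group
  rw [h2, ← mul_assoc, iv1 h I]
  group

/-- `r⁻¹ v r = v i⁻¹` -/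
theorem rvr' : r⁻¹ * v * r = v * i⁻¹ := by
  have h1 := rvr h I
  have h2 : r⁻¹ * (v * i⁻¹) = r⁻¹ * (v * i) * (i * i)⁻¹ := by group
  have h3 : v = r⁻¹ * (v * i) * r := by rw [← h1]; group
  have h4 : r⁻¹ * (v * i) * r = (r⁻¹ * v * r) * (r⁻¹ * i * r) := by group
  have h5 : r⁻¹ * i * r = i := by
    rw [mul_assoc, ← I.ri]; group
  rw [h4, h5] at h3
  rw [mul_inv_eq_iff_eq_mul.symm] at h3
  exact h3.symm

/-- the key: an element `w` of `T` of square `z`, commuting with `i` and inverted by `v`, such that `v` and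
`v w` are conjugate in `Q`, lies in `⟨i⟩` -/
theorem four_eq {w : G} (hwT : w ∈ TT S A) (hw2 : w * w = z) (hwi : w * i = i * w) (hwv : v * w * v⁻¹ = w⁻¹)
    {y : G} (hy : y ∈ QQ S U) (hyv : y * v * y⁻¹ = v * w) : w = i ∨ w = i⁻¹ := by
  have h1 : (i * w) * (i * w) = 1 := by
    have h2 : (i * w) * (i * w) = (i * i) * (w * w) := by
      rw [mul_assoc, ← mul_assoc w, hwi]; group
    rw [h2, I.i2, hw2, h.z2]
  have hA : i * w ∈ A := h.mem_A_of_sq (mul_mem I.iT hwT) h1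
  have hv : v * (i * w) = (i * w) * v := by
    rw [← conj_eq_iff]
    have h2 : v * (i * w) * v⁻¹ = (v * i * v⁻¹) * (v * w * v⁻¹) := by group
    rw [h2, I.vi, hwv, ← mul_inv_rev, hwi]
    exact inv_eq_of_mul_eq_one_left h1
  have h3 : (r * y) * v * (r * y)⁻¹ = v * (i * w) := by
    have h4 : (r * y) * v * (r * y)⁻¹ = r * (y * v * y⁻¹) * r⁻¹ := by group
    have h5 : r * (v * w) * r⁻¹ = (r * v * r⁻¹) * (r * w * r⁻¹) := by group
    have h6 : r * w * r⁻¹ = w := by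
      rw [conj_eq_iff]
      have h7 : w = i⁻¹ * (i * w) := by group
      rw [h7, ← mul_assoc]
      have h8 : r * i⁻¹ = i⁻¹ * r := by
        have h9 : i * (r * i⁻¹) = r := by rw [← mul_assoc, ← I.ri]; group
        rw [← mul_left_cancel_iff (a := i), h9]; group
      rw [h8, mul_assoc, Ar I hA, ← mul_assoc]
    rw [h4, hyv, h5, h6, rvr h I, mul_assoc]
  rcases good_v h _ (mul_mem (rQ I h) hy) _ hA h3 with h4 | h4
  · right
    exact eq_inv_of_mul_eq_one_right h4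
  · left
    have h5 : w = i⁻¹ * (i * w) := by group
    rw [h5, h4, iz' h I]

/-- conjugates of `v` in `Q` normalise `⟨i⟩` -/
theorem conj_i {q : G} (hq : q ∈ QQ S U) :
    (q * v * q⁻¹) * i * (q * v * q⁻¹)⁻¹ = i ∨ (q * v * q⁻¹) * i * (q * v * q⁻¹)⁻¹ = i⁻¹ := by
  -- `q⁻¹ i q = a i`
  have ha : q⁻¹ * i * q * i⁻¹ ∈ A := by
    have := I.Qi q⁻¹ (inv_mem hq)
    rwa [inv_inv] at this
  set a := q⁻¹ * i * q * i⁻¹ with had
  have h1 : q⁻¹ * i * q = a * i := by rw [had]; group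
  have h2 : (q * v * q⁻¹) * i * (q * v * q⁻¹)⁻¹ = q * (v * (q⁻¹ * i * q) * v⁻¹) * q⁻¹ := by group
  have h3 : v * (a * i) * v⁻¹ = (v * a * v⁻¹) * i⁻¹ := by
    have : v * (a * i) * v⁻¹ = (v * a * v⁻¹) * (v * i * v⁻¹) := by group
    rw [this, I.vi]
  have h4 : i⁻¹ = a * (q⁻¹ * i⁻¹ * q) := by
    have h5 : q⁻¹ * i⁻¹ * q = (q⁻¹ * i * q)⁻¹ := by group
    rw [h5, h1, mul_inv_rev, h.invA ha, ← mul_assoc]
    have h6 : a * i⁻¹ = i⁻¹ * a := by
      have h7 : i * (a * i⁻¹) = i * (i⁻¹ * a) := by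
        rw [← mul_assoc, Ai I ha]; group
      exact mul_left_cancel h7
    rw [h6, mul_assoc, h.sqA ha, mul_one]
  have h5 : q * (v * a * v⁻¹ * i⁻¹) * q⁻¹ = q * (v * a * v⁻¹ * a) * q⁻¹ * i⁻¹ := by
    conv_lhs => rw [h4]
    group
  rw [h2, h1, h3, h5]
  rcases va h ha with h6 | h6
  · right; rw [h6]; group
  · left; rw [h6, h.zSc hq.1]
    have h7 : z * i⁻¹ = i⁻¹ * z := h.zc _ (inv_mem I.iT.1) |>.symm
    rw [h7, iz' h I]

omit I in
/-- the displacement `w = v · q v q⁻¹` -/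
theorem W_Q {q : G} (hq : q ∈ QQ S U) : v * (q * v * q⁻¹) ∈ QQ S U := by
  have h1 : v * (q * v * q⁻¹) = (v * q * v⁻¹) * q⁻¹ * (v * v) := by
    have h2 : v * (q * v * q⁻¹) = (v * q * v⁻¹) * (v * v) * q⁻¹ := by group
    rw [h2, h.v2]; group
  rw [h1, h.v2, mul_one]
  exact mul_mem (vQ h hq) (inv_mem hq)

omit [Finite G] I in
theorem W_inv {q : G} : v * (v * (q * v * q⁻¹)) * v⁻¹ = (v * (q * v * q⁻¹))⁻¹ := by
  have h1 : v * (v * (q * v * q⁻¹)) * v⁻¹ = (v * v) * (q * v * q⁻¹) * v⁻¹ := by group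
  have h2 : (v * (q * v * q⁻¹))⁻¹ = q * v⁻¹ * q⁻¹ * v⁻¹ := by group
  rw [h1, h2, h.v2, h.vi, one_mul]

omit [Finite G] I in
theorem vW {q : G} : v * (v * (q * v * q⁻¹)) = q * v * q⁻¹ := by
  rw [← mul_assoc, h.v2, one_mul]

/-- `w` normalises `⟨i⟩` -/
theorem W_i {q : G} (hq : q ∈ QQ S U) : (v * (q * v * q⁻¹)) * i * (v * (q * v * q⁻¹))⁻¹ = i ∨
    (v * (q * v * q⁻¹)) * i * (v * (q * v * q⁻¹))⁻¹ = i⁻¹ := by
  have h1 : (v * (q * v * q⁻¹)) * i * (v * (q * v * q⁻¹))⁻¹ =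
      v * ((q * v * q⁻¹) * i * (q * v * q⁻¹)⁻¹) * v⁻¹ := by group
  rw [h1]
  rcases conj_i h I hq with h2 | h2
  · right; rw [h2, I.vi]
  · left; rw [h2]
    have h3 : v * i⁻¹ * v⁻¹ = (v * i * v⁻¹)⁻¹ := by group
    rw [h3, I.vi, inv_inv]

omit [Finite G] h I in
theorem sq_comm {w : G} (hw : w * i * w⁻¹ = i ∨ w * i * w⁻¹ = i⁻¹) : (w * w) * i = i * (w * w) := by
  rw [← conj_eq_iff]
  have h1 : w * w * i * (w * w)⁻¹ = w * (w * i * w⁻¹) * w⁻¹ := by group
  rw [h1]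
  rcases hw with h2 | h2
  · rw [h2, h2]
  · rw [h2]
    have h3 : w * i⁻¹ * w⁻¹ = (w * i * w⁻¹)⁻¹ := by group
    rw [h3, h2, inv_inv]

/-- in a cyclic group containing `i`, an element of square `z` is `i` or `i⁻¹` -/
theorem mem_i' {w y : G} (hi : i ∈ zpowers w) (hy : y ∈ zpowers w) (hy2 : y * y = z) : y = i ∨ y = i⁻¹ := by
  by_cases h1 : y * i⁻¹ = 1
  · left; exact mul_inv_eq_one.1 h1
  right
  have hc : y * i = i * y := by
    obtain ⟨a, rfl⟩ := mem_zpowers_iff.1 hi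
    obtain ⟨b, rfl⟩ := mem_zpowers_iff.1 hy
    rw [← zpow_add, ← zpow_add, add_comm]
  have hz : z ∈ zpowers w := by rw [← I.i2]; exact mul_mem hi hi
  have h2 : (y * i⁻¹) * (y * i⁻¹) = 1 := by
    have h3 : i⁻¹ * y = y * i⁻¹ := by
      have h4 : i * (i⁻¹ * y) = i * (y * i⁻¹) := by rw [← mul_assoc i y, ← hc]; group
      exact mul_left_cancel h4
    have h5 : (y * i⁻¹) * (y * i⁻¹) = y * (i⁻¹ * y) * i⁻¹ := by group
    rw [h5, h3, ← mul_assoc, hy2, mul_assoc, ← mul_inv_rev, I.i2, mul_inv_cancel]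
  have h3 := uniq_inv (mul_mem hy (inv_mem hi)) hz h2 h.z2 h1 h.z1
  have h4 : y = z * i := by rw [← h3]; group
  rw [h4, izi h I]
  exact (h.zc i I.iT.1).symm

theorem mem_i {y : G} (hy : y ∈ zpowers i) (hy2 : y * y = z) : y = i ∨ y = i⁻¹ :=
  mem_i' h I (mem_zpowers i) hy hy2

/-- an element of `Q` of order at least 8 inverted by `v` and normalising `⟨i⟩` contains `i` -/
theorem i_mem {w : G} (hw : w ∈ QQ S U) (hv : v * w * v⁻¹ = w⁻¹) (hi : w * i * w⁻¹ = i ∨ w * i * w⁻¹ = i⁻¹)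
    (h4 : w ^ 4 ≠ 1) : i ∈ zpowers w := by
  obtain ⟨n, hn⟩ : ∃ n : ℕ, w ^ 2 ^ n = 1 := by
    obtain ⟨n, hn⟩ := S.isPGroup' ⟨w, hw.1⟩
    exact ⟨n, congrArg Subtype.val hn⟩
  obtain ⟨m, hm, hm4, hm8⟩ := exists_pow_eight hn h4
  have hmQ : m ∈ QQ S U := by
    have : zpowers w ≤ QQ S U := by rw [zpowers_le]; exact hw
    exact this hm
  have hmv : v * m * v⁻¹ = m⁻¹ := inv_zp hv hm
  have hmi : m * i * m⁻¹ = i ∨ m * i * m⁻¹ = i⁻¹ := by
    obtain ⟨k, rfl⟩ := mem_zpowers_iff.1 hm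
    have hN : w ∈ normalizer (zpowers i : Set G) := by
      rw [← cj_eq_iff, cj, MonoidHom.map_zpowers]
      have h5 : (MulAut.conj w).toMonoidHom i = w * i * w⁻¹ := rfl
      rw [h5]
      rcases hi with h6 | h6
      · rw [h6]
      · rw [h6, zpowers_inv]
    have h5 : w ^ k * i * (w ^ k)⁻¹ ∈ zpowers i := mem_norm (zpow_mem hN k) (mem_zpowers i)
    refine mem_i h I h5 ?_
    have h7 : (w ^ k * i * (w ^ k)⁻¹) * (w ^ k * i * (w ^ k)⁻¹) = w ^ k * (i * i) * (w ^ k)⁻¹ := by group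
    rw [h7, I.i2]
    exact h.zSc ((S : Subgroup G).zpow_mem hw.1 k)
  have hm4' : (m * m) * (m * m) ≠ 1 := by
    intro h5; apply hm4
    rw [← h5]; exact pow4 m
  have hmm := mul_mem hmQ hmQ
  have hmmv : v * (m * m) * v⁻¹ = (m * m)⁻¹ := by
    have h5 : v * (m * m) * v⁻¹ = (v * m * v⁻¹) * (v * m * v⁻¹) := by group
    rw [h5, hmv, mul_inv_rev]
  have h5 : (m * m) * (m * m) = z := by
    refine sq_eq_z h hmm hmmv ?_ hm4'
    rw [← hm8]; exact (pow8 m).symm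
  have h6 : m⁻¹ * v * m⁻¹⁻¹ = v * (m * m) := by
    have h7 : v * m = m⁻¹ * v := mul_inv_eq_iff_eq_mul.1 hmv
    rw [inv_inv, ← h7, mul_assoc]
  have h7 : (m * m) ∈ zpowers w := mul_mem hm hm
  rcases four_eq h I (sqT h hmQ) h5 (sq_comm hmi) hmmv (inv_mem hmQ) h6 with h8 | h8
  · rw [← h8]; exact h7
  · rw [← inv_inv i, ← h8]; exact inv_mem h7

/-- `v a` is good for `a ∈ C_A(v)` -/
theorem good_va {a : G} (ha : a ∈ A) (hva : v * a = a * v) : Good S A U z (v * a) := by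
  have hiv : ∀ w : G, w = v ∨ w = v * f → i * w * i⁻¹ = w * z := by
    have h1 : i * v * i⁻¹ = v * z := by
      rw [iv' h I, mul_assoc]
      congr 1
      rw [← mul_inv_rev, I.i2, h.zi]
    rintro w (rfl | rfl)
    · exact h1
    · have h2 : i * (v * f) * i⁻¹ = (i * v * i⁻¹) * (i * f * i⁻¹) := by group
      rw [h2, h1, conj_eq_iff.2 (Ai I h.fA), mul_assoc, h.zfc, mul_assoc]
  rcases cA h ha hva with h1 | h1 | h1 | h1
  · rw [h1, mul_one]; exact good_v h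
  · rw [h1, ← hiv v (Or.inl rfl)]; exact good_conj h (good_v h) (iQ I h)
  · rw [h1]; exact good_vf h
  · rw [h1, ← mul_assoc, ← hiv _ (Or.inr rfl)]; exact good_conj h (good_vf h) (iQ I h)

/-- an involution `q v q⁻¹ c`, `c ∈ A`, is good -/
theorem good_conj_A {q c : G} (hq : q ∈ QQ S U) (hc : c ∈ A)
    (h2 : (q * v * q⁻¹ * c) * (q * v * q⁻¹ * c) = 1) : Good S A U z (q * v * q⁻¹ * c) := by
  have h1 : q * v * q⁻¹ * c = q * (v * (q⁻¹ * c * q)) * q⁻¹ := by group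
  have h3 : q⁻¹ * c * q ∈ A := qA' h hq hc
  rw [h1]
  refine good_conj h (good_va h I h3 ?_) hq
  refine comm_of_sq h.v2 (h.sqA h3) ?_
  have h4 : (v * (q⁻¹ * c * q)) * (v * (q⁻¹ * c * q)) =
      q⁻¹ * ((q * v * q⁻¹ * c) * (q * v * q⁻¹ * c)) * q := by group
  rw [h4, h2]; group

/-- The commuting lemma (proved in `AFiveComm`) as a hypothesis. -/
def NoComm (S : Sylow 2 G) (A U : Subgroup G) (z f v : G) : Prop :=
  ∀ b ∈ QQ S U, b * b = 1 → b * f * b⁻¹ = f * z → v * b = b * v → Good S A U z (v * b) → False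

section B
variable (hB : NoComm S A U z f v)
include hB

omit I in
/-- `w` over `τ_z` is not an involution -/
theorem no_two {q : G} (hq : q ∈ QQ S U) (hf : (v * (q * v * q⁻¹)) * f * (v * (q * v * q⁻¹))⁻¹ = f * z)
    (h2 : (v * (q * v * q⁻¹)) * (v * (q * v * q⁻¹)) = 1) : False := by
  refine hB _ (W_Q h hq) h2 hf ?_ ?_
  · rw [← conj_eq_iff, W_inv h]
    exact inv_eq_of_mul_eq_one_left h2
  · rw [vW h]
    exact good_conj h (good_v h) hq

/-- `w` over `τ_z` with `w² = z` does not centralise `i` -/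
theorem no_four {q : G} (hq : q ∈ QQ S U) (hf : (v * (q * v * q⁻¹)) * f * (v * (q * v * q⁻¹))⁻¹ = f * z)
    (h2 : (v * (q * v * q⁻¹)) * (v * (q * v * q⁻¹)) = z)
    (hi : (v * (q * v * q⁻¹)) * i = i * (v * (q * v * q⁻¹))) : False := by
  set w := v * (q * v * q⁻¹) with hw
  have hwQ : w ∈ QQ S U := W_Q h hq
  have h3 : (i * w) * (i * w) = 1 := by
    have h4 : (i * w) * (i * w) = (i * i) * (w * w) := by
      rw [mul_assoc, ← mul_assoc w, hi]; group
    rw [h4, I.i2, h2, h.z2]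
  have h5 : v * (i * w) = (i * w) * v := by
    rw [← conj_eq_iff]
    have h6 : v * (i * w) * v⁻¹ = (v * i * v⁻¹) * (v * w * v⁻¹) := by group
    rw [h6, I.vi, hw, W_inv h, ← hw, ← mul_inv_rev, hi]
    exact inv_eq_of_mul_eq_one_left h3
  refine hB (i * w) (mul_mem (iQ I h) hwQ) h3 ?_ h5 ?_
  · have h6 : i * w * f * (i * w)⁻¹ = i * (w * f * w⁻¹) * i⁻¹ := by group
    rw [h6, hf]
    exact conj_eq_iff.2 (Ai I (mul_mem h.fA h.zA))
  · -- `v i w = (q v q⁻¹) i = (q v q⁻¹) c · ...`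
    have h6 : v * (i * w) = (q * v * q⁻¹) * i := by
      rw [← hi, ← mul_assoc, hw, vW h]
    have ha : q⁻¹ * i * q * i⁻¹ ∈ A := by
      have := I.Qi q⁻¹ (inv_mem hq)
      rwa [inv_inv] at this
    set a := q⁻¹ * i * q * i⁻¹ with had
    have h7 : q⁻¹ * i * q = a * i := by rw [had]; group
    -- conjugate by `r`
    have h8 : v * a * i = r * (v * a) * r⁻¹ := by
      have h9 : r * (v * a) * r⁻¹ = (r * v * r⁻¹) * (r * a * r⁻¹) := by group
      rw [h9, rvr h I, conj_eq_iff.2 (Ar I ha), mul_assoc v i a, Ai I ha, mul_assoc]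
    have h10 : (q * v * q⁻¹) * i = (q * r) * (v * a) * (q * r)⁻¹ := by
      have h11 : (q * v * q⁻¹) * i = q * (v * (q⁻¹ * i * q)) * q⁻¹ := by group
      have h12 : q * (v * (a * i)) * q⁻¹ = q * (v * a * i) * q⁻¹ := by group
      rw [h11, h7, h12, h8]; group
    have h12 : (v * a) * (v * a) = 1 := by
      have h13 : (v * (i * w)) * (v * (i * w)) = 1 := by
        have h14 : (v * (i * w)) * (v * (i * w)) = v * ((i * w) * v) * (i * w) := by group
        rw [h14, ← h5]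
        have h15 : v * (v * (i * w)) * (i * w) = (v * v) * ((i * w) * (i * w)) := by group
        rw [h15, h.v2, h3, one_mul]
      rw [h6, h10] at h13
      have h14 : (v * a) * (v * a) =
          (q * r)⁻¹ * (((q * r) * (v * a) * (q * r)⁻¹) * ((q * r) * (v * a) * (q * r)⁻¹)) * (q * r) := by group
      rw [h14, h13]; group
    rw [h6, h10]
    exact good_conj h (good_va h I ha (comm_of_sq h.v2 (h.sqA ha) h12)) (mul_mem hq (rQ I h))

/-- `w` over `τ_z` with `w² = z` does not invert `i` -/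
theorem no_four' {q : G} (hq : q ∈ QQ S U) (hf : (v * (q * v * q⁻¹)) * f * (v * (q * v * q⁻¹))⁻¹ = f * z)
    (h2 : (v * (q * v * q⁻¹)) * (v * (q * v * q⁻¹)) = z)
    (hi : (v * (q * v * q⁻¹)) * i * (v * (q * v * q⁻¹))⁻¹ = i⁻¹) : False := by
  set w := v * (q * v * q⁻¹) with hw
  have hwQ : w ∈ QQ S U := W_Q h hq
  set u := x * z * x⁻¹ with hu
  have huU : u ∈ U := h.xzU
  have huA : u ∈ A := h.UA huU
  have hwu : w * u * w⁻¹ = u := qU hwQ huU
  have hvu : v * u * v⁻¹ = z * u := vU h huU h.xz1 h.xz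
  have hufA : u * f ∈ A := mul_mem huA h.fA
  -- `b₀ = i⁻¹ u f w`
  have hwi : w * i⁻¹ * w⁻¹ = i := by
    have h3 : w * i⁻¹ * w⁻¹ = (w * i * w⁻¹)⁻¹ := by group
    rw [h3, hi, inv_inv]
  have hb2 : (i⁻¹ * (u * f) * w) * (i⁻¹ * (u * f) * w) = 1 := by
    have h3 : (i⁻¹ * (u * f) * w) * (i⁻¹ * (u * f) * w) =
        i⁻¹ * (u * f) * ((w * i⁻¹ * w⁻¹) * (w * u * w⁻¹) * (w * f * w⁻¹)) * (w * w) := by group
    rw [h3, hwi, hwu, hf, h2]
    have h4 : i⁻¹ * (u * f) * (i * u * (f * z)) * z = i⁻¹ * ((u * f) * i) * (u * f) * (z * z) := by group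
    rw [h4, ← Ai I hufA, h.z2]
    have h5 : i⁻¹ * (i * (u * f)) * (u * f) * 1 = (u * f) * (u * f) := by group
    rw [h5]
    exact h.sqA hufA
  have hwv : w * v = v * w * z := by
    have h3 : v * w * v = w⁻¹ := by
      have := W_inv h (q := q)
      rw [← hw, h.vi] at this
      exact this
    have h4 : w⁻¹ = w * z := by
      rw [← h2]
      refine inv_eq_of_mul_eq_one_left ?_
      have h5 : w * (w * w) * w = (w * w) * (w * w) := by group
      rw [h5, h2, h.z2]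
    calc w * v = (v * v) * (w * v) := by rw [h.v2, one_mul]
      _ = v * (v * w * v) := by group
      _ = v * (w * z) := by rw [h3, h4]
      _ = v * w * z := by group
  -- commutation with `v i`
  have hcomm : (v * i) * (i⁻¹ * (u * f) * w) = (i⁻¹ * (u * f) * w) * (v * i) := by
    have h3 : (v * i) * (i⁻¹ * (u * f) * w) = v * (u * f) * w := by group
    have h4 : (i⁻¹ * (u * f) * w) * (v * i) = i⁻¹ * (u * f) * (w * v) * i := by group
    have h5 : i⁻¹ * (u * f) * (v * w * z) * i = i⁻¹ * (u * f) * v * (w * i * w⁻¹) * w * (i⁻¹ * z * i) := by group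
    have h6 : i⁻¹ * z * i = z := by
      have := h.zSc (inv_mem I.iT.1)
      rwa [inv_inv] at this
    have h7 : u * f * v = z * (v * (u * f)) := by
      have h8 : v * (u * f) * v⁻¹ = z * (u * f) := by
        have h9 : v * (u * f) * v⁻¹ = (v * u * v⁻¹) * (v * f * v⁻¹) := by group
        rw [h9, hvu, h.sf, mul_assoc]
      have h10 : v * (u * f) = z * (u * f) * v := mul_inv_eq_iff_eq_mul.1 h8
      rw [h10, ← mul_assoc, ← mul_assoc z z, h.z2, one_mul]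
    have h11 : i⁻¹ * v = v * i := iv1 h I
    rw [h3, h4, hwv, h5, hi, h6]
    have h12 : i⁻¹ * (u * f) * v * i⁻¹ * w * z = i⁻¹ * ((u * f) * v) * i⁻¹ * w * z := by group
    rw [h12, h7]
    have h13 : z * w = w * z := (h.zc w hwQ.1).symm
    have h14 : i⁻¹ * (z * (v * (u * f))) * i⁻¹ * w * z = i⁻¹ * z * (v * (u * f)) * i⁻¹ * (w * z) := by group
    have h15 : z * v = v * z := h.vz.symm
    have h16 : (u * f) * i⁻¹ = i⁻¹ * (u * f) := by
      have h17 : i * ((u * f) * i⁻¹) = i * (i⁻¹ * (u * f)) := by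
        rw [← mul_assoc, Ai I hufA]; group
      exact mul_left_cancel h17
    have h18 : z * i⁻¹ = i⁻¹ * z := (h.zc _ (inv_mem I.iT.1)).symm
    have h19 : z * (u * f) = (u * f) * z := h.commA h.zA hufA
    calc v * (u * f) * w = v * (i * i⁻¹) * (u * f) * w := by group
      _ = (v * i) * (i⁻¹ * (u * f)) * w := by group
      _ = (i⁻¹ * v) * ((u * f) * i⁻¹) * w := by rw [h11, h16]
      _ = i⁻¹ * (v * (u * f)) * i⁻¹ * w := by group
      _ = i⁻¹ * (v * (u * f)) * i⁻¹ * w * (z * z) := by rw [h.z2, mul_one]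
      _ = i⁻¹ * (v * (u * f)) * i⁻¹ * (w * z) * z := by group
      _ = i⁻¹ * (v * (u * f)) * i⁻¹ * (z * w) * z := by rw [h13]
      _ = i⁻¹ * (v * (u * f)) * (i⁻¹ * z) * w * z := by group
      _ = i⁻¹ * (v * (u * f)) * (z * i⁻¹) * w * z := by rw [h18]
      _ = i⁻¹ * (v * ((u * f) * z)) * i⁻¹ * w * z := by group
      _ = i⁻¹ * (v * (z * (u * f))) * i⁻¹ * w * z := by rw [h19]
      _ = i⁻¹ * ((v * z) * (u * f)) * i⁻¹ * w * z := by group
      _ = i⁻¹ * ((z * v) * (u * f)) * i⁻¹ * w * z := by rw [h15]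
      _ = i⁻¹ * (z * (v * (u * f))) * i⁻¹ * w * z := by group
  -- transport to `v` by `r`
  have hrv : r⁻¹ * (v * i) * r = v := by rw [← rvr h I]; group
  set b := r⁻¹ * (i⁻¹ * (u * f) * w) * r with hb
  have hb0Q : i⁻¹ * (u * f) * w ∈ QQ S U :=
    mul_mem (mul_mem (inv_mem (iQ I h)) (h.T_le_Q (h.A_le_T hufA))) hwQ
  have hrQ := rQ I h
  have hbb : b * b = 1 := by
    have h3 : b * b = r⁻¹ * ((i⁻¹ * (u * f) * w) * (i⁻¹ * (u * f) * w)) * r := by rw [hb]; group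
    rw [h3, hb2]; group
  have hvb : v * b = b * v := by
    have h3 : v * b = r⁻¹ * ((v * i) * (i⁻¹ * (u * f) * w)) * r := by
      conv_lhs => rw [← hrv]
      rw [hb]; group
    have h4 : b * v = r⁻¹ * ((i⁻¹ * (u * f) * w) * (v * i)) * r := by
      conv_lhs => rw [← hrv]
      rw [hb]; group
    rw [h3, h4, hcomm]
  have hvbsq : (v * b) * (v * b) = 1 := by
    have h3 : (v * b) * (v * b) = v * (b * v) * b := by group
    rw [h3, ← hvb]
    have h4 : v * (v * b) * b = (v * v) * (b * b) := by group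
    rw [h4, h.v2, hbb, one_mul]
  refine hB b (mul_mem (mul_mem (inv_mem hrQ) hb0Q) hrQ) hbb ?_ hvb ?_
  · have h3 : b * f * b⁻¹ = r⁻¹ * (i⁻¹ * ((u * f) * (w * (r * f * r⁻¹) * w⁻¹) * (u * f)⁻¹) * i) * r := by
      rw [hb]; group
    rw [h3, conj_eq_iff.2 (Ar I h.fA), hf]
    have hfz : f * z ∈ A := mul_mem h.fA h.zA
    have h4 : (u * f) * (f * z) * (u * f)⁻¹ = f * z := conj_eq_iff.2 (h.commA hufA hfz)
    rw [h4]
    have h5 : i⁻¹ * (f * z) * i = f * z := by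
      rw [mul_assoc, ← Ai I hfz]; group
    rw [h5, mul_assoc, ← Ar I hfz]; group
  · have h3 : v * b = r⁻¹ * ((q * v * q⁻¹) * (u * (f * z))) * r := by
      have h4 : v * b = r⁻¹ * ((v * i) * (i⁻¹ * (u * f) * w)) * r := by
        conv_lhs => rw [← hrv]
        rw [hb]; group
      have h5 : (v * i) * (i⁻¹ * (u * f) * w) = v * w * ((w⁻¹ * u * w) * (w⁻¹ * f * w)) := by group
      have h6 : w⁻¹ * u * w = u := by
        have := qU (inv_mem hwQ) huU
        rwa [inv_inv] at this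
      have h7 : w⁻¹ * f * w = f * z := by
        have h8 : w⁻¹ * (f * z) * w = f := by rw [← hf]; group
        have h9 : w⁻¹ * (f * z) * w = (w⁻¹ * f * w) * (w⁻¹ * z * w) := by group
        have h10 : w⁻¹ * z * w = z := by
          have := h.zSc (inv_mem hwQ.1)
          rwa [inv_inv] at this
        rw [h9, h10] at h8
        calc w⁻¹ * f * w = (w⁻¹ * f * w * z) * z := by rw [mul_assoc (w⁻¹ * f * w), h.z2, mul_one]
          _ = f * z := by rw [h8]
      have h8 : v * w = q * v * q⁻¹ := by rw [hw]; exact vW h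
      rw [h4, h5, h6, h7, h8]
    have hc : u * (f * z) ∈ A := mul_mem huA (mul_mem h.fA h.zA)
    have h4 : ((q * v * q⁻¹) * (u * (f * z))) * ((q * v * q⁻¹) * (u * (f * z))) = 1 := by
      rw [h3] at hvbsq
      have h5 : ((q * v * q⁻¹) * (u * (f * z))) * ((q * v * q⁻¹) * (u * (f * z))) =
          r * ((r⁻¹ * ((q * v * q⁻¹) * (u * (f * z))) * r) * (r⁻¹ * ((q * v * q⁻¹) * (u * (f * z))) * r)) * r⁻¹ := by
        group
      rw [h5, hvbsq]; group
    have h5 := good_conj h (good_conj_A h I hq hc h4) (inv_mem hrQ)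
    rw [inv_inv] at h5
    rw [h3]
    exact h5

/-- (F5): for `q` moving `f` outside `f⟨z⟩`, the displacement has order at least 8 -/
theorem W4_ne {q : G} (hq : q ∈ QQ S U) (hq1 : q * f * q⁻¹ ≠ f) (hq2 : q * f * q⁻¹ ≠ f * z) :
    (v * (q * v * q⁻¹)) ^ 4 ≠ 1 := by
  intro h4
  -- `w f w⁻¹ = f z`
  obtain ⟨u, hu, hfu⟩ := h.Qf hq
  have hu1 : u ≠ 1 := fun h1 => hq1 (by rw [hfu, h1, mul_one])
  have huz : u ≠ z := fun h1 => hq2 (by rw [hfu, h1])
  have hqf : q⁻¹ * f * q = f * u := by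
    have h2 : q⁻¹ * (f * u) * q = (q⁻¹ * f * q) * (q⁻¹ * u * q) := by group
    have h3 : q⁻¹ * u * q = u := by
      have := qU (inv_mem hq) hu
      rwa [inv_inv] at this
    have h5 : q⁻¹ * (f * u) * q = f := by rw [← hfu]; group
    rw [h5, h3] at h2
    calc q⁻¹ * f * q = (q⁻¹ * f * q * u) * u := by rw [mul_assoc (q⁻¹ * f * q), h.sqA (h.UA hu), mul_one]
      _ = f * u := by rw [← h2]
  have hwf : (v * (q * v * q⁻¹)) * f * (v * (q * v * q⁻¹))⁻¹ = f * z := by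
    have h2 : (v * (q * v * q⁻¹)) * f * (v * (q * v * q⁻¹))⁻¹ =
        v * (q * (v * (q⁻¹ * f * q) * v⁻¹) * q⁻¹) * v⁻¹ := by group
    have h3 : v * (f * u) * v⁻¹ = f * (z * u) := by
      have h5 : v * (f * u) * v⁻¹ = (v * f * v⁻¹) * (v * u * v⁻¹) := by group
      rw [h5, h.sf, vU h hu hu1 huz]
    have h5 : q * (f * (z * u)) * q⁻¹ = f * z := by
      have h6 : q * (f * (z * u)) * q⁻¹ = (q * f * q⁻¹) * (q * z * q⁻¹) * (q * u * q⁻¹) := by group
      rw [h6, hfu, h.zSc hq.1, qU hq hu]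
      have h7 : f * u * z * u = f * (u * z * u) := by group
      rw [h7, h.commA (h.UA hu) h.zA, mul_assoc, h.sqA (h.UA hu), mul_one]
    rw [h2, hqf, h3, h5]
    have h6 : v * (f * z) * v⁻¹ = (v * f * v⁻¹) * (v * z * v⁻¹) := by group
    rw [h6, h.sf, h.zSc h.vS]
  by_cases h2 : (v * (q * v * q⁻¹)) * (v * (q * v * q⁻¹)) = 1
  · exact no_two h hB hq hwf h2
  rw [pow4] at h4
  have h3 := sq_eq_z h (W_Q h hq) (W_inv h) h4 h2
  rcases W_i h I hq with h5 | h5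
  · exact no_four h I hB hq hwf h3 (conj_eq_iff.1 h5)
  · exact no_four' h I hB hq hwf h3 h5

/-- (F4) -/
theorem norm_i_of_W4 {q : G} (hq : q ∈ QQ S U) (h4 : (v * (q * v * q⁻¹)) ^ 4 ≠ 1) :
    q * i * q⁻¹ = i ∨ q * i * q⁻¹ = i⁻¹ := by
  have h1 := i_mem h I (W_Q h hq) (W_inv h) (W_i h I hq) h4
  -- the displacement of `q⁻¹`
  have hq' := inv_mem hq
  have h2 : q * (v * (q⁻¹ * v * q⁻¹⁻¹)) * q⁻¹ = (v * (q * v * q⁻¹))⁻¹ := by
    have h3 : (v * (q * v * q⁻¹))⁻¹ = q * v⁻¹ * q⁻¹ * v⁻¹ := by group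
    rw [h3, h.vi]; group
  have h3 : (v * (q⁻¹ * v * q⁻¹⁻¹)) ^ 4 ≠ 1 := by
    intro h5
    apply h4
    have h6 : (q * (v * (q⁻¹ * v * q⁻¹⁻¹)) * q⁻¹) ^ 4 = 1 := by
      rw [conj_pow, h5]; group
    rw [h2, inv_pow, inv_eq_one] at h6
    exact h6
  have h5 := i_mem h I (W_Q h hq') (W_inv h) (W_i h I hq') h3
  have h6 : q * i * q⁻¹ ∈ zpowers (v * (q * v * q⁻¹)) := by
    rw [← zpowers_inv, ← h2]
    obtain ⟨k, hk⟩ := mem_zpowers_iff.1 h5
    rw [← hk, ← conj_zpow]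
    exact zpow_mem (mem_zpowers _) k
  refine mem_i' h I h1 h6 ?_
  have h7 : (q * i * q⁻¹) * (q * i * q⁻¹) = q * (i * i) * q⁻¹ := by group
  rw [h7, I.i2, h.zSc hq.1]

/-- (F6) `Q` normalises `⟨i⟩` -/
theorem norm_i {q : G} (hq : q ∈ QQ S U) : q * i * q⁻¹ = i ∨ q * i * q⁻¹ = i⁻¹ := by
  have key : ∀ y ∈ QQ S U, y * f * y⁻¹ ≠ f → y * f * y⁻¹ ≠ f * z → y * i * y⁻¹ = i ∨ y * i * y⁻¹ = i⁻¹ :=
    fun y hy h1 h2 => norm_i_of_W4 h I hB hy (W4_ne h I hB hy h1 h2)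
  by_cases hc : q * f * q⁻¹ ≠ f ∧ q * f * q⁻¹ ≠ f * z
  · exact key q hq hc.1 hc.2
  obtain ⟨b, hb, hbf⟩ := h.tv (x * z * x⁻¹) h.xzU
  have hb1 : b * f * b⁻¹ ≠ f := fun h1 => h.xz1 (by rw [hbf] at h1; exact mul_eq_left.1 h1)
  have hb2 : b * f * b⁻¹ ≠ f * z := fun h1 => h.xz (by rw [hbf] at h1; exact mul_left_cancel h1)
  have hqc : q * f * q⁻¹ = f ∨ q * f * q⁻¹ = f * z := by
    by_contra h1
    rw [not_or] at h1
    exact hc h1
  have hqb : (q * b) * f * (q * b)⁻¹ = (q * f * q⁻¹) * (x * z * x⁻¹) := by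
    have h1 : (q * b) * f * (q * b)⁻¹ = q * (b * f * b⁻¹) * q⁻¹ := by group
    have h2 : q * (f * (x * z * x⁻¹)) * q⁻¹ = (q * f * q⁻¹) * (q * (x * z * x⁻¹) * q⁻¹) := by group
    rw [h1, hbf, h2, qU hq h.xzU]
  have h1 : (q * b) * f * (q * b)⁻¹ ≠ f := by
    intro h2
    rw [hqb] at h2
    rcases hqc with h3 | h3 <;> rw [h3] at h2
    · exact h.xz1 (mul_eq_left.1 h2)
    · rw [mul_assoc] at h2
      have h4 := mul_eq_left.1 h2
      have h5 : x * z * x⁻¹ = z⁻¹ := eq_inv_of_mul_eq_one_right h4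
      rw [h.zi] at h5
      exact h.xz h5
  have h2 : (q * b) * f * (q * b)⁻¹ ≠ f * z := by
    intro h2
    rw [hqb] at h2
    rcases hqc with h3 | h3 <;> rw [h3] at h2
    · exact h.xz (mul_left_cancel h2)
    · exact h.xz1 (mul_eq_left.1 h2)
  have h3 := key _ (mul_mem hq hb) h1 h2
  have h4 := key _ hb hb1 hb2
  have h5 : q * i * q⁻¹ = (q * b) * (b⁻¹ * i * b) * (q * b)⁻¹ := by group
  have h6 : b⁻¹ * i * b = i ∨ b⁻¹ * i * b = i⁻¹ := by
    rcases h4 with h7 | h7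
    · left
      calc b⁻¹ * i * b = b⁻¹ * (b * i * b⁻¹) * b := by rw [h7]
        _ = i := by group
    · right
      have h8 : b * i⁻¹ * b⁻¹ = i := by
        have : b * i⁻¹ * b⁻¹ = (b * i * b⁻¹)⁻¹ := by group
        rw [this, h7, inv_inv]
      calc b⁻¹ * i * b = b⁻¹ * (b * i⁻¹ * b⁻¹) * b := by rw [h8]
        _ = i⁻¹ := by group
  have h7 : (q * b) * i⁻¹ * (q * b)⁻¹ = ((q * b) * i * (q * b)⁻¹)⁻¹ := by group
  rw [h5]
  rcases h6 with h8 | h8 <;> rcases h3 with h9 | h9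
  · left; rw [h8, h9]
  · right; rw [h8, h9]
  · right; rw [h8, h7, h9]
  · left; rw [h8, h7, h9, inv_inv]

/-- (F7) displacements centralise `i` -/
theorem W_comm_i {q : G} (hq : q ∈ QQ S U) : (v * (q * v * q⁻¹)) * i = i * (v * (q * v * q⁻¹)) := by
  rw [← conj_eq_iff]
  have h1 : (v * (q * v * q⁻¹)) * i * (v * (q * v * q⁻¹))⁻¹ =
      v * (q * (v * (q⁻¹ * i * q) * v⁻¹) * q⁻¹) * v⁻¹ := by group
  have hvi' : v * i⁻¹ * v⁻¹ = i := by
    have : v * i⁻¹ * v⁻¹ = (v * i * v⁻¹)⁻¹ := by group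
    rw [this, I.vi, inv_inv]
  have h2 : q * i⁻¹ * q⁻¹ = (q * i * q⁻¹)⁻¹ := by group
  rcases norm_i h I hB (inv_mem hq) with h3 | h3 <;> rw [inv_inv] at h3
  · have h4 : q * i * q⁻¹ = i := by
      calc q * i * q⁻¹ = q * (q⁻¹ * i * q) * q⁻¹ := by rw [h3]
        _ = i := by group
    rw [h1, h3, I.vi, h2, h4, hvi']
  · have h4 : q * i⁻¹ * q⁻¹ = i := by
      calc q * i⁻¹ * q⁻¹ = q * (q⁻¹ * i * q) * q⁻¹ := by rw [h3]
        _ = i := by group
    have h5 : q * i * q⁻¹ = i⁻¹ := by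
      rw [h2] at h4
      rw [← h4, inv_inv, h4]
    rw [h1, h3, hvi', h5, hvi']

/-- (F8) a displacement is `1`, `z`, or has `i` as a power -/
theorem W_cases {q : G} (hq : q ∈ QQ S U) :
    v * (q * v * q⁻¹) = 1 ∨ v * (q * v * q⁻¹) = z ∨ i ∈ zpowers (v * (q * v * q⁻¹)) := by
  by_cases h4 : (v * (q * v * q⁻¹)) ^ 4 = 1
  swap
  · exact Or.inr (Or.inr (i_mem h I (W_Q h hq) (W_inv h) (W_i h I hq) h4))
  rw [pow4] at h4
  have hvw := W_inv h (q := q)
  have hwQ := W_Q h hq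
  have hwi := W_comm_i h I hB hq
  have hqv : q * v * q⁻¹ = v * (v * (q * v * q⁻¹)) := (vW h).symm
  set w := v * (q * v * q⁻¹) with hw
  by_cases h2 : w * w = 1
  · by_cases hT : w ∈ TT S A
    · rcases good_v h q hq w (h.mem_A_of_sq hT h2) hqv with h3 | h3
      · exact Or.inl h3
      · exact Or.inr (Or.inl h3)
    · exact (no_two h hB hq (f_of_inv h hwQ hvw hT) h2).elim
  · have h3 := sq_eq_z h hwQ hvw h4 h2
    by_cases hT : w ∈ TT S A
    · right; right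
      rcases four_eq h I hT h3 hwi hvw hq hqv with h5 | h5
      · rw [h5]; exact mem_zpowers _
      · rw [h5, zpowers_inv]; exact mem_zpowers _
    · exact (no_four h I hB hq (f_of_inv h hwQ hvw hT) h3 hwi).elim

omit [Finite G] I hB in
/-- products of two displacements are displacements up to conjugacy -/
theorem W_mul {q₁ q₂ : G} : (v * (q₁ * v * q₁⁻¹))⁻¹ * (v * (q₂ * v * q₂⁻¹)) =
    q₁ * (v * ((q₁⁻¹ * q₂) * v * (q₁⁻¹ * q₂)⁻¹)) * q₁⁻¹ := by
  have h1 : (v * (q₁ * v * q₁⁻¹))⁻¹ * (v * (q₂ * v * q₂⁻¹)) = q₁ * v⁻¹ * q₁⁻¹ * (q₂ * v * q₂⁻¹) := by group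
  rw [h1, h.vi]; group

omit [Finite G] I hB in
/-- powers of displacements are displacements -/
theorem W_pow {q : G} (hq : q ∈ QQ S U) (hwQ : v * (q * v * q⁻¹) ∈ QQ S U) (k : ℤ) :
    ∃ y ∈ QQ S U, v * (y * v * y⁻¹) = (v * (q * v * q⁻¹)) ^ k := by
  have hinv := W_inv h (q := q)
  set w := v * (q * v * q⁻¹) with hw
  have hvw : ∀ j : ℤ, v * w ^ j = (w ^ j)⁻¹ * v := by
    intro j
    have h1 : v * w ^ j * v⁻¹ = (w ^ j)⁻¹ := inv_zp hinv (zpow_mem (mem_zpowers w) j)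
    exact mul_inv_eq_iff_eq_mul.1 h1
  obtain ⟨j, hj⟩ := Int.even_or_odd' k
  rcases hj with rfl | rfl
  · -- `y = w^{-j}`
    refine ⟨(w ^ j)⁻¹, inv_mem ((QQ S U).zpow_mem hwQ j), ?_⟩
    rw [inv_inv, ← hvw j]
    have h1 : v * (v * w ^ j * w ^ j) = (v * v) * (w ^ j * w ^ j) := by group
    rw [h1, h.v2, one_mul, ← zpow_add, two_mul]
  · refine ⟨(w ^ j)⁻¹ * q, mul_mem (inv_mem ((QQ S U).zpow_mem hwQ j)) hq, ?_⟩
    have h1 : (w ^ j)⁻¹ * q * v * ((w ^ j)⁻¹ * q)⁻¹ = (w ^ j)⁻¹ * (q * v * q⁻¹) * w ^ j := by group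
    have h2 : q * v * q⁻¹ = v * w := (vW h).symm
    have h5 : (w ^ j)⁻¹ * (v * w) * w ^ j = ((w ^ j)⁻¹ * v) * w * w ^ j := by group
    rw [h1, h2, h5, ← hvw j]
    have h3 : v * (v * w ^ j * w * w ^ j) = (v * v) * (w ^ j * w * w ^ j) := by group
    rw [h3, h.v2, one_mul]
    have h4 : w ^ j * w * w ^ j = w ^ (2 * j + 1) := by
      rw [← zpow_add_one, ← zpow_add]
      congr 1
      ring
    exact h4

/-- in a conjugate of the set of displacements: `n ∈ ⟨z⟩` or `i ∈ ⟨n⟩` -/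
theorem conj_cases {y q : G} (hy : y ∈ QQ S U) (hq : q ∈ QQ S U) :
    y * (v * (q * v * q⁻¹)) * y⁻¹ = 1 ∨ y * (v * (q * v * q⁻¹)) * y⁻¹ = z ∨
      i ∈ zpowers (y * (v * (q * v * q⁻¹)) * y⁻¹) := by
  rcases W_cases h I hB hq with h1 | h1 | h1
  · left; rw [h1]; group
  · right; left; rw [h1]; exact h.zSc hy.1
  · right; right
    obtain ⟨k, hk⟩ := mem_zpowers_iff.1 h1
    have h2 : y * i * y⁻¹ ∈ zpowers (y * (v * (q * v * q⁻¹)) * y⁻¹) := by
      rw [← hk, ← conj_zpow]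
      exact zpow_mem (mem_zpowers _) k
    rcases norm_i h I hB hy with h3 | h3
    · rwa [h3] at h2
    · rw [h3] at h2
      have := inv_mem h2
      rwa [inv_inv] at this

/-- (F10) if `w² = v₀²` for two displacements then `w ∈ v₀⟨z⟩` -/
theorem eq_of_sq {q₀ q : G} (hq₀ : q₀ ∈ QQ S U) (hq : q ∈ QQ S U)
    (h2 : (v * (q * v * q⁻¹)) * (v * (q * v * q⁻¹)) = (v * (q₀ * v * q₀⁻¹)) * (v * (q₀ * v * q₀⁻¹))) :
    v * (q * v * q⁻¹) = v * (q₀ * v * q₀⁻¹) ∨ v * (q * v * q⁻¹) = (v * (q₀ * v * q₀⁻¹)) * z := by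
  have hm := W_mul h (q₁ := q₀) (q₂ := q)
  have hwi := W_comm_i h I hB hq
  have hc := conj_cases h I hB hq₀ (mul_mem (inv_mem hq₀) hq)
  rw [← hm] at hc
  set w := v * (q * v * q⁻¹) with hw
  set w₀ := v * (q₀ * v * q₀⁻¹) with hw₀
  have hn : w * (w₀⁻¹ * w) * w⁻¹ = (w₀⁻¹ * w)⁻¹ := by
    have h0 : (w₀⁻¹ * w)⁻¹ = w⁻¹ * w₀ := by group
    have h3 : w * (w₀⁻¹ * w) * w⁻¹ = w * w₀⁻¹ := by group
    rw [h0, h3]
    have h4 : w * (w * w₀⁻¹) = w * (w⁻¹ * w₀) := by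
      rw [← mul_assoc, h2]; group
    exact mul_left_cancel h4
  rcases hc with h3 | h3 | h3
  · left; exact (inv_mul_eq_one.1 h3).symm
  · right; rw [← h3]; group
  · exfalso
    obtain ⟨k, hk⟩ := mem_zpowers_iff.1 h3
    have h4 : w * i * w⁻¹ = i⁻¹ := by
      rw [← hk, ← conj_zpow, hn, inv_zpow]
    rw [conj_eq_iff.2 hwi] at h4
    have h5 : i * i = 1 := by
      nth_rewrite 2 [h4]
      exact mul_inv_cancel i
    rw [I.i2] at h5
    exact h.z1 h5

/-- **[F]** the displacements lie in a cyclic normal subgroup -/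
theorem exists_c : ∃ c ∈ QQ S U, (∀ q ∈ QQ S U, v * (q * v * q⁻¹) ∈ zpowers c) ∧
    (∀ q ∈ QQ S U, q * c * q⁻¹ ∈ zpowers c) ∧ z ∈ zpowers c ∧ v * c * v⁻¹ = c⁻¹ := by
  classical
  -- a displacement of order at least 8
  obtain ⟨b, hb, hbf⟩ := h.tv (x * z * x⁻¹) h.xzU
  have hb4 : (v * (b * v * b⁻¹)) ^ 4 ≠ 1 := W4_ne h I hB hb
    (fun h1 => h.xz1 (by rw [hbf] at h1; exact mul_eq_left.1 h1))
    (fun h1 => h.xz (by rw [hbf] at h1; exact mul_left_cancel h1))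
  -- maximal order
  obtain ⟨q₀, hq₀, hmax⟩ := Set.exists_max_image {q : G | q ∈ QQ S U}
    (fun q => orderOf (v * (q * v * q⁻¹))) (Set.toFinite _) ⟨b, hb⟩
  have hq₀ : q₀ ∈ QQ S U := hq₀
  have hmax : ∀ b ∈ QQ S U, orderOf (v * (b * v * b⁻¹)) ≤ orderOf (v * (q₀ * v * q₀⁻¹)) := hmax
  have hc4 : (v * (q₀ * v * q₀⁻¹)) ^ 4 ≠ 1 := by
    intro h1
    have h2 := Nat.le_of_dvd (by norm_num) (orderOf_dvd_of_pow_eq_one h1)
    have h3 := hmax b hb
    obtain ⟨n, hn⟩ : ∃ n, orderOf (v * (b * v * b⁻¹)) = 2 ^ n := by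
      have h4 := (QQ S U).zpow_mem (W_Q h hb) 1
      obtain ⟨n, hn⟩ := S.isPGroup' ⟨_, (W_Q h hb).1⟩
      obtain ⟨m, -, hm⟩ := (Nat.dvd_prime_pow Nat.prime_two).1
        (orderOf_dvd_of_pow_eq_one (congrArg Subtype.val hn : (v * (b * v * b⁻¹)) ^ 2 ^ n = 1))
      exact ⟨m, hm⟩
    apply hb4
    rw [hn] at h3
    have h5 : n ≤ 2 := by
      by_contra h6
      push Not at h6
      have h7 : 2 ^ 3 ≤ 2 ^ n := Nat.pow_le_pow_right (by norm_num) h6
      have h8 : (2:ℕ) ^ 3 = 8 := by norm_num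
      omega
    apply orderOf_dvd_iff_pow_eq_one.1
    rw [hn]
    have : (4:ℕ) = 2 ^ 2 := by norm_num
    rw [this]
    exact Nat.pow_dvd_pow 2 h5
  set c := v * (q₀ * v * q₀⁻¹) with hc
  have hcQ : c ∈ QQ S U := W_Q h hq₀
  have hic : i ∈ zpowers c := i_mem h I hcQ (W_inv h) (W_i h I hq₀) hc4
  have hzc : z ∈ zpowers c := by rw [← I.i2]; exact mul_mem hic hic
  -- all displacements are in `⟨c⟩`
  have hall : ∀ n : ℕ, ∀ q ∈ QQ S U, orderOf (v * (q * v * q⁻¹)) ≤ n → v * (q * v * q⁻¹) ∈ zpowers c := by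
    intro n
    induction n with
    | zero =>
      intro q _ h1
      have := orderOf_pos (v * (q * v * q⁻¹))
      omega
    | succ n ih =>
      intro q hq h1
      by_cases hw1 : v * (q * v * q⁻¹) = 1
      · rw [hw1]; exact one_mem _
      obtain ⟨y, hy, hyw⟩ := W_pow h hq (W_Q h hq) 2
      -- the order of the square is smaller
      have hlt : orderOf (v * (y * v * y⁻¹)) < orderOf (v * (q * v * q⁻¹)) := by
        obtain ⟨m, hm⟩ : ∃ m, orderOf (v * (q * v * q⁻¹)) = 2 ^ m := by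
          obtain ⟨n, hn⟩ := S.isPGroup' ⟨_, (W_Q h hq).1⟩
          obtain ⟨m, -, hm⟩ := (Nat.dvd_prime_pow Nat.prime_two).1
            (orderOf_dvd_of_pow_eq_one (congrArg Subtype.val hn : (v * (q * v * q⁻¹)) ^ 2 ^ n = 1))
          exact ⟨m, hm⟩
        have hm0 : m ≠ 0 := by
          rintro rfl
          rw [pow_zero, orderOf_eq_one_iff] at hm
          exact hw1 hm
        have h2 : orderOf (v * (y * v * y⁻¹)) ∣ 2 ^ (m - 1) := by
          apply orderOf_dvd_of_pow_eq_one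
          rw [hyw]
          have h3 : ((v * (q * v * q⁻¹)) ^ (2 : ℤ)) ^ 2 ^ (m - 1) = (v * (q * v * q⁻¹)) ^ (2 ^ m) := by
            have h4 : ((v * (q * v * q⁻¹)) ^ (2 : ℤ)) = (v * (q * v * q⁻¹)) ^ (2 : ℕ) := by
              rw [zpow_two, pow_two]
            rw [h4, ← pow_mul, ← pow_succ']
            congr 2
            omega
          rw [h3, ← hm, pow_orderOf_eq_one]
        have h3 := Nat.le_of_dvd (by positivity) h2
        have h4 : 2 ^ (m - 1) < 2 ^ m := Nat.pow_lt_pow_right (by norm_num) (by omega)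
        omega
      have h2 := ih y hy (by omega)
      obtain ⟨k, hk⟩ := mem_zpowers_iff.1 h2
      -- `k` is even
      have hkc : c ^ k = (v * (q * v * q⁻¹)) * (v * (q * v * q⁻¹)) := by rw [hk, hyw, zpow_two]
      obtain ⟨e, he⟩ := Int.even_or_odd' k
      rcases he with rfl | rfl
      · obtain ⟨y', hy', hyc⟩ := W_pow h hq₀ hcQ e
        have h3 : (v * (q * v * q⁻¹)) * (v * (q * v * q⁻¹)) = (v * (y' * v * y'⁻¹)) * (v * (y' * v * y'⁻¹)) := by
          rw [hyc, ← hkc, ← zpow_add, two_mul]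
        rcases eq_of_sq h I hB hy' hq h3 with h4 | h4
        · rw [h4, hyc]; exact zpow_mem (mem_zpowers c) e
        · rw [h4, hyc]; exact mul_mem (zpow_mem (mem_zpowers c) e) hzc
      · -- odd power of `c`: too large order
        exfalso
        have h3 : c ∈ zpowers (c ^ (2 * e + 1)) := by
          obtain ⟨n, hn⟩ := S.isPGroup' ⟨_, hcQ.1⟩
          have hn' : c ^ 2 ^ n = 1 := congrArg Subtype.val hn
          have hco : IsCoprime (2 * e + 1) ((2 : ℤ) ^ n) := by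
            apply IsCoprime.pow_right
            exact ⟨1, -e, by ring⟩
          obtain ⟨a, b', hab⟩ := hco
          refine mem_zpowers_iff.2 ⟨a, ?_⟩
          have h4 : c ^ ((2:ℤ) ^ n) = 1 := by
            have h5 : ((2:ℤ) ^ n) = ((2 ^ n : ℕ) : ℤ) := by push_cast; rfl
            rw [h5, zpow_natCast, hn']
          calc (c ^ (2 * e + 1)) ^ a = c ^ (a * (2 * e + 1)) := by rw [← zpow_mul, mul_comm]
            _ = c ^ (a * (2 * e + 1)) * (c ^ ((2:ℤ) ^ n)) ^ b' := by rw [h4, one_zpow, mul_one]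
            _ = c ^ (a * (2 * e + 1) + b' * (2:ℤ) ^ n) := by
                rw [← zpow_mul, ← zpow_add, mul_comm ((2:ℤ)^n)]
            _ = c := by rw [hab, zpow_one]
        have h4 : orderOf c ∣ orderOf (c ^ (2 * e + 1)) := orderOf_dvd_of_mem_zpowers h3
        rw [hk] at h4
        have h5 := Nat.le_of_dvd (orderOf_pos _) h4
        have h6 := hmax q hq
        omega
  have hall' : ∀ q ∈ QQ S U, v * (q * v * q⁻¹) ∈ zpowers c := fun q hq => hall _ q hq le_rfl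
  refine ⟨c, hcQ, hall', ?_, hzc, W_inv h⟩
  intro q hq
  have h1 := hall' _ hq
  have h2 := hall' _ (mul_mem hq hq₀)
  have h3 : q * c * q⁻¹ = (v * (q * v * q⁻¹))⁻¹ * (v * ((q * q₀) * v * (q * q₀)⁻¹)) := by
    have h4 : (v * (q * v * q⁻¹))⁻¹ = q * v⁻¹ * q⁻¹ * v⁻¹ := by group
    rw [h4, h.vi, hc]
    have h5 : q * v * q⁻¹ * v * (v * (q * q₀ * v * (q * q₀)⁻¹)) =
        q * v * q⁻¹ * (v * v) * (q * q₀ * v * (q * q₀)⁻¹) := by group
    rw [h5, h.v2]; group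
  rw [h3]
  exact mul_mem (inv_mem h1) h2

end B

end I

end Basic

end Cfsg.Agent.RankThreeFus.AFiveC
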