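import Cfsg.Agent.RankThreeFus.AFive
import Cfsg.Agent.RankThreeFus.ABcomm
import Cfsg.Agent.RankThreeFus.ACube
import Cfsg.Agent.RankThreeFus.AEnd

/-!
# S1730, (B8*), type (a5): the main theorem

`Fv S A U z f x v g` and a normalised square root `t` of `z`: the sectional 2-rank is at most 4.
-/

set_option autoImplicit false

namespace Cfsg.Agent.RankThreeFus.AFiveC

open Subgroup Cfsg.Agent.Lib.GoldschmidtFusion Cfsg.Agent.StdL2.G23Aut

variable {G : Type*} [Group G] [Finite G] {S : Sylow 2 G} {A U : Subgroup G} {z f x v g t : G}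

omit [Finite G] in
theorem comm_TA {a y : G} (ha : a ∈ A) (hy : y ∈ TT S A) : a * y = y * a := (mem_cent_iff.1 hy.2 a ha).symm

/-- `[q, ·] ∈ A` is compatible with quotients of elements of `T`. -/
theorem cm_div (h : Fv S A U z f x v g) {q y w : G} (hq : q ∈ QQ S U) (hy : y ∈ TT S A) (hw : w ∈ TT S A)
    (h1 : q * y * q⁻¹ * y⁻¹ ∈ A) (h2 : q * w * q⁻¹ * w⁻¹ ∈ A) :
    q * (y * w⁻¹) * q⁻¹ * (y * w⁻¹)⁻¹ ∈ A := by
  set a := q * y * q⁻¹ * y⁻¹ with ha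
  set b := q * w * q⁻¹ * w⁻¹ with hb
  have h3 : q * (y * w⁻¹) * q⁻¹ * (y * w⁻¹)⁻¹ = a * (y * w⁻¹ * b⁻¹ * (y * w⁻¹)⁻¹) := by
    rw [ha, hb]; group
  have h4 : y * w⁻¹ * b⁻¹ * (y * w⁻¹)⁻¹ = b⁻¹ := by
    rw [conj_eq_iff]
    exact (comm_TA (inv_mem h2) (mul_mem hy (inv_mem hw))).symm
  rw [h3, h4]
  exact mul_mem h1 (inv_mem h2)

/-- the elements `i` and `r` -/
theorem exists_Ii (h : Fv S A U z f x v g) (R : Eone.Root S A U z x v t) : ∃ i r, Ii S A U z v i r := by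
  set r := x * t * x⁻¹ with hr
  have hrT : r ∈ TT S A := mem_norm h.xT R.mem
  set t₃ := x * r * x⁻¹ with ht₃
  have ht₃T : t₃ ∈ TT S A := mem_norm h.xT hrT
  -- `v r v⁻¹ = a' t₃`
  have hxv : v * x = x⁻¹ * v := mul_inv_eq_iff_eq_mul.1 h.sx
  have hxt : x⁻¹ * t * x = t₃ := by
    have h1 : x * t₃ * x⁻¹ = t := R.cube
    rw [← h1]; group
  set a := v * t * v⁻¹ * t⁻¹ with ha
  have haA : a ∈ A := R.s
  set a' := x⁻¹ * a * x with ha'
  have ha'A : a' ∈ A := mem_norm' h.xA haA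
  have hvr : v * r * v⁻¹ = a' * t₃ := by
    have h1 : v * r * v⁻¹ = (v * x) * t * (v * x)⁻¹ := by rw [hr]; group
    have h2 : v * t * v⁻¹ = a * t := by rw [ha]; group
    have h3 : (x⁻¹ * v) * t * (x⁻¹ * v)⁻¹ = x⁻¹ * (v * t * v⁻¹) * x := by group
    rw [h1, hxv, h3, h2, ha', ← hxt]; group
  have hvrT : v * r * v⁻¹ ∈ TT S A := mem_norm (h.SnT h.vS) hrT
  have hrt₃ : r * t₃ = t₃ * r := by
    have h1 : r * t₃ = x * (t * (x * t * x⁻¹)) * x⁻¹ := by rw [ht₃, hr]; group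
    have h2 : t₃ * r = x * ((x * t * x⁻¹) * t) * x⁻¹ := by rw [ht₃, hr]; group
    rw [h1, h2, R.comm]
  have hrr' : r * (v * r * v⁻¹) = (v * r * v⁻¹) * r := by
    rw [hvr, ← mul_assoc, ← comm_TA ha'A hrT, mul_assoc, hrt₃, ← mul_assoc]
  have hr2 : r * r = x * z * x⁻¹ := by
    rw [← R.sq, hr]; group
  have hvr2 : (v * r * v⁻¹) * (v * r * v⁻¹) = z * (x * z * x⁻¹) := by
    have h1 : (v * r * v⁻¹) * (v * r * v⁻¹) = v * (r * r) * v⁻¹ := by group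
    rw [h1, hr2, vU h h.xzU h.xz1 h.xz]
  set r' := v * r * v⁻¹ with hr'
  have hvr' : v * r' * v⁻¹ = r := by
    have h1 : v * r' * v⁻¹ = (v * v) * r * (v * v)⁻¹ := by rw [hr']; group
    rw [h1, h.v2]; group
  -- commutators
  have hQt : ∀ y ∈ TT S A, (∀ q ∈ QQ S U, q * y * q⁻¹ * y⁻¹ ∈ A) → ∀ w : G,
      w ∈ normalizer (A : Set G) → w ∈ normalizer (QQ S U : Set G) →
      ∀ q ∈ QQ S U, q * (w * y * w⁻¹) * q⁻¹ * (w * y * w⁻¹)⁻¹ ∈ A := by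
    intro y _ hy w hwA hwQ q hq
    have h1 : q * (w * y * w⁻¹) * q⁻¹ * (w * y * w⁻¹)⁻¹ =
        w * ((w⁻¹ * q * w) * y * (w⁻¹ * q * w)⁻¹ * y⁻¹) * w⁻¹ := by group
    rw [h1]
    exact mem_norm hwA (hy _ (mem_norm' hwQ hq))
  have hQr := hQt t R.mem R.Q x h.xA h.xQ
  have hQr' := hQt r hrT hQr v (h.hyp.norm h.vS) (h.SnQ h.vS)
  refine ⟨r' * r⁻¹, r, ?_, ?_, ?_, ?_, hrT, ?_, ?_⟩
  · exact mul_mem hvrT (inv_mem hrT)
  · have h1 : r' * r⁻¹ = r⁻¹ * r' := by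
      have h2 : r * (r' * r⁻¹) = r * (r⁻¹ * r') := by
        rw [← mul_assoc, hrr']; group
      exact mul_left_cancel h2
    have h2 : r' * r⁻¹ * (r' * r⁻¹) = (r' * r⁻¹) * (r⁻¹ * r') := by rw [← h1]
    have h3 : (r' * r⁻¹) * (r⁻¹ * r') = r' * (r * r)⁻¹ * r' := by group
    have h4 : r' * (r * r)⁻¹ = (r * r)⁻¹ * r' := by
      have h5 : (r * r) * (r' * (r * r)⁻¹) = (r * r) * ((r * r)⁻¹ * r') := by
        have h6 : (r * r) * r' = r' * (r * r) := by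
          rw [mul_assoc, hrr', ← mul_assoc, hrr', mul_assoc]
        rw [← mul_assoc, h6]; group
      exact mul_left_cancel h5
    rw [h2, h3, h4, mul_assoc, hvr2, hr2]
    have h7 : z * (x * z * x⁻¹) = (x * z * x⁻¹) * z := h.commA h.zA (h.UA h.xzU)
    rw [h7]; group
  · have h1 : v * (r' * r⁻¹) * v⁻¹ = (v * r' * v⁻¹) * (v * r * v⁻¹)⁻¹ := by group
    rw [h1, hvr', ← hr']; group
  · intro q hq
    exact cm_div h hq hvrT hrT (hQr' q hq) (hQr q hq)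
  · rw [← mul_assoc, hrr']; group
  · rw [← hr']; group

/-- **Main theorem of type (a5).** -/
theorem rank_le_four (h : Fv S A U z f x v g) (R : Eone.Root S A U z x v t) : Cfsg.SectionalPRankLE 2 4 G := by
  obtain ⟨i, r, I⟩ := exists_Ii h R
  have hx3 := AFive.cube h R
  have hB : NoComm S A U z f v := fun b hb hbb hbf hvb hg =>
    AFive.no_comm h R hx3 hb hbb hbf hvb hg
  obtain ⟨c, hc, h1, h2, h3, -⟩ := exists_c h I hB
  exact AEnd.rank_le h hc h1 h2 h3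

end Cfsg.Agent.RankThreeFus.AFiveC
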