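import Cfsg.Agent.RankThreeFus.ABcomm

/-!
# S1730, type (a5): (STAR) for every involution of `S - Q`, and [B] without side condition
-/

set_option autoImplicit false
set_option linter.style.haveILetI false

namespace Cfsg.Agent.RankThreeFus.AFive

open Subgroup Cfsg.Agent.Lib.GoldschmidtFusion Cfsg.Agent.StdL2.G23Aut Cfsg.Agent.RankThreeFus

variable {G : Type*} [Group G] {S : Sylow 2 G} {A U : Subgroup G} {z f x v g t : G}

/-- `p v p⁻¹ = z v` for `p = x z x⁻¹`. -/
theorem conj_p (h : Fv S A U z f x v g) [Finite G] :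
    (x * z * x⁻¹) * v * (x * z * x⁻¹)⁻¹ = z * v := by
  have hF := h.toFr
  obtain ⟨p, hp⟩ : ∃ p, p = x * z * x⁻¹ := ⟨_, rfl⟩
  have hpU : p ∈ U := by rw [hp]; exact hF.xzU
  have hxp : x * p * x⁻¹ = z * p := by rw [hp]; exact hF.xxz
  have hpp : p * p = 1 := hF.sqA (hF.UA hpU)
  have hpi : p⁻¹ = p := inv_eq_of_mul_eq_one_left hpp
  have hxip : x⁻¹ * z * x = z * p := by
    -- `x (z p) x⁻¹ = p (z p) = z`
    have h1 : x * (z * p) * x⁻¹ = z := by
      calc x * (z * p) * x⁻¹ = (x * z * x⁻¹) * (x * p * x⁻¹) := by group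
        _ = p * (z * p) := by rw [hxp, ← hp]
        _ = p * (p * z) := by rw [hF.commA hF.zA (hF.UA hpU)]
        _ = z := by rw [← mul_assoc, hpp, one_mul]
    calc x⁻¹ * z * x = x⁻¹ * (x * (z * p) * x⁻¹) * x := by rw [h1]
      _ = z * p := by group
  have hvp : v * p * v⁻¹ = z * p := by
    calc v * p * v⁻¹ = (v * x * v⁻¹) * (v * z * v⁻¹) * (v * x * v⁻¹)⁻¹ := by rw [hp]; group
      _ = x⁻¹ * z * x := by
        have h1 : v * x * v⁻¹ = x⁻¹ := hF.sx
        rw [h1, hF.zSc h.vS, inv_inv]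
      _ = z * p := hxip
  rw [← hp]
  calc p * v * p⁻¹ = p * (v * p * v⁻¹) * v := by rw [hpi]; group
    _ = p * (z * p) * v := by rw [hvp]
    _ = p * (p * z) * v := by rw [hF.commA hF.zA (hF.UA hpU)]
    _ = z * v := by rw [← mul_assoc p p z, hpp, one_mul]

theorem good_v [Finite G] (h : Fv S A U z f x v g) {y : G} (hy : y ∈ QQ S U) {c : G} (hc : c ∈ A)
    (hyc : y * v * y⁻¹ = v * c) : c = 1 ∨ c = z := by
  have hF := h.toFr
  -- `c` commutes with `v`
  have hcc : c * c = 1 := hF.sqA hc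
  have h1 : (v * c) * (v * c) = 1 := by
    rw [← hyc]
    calc y * v * y⁻¹ * (y * v * y⁻¹) = y * (v * v) * y⁻¹ := by group
      _ = 1 := by rw [h.v2]; group
  have hvc : v * c = c * v := by
    have h2 : (v * c)⁻¹ = v * c := inv_eq_of_mul_eq_one_left h1
    have h3 : (v * c)⁻¹ = c⁻¹ * v⁻¹ := by group
    rw [h3, hF.invA hc, h.vi] at h2
    exact h2.symm
  rcases hF.mem_A hc with hcU | hcU
  · exact h.cU hcU hvc
  · exfalso
    set u := f * c with hu
    have hcu : c = f * u := by rw [hu, ← mul_assoc, hF.f2, one_mul]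
    have hvu : v * u = u * v := by
      rw [hu]
      calc v * (f * c) = (v * f) * c := by group
        _ = f * (v * c) := by rw [h.vf]; group
        _ = _ := by rw [hvc]; group
    rcases h.cU hcU hvu with h2 | h2
    · rw [hcu, h2, mul_one, h.vf] at hyc
      exact h.not_conj_fv hy hyc
    · -- `y v y⁻¹ = z f v`
      have hyc' : y * v * y⁻¹ = z * (f * v) := by
        rw [hyc, hvc, hcu, h2, ← hF.zfc, mul_assoc]
      have h3 := conj_p h
      set p := x * z * x⁻¹
      refine h.not_conj_fv (y := y * p) (mul_mem hy (hF.T_le_Q (hF.A_le_T (hF.UA hF.xzU)))) ?_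
      calc (y * p) * v * (y * p)⁻¹ = y * (p * v * p⁻¹) * y⁻¹ := by group
        _ = (y * z * y⁻¹) * (y * v * y⁻¹) := by rw [h3]; group
        _ = z * (z * (f * v)) := by rw [hF.zSc hy.1, hyc']
        _ = f * v := by rw [← mul_assoc, hF.z2, one_mul]

/-- **(STAR) for all involutions of `S - Q`.** -/
theorem good [Finite G] (h : Fv S A U z f x v g) {w : G} (hw : w ∈ (S : Subgroup G)) (hwQ : w ∉ QQ S U)
    (hww : w * w = 1) {y : G} (hy : y ∈ QQ S U) {a : G} (ha : a ∈ A) (hya : y * w * y⁻¹ = w * a) :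
    a = 1 ∨ a = z := by
  have hF := h.toFr
  obtain ⟨m, hm, hmw⟩ := h.conj_v_or hw hwQ hww
  have hmA := hF.hyp.norm hm.1
  have hma : m * a * m⁻¹ ∈ A := mem_norm hmA ha
  have hy' : m * y * m⁻¹ ∈ QQ S U := mul_mem (mul_mem hm hy) (inv_mem hm)
  have e1 : (m * y * m⁻¹) * (m * w * m⁻¹) * (m * y * m⁻¹)⁻¹ = (m * w * m⁻¹) * (m * a * m⁻¹) := by
    calc (m * y * m⁻¹) * (m * w * m⁻¹) * (m * y * m⁻¹)⁻¹ = m * (y * w * y⁻¹) * m⁻¹ := by group
      _ = m * (w * a) * m⁻¹ := by rw [hya]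
      _ = _ := by group
  have back : (m * a * m⁻¹ = 1 ∨ m * a * m⁻¹ = z) → a = 1 ∨ a = z := by
    rintro (h1 | h1)
    · left; exact conj_eq_one_iff.1 h1
    · right
      have h2 : a = m⁻¹ * (m * a * m⁻¹) * m⁻¹⁻¹ := by group
      rw [h2, h1]
      exact hF.zSc (inv_mem hm.1)
  apply back
  obtain ⟨a', ha'⟩ : ∃ a', a' = m * a * m⁻¹ := ⟨_, rfl⟩
  obtain ⟨y', hy'e⟩ : ∃ y', y' = m * y * m⁻¹ := ⟨_, rfl⟩
  rw [← ha', ← hy'e] at e1
  rw [← ha'] at hma ⊢
  rw [← hy'e] at hy'
  rcases hmw with h1 | h1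
  · rw [h1] at e1
    exact good_v h hy' hma e1
  · rw [h1] at e1
    obtain ⟨u, hu, hyu⟩ := hF.Qf hy'
    -- `y' v y'⁻¹ = v c`
    have hvuA : v * u * v⁻¹ ∈ U := mem_norm (hF.SnU h.vS) hu
    have e2 : y' * v * y'⁻¹ = v * ((v⁻¹ * u * v) * a') := by
      have e3 : y' * (f * v) * y'⁻¹ = (y' * f * y'⁻¹) * (y' * v * y'⁻¹) := by group
      rw [e3, hyu] at e1
      -- `f u · X = f v a'`
      have e4 : u * (y' * v * y'⁻¹) = v * a' := by
        have : f * (u * (y' * v * y'⁻¹)) = f * (v * a') := by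
          rw [← mul_assoc]; rw [e1]; group
        exact mul_left_cancel this
      have e5 : y' * v * y'⁻¹ = u * (v * a') := by
        rw [← e4, ← mul_assoc, hF.sqA (hF.UA hu), one_mul]
      rw [e5]; group
    have hvuU : v⁻¹ * u * v ∈ U := mem_norm' (hF.SnU h.vS) hu
    have h3 := good_v h hy' (mul_mem (hF.UA hvuU) hma) e2
    -- so `a' ∈ U`
    have ha'U : a' ∈ U := by
      have h4 : (v⁻¹ * u * v) * a' ∈ U := by
        rcases h3 with h4 | h4
        · rw [h4]; exact one_mem _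
        · rw [h4]; exact hF.zU
      have h5 : a' = (v⁻¹ * u * v)⁻¹ * ((v⁻¹ * u * v) * a') := by group
      rw [h5]; exact mul_mem (inv_mem hvuU) h4
    -- `a'` commutes with `f v`
    have h6 : (f * v * a') * (f * v * a') = 1 := by
      rw [← e1]
      calc y' * (f * v) * y'⁻¹ * (y' * (f * v) * y'⁻¹) = y' * (f * v * (f * v)) * y'⁻¹ := by group
        _ = y' * (f * (v * f) * v) * y'⁻¹ := by group
        _ = y' * (f * (f * v) * v) * y'⁻¹ := by rw [h.vf]
        _ = y' * ((f * f) * (v * v)) * y'⁻¹ := by group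
        _ = 1 := by rw [hF.f2, h.v2]; group
    have h7 : v * a' = a' * v := by
      have h8 : (f * v * a')⁻¹ = f * v * a' := inv_eq_of_mul_eq_one_left h6
      have h9 : (f * v * a')⁻¹ = a'⁻¹ * v⁻¹ * f⁻¹ := by group
      rw [h9, hF.invA hma, h.vi, hF.fi] at h8
      have h10 : f * (v * a') = f * (a' * v) := by
        calc f * (v * a') = f * v * a' := by group
          _ = a' * v * f := h8.symm
          _ = a' * (f * v) := by rw [mul_assoc, h.vf]
          _ = f * (a' * v) := by rw [← mul_assoc, hF.commA hma hF.fA]; group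
      exact mul_left_cancel h10
    exact h.cU ha'U h7

/-- **[B]**, unconditional: no involution `b ∈ Q` with `b f b⁻¹ = f z` commutes with `v`. -/
theorem no_comm' [Finite G] (h : Fv S A U z f x v g) (R : Eone.Root S A U z x v t)
    (hx3 : ∀ q ∈ QQ S U, x ^ 3 * q = q * x ^ 3) {b : G} (hb : b ∈ QQ S U) (hbb : b * b = 1)
    (hbf : b * f * b⁻¹ = f * z) (hvb : v * b = b * v) : False := by
  refine no_comm h R hx3 hb hbb hbf hvb ?_
  intro y hy k hk hyk
  refine good h (w := v * b) (mul_mem h.vS hb.1) ?_ ?_ hy hk hyk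
  · intro h1
    apply h.v_notin_Q
    have h2 : v = (v * b) * b⁻¹ := by group
    rw [h2]
    exact mul_mem h1 (inv_mem hb)
  · calc v * b * (v * b) = v * (b * v) * b := by group
      _ = v * (v * b) * b := by rw [hvb]
      _ = (v * v) * (b * b) := by group
      _ = 1 := by rw [h.v2, hbb, one_mul]

end Cfsg.Agent.RankThreeFus.AFive
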