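import Mathlib
import Cfsg.Agent.Lib.EssentialFusion

/-!
# S1730 (B8*): the maximal choice

Let `U ≤ S` be normalised by `N_G(S)`, contained in every essential subgroup, and not strongly closed
elementwise.  Choose `P ≤ S` of maximal order with `U ≤ P` and `N_G(P) ≰ N_G(U)`.  Then some such `P` is
essential, and every conjugation between subgroups of `S` of order larger than `|P|` which contain `U`
normalises `U`.
-/

set_option autoImplicit false

namespace Cfsg.Agent.RankThreeFus.Choice

open Subgroup Cfsg.Agent.Lib.GoldschmidtFusion Cfsg.Agent.Lib.EssentialFusion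

variable {G : Type*} [Group G] [Finite G] {p : ℕ} [hp : Fact p.Prime]

/-- `P` is a maximal choice for `U`. -/
structure Max (S : Sylow p G) (U P : Subgroup G) : Prop where
  ess : Ess S P
  le : U ≤ P
  not : ¬ normalizer (P : Set G) ≤ normalizer (U : Set G)
  max : ∀ R : Subgroup G, R ≤ S → U ≤ R → Nat.card P < Nat.card R →
    normalizer (R : Set G) ≤ normalizer (U : Set G)

omit [Finite G] hp in
/-- Control by normalizers of large subgroups. -/
theorem control_gen {S : Subgroup G} {U : Subgroup G} {n : ℕ}
    (max : ∀ R : Subgroup G, R ≤ S → U ≤ R → n < Nat.card R → normalizer (R : Set G) ≤ normalizer (U : Set G))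
    {F : Subgroup G → Prop} {A : Subgroup G} {g : G} (h : Gen S F A g) (hc : ∀ X Y : Subgroup G, X ≤ Y →
      Nat.card X ≤ Nat.card Y) : U ≤ A → n < Nat.card A → g ∈ normalizer (U : Set G) := by
  induction h with
  | cent hA hc' =>
    intro hU _
    exact centralizer_le_normalizer _ (centralizer_le (by exact_mod_cast hU) hc')
  | base hX _ hAX hg =>
    intro hU hn
    exact max _ hX (hU.trans hAX) (lt_of_lt_of_le hn (hc _ _ hAX)) hg
  | @mul A g h _ _ ih1 ih2 =>
    intro hU hn
    have h1 := ih1 hU hn
    refine mul_mem (ih2 ?_ ?_) h1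
    · have := map_conj_mono hU g
      rw [mem_normalizer_iff_map_conj.1 h1] at this
      exact this
    · rw [card_map_conj]; exact hn

theorem control {S : Sylow p G} {U : Subgroup G} {n : ℕ}
    (max : ∀ R : Subgroup G, R ≤ S → U ≤ R → n < Nat.card R → normalizer (R : Set G) ≤ normalizer (U : Set G))
    {A : Subgroup G} {g : G} (hA : A ≤ S) (hg : A.map (MulAut.conj g).toMonoidHom ≤ S) (hU : U ≤ A)
    (hn : n < Nat.card A) : g ∈ normalizer (U : Set G) :=
  control_gen (S := (S : Subgroup G)) max
    (gen_of_conj_ess S (fun _ => True) trivial (fun _ _ => trivial) hA hg)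
    (fun _ _ h => card_le_card h) hU hn

/-- **The maximal choice.** -/
theorem exists_max (S : Sylow p G) {U : Subgroup G}
    (hSN : normalizer ((S : Subgroup G) : Set G) ≤ normalizer (U : Set G))
    {X₀ : Subgroup G} (hX₀ : X₀ ≤ S) (hU₀ : U ≤ X₀)
    (hN₀ : ¬ normalizer (X₀ : Set G) ≤ normalizer (U : Set G)) :
    ∃ P : Subgroup G, Max S U P := by
  classical
  -- choose `X` of maximal order
  have hfin : Set.Finite {X : Subgroup G | X ≤ S ∧ U ≤ X ∧ ¬ normalizer (X : Set G) ≤ normalizer (U : Set G)} :=
    Set.toFinite _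
  obtain ⟨X, ⟨hXS, hUX, hNX⟩, hmax⟩ := Set.exists_max_image
    {X : Subgroup G | X ≤ S ∧ U ≤ X ∧ ¬ normalizer (X : Set G) ≤ normalizer (U : Set G)}
    (fun X => Nat.card X) hfin ⟨X₀, hX₀, hU₀, hN₀⟩
  have max : ∀ R : Subgroup G, R ≤ S → U ≤ R → Nat.card X < Nat.card R →
      normalizer (R : Set G) ≤ normalizer (U : Set G) := by
    intro R hR hUR hc
    by_contra h
    have := hmax R ⟨hR, hUR, h⟩
    omega
  have hXne : X < (S : Subgroup G) := by
    refine lt_of_le_of_ne hXS ?_
    rintro rfl
    exact hNX hSN
  -- make it fully normalised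
  obtain ⟨R, hSR, hRN, hR, hRi⟩ := exists_sylow_in (p := p)
    (N := normalizer (X : Set G)) (D := (S : Subgroup G) ⊓ normalizer (X : Set G)) inf_le_right
    (S.isPGroup'.to_le inf_le_left)
  obtain ⟨k, -, hk⟩ := exists_conj_le_in (p := p) (N := ⊤) (R := (S : Subgroup G)) (D := R) S.isPGroup'
    (by rw [relIndex_top_right]; exact S.not_dvd_index) le_top hR
  have hlt : X < (S : Subgroup G) ⊓ normalizer (X : Set G) := lt_inf_normalizer S.isPGroup' hXne
  have hkU : k ∈ normalizer (U : Set G) := by
    refine control (S := S) max (A := (S : Subgroup G) ⊓ normalizer (X : Set G)) inf_le_left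
      ((map_conj_mono hSR k).trans hk) (hUX.trans hlt.le) ?_
    exact Set.Finite.card_lt_card (Set.toFinite _) hlt
  set P : Subgroup G := X.map (MulAut.conj k).toMonoidHom with hP
  have hcard : Nat.card P = Nat.card X := card_map_conj _ _
  have hPS : P ≤ S := (map_conj_mono (hlt.le.trans hSR) k).trans hk
  have hUP : U ≤ P := by
    have := map_conj_mono hUX k
    rwa [mem_normalizer_iff_map_conj.1 hkU] at this
  have hNP : normalizer (P : Set G) = (normalizer (X : Set G)).map (MulAut.conj k).toMonoidHom := by
    ext g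
    rw [mem_map_conj, mem_normalizer_iff_map_conj, mem_normalizer_iff_map_conj, hP, map_conj_map_conj]
    constructor
    · intro h
      have h2 := congrArg (fun Z : Subgroup G => Z.map (MulAut.conj k⁻¹).toMonoidHom) h
      simp only [map_conj_map_conj, inv_mul_cancel, map_conj_one] at h2
      rw [← h2]
      congr 1
      congr 1
      group
    · intro h
      have h2 := congrArg (fun Z : Subgroup G => Z.map (MulAut.conj k).toMonoidHom) h
      simp only [map_conj_map_conj] at h2
      rw [← h2]
      congr 1
      congr 1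
      group
  have hnot : ¬ normalizer (P : Set G) ≤ normalizer (U : Set G) := by
    intro h
    apply hNX
    intro g hg
    have h1 : k * g * k⁻¹ ∈ normalizer (P : Set G) := by
      rw [hNP, mem_map_conj]
      have : k⁻¹ * (k * g * k⁻¹) * k = g := by group
      rwa [this]
    have h2 := mul_mem (mul_mem (inv_mem hkU) (h h1)) hkU
    have : k⁻¹ * (k * g * k⁻¹) * k = g := by group
    rwa [this] at h2
  have hPlt : P < (S : Subgroup G) := by
    refine lt_of_le_of_ne hPS ?_
    intro h
    rw [h] at hnot
    exact hnot hSN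
  have maxP : ∀ R : Subgroup G, R ≤ S → U ≤ R → Nat.card P < Nat.card R →
      normalizer (R : Set G) ≤ normalizer (U : Set G) := by
    rw [hcard]; exact max
  have hfull : ¬ p ∣ ((S : Subgroup G) ⊓ normalizer (P : Set G)).relIndex (normalizer (P : Set G)) := by
    have hle : R.map (MulAut.conj k).toMonoidHom ≤ (S : Subgroup G) ⊓ normalizer (P : Set G) := by
      refine le_inf hk ?_
      rw [hNP]
      exact map_conj_mono hRN k
    have h1 : (R.map (MulAut.conj k).toMonoidHom).relIndex (normalizer (P : Set G)) =
        R.relIndex (normalizer (X : Set G)) := by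
      rw [hNP]
      exact relIndex_map_map_of_injective _ _ (MulAut.conj k).injective
    intro h
    apply hRi
    rw [← h1]
    exact h.trans (relIndex_dvd_of_le_left _ hle)
  -- centric
  have hcen : centralizer (P : Set G) ⊓ S ≤ P := by
    by_contra hne
    apply hnot
    set C : Subgroup G := centralizer (P : Set G) with hC
    set N : Subgroup G := normalizer (P : Set G) with hN
    have hCN : C ≤ N := centralizer_le_normalizer _
    -- `S ∩ C` is Sylow in `C`
    have hSC : ¬ p ∣ (C ⊓ S).relIndex C := by
      obtain ⟨R', hR'1, hR'2, hR'3, hR'4⟩ := exists_sylow_in (p := p) (N := C) (D := C ⊓ (S : Subgroup G))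
        inf_le_left (S.isPGroup'.to_le inf_le_right)
      obtain ⟨m, hm, hm'⟩ := exists_conj_le_in (p := p) (N := N) (R := (S : Subgroup G) ⊓ N) (D := R')
        (S.isPGroup'.to_le inf_le_left) hfull (hR'2.trans hCN) hR'3
      have hCm : C.map (MulAut.conj m).toMonoidHom = C := by
        ext x
        rw [mem_map_conj, hC, ← mem_centralizer_map_conj, mem_normalizer_iff_map_conj.1 hm]
      have hle : R'.map (MulAut.conj m).toMonoidHom ≤ C ⊓ S := by
        refine le_inf ?_ (hm'.trans inf_le_left)
        have := map_conj_mono hR'2 m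
        rwa [hCm] at this
      have hcards : Nat.card (C ⊓ (S : Subgroup G) : Subgroup G) = Nat.card R' :=
        le_antisymm (card_le_card hR'1) (by
          have := card_le_card hle
          rwa [card_map_conj] at this)
      have heq : C ⊓ (S : Subgroup G) = R' :=
        Subgroup.eq_of_le_of_card_ge hR'1 (by rw [hcards])
      rw [heq]; exact hR'4
    set R' : Subgroup G := P ⊔ (C ⊓ S) with hR'
    have hR'S : R' ≤ S := sup_le hPS inf_le_right
    have hPR' : P < R' := by
      refine lt_of_le_of_ne le_sup_left ?_
      intro h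
      apply hne
      rw [h]
      exact le_sup_right
    intro g hg
    -- Frattini
    have hCg : (C ⊓ (S : Subgroup G)).map (MulAut.conj g).toMonoidHom ≤ C := by
      have hCm : C.map (MulAut.conj g).toMonoidHom = C := by
        ext x
        rw [mem_map_conj, hC, ← mem_centralizer_map_conj, mem_normalizer_iff_map_conj.1 hg]
      have := map_conj_mono (inf_le_left : C ⊓ (S : Subgroup G) ≤ C) g
      rwa [hCm] at this
    obtain ⟨c, hc, hc'⟩ := exists_conj_le_in (p := p) (N := C) (R := C ⊓ (S : Subgroup G))
      (S.isPGroup'.to_le inf_le_right) hSC hCg ((S.isPGroup'.to_le inf_le_right).map _)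
    rw [map_conj_map_conj] at hc'
    have hcg : c * g ∈ normalizer (R' : Set G) := by
      rw [mem_normalizer_iff_map_conj, hR', Subgroup.map_sup]
      have h1 : P.map (MulAut.conj (c * g)).toMonoidHom = P :=
        mem_normalizer_iff_map_conj.1 (mul_mem (hCN hc) hg)
      have h2 : (C ⊓ (S : Subgroup G)).map (MulAut.conj (c * g)).toMonoidHom = C ⊓ S :=
        Subgroup.eq_of_le_of_card_ge hc' (by rw [card_map_conj])
      rw [h1, h2]
    have h3 : c * g ∈ normalizer (U : Set G) :=
      maxP R' hR'S (hUP.trans hPR'.le) (Set.Finite.card_lt_card (Set.toFinite _) hPR') hcg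
    have h4 : c ∈ normalizer (U : Set G) :=
      centralizer_le_normalizer _ (centralizer_le (by exact_mod_cast hUP) hc)
    have : g = c⁻¹ * (c * g) := by group
    rw [this]
    exact mul_mem (inv_mem h4) h3
  refine ⟨P, ess_of_moved_ne S hPlt hfull hcen ?_, hUP, hnot, maxP⟩
  intro h
  apply hnot
  rw [← h]
  refine sup_le ?_ ?_
  · exact (centralizer_le (by exact_mod_cast hUP)).trans (centralizer_le_normalizer _)
  · rw [closure_le]
    rintro n ⟨-, R₁, hR₁, hR₁S, hR₁n⟩
    exact control (S := S) maxP hR₁S hR₁n (hUP.trans hR₁.le) (Set.Finite.card_lt_card (Set.toFinite _) hR₁)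

/-- Existence from the failure of strong closure, when every essential subgroup contains `U`. -/
theorem exists_max_of_not_closed (S : Sylow p G) {U : Subgroup G} (hUS : U ≤ S)
    (hSN : normalizer ((S : Subgroup G) : Set G) ≤ normalizer (U : Set G))
    (hess : ∀ F : Subgroup G, Ess S F → U ≤ F)
    {u g : G} (hu : u ∈ U) (hg : g * u * g⁻¹ ∈ (S : Subgroup G)) (hgU : g * u * g⁻¹ ∉ U) :
    ∃ P : Subgroup G, Max S U P := by
  by_contra hno
  have key : ∀ F : Subgroup G, Ess S F → normalizer (F : Set G) ≤ normalizer (U : Set G) := by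
    intro F hF
    by_contra h
    exact hno (exists_max S hSN hF.lt.le (hess F hF) h)
  have hgen := gen_of_conj_ess S (fun F => F = S ∨ Ess S F) (Or.inl rfl) (fun _ h => Or.inr h)
    (A := zpowers u) (g := g) (by rw [zpowers_le]; exact hUS hu) (zpowers_map_conj_le hg)
  have := hgen.invariant (fun x => x ∈ U) (by
    intro F _ hF n hn x _
    have hn' : n ∈ normalizer (U : Set G) := by
      rcases hF with rfl | hF
      · exact hSN hn
      · exact key F hF hn
    simp only [eq_iff_iff]
    exact ((mem_normalizer_iff.1 hn') x).symm) u (mem_zpowers u)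
  simp only [eq_iff_iff] at this
  exact hgU (this.2 hu)

end Cfsg.Agent.RankThreeFus.Choice
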