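import Cfsg.Agent.RankThreeFus.Frame
import Cfsg.Agent.RankThreeFus.Choice

/-!
# S1730, (B8*), CASE II: the points

`Cfsg.Agent.RankThreeFus.CTwo`: `P` is a maximal choice (`Choice.Max`), `A ≤ P`, `N_G(P) ≤ C_G(z)`, and any two
`N_G(P)`-conjugates of `A` (*points*) have an intersection of order at least 4.  Then all these intersections are
one subgroup `X` of order 4, normal in `N_G(P)`, `X ≠ U`; distinct points do not commute.
-/

set_option autoImplicit false
set_option linter.style.haveILetI false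

namespace Cfsg.Agent.RankThreeFus.CTwo

open Subgroup Cfsg.Agent.Lib.GoldschmidtFusion Cfsg.Agent.Lib.EssentialFusion Cfsg.Agent.StdL2.G23Aut
  Cfsg.Agent.RankThreeFus

variable {G : Type*} [Group G]

theorem cj_inf (m : G) (H K : Subgroup G) : cj m (H ⊓ K) = cj m H ⊓ cj m K := by
  ext y
  rw [mem_inf, mem_cj, mem_cj, mem_cj, mem_inf]

/-! ### Subgroups of order 4 -/

section Four

variable [Finite G]

theorem card_inf {E E' : Subgroup G} (hE : Oct E) (hE' : Oct E') (hne : E ≠ E')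
    (h4 : 4 ≤ Nat.card (E ⊓ E' : Subgroup G)) : Nat.card (E ⊓ E' : Subgroup G) = 4 := by
  have h1 : Nat.card (E ⊓ E' : Subgroup G) ∣ Nat.card E := card_dvd_of_le inf_le_left
  rw [hE.card] at h1
  have h2 : Nat.card (E ⊓ E' : Subgroup G) ≠ 8 := by
    intro h8
    have h3 : E ⊓ E' = E := Subgroup.eq_of_le_of_card_ge inf_le_left (by rw [h8, hE.card])
    exact hne (Oct.eq_of_le hE hE' (inf_eq_left.1 h3))
  have h3 : Nat.card (E ⊓ E' : Subgroup G) ∈ Nat.divisors 8 := Nat.mem_divisors.2 ⟨h1, by norm_num⟩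
  have h5 : Nat.divisors 8 = {1, 2, 4, 8} := by decide
  rw [h5] at h3
  simp only [Finset.mem_insert, Finset.mem_singleton] at h3
  omega

theorem exists_of_two {E H K : Subgroup G} (hE : Oct E) (hHE : H ≤ E) (hKE : K ≤ E) (hH : Nat.card H = 4)
    (hK : Nat.card K = 4) (hne : H ≠ K) {e : G} (he : e ∈ E) : ∃ a ∈ H, ∃ b ∈ K, e = a * b := by
  by_cases heH : e ∈ H
  · exact ⟨e, heH, 1, K.one_mem, (mul_one e).symm⟩
  · obtain ⟨k, hkK, hkH⟩ : ∃ k ∈ K, k ∉ H := by
      by_contra hno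
      push Not at hno
      exact hne (Subgroup.eq_of_le_of_card_ge (show K ≤ H from hno) (by rw [hH, hK])).symm
    refine ⟨e * k, mul_mem_of_index_two hHE (by rw [hE.card, hH]) he (hKE hkK) heH hkH, k, hkK, ?_⟩
    rw [mul_assoc, hE.sq k (hKE hkK), mul_one]

/-- Three distinct points which pairwise meet in at least 4 elements have a common intersection. -/
theorem inf_eq {E₁ E₂ E₃ : Subgroup G} (h1 : Oct E₁) (h2 : Oct E₂) (h3 : Oct E₃) (h12 : E₁ ≠ E₂) (h13 : E₁ ≠ E₃)
    (h23 : E₂ ≠ E₃) (c12 : 4 ≤ Nat.card (E₁ ⊓ E₂ : Subgroup G)) (c13 : 4 ≤ Nat.card (E₁ ⊓ E₃ : Subgroup G))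
    (c23 : 4 ≤ Nat.card (E₂ ⊓ E₃ : Subgroup G)) (hnc : ¬ ∀ x ∈ E₁, ∀ y ∈ E₂, x * y = y * x) :
    E₁ ⊓ E₂ = E₁ ⊓ E₃ := by
  by_contra hne
  apply hnc
  have d12 := card_inf h1 h2 h12 c12
  have d13 := card_inf h1 h3 h13 c13
  have d23 := card_inf h2 h3 h23 c23
  have hne' : E₁ ⊓ E₂ ≠ E₂ ⊓ E₃ := by
    intro he
    apply hne
    refine Subgroup.eq_of_le_of_card_ge (le_inf inf_le_left ?_) (by rw [d12, d13])
    rw [he]; exact inf_le_right
  intro x hx y hy
  obtain ⟨a, ha, b, hb, rfl⟩ := exists_of_two h1 (inf_le_left) (inf_le_left) d12 d13 hne hx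
  obtain ⟨c, hc, d, hd, rfl⟩ := exists_of_two h2 (inf_le_right) (inf_le_left) d12 d23 hne' hy
  have e1 : a * b = b * a := h1.comm ha.1 hb.1
  have e2 : a * c = c * a := h1.comm ha.1 hc.1
  have e3 : a * d = d * a := h2.comm ha.2 hd.1
  have e4 : b * c = c * b := h1.comm hb.1 hc.1
  have e5 : b * d = d * b := h3.comm hb.2 hd.2
  calc a * b * (c * d) = a * (b * c) * d := by group
    _ = (a * c) * (b * d) := by rw [e4]; group
    _ = c * (a * d) * b := by rw [e2, e5]; group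
    _ = c * d * (a * b) := by rw [e3]; group

/-- The elements of a group of order 4 with two given involutions. -/
theorem four_cases {X : Subgroup G} (hX : Nat.card X = 4) (hsq : ∀ x ∈ X, x * x = 1) {z f : G} (hz : z ∈ X)
    (hf : f ∈ X) (hz1 : z ≠ 1) (hf1 : f ≠ 1) (hzf : f ≠ z) {x : G} (hx : x ∈ X) :
    x = 1 ∨ x = z ∨ x = f ∨ x = f * z := by
  classical
  have hfz1 : f * z ≠ 1 := by
    intro h
    apply hzf
    calc f = f * (z * z) := by rw [hsq z hz, mul_one]
      _ = (f * z) * z := by group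
      _ = z := by rw [h, one_mul]
  let T : Finset G := {1, z, f, f * z}
  have hT : T.card = 4 := by
    have n1 : (1 : G) ∉ ({z, f, f * z} : Finset G) := by
      simp only [Finset.mem_insert, Finset.mem_singleton, not_or]
      exact ⟨hz1.symm, hf1.symm, hfz1.symm⟩
    have n2 : z ∉ ({f, f * z} : Finset G) := by
      simp only [Finset.mem_insert, Finset.mem_singleton, not_or]
      refine ⟨hzf.symm, fun h => hf1 ?_⟩
      have : f * z = 1 * z := by rw [one_mul]; exact h.symm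
      exact mul_right_cancel this
    have n3 : f ∉ ({f * z} : Finset G) := by
      simp only [Finset.mem_singleton]
      intro h
      apply hz1
      have : f * 1 = f * z := by rw [mul_one]; exact h
      exact (mul_left_cancel this).symm
    rw [Finset.card_insert_of_notMem n1, Finset.card_insert_of_notMem n2, Finset.card_insert_of_notMem n3,
      Finset.card_singleton]
  have hsub : (T : Set G) ⊆ (X : Set G) := by
    intro y hy
    simp only [T, Finset.coe_insert, Finset.coe_singleton, Set.mem_insert_iff, Set.mem_singleton_iff] at hy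
    rcases hy with rfl | rfl | rfl | rfl
    · exact X.one_mem
    · exact hz
    · exact hf
    · exact mul_mem hf hz
  have hcard : (X : Set G).ncard = 4 := by
    rw [← Nat.card_coe_set_eq]
    exact hX
  have heq : (T : Set G) = (X : Set G) := by
    refine Set.eq_of_subset_of_ncard_le hsub ?_ (Set.toFinite _)
    rw [hcard, Set.ncard_coe_finset, hT]
  have : x ∈ (T : Set G) := by rw [heq]; exact hx
  simpa [T] using this

end Four

/-! ### The situation -/

/-- The data on the normal subgroup `Y` of order 32 used below. -/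
structure YH (S : Sylow 2 G) (A U : Subgroup G) (z x s : G) (Y : Subgroup G) (t : G) : Prop where
  AY : A ≤ Y
  YT : Y ≤ TT S A
  comm : ∀ a ∈ Y, ∀ b ∈ Y, a * b = b * a
  nS : (S : Subgroup G) ≤ normalizer (Y : Set G)
  nx : x ∈ normalizer (Y : Set G)
  QY : ∀ q ∈ (S : Subgroup G) ⊓ centralizer (U : Set G), ∀ y ∈ Y, q * y * q⁻¹ * y⁻¹ ∈ A
  tY : t ∈ Y
  tt : t * t = z
  ttt : t * (x * t * x⁻¹) * (x * x * t * (x * x)⁻¹) = 1
  x3 : ∀ y ∈ Y, x * x * x * y = y * (x * x * x)
  st : s * t * s⁻¹ * t⁻¹ ∈ A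

/-- CASE II of (B8*). -/
structure Two (S : Sylow 2 G) (A U : Subgroup G) (z f x s : G) (Y : Subgroup G) (t : G) (P : Subgroup G) :
    Prop where
  fr : Fr S A U z f x s
  yh : YH S A U z x s Y t
  max : Choice.Max S U P
  AP : A ≤ P
  Lz : ∀ l ∈ normalizer (P : Set G), l * z = z * l
  four : ∀ l ∈ normalizer (P : Set G), 4 ≤ Nat.card (A ⊓ cj l A : Subgroup G)

/-- `E` is a point. -/
def Pt (A P E : Subgroup G) : Prop := ∃ l ∈ normalizer (P : Set G), E = cj l A

namespace Two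

variable {S : Sylow 2 G} {A U : Subgroup G} {z f x s : G} {Y : Subgroup G} {t : G} {P : Subgroup G}

theorem ptA (A P : Subgroup G) : Pt A P A := ⟨1, one_mem _, (cj_one A).symm⟩

theorem pt_cj {E : Subgroup G} (hE : Pt A P E) {l : G} (hl : l ∈ normalizer (P : Set G)) :
    Pt A P (cj l E) := by
  obtain ⟨m, hm, rfl⟩ := hE
  exact ⟨l * m, mul_mem hl hm, by rw [cj_cj]⟩

section NotFin

variable (h : Two S A U z f x s Y t P)

include h

theorem PS : P ≤ S := h.max.ess.lt.le

theorem pt_oct {E : Subgroup G} (hE : Pt A P E) : Oct E := by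
  obtain ⟨m, hm, rfl⟩ := hE
  exact RankThreeFus.Oct.cj h.fr.hyp.oct m

theorem pt_le {E : Subgroup G} (hE : Pt A P E) : E ≤ P := by
  obtain ⟨m, hm, rfl⟩ := hE
  have := map_conj_mono h.AP m
  rwa [mem_normalizer_iff_map_conj.1 hm] at this

theorem pt_norm {E : Subgroup G} (hE : Pt A P E) : P ≤ normalizer (E : Set G) := by
  obtain ⟨m, hm, rfl⟩ := hE
  intro p hp
  have h1 : m⁻¹ * p * m ∈ P := mem_norm' hm hp
  have h2 := h.fr.hyp.norm (h.PS h1)
  rw [← cj_eq_iff, cj_cj]
  rw [← cj_eq_iff] at h2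
  have h3 : p * m = m * (m⁻¹ * p * m) := by group
  rw [h3, ← cj_cj, h2]

theorem inf4 {E E' : Subgroup G} (hE : Pt A P E) (hE' : Pt A P E') : 4 ≤ Nat.card (E ⊓ E' : Subgroup G) := by
  obtain ⟨m, hm, rfl⟩ := hE
  obtain ⟨m', hm', rfl⟩ := hE'
  have h1 := h.four (m⁻¹ * m') (mul_mem (inv_mem hm) hm')
  have h2 : cj m A ⊓ cj m' A = cj m (A ⊓ cj (m⁻¹ * m') A) := by
    rw [cj_inf, cj_cj, mul_inv_cancel_left]
  rw [h2, card_cj]
  exact h1

theorem noncomm [Finite G] {E E' : Subgroup G} (hE : Pt A P E) (hE' : Pt A P E') (hne : E ≠ E') :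
    ¬ ∀ x ∈ E, ∀ y ∈ E', x * y = y * x :=
  fun hc => hne (Oct.eq_of_comm h.fr.hyp.rank (h.pt_oct hE) (h.pt_oct hE') hc)

theorem zA : z ∈ A := h.fr.UA h.fr.zU

theorem pt_z {E : Subgroup G} (hE : Pt A P E) : z ∈ E := by
  obtain ⟨m, hm, rfl⟩ := hE
  rw [mem_cj]
  have : m⁻¹ * z * m = z := by
    rw [mul_assoc, ← h.Lz m hm, inv_mul_cancel_left]
  rw [this]
  exact h.zA

theorem zz : z * z = 1 := h.fr.sqA h.zA

theorem AU : (normalizer (A : Set G)) ≤ normalizer (U : Set G) := h.fr.nU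

end NotFin

end Two

/-- CASE II with the common intersection `X` of the points. -/
structure TwoX (S : Sylow 2 G) (A U : Subgroup G) (z f x s : G) (Y : Subgroup G) (t : G) (P X : Subgroup G) :
    Prop where
  two : Two S A U z f x s Y t P
  XA : X ≤ A
  cardX : Nat.card X = 4
  XU : X ≠ U
  zX : z ∈ X
  NX : normalizer (P : Set G) ≤ normalizer (X : Set G)
  int : ∀ E E' : Subgroup G, Pt A P E → Pt A P E' → E ≠ E' → E ⊓ E' = X
  ex : ∃ E : Subgroup G, Pt A P E ∧ E ≠ A

theorem Two.exists_X [Finite G] {S : Sylow 2 G} {A U : Subgroup G} {z f x s : G} {Y : Subgroup G} {t : G}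
    {P : Subgroup G} (h : Two S A U z f x s Y t P) : ∃ X : Subgroup G, TwoX S A U z f x s Y t P X := by
  obtain ⟨l, hl, hlU⟩ := SetLike.not_le_iff_exists.1 h.max.not
  have hlA : cj l A ≠ A := fun he => hlU (h.fr.nU (cj_eq_iff.1 he))
  have hEl : Pt A P (cj l A) := ⟨l, hl, rfl⟩
  have hA := Two.ptA A P
  -- the common intersection
  have key : ∀ E E' : Subgroup G, Pt A P E → Pt A P E' → E ≠ E' → E ⊓ E' = A ⊓ cj l A := by
    have three : ∀ E₁ E₂ E₃ : Subgroup G, Pt A P E₁ → Pt A P E₂ → Pt A P E₃ → E₁ ≠ E₂ → E₁ ≠ E₃ → E₂ ≠ E₃ →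
        E₁ ⊓ E₂ = E₁ ⊓ E₃ := fun E₁ E₂ E₃ h1 h2 h3 h12 h13 h23 =>
      inf_eq (h.pt_oct h1) (h.pt_oct h2) (h.pt_oct h3) h12 h13 h23 (h.inf4 h1 h2) (h.inf4 h1 h3) (h.inf4 h2 h3)
        (h.noncomm h1 h2 h12)
    have one : ∀ E : Subgroup G, Pt A P E → E ≠ A → A ⊓ E = A ⊓ cj l A := by
      intro E hE hEA
      by_cases he : E = cj l A
      · rw [he]
      · exact three A E (cj l A) hA hE hEl hEA.symm hlA.symm he
    intro E E' hE hE' hne
    by_cases h1 : E = A
    · subst h1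
      exact one E' hE' hne.symm
    · by_cases h2 : E' = A
      · subst h2
        rw [inf_comm]
        exact one E hE hne
      · rw [three E E' A hE hE' hA hne h1 h2, inf_comm]
        exact one E hE h1
  have hcard : Nat.card (A ⊓ cj l A : Subgroup G) = 4 :=
    card_inf h.fr.hyp.oct (h.pt_oct hEl) hlA.symm (h.inf4 hA hEl)
  have hN : normalizer (P : Set G) ≤ normalizer ((A ⊓ cj l A : Subgroup G) : Set G) := by
    intro m hm
    rw [← cj_eq_iff, cj_inf]
    refine key _ _ (Two.pt_cj hA hm) (Two.pt_cj hEl hm) ?_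
    intro he
    apply hlA
    have := congrArg (fun Z : Subgroup G => cj m⁻¹ Z) he
    simp only [cj_cj, inv_mul_cancel, cj_one, inv_mul_cancel_left] at this
    exact this.symm
  refine ⟨A ⊓ cj l A, h, inf_le_left, hcard, ?_, ⟨h.zA, h.pt_z hEl⟩, hN, key, ⟨cj l A, hEl, hlA⟩⟩
  intro he
  exact h.max.not (by rw [← he]; exact hN)

end Cfsg.Agent.RankThreeFus.CTwo
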