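import Cfsg.Agent.RankThreeFus.CTwoFv
import Cfsg.Agent.RankThreeFus.Eone

/-!
# S1730, type (a5): a square root of `z` in `Y₀` fixed by `v`
-/

set_option autoImplicit false
set_option linter.style.haveILetI false

namespace Cfsg.Agent.RankThreeFus.VRoot

open Subgroup Cfsg.Agent.Lib.GoldschmidtFusion Cfsg.Agent.StdL2.G23Aut Cfsg.Agent.RankThreeFus

variable {G : Type*} [Group G] {S : Sylow 2 G} {A U : Subgroup G}

/-- The data `YH` give a `Root`. -/
theorem root_of_YH {z f x s : G} {Y : Subgroup G} {t : G} (h : Fr S A U z f x s) [Finite G]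
    (hY : CTwo.YH S A U z x s Y t) : ∃ t', Eone.Root S A U z x s t' := by
  refine Eone.exists_root h (hY.YT hY.tY) hY.tt (fun g hg => hY.QY g hg t hY.tY) hY.st ?_
  have e : t * (x * t * x⁻¹) * (x * (x * t * x⁻¹) * x⁻¹) = t * (x * t * x⁻¹) * (x * x * t * (x * x)⁻¹) := by
    group
  rw [e, hY.ttt]
  exact A.one_mem

/-- A `Root` fixed by the involution `v` inverting `x`. -/
theorem exists_fixed [Finite G] {z f x v g t : G} (h : Fv S A U z f x v g) (R : Eone.Root S A U z x v t) :
    ∃ t', Eone.Root S A U z x v t' ∧ v * t' = t' * v := by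
  have hF := h.toFr
  -- `v x v⁻¹ = x⁻¹`
  have hvx : v * x * v⁻¹ = x⁻¹ := hF.sx
  have hvxi : v * x⁻¹ * v⁻¹ = x := hF.sxi
  set a := v * t * v⁻¹ * t⁻¹ with ha
  have haA : a ∈ A := R.s
  have hvt : v * t * v⁻¹ = a * t := by rw [ha]; group
  set r := x * t * x⁻¹ with hr
  set w := x * r * x⁻¹ with hw
  have hrT : r ∈ TT S A := Eone.Tx hF R.mem
  have hwT : w ∈ TT S A := Eone.Tx hF hrT
  -- `x⁻¹ t x = w`, `x⁻¹ w x = r`
  have h1 : x⁻¹ * t * x = w := by
    have := R.cube
    calc x⁻¹ * t * x = x⁻¹ * (x * (x * (x * t * x⁻¹) * x⁻¹) * x⁻¹) * x := by rw [this]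
      _ = w := by rw [hw, hr]; group
  have h2 : x⁻¹ * w * x = r := by rw [hw]; group
  have hvr : v * r * v⁻¹ = (x⁻¹ * a * x) * w := by
    calc v * r * v⁻¹ = (v * x * v⁻¹) * (v * t * v⁻¹) * (v * x * v⁻¹)⁻¹ := by rw [hr]; group
      _ = x⁻¹ * (a * t) * x := by rw [hvx, hvt]; group
      _ = (x⁻¹ * a * x) * (x⁻¹ * t * x) := by group
      _ = _ := by rw [h1]
  have hvw : v * w * v⁻¹ = (x⁻¹ * (x⁻¹ * a * x) * x) * r := by
    calc v * w * v⁻¹ = (v * x * v⁻¹) * (v * r * v⁻¹) * (v * x * v⁻¹)⁻¹ := by rw [hw]; group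
      _ = x⁻¹ * ((x⁻¹ * a * x) * w) * x := by rw [hvx, hvr]; group
      _ = (x⁻¹ * (x⁻¹ * a * x) * x) * (x⁻¹ * w * x) := by group
      _ = _ := by rw [h2]
  set a₁ := x⁻¹ * a * x with ha₁
  set a₂ := x⁻¹ * a₁ * x with ha₂
  have ha₁A : a₁ ∈ A := mem_norm' hF.xA haA
  have ha₂A : a₂ ∈ A := mem_norm' hF.xA ha₁A
  have hprod : t * r * w = 1 := R.prod
  -- `t w r = 1` too
  have hrw : t * r = r * t := R.comm
  have hwe : w = (t * r)⁻¹ := eq_inv_of_mul_eq_one_right hprod
  have hprod' : t * w * r = 1 := by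
    rw [hwe, hrw]; group
  -- the product of the conjugates by `v`
  have h3 : a * a₁ * a₂ = 1 := by
    have h4 : v * (t * r * w) * v⁻¹ = (v * t * v⁻¹) * (v * r * v⁻¹) * (v * w * v⁻¹) := by group
    rw [hprod, hvt, hvr, hvw] at h4
    have h5 : v * 1 * v⁻¹ = 1 := by group
    rw [h5] at h4
    have c1 : t * a₁ = a₁ * t := (Eone.commT ha₁A R.mem).symm
    have c2 : t * a₂ = a₂ * t := (Eone.commT ha₂A R.mem).symm
    have c3 : w * a₂ = a₂ * w := (Eone.commT ha₂A hwT).symm
    calc a * a₁ * a₂ = a * a₁ * a₂ * (t * w * r) := by rw [hprod', mul_one]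
      _ = a * a₁ * (a₂ * t) * w * r := by group
      _ = a * a₁ * (t * a₂) * w * r := by rw [c2]
      _ = a * (a₁ * t) * (a₂ * w) * r := by group
      _ = a * (t * a₁) * (w * a₂) * r := by rw [c1, c3]
      _ = a * t * (a₁ * w) * (a₂ * r) := by group
      _ = 1 := h4.symm
  -- `a ∈ U`
  have haU : a ∈ U := by
    rcases hF.mem_A haA with h5 | h5
    · exact h5
    · exfalso
      set u := f * a with hu
      have hau : a = f * u := by rw [hu, ← mul_assoc, hF.f2, one_mul]
      have hfx : x⁻¹ * f * x = f := by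
        have h6 : x⁻¹ * f * x = x⁻¹ * (x * f * x⁻¹) * x := by rw [hF.xfc]
        rw [h6]; group
      have hu1 : x⁻¹ * u * x ∈ U := mem_norm' hF.xU h5
      have hu2 : x⁻¹ * (x⁻¹ * u * x) * x ∈ U := mem_norm' hF.xU hu1
      have e1 : a₁ = f * (x⁻¹ * u * x) := by
        rw [ha₁, hau]
        calc x⁻¹ * (f * u) * x = (x⁻¹ * f * x) * (x⁻¹ * u * x) := by group
          _ = _ := by rw [hfx]
      have e2 : a₂ = f * (x⁻¹ * (x⁻¹ * u * x) * x) := by
        rw [ha₂, e1]
        calc x⁻¹ * (f * (x⁻¹ * u * x)) * x = (x⁻¹ * f * x) * (x⁻¹ * (x⁻¹ * u * x) * x) := by group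
          _ = _ := by rw [hfx]
      rw [hau, e1, e2] at h3
      set u₁ := x⁻¹ * u * x
      set u₂ := x⁻¹ * u₁ * x
      have c : f * u₁ = u₁ * f := hF.commA hF.fA (hF.UA hu1)
      have c0 : f * u = u * f := hF.commA hF.fA (hF.UA h5)
      have h6 : f * (u * u₁ * u₂) = 1 := by
        calc f * (u * u₁ * u₂) = (f * u) * u₁ * u₂ := by group
          _ = (f * u) * (f * f) * u₁ * u₂ := by rw [hF.f2, mul_one]
          _ = (f * u) * f * (f * u₁) * u₂ := by group
          _ = (f * u) * f * (u₁ * f) * u₂ := by rw [c]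
          _ = (f * u) * (f * u₁) * (f * u₂) := by group
          _ = 1 := h3
      apply hF.fU
      rw [eq_inv_of_mul_eq_one_left h6]
      exact inv_mem (mul_mem (mul_mem h5 hu1) hu2)
  -- `a ∈ {1, z}`
  have hva : v * a = a * v := by
    have h5 : t = v * (v * t * v⁻¹) * v⁻¹ := by
      have : v * (v * t * v⁻¹) * v⁻¹ = (v * v) * t * (v * v)⁻¹ := by group
      rw [this, h.v2]; group
    have h6 : v * (a * t) * v⁻¹ = (v * a * v⁻¹) * (a * t) := by
      calc v * (a * t) * v⁻¹ = (v * a * v⁻¹) * (v * t * v⁻¹) := by group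
        _ = _ := by rw [hvt]
    rw [hvt, h6] at h5
    have h7 : (v * a * v⁻¹) * a = 1 := by
      have : 1 * t = (v * a * v⁻¹) * a * t := by rw [one_mul]; rw [mul_assoc]; exact h5
      exact (mul_right_cancel this).symm
    have h8 : v * a * v⁻¹ = a := by
      rw [eq_inv_of_mul_eq_one_left h7]
      exact hF.invA haA
    exact conj_eq_iff.1 h8
  rcases h.cU haU hva with h5 | h5
  · refine ⟨t, R, ?_⟩
    rw [h5, one_mul] at hvt
    exact conj_eq_iff.1 hvt
  · -- `t' = t (x z x⁻¹)`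
    have hzx : x * z * x⁻¹ ∈ U := hF.xzU
    set p := x * z * x⁻¹ with hp
    have hxp : x * p * x⁻¹ = z * p := hF.xxz
    have hpA : p ∈ A := hF.UA hzx
    have hpp : p * p = 1 := hF.sqA hpA
    have hzz : z * z = 1 := hF.z2
    have hzp : z * p = p * z := hF.commA hF.zA hpA
    have hzpA : z * p ∈ A := mul_mem hF.zA hpA
    have hxzp : x * (z * p) * x⁻¹ = z := by
      calc x * (z * p) * x⁻¹ = (x * z * x⁻¹) * (x * p * x⁻¹) := by group
        _ = p * (z * p) := by rw [hxp]
        _ = p * (p * z) := by rw [hzp]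
        _ = z := by rw [← mul_assoc, hpp, one_mul]
    have hxir : x⁻¹ * z * x = z * p := by
      have : x⁻¹ * z * x = x⁻¹ * (x * (z * p) * x⁻¹) * x := by rw [hxzp]
      rw [this]; group
    have htp : t * p = p * t := (Eone.commT hpA R.mem).symm
    have hrp : r * (z * p) = (z * p) * r := (Eone.commT hzpA hrT).symm
    have hr' : x * (t * p) * x⁻¹ = r * (z * p) := by
      calc x * (t * p) * x⁻¹ = (x * t * x⁻¹) * (x * p * x⁻¹) := by group
        _ = _ := by rw [hxp]
    have hw' : x * (r * (z * p)) * x⁻¹ = w * z := by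
      calc x * (r * (z * p)) * x⁻¹ = (x * r * x⁻¹) * (x * (z * p) * x⁻¹) := by group
        _ = _ := by rw [hxzp]
    refine ⟨t * p, ?_, ?_⟩
    · refine { mem := mul_mem R.mem (hF.A_le_T hpA), sq := ?_, Q := ?_, s := ?_, prod := ?_, cube := ?_, comm := ?_ }
      · calc t * p * (t * p) = t * (p * t) * p := by group
          _ = t * (t * p) * p := by rw [htp]
          _ = (t * t) * (p * p) := by group
          _ = z := by rw [R.sq, hpp, mul_one]
      · intro q hq
        have e : q * (t * p) * q⁻¹ * (t * p)⁻¹ = (q * t * q⁻¹ * t⁻¹) * (t * (q * p * q⁻¹ * p⁻¹) * t⁻¹) := by group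
        have h6 : q * p * q⁻¹ = p := conj_eq_iff.2 (mem_cent_iff.1 hq.2 p hzx)
        rw [e, h6]
        have h7 : t * (p * p⁻¹) * t⁻¹ = 1 := by group
        rw [h7, mul_one]
        exact R.Q q hq
      · have e : v * (t * p) * v⁻¹ * (t * p)⁻¹ = (v * t * v⁻¹ * t⁻¹) * (t * (v * p * v⁻¹ * p⁻¹) * t⁻¹) := by group
        rw [e]
        refine mul_mem R.s ?_
        have h6 : v * p * v⁻¹ * p⁻¹ ∈ A := mul_mem (mem_norm (hF.hyp.norm h.vS) hpA) (inv_mem hpA)
        have h7 := Eone.commT h6 R.mem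
        rw [← h7]
        have h8 : v * p * v⁻¹ * p⁻¹ * t * t⁻¹ = v * p * v⁻¹ * p⁻¹ := by group
        rw [h8]; exact h6
      · rw [hr', hw']
        have hwz : w * z = z * w := (Eone.commT hF.zA hwT).symm
        have hrz : r * z = z * r := (Eone.commT hF.zA hrT).symm
        calc t * p * (r * (z * p)) * (w * z) = t * p * ((z * p) * r) * (w * z) := by rw [hrp]
          _ = t * (p * z * p) * r * (w * z) := by group
          _ = t * (z * (p * p)) * r * (w * z) := by rw [← hzp]; group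
          _ = t * (z * r) * (w * z) := by rw [hpp]; group
          _ = t * r * (z * w) * z := by rw [← hrz]; group
          _ = (t * r * w) * (z * z) := by rw [← hwz]; group
          _ = 1 := by rw [hprod, hzz, one_mul]
      · have h6 : x * (x * (t * p) * x⁻¹) * x⁻¹ = w * z := by rw [hr', hw']
        rw [h6]
        calc x * (w * z) * x⁻¹ = (x * w * x⁻¹) * (x * z * x⁻¹) := by group
          _ = t * p := by
            have := R.cube
            rw [hw, hr, this]
      · rw [hr']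
        have k1 : Commute t r := hrw
        have k2 : Commute t (z * p) := (Eone.commT hzpA R.mem).symm
        have k3 : Commute p r := Eone.commT hpA hrT
        have k4 : Commute p (z * p) := hF.commA hpA hzpA
        exact (k1.mul_right k2).mul_left (k3.mul_right k4)
    · -- fixed by `v`
      have h6 : v * p * v⁻¹ = z * p := by
        calc v * p * v⁻¹ = (v * x * v⁻¹) * (v * z * v⁻¹) * (v * x * v⁻¹)⁻¹ := by rw [hp]; group
          _ = x⁻¹ * z * x := by rw [hvx, hF.zSc h.vS]; group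
          _ = z * p := hxir
      apply conj_eq_iff.1
      calc v * (t * p) * v⁻¹ = (v * t * v⁻¹) * (v * p * v⁻¹) := by group
        _ = (z * t) * (z * p) := by rw [hvt, h5, h6]
        _ = (z * (t * z)) * p := by rw [← mul_assoc, mul_assoc z t z]
        _ = (z * (z * t)) * p := by rw [Eone.commT hF.zA R.mem]
        _ = t * p := by rw [← mul_assoc z z t, hzz, one_mul]

/-- Type (a5) from CASE II, with the fixed root. -/
theorem exists_all [Finite G] {z f x s : G} {Y : Subgroup G} {t : G} {P : Subgroup G}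
    (h : CTwo.Two S A U z f x s Y t P) :
    ∃ f' x' v' g t' : G, Fv S A U z f' x' v' g ∧ Eone.Root S A U z x' v' t' ∧ v' * t' = t' * v' := by
  obtain ⟨f', x', v', g, t', hFv, hY⟩ := h.exists_Fv
  obtain ⟨t'', R⟩ := root_of_YH hFv.toFr hY
  obtain ⟨t₃, R', hv⟩ := exists_fixed hFv R
  exact ⟨f', x', v', g, t₃, hFv, R', hv⟩

end Cfsg.Agent.RankThreeFus.VRoot
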