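import Cfsg.Agent.RankThreeFus.YZero
import Cfsg.Agent.RankThreeFus.VRoot
import Cfsg.Agent.RankThreeFus.AFiveMain

/-!
# S1730, (B8*), CASE II closed
-/

set_option autoImplicit false
set_option linter.style.haveILetI false

namespace Cfsg.Agent.RankThreeFus.CTwo

open Subgroup Cfsg.Agent.Lib.GoldschmidtFusion Cfsg.Agent.StdL2.G23Aut Cfsg.Agent.RankThreeFus

variable {G : Type*} [Group G] {S : Sylow 2 G} {A U : Subgroup G} {z f x s : G} {Y : Subgroup G} {t : G}
  {P : Subgroup G}

/-- **CASE II of (B8*)**: if all the conjugates `A^l`, `l ∈ N(P)`, meet `A` in order at least 4, then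
the sectional 2-rank is at most 4. -/
theorem Two.rank_le [Finite G] (h : Two S A U z f x s Y t P) : Cfsg.SectionalPRankLE 2 4 G := by
  obtain ⟨f', x', v', g, t', hFv, R, -⟩ := VRoot.exists_all h
  exact AFiveC.rank_le_four hFv R

end Cfsg.Agent.RankThreeFus.CTwo
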