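import Cfsg.Agent.Transfer.FusionBasic

/-!
# An involution inverting a 3-element modulo a 2-group

`exists_inverted` : if the 2-group `M` is normalised by the 3-element `x` and the involution `v`, and `v`
inverts `x` modulo `M`, then `v` inverts some `M`-conjugate of `x`.
-/

set_option autoImplicit false
set_option linter.style.haveILetI false

namespace Cfsg.Agent.RankThreeFus

open Subgroup

variable {G : Type*} [Group G]

/-- Powers of an element of the coset `M y`. -/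
theorem pow_mem_coset {M : Subgroup G} {y w : G} (hy : y ∈ normalizer (M : Set G)) (hw : w * y⁻¹ ∈ M) (n : ℕ) :
    w ^ n * (y ^ n)⁻¹ ∈ M := by
  induction n with
  | zero => simp
  | succ n ih =>
    have h1 : w ^ (n + 1) * (y ^ (n + 1))⁻¹ = (w ^ n * (y ^ n)⁻¹) * (y ^ n * (w * y⁻¹) * (y ^ n)⁻¹) := by
      rw [pow_succ, pow_succ]; group
    rw [h1]
    refine mul_mem ih ?_
    exact (mem_normalizer_iff.1 (pow_mem hy n) _).1 hw

/-- A 2-element of a cyclic group of order `3 ^ k` is trivial. -/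
theorem eq_one_of_mem_two_three {M : Subgroup G} (hM : IsPGroup 2 M) {a : G} {k : ℕ}
    (ha : a ∈ M) (h3 : a ^ 3 ^ k = 1) : a = 1 := by
  obtain ⟨j, hj⟩ := hM ⟨a, ha⟩
  have hj' : a ^ 2 ^ j = 1 := by simpa using congrArg Subtype.val hj
  have h4 : orderOf a ∣ Nat.gcd (2 ^ j) (3 ^ k) :=
    Nat.dvd_gcd (orderOf_dvd_of_pow_eq_one hj') (orderOf_dvd_of_pow_eq_one h3)
  have h5 : Nat.gcd (2 ^ j) (3 ^ k) = 1 := Nat.Coprime.pow _ _ (by norm_num)
  rw [h5, Nat.dvd_one, orderOf_eq_one_iff] at h4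
  exact h4

/-- Two 3-elements in the same coset of a 2-subgroup normalised by them are conjugate. -/
theorem conj_of_same_coset [Finite G] {M : Subgroup G} (hM : IsPGroup 2 M) {x y : G} {k : ℕ}
    (hx : x ^ 3 ^ k = 1) (hxM : x ∈ normalizer (M : Set G)) (hy : y ^ 3 ^ k = 1) (hxy : y * x⁻¹ ∈ M) :
    ∃ m ∈ M, m * x * m⁻¹ = y := by
  haveI : Fact (Nat.Prime 3) := ⟨Nat.prime_three⟩
  haveI : Fact (Nat.Prime 2) := ⟨Nat.prime_two⟩
  have h3 : ∀ w : G, w ^ 3 ^ k = 1 → IsPGroup 3 (zpowers w) := by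
    intro w hw
    obtain ⟨j, -, hj⟩ := (Nat.dvd_prime_pow Nat.prime_three).1 (orderOf_dvd_of_pow_eq_one hw)
    exact IsPGroup.of_card (by rw [Nat.card_zpowers, hj])
  have hMc : (Nat.card M).Coprime 3 := by
    obtain ⟨j, hj⟩ := IsPGroup.iff_card.1 hM
    rw [hj]
    exact Nat.Coprime.pow_left _ (by norm_num)
  have hsup : zpowers y ≤ zpowers x ⊔ M := by
    rw [zpowers_le]
    have h1 : y = (y * x⁻¹) * x := by group
    rw [h1]
    exact mul_mem (mem_sup_right hxy) (mem_sup_left (mem_zpowers x))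
  obtain ⟨m, hm, hmy⟩ := Transfer.FusionBasic.exists_conj_of_coprime (h3 x hx) (h3 y hy) hMc
    (by rw [zpowers_le]; exact hxM) hsup
  obtain ⟨i, hi⟩ := mem_zpowers_iff.1 (hmy y (mem_zpowers y))
  -- `m y m⁻¹ = x ^ i`, hence `x ^ i = x`
  have h4 : m * y * m⁻¹ * x⁻¹ ∈ M := by
    have h5 : m * y * m⁻¹ * x⁻¹ = m * (y * x⁻¹) * (x * m⁻¹ * x⁻¹) := by group
    rw [h5]
    exact mul_mem (mul_mem hm hxy) ((mem_normalizer_iff.1 hxM _).1 (inv_mem hm))
  have h6 : m * y * m⁻¹ * x⁻¹ = 1 := by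
    refine eq_one_of_mem_two_three hM (k := k) h4 ?_
    rw [← hi]
    have h7 : x ^ i * x⁻¹ = x ^ (i - 1) := by rw [zpow_sub, zpow_one]
    rw [h7, ← zpow_natCast, ← zpow_mul, mul_comm, zpow_mul, zpow_natCast, hx, one_zpow]
  refine ⟨m⁻¹, inv_mem hm, ?_⟩
  have h8 : m * y * m⁻¹ = x := by
    rw [mul_inv_eq_one] at h6
    exact h6
  rw [← h8]; group

/-- **An involution inverting a 3-element modulo a 2-group inverts a conjugate of it.** -/
theorem exists_inverted [Finite G] {M : Subgroup G} (hM : IsPGroup 2 M) {x v : G} {k : ℕ}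
    (hx : x ^ 3 ^ k = 1) (hxM : x ∈ normalizer (M : Set G))
    (hv : v * v = 1) (hvx : v * x * v⁻¹ * x ∈ M) :
    ∃ m ∈ M, v * (m * x * m⁻¹) * v⁻¹ = (m * x * m⁻¹)⁻¹ := by
  have hvi : v⁻¹ = v := inv_eq_of_mul_eq_one_left hv
  -- `w = v (x v x⁻¹) ∈ M x⁻²` is inverted by `v`
  set w : G := v * (x * v * x⁻¹) with hw
  have hwv : v * w * v⁻¹ = w⁻¹ := by
    rw [hw, hvi]
    have h1 : (v * (x * v * x⁻¹))⁻¹ = x * v⁻¹ * x⁻¹ * v⁻¹ := by group
    rw [h1, hvi]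
    calc v * (v * (x * v * x⁻¹)) * v = (v * v) * (x * v * x⁻¹) * v := by group
      _ = _ := by rw [hv]; group
  have hwc : w * ((x ^ 2)⁻¹)⁻¹ ∈ M := by
    have h1 : w * ((x ^ 2)⁻¹)⁻¹ = v * x * v⁻¹ * x := by
      rw [hw, hvi, inv_inv, pow_two]; group
    rw [h1]; exact hvx
  have hx2n : (x ^ 2)⁻¹ ∈ normalizer (M : Set G) := inv_mem (pow_mem hxM 2)
  -- the order of `w`
  have hwM : w ^ 3 ^ k ∈ M := by
    have h1 := pow_mem_coset hx2n hwc (3 ^ k)
    have h2 : ((x ^ 2)⁻¹) ^ 3 ^ k = 1 := by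
      rw [inv_pow, ← pow_mul, mul_comm, pow_mul, hx, one_pow, inv_one]
    rw [h2, inv_one, mul_one] at h1
    exact h1
  obtain ⟨j, hj⟩ := hM ⟨w ^ 3 ^ k, hwM⟩
  have hj' : (w ^ 3 ^ k) ^ 2 ^ j = 1 := by simpa using congrArg Subtype.val hj
  -- exponent `e = 2 ^ j * e'` with `2 * e ≡ -1 mod 3 ^ k`
  obtain ⟨e', he'⟩ : ∃ e' : ℕ, 3 ^ k ∣ 2 * (2 ^ j * e') + 1 := by
    have hco : Nat.Coprime (3 ^ k) (2 ^ (j + 1)) := Nat.Coprime.pow _ _ (by norm_num)
    obtain ⟨c, hc0, hc1⟩ := Nat.chineseRemainder hco 0 1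
    have h1 : 3 ^ k ∣ c := Nat.modEq_zero_iff_dvd.1 hc0
    have hcpos : 1 ≤ c := by
      rcases Nat.eq_zero_or_pos c with h2 | h2
      · exfalso
        rw [h2] at hc1
        have h3 : 2 ^ (j + 1) ∣ 1 := (Nat.modEq_zero_iff_dvd.1 hc1.symm)
        have h4 : 2 ∣ 1 := (dvd_pow_self 2 (Nat.succ_ne_zero j)).trans h3
        omega
      · exact h2
    obtain ⟨e', he'⟩ := (Nat.modEq_iff_dvd' hcpos).1 hc1.symm
    refine ⟨e', ?_⟩
    have h5 : 2 * (2 ^ j * e') + 1 = c := by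
      have : 2 * (2 ^ j * e') = 2 ^ (j + 1) * e' := by ring
      omega
    rw [h5]; exact h1
  set e : ℕ := 2 ^ j * e' with he
  set y : G := w ^ e with hy
  have hyN : y ^ 3 ^ k = 1 := by
    rw [hy, he, ← pow_mul]
    have h1 : 2 ^ j * e' * 3 ^ k = 3 ^ k * 2 ^ j * e' := by ring
    rw [h1, pow_mul, pow_mul, hj', one_pow]
  have hyx : y * x⁻¹ ∈ M := by
    have h1 := pow_mem_coset hx2n hwc e
    have h2 : ((x ^ 2)⁻¹) ^ e = x := by
      obtain ⟨c, hc⟩ := he'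
      rw [inv_pow, ← pow_mul]
      have h3 : x ^ (2 * e) * x = 1 := by
        rw [← pow_succ, hc, pow_mul, hx, one_pow]
      exact inv_eq_of_mul_eq_one_right h3
    rw [h2] at h1
    exact h1
  have hyv : v * y * v⁻¹ = y⁻¹ := by
    rw [hy, ← conj_pow, hwv, inv_pow]
  obtain ⟨m, hm, hmx⟩ := conj_of_same_coset hM hx hxM hyN hyx
  exact ⟨m, hm, by rw [hmx]; exact hyv⟩

end Cfsg.Agent.RankThreeFus
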