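import Cfsg.Agent.RankThreeFus.Frame
import Cfsg.Agent.RankThreeFus.Invert

/-!
# S1730, type (a5): the tools (STAR), inverted 3-elements, covering of centralisers

`Fv S A U z f x v g` : the frame `Fr S A U z f x v` (so the 3-element `x` is inverted by `v`) where `v` is an
involution of `cj g U` outside `C_S(U)`, and `z, f ∈ cj g A ≤ S`, `z ∈ cj g U`.
-/

set_option autoImplicit false
set_option linter.style.haveILetI false

namespace Cfsg.Agent.RankThreeFus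

open Subgroup Cfsg.Agent.Lib.GoldschmidtFusion Cfsg.Agent.StdL2.G23Aut

variable {G : Type*} [Group G]

/-- The frame with an involution `v` outside `Q` in a conjugate of `U`; the 3-element is inverted by `v`. -/
structure Fv (S : Sylow 2 G) (A U : Subgroup G) (z f x v g : G) : Prop extends Fr S A U z f x v where
  v2 : v * v = 1
  FS : cj g A ≤ S
  zF : z ∈ cj g U
  vF : v ∈ cj g U
  fF : f ∈ cj g A

/-- `Q = C_S(U)` -/
abbrev QQ (S : Sylow 2 G) (U : Subgroup G) : Subgroup G := (S : Subgroup G) ⊓ centralizer (U : Set G)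

/-- An element of odd order is a power of its square. -/
theorem conj_fix_of_sq [Finite G] {x y : G} (hx : Odd (orderOf x)) (h : x ^ 2 * y * (x ^ 2)⁻¹ = y) :
    x * y * x⁻¹ = y := by
  obtain ⟨k, hk⟩ := hx
  have h1 : x ^ 2 * y = y * x ^ 2 := conj_eq_iff.1 h
  have h2 : Commute (x ^ 2) y := h1
  have h3 : Commute ((x ^ 2) ^ (k + 1)) y := h2.pow_left _
  have h4 : (x ^ 2) ^ (k + 1) = x := by
    rw [← pow_mul]
    have h5 : 2 * (k + 1) = orderOf x + 1 := by omega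
    rw [h5, pow_succ, pow_orderOf_eq_one, one_mul]
  rw [h4] at h3
  exact conj_eq_iff.2 h3

namespace Fr

variable {S : Sylow 2 G} {A U : Subgroup G} {z f x s : G} (h : Fr S A U z f x s)

include h

theorem z2 : z * z = 1 := h.sqA h.zA

theorem f2 : f * f = 1 := h.sqA h.fA

theorem zi : z⁻¹ = z := h.invA h.zA

theorem fi : f⁻¹ = f := h.invA h.fA

theorem zfc : z * f = f * z := h.commA h.zA h.fA

/-- Involutions commuting with `A` lie in `A`. -/
theorem mem_A_of_sq [Finite G] {t : G} (ht : t ∈ TT S A) (h2 : t * t = 1) : t ∈ A :=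
  Oct.mem_of_comm h.hyp.rank h.hyp.oct h2 (mem_cent_iff.1 ht.2)

theorem xfc : x * f * x⁻¹ = f := conj_eq_iff.2 h.xf

theorem TfC {t : G} (ht : t ∈ TT S A) : t * f * t⁻¹ = f := conj_eq_iff.2 (mem_cent_iff.1 ht.2 f h.fA)

theorem zSc {g : G} (hg : g ∈ (S : Subgroup G)) : g * z * g⁻¹ = z := conj_eq_iff.2 (h.zc g hg)

theorem xodd : Odd (orderOf x) := by
  obtain ⟨k, hk⟩ := h.xo
  rw [hk]
  exact Odd.pow (by decide)

theorem x_pow : ∃ k, x ^ 3 ^ k = 1 := by
  obtain ⟨k, hk⟩ := h.xo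
  exact ⟨k, by rw [← hk, pow_orderOf_eq_one]⟩

/-- `U = {1, z, z₁, z z₁}` for every `z₁ ∈ U` different from `1`, `z`. -/
theorem U_cases [Finite G] {z₁ : G} (hz : z₁ ∈ U) (h1 : z₁ ≠ 1) (h2 : z₁ ≠ z) {u : G} (hu : u ∈ U) :
    u = 1 ∨ u = z ∨ u = z₁ ∨ u = z * z₁ := by
  have hzz : zpowers z ≤ U := by rw [zpowers_le]; exact h.zU
  have hcz : Nat.card (zpowers z) = 2 := by
    rw [Nat.card_zpowers]
    exact orderOf_eq_prime (by rw [pow_two]; exact h.z2) h.z1
  by_cases hu1 : u ∈ zpowers z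
  · rcases zpowers_cases h.z2 u hu1 with h3 | h3
    · exact Or.inl h3
    · exact Or.inr (Or.inl h3)
  · have hz1 : z₁ ∉ zpowers z := fun h3 => by
      rcases zpowers_cases h.z2 z₁ h3 with h4 | h4
      · exact h1 h4
      · exact h2 h4
    have h3 := mul_mem_of_index_two hzz (by rw [h.cardU, hcz]) hz hu hz1 hu1
    rcases zpowers_cases h.z2 _ h3 with h4 | h4
    · right; right; left
      have := eq_inv_of_mul_eq_one_right h4
      rw [this, h.invA (h.UA hz)]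
    · right; right; right
      have h5 : u = z₁⁻¹ * z := by rw [← h4]; group
      rw [h5, h.invA (h.UA hz)]
      exact h.commA (h.UA hz) h.zA

theorem xzU : x * z * x⁻¹ ∈ U := mem_norm h.xU h.zU

theorem xz1 : x * z * x⁻¹ ≠ 1 := fun h1 => h.z1 (by
  have : z = x⁻¹ * (x * z * x⁻¹) * x := by group
  rw [this, h1]; group)

theorem xxz [Finite G] : x * (x * z * x⁻¹) * x⁻¹ = z * (x * z * x⁻¹) := by
  have h1 : x * (x * z * x⁻¹) * x⁻¹ ∈ U := mem_norm h.xU h.xzU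
  rcases h.U_cases h.xzU h.xz1 h.xz h1 with h2 | h2 | h2 | h2
  · exfalso
    apply h.xz1
    have : x * z * x⁻¹ = x⁻¹ * (x * (x * z * x⁻¹) * x⁻¹) * x := by group
    rw [this, h2]; group
  · exfalso
    apply h.xz
    refine conj_fix_of_sq h.xodd ?_
    have h3 : x ^ 2 * z * (x ^ 2)⁻¹ = x * (x * z * x⁻¹) * x⁻¹ := by rw [pow_two]; group
    rw [h3, h2]
  · exfalso
    apply h.xz
    have : x * z * x⁻¹ = x⁻¹ * (x * (x * z * x⁻¹) * x⁻¹) * x := by group
    rw [this, h2]; group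
  · exact h2

/-- `C_U(x) = 1` -/
theorem fix_U [Finite G] {u : G} (hu : u ∈ U) (hx : x * u = u * x) : u = 1 := by
  have hx' : x * u * x⁻¹ = u := conj_eq_iff.2 hx
  rcases h.U_cases h.xzU h.xz1 h.xz hu with h2 | h2 | h2 | h2
  · exact h2
  · subst h2; exact (h.xz hx').elim
  · exfalso
    rw [h2] at hx'
    rw [h.xxz] at hx'
    apply h.z1
    exact mul_eq_right.1 hx'
  · exfalso
    rw [h2] at hx'
    have h3 : x * (z * (x * z * x⁻¹)) * x⁻¹ = (x * z * x⁻¹) * (x * (x * z * x⁻¹) * x⁻¹) := by group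
    rw [h3, h.xxz] at hx'
    have h4 : (x * z * x⁻¹) = 1 := by
      have h5 : (x * z * x⁻¹) * (z * (x * z * x⁻¹)) = 1 * (z * (x * z * x⁻¹)) := by rw [hx', one_mul]
      exact mul_right_cancel h5
    exact h.xz1 h4

/-- `C_A(x) = {1, f}` -/
theorem fix_A [Finite G] {a : G} (ha : a ∈ A) (hx : x * a = a * x) : a = 1 ∨ a = f := by
  rcases h.mem_A ha with h1 | h1
  · exact Or.inl (h.fix_U h1 hx)
  · right
    have h2 : x * (f * a) = (f * a) * x := by
      rw [← mul_assoc, h.xf, mul_assoc, hx, mul_assoc]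
    have h3 := h.fix_U h1 h2
    rw [eq_inv_of_mul_eq_one_right h3, h.fi]

/-- Elements of `Q` move `f` by elements of `U`. -/
theorem Qf [Finite G] {q : G} (hq : q ∈ QQ S U) : ∃ u ∈ U, q * f * q⁻¹ = f * u := by
  refine ⟨f * (q * f * q⁻¹), ?_, ?_⟩
  · refine mul_mem_of_index_two h.UA (by rw [h.hyp.oct.card, h.cardU]) h.fA
      (mem_norm (h.hyp.norm hq.1) h.fA) h.fU ?_
    intro h1
    apply h.fU
    have h2 : q * f * q⁻¹ = q⁻¹ * (q * f * q⁻¹) * q := by
      have := mem_cent_iff.1 (inv_mem hq.2) _ h1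
      rw [this]; group
    have h3 : q⁻¹ * (q * f * q⁻¹) * q = f := by group
    rw [h3] at h2
    rw [← h2]; exact h1
  · rw [← mul_assoc, h.f2, one_mul]

theorem mem_T_of_fix [Finite G] {q : G} (hq : q ∈ QQ S U) (hf : q * f * q⁻¹ = f) : q ∈ TT S A := by
  refine ⟨hq.1, mem_cent_iff.2 fun a ha => ?_⟩
  rcases h.mem_A ha with h1 | h1
  · exact mem_cent_iff.1 hq.2 a h1
  · have h2 := mem_cent_iff.1 hq.2 _ h1
    have h3 : a = f * (f * a) := by rw [← mul_assoc, h.f2, one_mul]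
    rw [h3]
    have h4 : q * f = f * q := conj_eq_iff.1 hf
    rw [← mul_assoc, h4, mul_assoc, h2, ← mul_assoc]

/-- `C_Q(x) ≤ T` -/
theorem fix_Q [Finite G] {q : G} (hq : q ∈ QQ S U) (hx : x * q = q * x) : q ∈ TT S A := by
  obtain ⟨u, hu, hqu⟩ := h.Qf hq
  have h1 : x * u = u * x := by
    have h2 : u = f * (q * f * q⁻¹) := by rw [hqu, ← mul_assoc, h.f2, one_mul]
    have hxq : Commute x q := hx
    have hxf : Commute x f := h.xf
    rw [h2]
    exact (hxf.mul_right ((hxq.mul_right hxf).mul_right hxq.inv_right)).eq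
  have h2 := h.fix_U hu h1
  rw [h2, mul_one] at hqu
  exact h.mem_T_of_fix hq hqu

theorem cardSQ : Nat.card S = 2 * Nat.card (QQ S U) := by
  have h1 := h.cardS
  have h2 := h.cardQ
  rw [h1, h2]; ring

/-- `|S : Q| = 2` -/
theorem mul_mem_Q [Finite G] {a b : G} (ha : a ∈ (S : Subgroup G)) (hb : b ∈ (S : Subgroup G)) (ha' : a ∉ QQ S U)
    (hb' : b ∉ QQ S U) : a * b ∈ QQ S U :=
  mul_mem_of_index_two inf_le_left h.cardSQ ha hb ha' hb'

theorem sxi : s * x⁻¹ * s⁻¹ = x := by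
  have h1 : s * x⁻¹ * s⁻¹ = (s * x * s⁻¹)⁻¹ := by group
  rw [h1, h.sx, inv_inv]

/-- `s` commutes with `f`. -/
theorem sf [Finite G] : s * f * s⁻¹ = f := by
  have h1 : s * f * s⁻¹ ∈ A := mem_norm (h.hyp.norm h.sS) h.fA
  have h2 : x * (s * f * s⁻¹) = (s * f * s⁻¹) * x := by
    have h3 : x⁻¹ * f = f * x⁻¹ := (show Commute x f from h.xf).inv_left.eq
    calc x * (s * f * s⁻¹) = (s * x⁻¹ * s⁻¹) * (s * f * s⁻¹) := by rw [h.sxi]
      _ = s * (x⁻¹ * f) * s⁻¹ := by group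
      _ = s * (f * x⁻¹) * s⁻¹ := by rw [h3]
      _ = (s * f * s⁻¹) * (s * x⁻¹ * s⁻¹) := by group
      _ = _ := by rw [h.sxi]
  rcases h.fix_A h1 h2 with h3 | h3
  · exfalso
    apply h.f1
    have h4 : f = s⁻¹ * (s * f * s⁻¹) * s := by group
    rw [h4, h3]; group
  · exact h3

/-- **(1)** An involution `v` of a conjugate of `U`, outside `Q`, with `z` in the same conjugate, inverts a
`T`-conjugate of `x`. -/
theorem exists_Fv [Finite G] {v g : G} (v2 : v * v = 1) (FS : cj g A ≤ S) (zF : z ∈ cj g U) (vF : v ∈ cj g U)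
    (fF : f ∈ cj g A) (hv : v ∉ QQ S U) : ∃ m ∈ TT S A, Fv S A U z f (m * x * m⁻¹) v g := by
  have hvS : v ∈ (S : Subgroup G) := FS (map_mono h.UA vF)
  have hsQ : s⁻¹ ∉ QQ S U := fun h1 => h.sU (by
    have h2 := (centralizer (U : Set G)).inv_mem h1.2
    rwa [inv_inv] at h2)
  have hvs : v * s⁻¹ ∈ QQ S U := h.mul_mem_Q hvS (inv_mem h.sS) hv hsQ
  have hvf : v * f * v⁻¹ = f :=
    conj_eq_iff.2 ((RankThreeFus.Oct.cj h.hyp.oct g).comm (map_mono h.UA vF) fF)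
  have hvsT : v * s⁻¹ ∈ TT S A := by
    refine h.mem_T_of_fix hvs ?_
    have h1 : s⁻¹ * f * s = f := by
      have h2 : s⁻¹ * f * s = s⁻¹ * (s * f * s⁻¹) * s := by rw [h.sf]
      rw [h2]; group
    have h2 : v * s⁻¹ * f * (v * s⁻¹)⁻¹ = v * (s⁻¹ * f * s) * v⁻¹ := by group
    rw [h2, h1, hvf]
  have h1 : v * x * v⁻¹ * x ∈ TT S A := by
    have h2 : v * x * v⁻¹ * x = (v * s⁻¹) * (x⁻¹ * (v * s⁻¹)⁻¹ * x) := by
      calc v * x * v⁻¹ * x = (v * s⁻¹) * (s * x * s⁻¹) * (v * s⁻¹)⁻¹ * x := by group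
        _ = (v * s⁻¹) * x⁻¹ * (v * s⁻¹)⁻¹ * x := by rw [h.sx]
        _ = _ := by group
    rw [h2]
    exact mul_mem hvsT (mem_norm' h.xT (inv_mem hvsT))
  obtain ⟨k, hk⟩ := h.x_pow
  obtain ⟨m, hm, hmx⟩ := exists_inverted (S.2.to_le inf_le_left) hk h.xT v2 h1
  have hmA : m ∈ centralizer (A : Set G) := hm.2
  have hma : ∀ a ∈ A, m * a * m⁻¹ = a := fun a ha => conj_eq_iff.2 (mem_cent_iff.1 hmA a ha)
  have hma' : ∀ a ∈ A, m⁻¹ * a * m = a := fun a ha => by
    have h2 : m⁻¹ * a * m = m⁻¹ * (m * a * m⁻¹) * m := by rw [hma a ha]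
    rw [h2]; group
  refine ⟨m, hm, ?_⟩
  refine { hyp := h.hyp, UA := h.UA, cardU := h.cardU, nU := h.nU, zU := h.zU, z1 := h.z1, zc := h.zc,
           zuniq := h.zuniq, fA := h.fA, fU := h.fU, xA := ?_, xT := ?_, xQ := ?_, xz := ?_, xf := ?_, xo := ?_,
           sS := hvS, sU := fun h2 => hv ⟨hvS, h2⟩, sx := hmx, cardS := h.cardS, cardQ := h.cardQ, tv := h.tv,
           v2 := v2, FS := FS, zF := zF, vF := vF, fF := fF }
  · have h2 : m ∈ normalizer (A : Set G) := h.hyp.norm hm.1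
    exact mul_mem (mul_mem h2 h.xA) (inv_mem h2)
  · have h2 := h.SnT hm.1
    exact mul_mem (mul_mem h2 h.xT) (inv_mem h2)
  · have h2 := h.SnQ hm.1
    exact mul_mem (mul_mem h2 h.xQ) (inv_mem h2)
  · intro h2
    apply h.xz
    have h3 : (m * x * m⁻¹) * z * (m * x * m⁻¹)⁻¹ = m * (x * (m⁻¹ * z * m) * x⁻¹) * m⁻¹ := by group
    rw [h3, hma' z h.zA, hma _ (h.UA h.xzU)] at h2
    exact h2
  · apply conj_eq_iff.1
    have h3 : (m * x * m⁻¹) * f * (m * x * m⁻¹)⁻¹ = m * (x * (m⁻¹ * f * m) * x⁻¹) * m⁻¹ := by group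
    rw [h3, hma' f h.fA, h.xfc, hma f h.fA]
  · obtain ⟨k', hk'⟩ := h.xo
    refine ⟨k', ?_⟩
    rw [← hk']
    have h3 : orderOf (m * x * m⁻¹) = orderOf x := by
      have h4 := orderOf_injective (MulAut.conj m).toMonoidHom (MulAut.conj m).injective x
      simpa using h4
    exact h3

end Fr

namespace Fv

variable {S : Sylow 2 G} {A U : Subgroup G} {z f x v g : G} (h : Fv S A U z f x v g)

include h

theorem vi : v⁻¹ = v := inv_eq_of_mul_eq_one_left h.v2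

theorem vS : v ∈ (S : Subgroup G) := h.sS

theorem octF : Oct (cj g A) := RankThreeFus.Oct.cj h.hyp.oct g

theorem UF : cj g U ≤ cj g A := map_mono h.UA

theorem zA' : z ∈ cj g A := h.UF h.zF

theorem vA' : v ∈ cj g A := h.UF h.vF

theorem vz : v * z = z * v := h.zc v h.vS

theorem vf : v * f = f * v := h.octF.comm h.vA' h.fF

theorem v_ne_one : v ≠ 1 := fun h1 => h.sU (h1 ▸ one_mem _)

theorem v_notin_Q : v ∉ QQ S U := fun h1 => h.sU h1.2

theorem v_notin_A : v ∉ A := fun h1 => h.sU (mem_cent_iff.2 fun _ ha => h.commA h1 (h.UA ha))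

theorem F_norm : normalizer (cj g A : Set G) ≤ normalizer (cj g U : Set G) := by
  intro y hy
  rw [← cj_eq_iff] at hy ⊢
  have h1 : g⁻¹ * y * g ∈ normalizer (A : Set G) := by
    rw [← cj_eq_iff]
    have h2 := congrArg (cj g⁻¹) hy
    rw [cj_cj, cj_cj, cj_cj, inv_mul_cancel, cj_one] at h2
    rw [← h2]
    congr 1
  have h3 := cj_eq_iff.2 (h.nU h1)
  have h4 := congrArg (cj g) h3
  rw [cj_cj] at h4
  rw [cj_cj, ← h4]
  congr 1
  group

/-- `C_U(v) = {1, z}` -/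
theorem cU [Finite G] {u : G} (hu : u ∈ U) (hv : v * u = u * v) : u = 1 ∨ u = z := by
  by_contra hc
  rw [not_or] at hc
  apply h.sU
  refine mem_cent_iff.2 fun a ha => ?_
  rcases h.U_cases hu hc.1 hc.2 ha with h1 | h1 | h1 | h1
  · rw [h1, mul_one, one_mul]
  · rw [h1]; exact h.vz
  · rw [h1]; exact hv
  · rw [h1, ← mul_assoc, h.vz, mul_assoc, hv, mul_assoc]

/-- `cj g U = {1, z, v, z v}` -/
theorem U'_cases [Finite G] {u : G} (hu : u ∈ cj g U) : u = 1 ∨ u = z ∨ u = v ∨ u = z * v := by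
  have hzz : zpowers z ≤ cj g U := by rw [zpowers_le]; exact h.zF
  have hcz : Nat.card (zpowers z) = 2 := by
    rw [Nat.card_zpowers]
    exact orderOf_eq_prime (by rw [pow_two]; exact h.z2) h.z1
  by_cases hu1 : u ∈ zpowers z
  · rcases zpowers_cases h.z2 u hu1 with h3 | h3
    · exact Or.inl h3
    · exact Or.inr (Or.inl h3)
  · have hz1 : v ∉ zpowers z := fun h3 => h.v_notin_A (by
      rcases zpowers_cases h.z2 v h3 with h4 | h4
      · rw [h4]; exact one_mem _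
      · rw [h4]; exact h.zA)
    have h3 := mul_mem_of_index_two hzz (by rw [card_cj, h.cardU, hcz]) h.vF hu hz1 hu1
    rcases zpowers_cases h.z2 _ h3 with h4 | h4
    · right; right; left
      have := eq_inv_of_mul_eq_one_right h4
      rw [this, h.vi]
    · right; right; right
      have h5 : u = v⁻¹ * z := by rw [← h4]; group
      rw [h5, h.vi]
      exact h.vz

theorem bas : Bas (cj g A) z f v where
  hx := h.zA'
  hy := h.fF
  hw := h.vA'
  x1 := h.z1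
  y1 := h.f1
  yx := fun h1 => h.fU (h1 ▸ h.zU)
  w1 := h.v_ne_one
  wx := fun h1 => h.v_notin_A (h1 ▸ h.zA)
  wy := fun h1 => h.v_notin_A (h1 ▸ h.fA)
  wxy := fun h1 => h.v_notin_A (h1 ▸ mul_mem h.zA h.fA)

/-- **(STAR)** -/
theorem star [Finite G] {y : G} (hy : y ∈ (S : Subgroup G)) (hyf : y * f * y⁻¹ = f ∨ y * f * y⁻¹ = f * z)
    (hyv : y * v * y⁻¹ = v ∨ y * v * y⁻¹ = z * v ∨ y * v * y⁻¹ = f * v ∨ y * v * y⁻¹ = z * f * v) :
    y * v * y⁻¹ = v ∨ y * v * y⁻¹ = z * v := by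
  have h1 : y * z * y⁻¹ ∈ cj g A := by rw [h.zSc hy]; exact h.zA'
  have h2 : y * f * y⁻¹ ∈ cj g A := by
    rcases hyf with h3 | h3
    · rw [h3]; exact h.fF
    · rw [h3]; exact mul_mem h.fF h.zA'
  have h3 : y * v * y⁻¹ ∈ cj g A := by
    rcases hyv with h4 | h4 | h4 | h4
    · rw [h4]; exact h.vA'
    · rw [h4]; exact mul_mem h.zA' h.vA'
    · rw [h4]; exact mul_mem h.fF h.vA'
    · rw [h4]; exact mul_mem (mul_mem h.zA' h.fF) h.vA'
  have hmul : ∀ a b : G, y * a * y⁻¹ ∈ cj g A → y * b * y⁻¹ ∈ cj g A → y * (a * b) * y⁻¹ ∈ cj g A := by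
    intro a b ha hb
    have h4 : y * (a * b) * y⁻¹ = (y * a * y⁻¹) * (y * b * y⁻¹) := by group
    rw [h4]; exact mul_mem ha hb
  have hN : y ∈ normalizer (cj g A : Set G) := by
    refine mem_norm_of_conj fun w hw => ?_
    rcases h.bas.cases h.octF hw with h4 | h4 | h4 | h4 | h4 | h4 | h4 | h4
    · rw [h4, mul_one, mul_inv_cancel]; exact one_mem _
    · rw [h4]; exact h1
    · rw [h4]; exact h2
    · rw [h4]; exact hmul _ _ h1 h2
    · rw [h4]; exact h3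
    · rw [h4]; exact hmul _ _ h1 h3
    · rw [h4]; exact hmul _ _ h2 h3
    · rw [h4]; exact hmul _ _ (hmul _ _ h1 h2) h3
  have h5 : y * v * y⁻¹ ∈ cj g U := mem_norm (h.F_norm hN) h.vF
  rcases h.U'_cases h5 with h6 | h6 | h6 | h6
  · exfalso
    apply h.v_ne_one
    have : v = y⁻¹ * (y * v * y⁻¹) * y := by group
    rw [this, h6]; group
  · exfalso
    apply h.v_notin_A
    have h7 : v = y⁻¹ * (y * v * y⁻¹) * y⁻¹⁻¹ := by group
    rw [h7, h6, h.zSc (inv_mem hy)]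
    exact h.zA
  · exact Or.inl h6
  · exact Or.inr h6

/-- `v` does not go to `f v` or `z f v` under an element moving `f` into `f⟨z⟩`. -/
theorem not_star [Finite G] {y : G} (hy : y ∈ (S : Subgroup G)) (hyf : y * f * y⁻¹ = f ∨ y * f * y⁻¹ = f * z)
    (hyv : y * v * y⁻¹ = f * v ∨ y * v * y⁻¹ = z * f * v) : False := by
  have h1 := h.star hy hyf (Or.inr (Or.inr hyv))
  rcases h1 with h2 | h2 <;> rcases hyv with h3 | h3 <;> rw [h2] at h3
  · exact h.f1 (mul_eq_right.1 h3.symm)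
  · exact h.fU (by
      have h4 := mul_eq_right.1 h3.symm
      have h5 : f = z⁻¹ * (z * f) := by group
      rw [h5, h4, mul_one]
      exact inv_mem h.zU)
  · exact h.fU (mul_right_cancel h3 ▸ h.zU)
  · have h4 := mul_right_cancel h3
    exact h.f1 (mul_eq_left.1 h4.symm)

/-- **(2)** `v` centralises `C_T(x)`. -/
theorem comm_K [Finite G] {k : G} (hk : k ∈ TT S A) (hkx : x * k = k * x) : v * k = k * v := by
  have hfix : ∀ t ∈ TT S A, t * t = 1 → x * t = t * x → t = 1 ∨ t = f := fun t ht h2 hx =>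
    h.fix_A (h.mem_A_of_sq ht h2) hx
  have hno : ∀ t ∈ TT S A, t * v * t⁻¹ ≠ f * v := fun t ht h1 =>
    h.not_star ht.1 (Or.inl (h.TfC ht)) (Or.inl h1)
  have hTn : ∀ t ∈ TT S A, v * t * v⁻¹ ∈ TT S A := fun t ht => mem_norm (h.SnT h.vS) ht
  have hxv : x * v = v * x⁻¹ := by
    have h1 : v * x⁻¹ * v⁻¹ = x := by
      have h2 : v * x⁻¹ * v⁻¹ = (v * x * v⁻¹)⁻¹ := by group
      rw [h2, h.sx, inv_inv]
    calc x * v = (v * x⁻¹ * v⁻¹) * v := by rw [h1]
      _ = _ := by group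
  have hKn : ∀ t : G, x * t = t * x → x * (v * t * v⁻¹) = (v * t * v⁻¹) * x := by
    intro t ht
    have h1 : Commute x t := ht
    have h2 : x⁻¹ * t = t * x⁻¹ := h1.inv_left.eq
    have h3 : x * (v * t * v⁻¹) = v * (x⁻¹ * t) * v⁻¹ := by
      rw [← mul_assoc, ← mul_assoc, hxv]; group
    have h4 : v⁻¹ * x = x⁻¹ * v⁻¹ := by
      rw [h.vi]
      have h5 : v * x * v⁻¹ = x⁻¹ := h.sx
      calc v * x = (v * x * v⁻¹) * v := by group
        _ = _ := by rw [h5]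
    rw [h3, h2]
    calc v * (t * x⁻¹) * v⁻¹ = v * t * (x⁻¹ * v⁻¹) := by group
      _ = v * t * (v⁻¹ * x) := by rw [h4]
      _ = _ := by group
  -- `c = k⁻¹ (v k v⁻¹)` is inverted by `v`
  set c : G := k⁻¹ * (v * k * v⁻¹) with hc
  have hcT : c ∈ TT S A := mul_mem (inv_mem hk) (hTn k hk)
  have hcx : x * c = c * x := by
    have h1 : Commute x k := hkx
    have h2 : Commute x (v * k * v⁻¹) := hKn k hkx
    exact (h1.inv_right.mul_right h2).eq
  have hcv : v * c * v⁻¹ = c⁻¹ := by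
    rw [hc, h.vi]
    have h1 : v * (k⁻¹ * (v * k * v)) * v = v * k⁻¹ * v * k * (v * v) := by group
    rw [h1, h.v2, mul_one]
    have h2 : (k⁻¹ * (v * k * v))⁻¹ = v⁻¹ * k⁻¹ * v⁻¹ * k := by group
    rw [h2, h.vi]
  -- `c` has order at most two
  by_cases hc1 : c = 1
  · have h1 : v * k * v⁻¹ = k := by
      have h2 : v * k * v⁻¹ = k * c := by rw [hc]; group
      rw [h2, hc1, mul_one]
    exact conj_eq_iff.1 h1
  exfalso
  obtain ⟨n, hn⟩ := (S.2) ⟨c, hcT.1⟩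
  have hn' : c ^ 2 ^ n = 1 := by simpa using congrArg Subtype.val hn
  obtain ⟨m, hm⟩ : ∃ m, orderOf c = 2 ^ (m + 1) := by
    obtain ⟨m, -, hm⟩ := (Nat.dvd_prime_pow Nat.prime_two).1 (orderOf_dvd_of_pow_eq_one hn')
    rcases m with _ | m
    · exact (hc1 (orderOf_eq_one_iff.1 (by simpa using hm))).elim
    · exact ⟨m, hm⟩
  have hd1 : c ^ 2 ^ m ≠ 1 := by
    intro h1
    have h2 := orderOf_dvd_of_pow_eq_one h1
    rw [hm] at h2
    have h3 := Nat.le_of_dvd (by positivity) h2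
    have h4 : 2 ^ m < 2 ^ (m + 1) := Nat.pow_lt_pow_right (by norm_num) (by omega)
    omega
  have hd2 : c ^ 2 ^ m * c ^ 2 ^ m = 1 := by
    rw [← pow_two, ← pow_mul, ← pow_succ, ← hm, pow_orderOf_eq_one]
  have hdx : ∀ i : ℕ, x * c ^ i = c ^ i * x := fun i => (Commute.pow_right (show Commute x c from hcx) i).eq
  have hdf : c ^ 2 ^ m = f := by
    rcases hfix _ (pow_mem hcT _) hd2 (hdx _) with h1 | h1
    · exact (hd1 h1).elim
    · exact h1
  rcases m with _ | m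
  · -- `c = f`
    rw [pow_zero, pow_one] at hdf
    apply hno k⁻¹ (inv_mem hk)
    have h1 : v * k * v⁻¹ = k * f := by
      have h2 : v * k * v⁻¹ = k * c := by rw [hc]; group
      rw [h2, hdf]
    have h2 : k⁻¹ * v * k⁻¹⁻¹ = k⁻¹ * (v * k * v⁻¹) * v := by group
    rw [h2, h1]; group
  · -- `d = c ^ 2 ^ m` has order four
    set d : G := c ^ 2 ^ m with hd
    have hdd : d * d = f := by
      rw [hd, ← pow_two, ← pow_mul, ← pow_succ]; exact hdf
    have hdv : v * d * v⁻¹ = d⁻¹ := by rw [hd, ← conj_pow, hcv, inv_pow]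
    apply hno d (pow_mem hcT _)
    have h1 : v * d⁻¹ * v⁻¹ = d := by
      have h2 : v * d⁻¹ * v⁻¹ = (v * d * v⁻¹)⁻¹ := by group
      rw [h2, hdv, inv_inv]
    have h2 : d * v * d⁻¹ = d * (v * d⁻¹ * v⁻¹) * v := by group
    rw [h2, h1, hdd]

/-- An element `m ∈ Q` commuting with `x` such that `m v` is an involution is `1` or `f`. -/
theorem fix_inv [Finite G] {m : G} (hm : m ∈ QQ S U) (hx : x * m = m * x) (hmv : (m * v) * (m * v) = 1) :
    m = 1 ∨ m = f := by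
  have h1 := h.fix_Q hm hx
  have h2 := h.comm_K h1 hx
  have h3 : m * m = 1 := by
    calc m * m = m * (m * v) * v⁻¹ := by group
      _ = m * (v * m) * v⁻¹ := by rw [h2]
      _ = (m * v) * (m * v) * v⁻¹ * v⁻¹ := by group
      _ = 1 := by rw [hmv, one_mul, h.vi, h.v2]
  exact h.fix_A (h.mem_A_of_sq h1 h3) hx

/-- `v y v⁻¹`-type computation: an element of `Q` carrying `v` to `f v` moves `f` into `f⟨z⟩`. -/
theorem not_conj_fv [Finite G] {y : G} (hy : y ∈ QQ S U) (hyv : y * v * y⁻¹ = f * v) : False := by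
  obtain ⟨u, hu, hyu⟩ := h.Qf hy
  have h1 : v * u = u * v := by
    -- conjugate `v f = f v` by `y`
    have h2 : (y * v * y⁻¹) * (y * f * y⁻¹) = (y * f * y⁻¹) * (y * v * y⁻¹) := by
      calc (y * v * y⁻¹) * (y * f * y⁻¹) = y * (v * f) * y⁻¹ := by group
        _ = y * (f * v) * y⁻¹ := by rw [h.vf]
        _ = _ := by group
    rw [hyv, hyu] at h2
    have h3 : f * (v * f) * u = f * (u * f) * v := by
      calc f * (v * f) * u = f * v * (f * u) := by group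
        _ = f * u * (f * v) := h2
        _ = f * (u * f) * v := by group
    rw [h.vf, h.commA (h.UA hu) h.fA] at h3
    have h4 : f * (f * v) * u = v * u := by rw [← mul_assoc, h.f2, one_mul]
    have h5 : f * (f * u) * v = u * v := by rw [← mul_assoc, h.f2, one_mul]
    rw [h4, h5] at h3
    exact h3
  rcases h.cU hu h1 with h2 | h2
  · rw [h2, mul_one] at hyu
    exact h.not_star hy.1 (Or.inl hyu) (Or.inl hyv)
  · rw [h2] at hyu
    exact h.not_star hy.1 (Or.inr hyu) (Or.inl hyv)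

/-- **(3)** If `y ∈ Q` centralises `v` modulo the `⟨x, v⟩`-invariant subgroup `M ≤ Q`, then some element of `M y`
centralises `v`. -/
theorem cover [Finite G] {M : Subgroup G} (hMQ : M ≤ QQ S U) (hxM : x ∈ normalizer (M : Set G))
    (hvM : v ∈ normalizer (M : Set G)) {y : G} (hy : y ∈ QQ S U) (hyv : y * v * y⁻¹ * v⁻¹ ∈ M) :
    ∃ m ∈ M, (m * y) * v = v * (m * y) := by
  obtain ⟨k, hk⟩ := h.x_pow
  have hM2 : IsPGroup 2 M := S.2.to_le (hMQ.trans inf_le_left)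
  set v' : G := y * v * y⁻¹ with hv'
  set n : G := v' * v⁻¹ with hn
  have hv'n : v' = n * v := by rw [hn]; group
  have hv'2 : v' * v' = 1 := by
    rw [hv']
    calc y * v * y⁻¹ * (y * v * y⁻¹) = y * (v * v) * y⁻¹ := by group
      _ = 1 := by rw [h.v2]; group
  have h1 : v' * x * v'⁻¹ * x ∈ M := by
    rw [hv'n]
    have h2 : n * v * x * (n * v)⁻¹ * x = n * ((v * x * v⁻¹) * n⁻¹ * x) := by group
    rw [h2, h.sx]
    refine mul_mem hyv ?_
    have h3 := mem_norm' hxM (inv_mem hyv)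
    exact h3
  obtain ⟨m, hm, hmx⟩ := exists_inverted hM2 hk hxM hv'2 h1
  -- `v'' = m⁻¹ v' m` inverts `x`
  set w : G := m⁻¹ * v' * m * v⁻¹ with hw
  have hwv : w * v = m⁻¹ * v' * m := by rw [hw]; group
  have hwM : w ∈ M := by
    have h4 : w = m⁻¹ * n * (v * m * v⁻¹) := by rw [hw, hv'n]; group
    rw [h4]
    exact mul_mem (mul_mem (inv_mem hm) hyv) (mem_norm hvM hm)
  have hinv : (w * v) * x * (w * v)⁻¹ = x⁻¹ := by
    rw [hwv]
    have h5 : m⁻¹ * v' * m * x * (m⁻¹ * v' * m)⁻¹ = m⁻¹ * (v' * (m * x * m⁻¹) * v'⁻¹) * m := by group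
    rw [h5, hmx]; group
  have hwx : x * w = w * x := by
    have h6 : w * x⁻¹ * w⁻¹ = x⁻¹ := by
      have h7 : (w * v) * x * (w * v)⁻¹ = w * (v * x * v⁻¹) * w⁻¹ := by group
      rw [h7, h.sx] at hinv
      exact hinv
    have h8 : Commute w x⁻¹ := conj_eq_iff.1 h6
    exact (Commute.inv_right_iff.1 h8).symm.eq
  have hw2 : (w * v) * (w * v) = 1 := by
    rw [hwv]
    calc m⁻¹ * v' * m * (m⁻¹ * v' * m) = m⁻¹ * (v' * v') * m := by group
      _ = 1 := by rw [hv'2]; group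
  rcases h.fix_inv (hMQ hwM) hwx hw2 with h9 | h9
  · refine ⟨m⁻¹, inv_mem hm, ?_⟩
    rw [h9, one_mul, hv'] at hwv
    have h10 : (m⁻¹ * y) * v * (m⁻¹ * y)⁻¹ = v := by
      have h11 : (m⁻¹ * y) * v * (m⁻¹ * y)⁻¹ = m⁻¹ * (y * v * y⁻¹) * m := by group
      rw [h11, ← hwv]
    exact conj_eq_iff.1 h10
  · exfalso
    refine h.not_conj_fv (y := m⁻¹ * y) (mul_mem (inv_mem (hMQ hm)) hy) ?_
    rw [h9, hv'] at hwv
    rw [hwv]; group

/-- Every involution of `S - Q` is `Q`-conjugate to `v` or to `f v`. -/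
theorem conj_v_or [Finite G] {w : G} (hw : w ∈ (S : Subgroup G)) (hwQ : w ∉ QQ S U) (hw2 : w * w = 1) :
    ∃ m ∈ QQ S U, m * w * m⁻¹ = v ∨ m * w * m⁻¹ = f * v := by
  obtain ⟨k, hk⟩ := h.x_pow
  have hn : w * v⁻¹ ∈ QQ S U := by
    have h1 : v⁻¹ ∉ QQ S U := by rw [h.vi]; exact h.v_notin_Q
    exact h.mul_mem_Q hw (inv_mem h.vS) hwQ h1
  set n : G := w * v⁻¹ with hnd
  have hwn : w = n * v := by rw [hnd]; group
  have h1 : w * x * w⁻¹ * x ∈ QQ S U := by
    rw [hwn]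
    have h2 : n * v * x * (n * v)⁻¹ * x = n * ((v * x * v⁻¹) * n⁻¹ * x) := by group
    rw [h2, h.sx]
    exact mul_mem hn (mem_norm' h.xQ (inv_mem hn))
  obtain ⟨m, hm, hmx⟩ := exists_inverted (S.2.to_le inf_le_left) hk h.xQ hw2 h1
  set t : G := m⁻¹ * w * m * v⁻¹ with ht
  have htv : t * v = m⁻¹ * w * m := by rw [ht]; group
  have htQ : t ∈ QQ S U := by
    have h4 : t = m⁻¹ * n * (v * m * v⁻¹) := by rw [ht, hwn]; group
    rw [h4]
    exact mul_mem (mul_mem (inv_mem hm) hn) (mem_norm (h.SnQ h.vS) hm)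
  have hinv : (t * v) * x * (t * v)⁻¹ = x⁻¹ := by
    rw [htv]
    have h5 : m⁻¹ * w * m * x * (m⁻¹ * w * m)⁻¹ = m⁻¹ * (w * (m * x * m⁻¹) * w⁻¹) * m := by group
    rw [h5, hmx]; group
  have htx : x * t = t * x := by
    have h6 : t * x⁻¹ * t⁻¹ = x⁻¹ := by
      have h7 : (t * v) * x * (t * v)⁻¹ = t * (v * x * v⁻¹) * t⁻¹ := by group
      rw [h7, h.sx] at hinv
      exact hinv
    have h8 : Commute t x⁻¹ := conj_eq_iff.1 h6
    exact (Commute.inv_right_iff.1 h8).symm.eq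
  have ht2 : (t * v) * (t * v) = 1 := by
    rw [htv]
    calc m⁻¹ * w * m * (m⁻¹ * w * m) = m⁻¹ * (w * w) * m := by group
      _ = 1 := by rw [hw2]; group
  refine ⟨m⁻¹, inv_mem hm, ?_⟩
  rw [inv_inv, ← htv]
  rcases h.fix_inv htQ htx ht2 with h9 | h9
  · left; rw [h9, one_mul]
  · right; rw [h9]

/-- There is `q ∈ Q` commuting with `v` and inducing on `A` the transvection `f ↦ f z`. -/
theorem exists_q [Finite G] : ∃ q ∈ QQ S U, q * v = v * q ∧ q * f * q⁻¹ = f * z := by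
  obtain ⟨b, hb, hbf⟩ := h.tv z h.zU
  have h1 : b * v * b⁻¹ * v⁻¹ ∈ TT S A := by
    refine h.mem_T_of_fix ?_ ?_
    · have h2 : b * v * b⁻¹ * v⁻¹ = b * (v * b⁻¹ * v⁻¹) := by group
      rw [h2]
      exact mul_mem hb (mem_norm (h.SnQ h.vS) (inv_mem hb))
    · have h3 : b⁻¹ * f * b = f * z := by
        have h4 : b⁻¹ * (f * z) * b = f := by rw [← hbf]; group
        have h5 : b⁻¹ * z * b = z := by
          have := h.zSc (inv_mem hb.1)
          rwa [inv_inv] at this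
        have h6 : b⁻¹ * (f * z) * b = (b⁻¹ * f * b) * (b⁻¹ * z * b) := by group
        rw [h6, h5] at h4
        calc b⁻¹ * f * b = (b⁻¹ * f * b) * (z * z) := by rw [h.z2, mul_one]
          _ = (b⁻¹ * f * b) * z * z := by group
          _ = f * z := by rw [h4]
      have h7 : v⁻¹ * f * v = f := by
        rw [h.vi, h.vf, mul_assoc, h.v2, mul_one]
      have h8 : v * (f * z) * v⁻¹ = f * z := by
        have h9 : v * (f * z) * v⁻¹ = (v * f * v⁻¹) * (v * z * v⁻¹) := by group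
        rw [h9, conj_eq_iff.2 h.vf, conj_eq_iff.2 h.vz]
      have h10 : b * (f * z) * b⁻¹ = f := by
        have h11 : b * (f * z) * b⁻¹ = (b * f * b⁻¹) * (b * z * b⁻¹) := by group
        rw [h11, hbf, h.zSc hb.1, mul_assoc, h.z2, mul_one]
      calc b * v * b⁻¹ * v⁻¹ * f * (b * v * b⁻¹ * v⁻¹)⁻¹
          = b * (v * (b⁻¹ * (v⁻¹ * f * v) * b) * v⁻¹) * b⁻¹ := by group
        _ = f := by rw [h7, h3, h8, h10]
  obtain ⟨m, hm, hmv⟩ := h.cover h.T_le_Q h.xT (h.SnT h.vS) hb h1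
  refine ⟨m * b, mul_mem (h.T_le_Q hm) hb, hmv, ?_⟩
  have h2 : m * b * f * (m * b)⁻¹ = m * (b * f * b⁻¹) * m⁻¹ := by group
  have h3 : m * (f * z) * m⁻¹ = f * z :=
    conj_eq_iff.2 (mem_cent_iff.1 hm.2 _ (mul_mem h.fA h.zA))
  rw [h2, hbf, h3]

end Fv

end Cfsg.Agent.RankThreeFus
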