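import Cfsg.Agent.RankThreeFus.CTwoPts
import Cfsg.Agent.RankThreeFus.Star

/-!
# S1730, (B8*), CASE II: reduction to the situation `Fv`
-/

set_option autoImplicit false
set_option linter.style.haveILetI false

namespace Cfsg.Agent.RankThreeFus.CTwo

open Subgroup Cfsg.Agent.Lib.GoldschmidtFusion Cfsg.Agent.Lib.EssentialFusion Cfsg.Agent.StdL2.G23Aut
  Cfsg.Agent.RankThreeFus

variable {G : Type*} [Group G]

theorem conj_mem_normalizer {V : Subgroup G} {b y : G} (hb : b ∈ normalizer (V : Set G))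
    (hy : y ∈ normalizer (V : Set G)) : b * y * b⁻¹ ∈ normalizer (V : Set G) :=
  mul_mem (mul_mem hb hy) (inv_mem hb)

/-- Conjugating the frame by an element of `S`. -/
theorem Fr_conj {S : Sylow 2 G} {A U : Subgroup G} {z f x s : G} (h : Fr S A U z f x s) {b : G}
    (hb : b ∈ (S : Subgroup G)) : Fr S A U z (b * f * b⁻¹) (b * x * b⁻¹) (b * s * b⁻¹) := by
  have hbA := h.hyp.norm hb
  have hbU := h.SnU hb
  have hbz : b * z * b⁻¹ = z := conj_eq_iff.2 (h.zc b hb)
  have hbz' : b⁻¹ * z * b = z := by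
    calc b⁻¹ * z * b = b⁻¹ * (b * z * b⁻¹) * b := by rw [hbz]
      _ = z := by group
  exact
    { hyp := h.hyp
      UA := h.UA
      cardU := h.cardU
      nU := h.nU
      zU := h.zU
      z1 := h.z1
      zc := h.zc
      zuniq := h.zuniq
      fA := mem_norm hbA h.fA
      fU := by
        intro h1
        apply h.fU
        have h2 := mem_norm' hbU h1
        have e : b⁻¹ * (b * f * b⁻¹) * b = f := by group
        rwa [e] at h2
      xA := conj_mem_normalizer hbA h.xA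
      xT := conj_mem_normalizer (h.SnT hb) h.xT
      xQ := conj_mem_normalizer (h.SnQ hb) h.xQ
      xz := by
        intro h1
        apply h.xz
        have e : x * z * x⁻¹ = b⁻¹ * ((b * x * b⁻¹) * (b * z * b⁻¹) * (b * x * b⁻¹)⁻¹) * b := by group
        rw [e, hbz, h1, hbz']
      xf := by
        have := h.xf
        calc (b * x * b⁻¹) * (b * f * b⁻¹) = b * (x * f) * b⁻¹ := by group
          _ = b * (f * x) * b⁻¹ := by rw [this]
          _ = _ := by group
      xo := by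
        obtain ⟨k, hk⟩ := h.xo
        refine ⟨k, ?_⟩
        rw [← hk]
        have h4 := orderOf_injective (MulAut.conj b).toMonoidHom (MulAut.conj b).injective x
        simpa using h4
      sS := mul_mem (mul_mem hb h.sS) (inv_mem hb)
      sU := by
        intro h1
        apply h.sU
        have h2 := conj_mem_cent (inv_mem hbU) h1
        have e : b⁻¹ * (b * s * b⁻¹) * b⁻¹⁻¹ = s := by group
        rwa [e] at h2
      sx := by
        have := h.sx
        calc (b * s * b⁻¹) * (b * x * b⁻¹) * (b * s * b⁻¹)⁻¹ = b * (s * x * s⁻¹) * b⁻¹ := by group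
          _ = b * x⁻¹ * b⁻¹ := by rw [this]
          _ = (b * x * b⁻¹)⁻¹ := by group
      cardS := h.cardS
      cardQ := h.cardQ
      tv := by
        intro u hu
        obtain ⟨q, hq, hqf⟩ := h.tv u hu
        have hbu := mem_norm' hbU hu
        obtain ⟨q, hq, hqf⟩ := h.tv _ hbu
        refine ⟨b * q * b⁻¹, mem_norm (h.SnQ hb) hq, ?_⟩
        calc (b * q * b⁻¹) * (b * f * b⁻¹) * (b * q * b⁻¹)⁻¹ = b * (q * f * q⁻¹) * b⁻¹ := by group
          _ = b * (f * (b⁻¹ * u * b)) * b⁻¹ := by rw [hqf]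
          _ = (b * f * b⁻¹) * u := by group }

/-- Conjugating the data on `Y`. -/
theorem YH_conj {S : Sylow 2 G} {A U : Subgroup G} {z x s : G} {Y : Subgroup G} {t : G} (hz : ∀ g ∈ (S : Subgroup G),
    g * z = z * g) (hA : (S : Subgroup G) ≤ normalizer (A : Set G)) (h : YH S A U z x s Y t) {b : G}
    (hb : b ∈ (S : Subgroup G)) : YH S A U z (b * x * b⁻¹) (b * s * b⁻¹) Y (b * t * b⁻¹) where
  AY := h.AY
  YT := h.YT
  comm := h.comm
  nS := h.nS
  nx := conj_mem_normalizer (h.nS hb) h.nx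
  QY := h.QY
  tY := mem_norm (h.nS hb) h.tY
  tt := by
    have e : b * t * b⁻¹ * (b * t * b⁻¹) = b * (t * t) * b⁻¹ := by group
    rw [e, h.tt]
    exact conj_eq_iff.2 (hz b hb)
  ttt := by
    have e : b * t * b⁻¹ * (b * x * b⁻¹ * (b * t * b⁻¹) * (b * x * b⁻¹)⁻¹) *
        (b * x * b⁻¹ * (b * x * b⁻¹) * (b * t * b⁻¹) * (b * x * b⁻¹ * (b * x * b⁻¹))⁻¹) =
        b * (t * (x * t * x⁻¹) * (x * x * t * (x * x)⁻¹)) * b⁻¹ := by group
    rw [e, h.ttt]; group
  x3 := by
    intro y hy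
    have h1 := h.x3 _ (mem_norm' (h.nS hb) hy)
    calc b * x * b⁻¹ * (b * x * b⁻¹) * (b * x * b⁻¹) * y = b * (x * x * x * (b⁻¹ * y * b)) * b⁻¹ := by group
      _ = b * ((b⁻¹ * y * b) * (x * x * x)) * b⁻¹ := by rw [h1]
      _ = _ := by group
  st := by
    have e : b * s * b⁻¹ * (b * t * b⁻¹) * (b * s * b⁻¹)⁻¹ * (b * t * b⁻¹)⁻¹ =
        b * (s * t * s⁻¹ * t⁻¹) * b⁻¹ := by group
    rw [e]
    exact mem_norm (hA hb) h.st

/-- The element `s` can be replaced by any element of `S`. -/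
theorem YH_change {S : Sylow 2 G} {A U : Subgroup G} {z f x s : G} {Y : Subgroup G} {t : G} (hF : Fr S A U z f x s)
    [Finite G] (h : YH S A U z x s Y t) {v : G} (hv : v ∈ (S : Subgroup G)) : YH S A U z x v Y t where
  AY := h.AY
  YT := h.YT
  comm := h.comm
  nS := h.nS
  nx := h.nx
  QY := h.QY
  tY := h.tY
  tt := h.tt
  ttt := h.ttt
  x3 := h.x3
  st := by
    by_cases hvU : v ∈ QQ S U
    · exact h.QY v hvU t h.tY
    · have h1 : s⁻¹ * v ∈ QQ S U := by
        refine hF.mul_mem_Q (inv_mem hF.sS) hv ?_ hvU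
        intro h1
        apply hF.sU
        have h2 := (centralizer (U : Set G)).inv_mem h1.2
        rwa [inv_inv] at h2
      have h2 := h.QY _ h1 t h.tY
      have e : v * t * v⁻¹ * t⁻¹ = s * ((s⁻¹ * v) * t * (s⁻¹ * v)⁻¹ * t⁻¹) * s⁻¹ * (s * t * s⁻¹ * t⁻¹) := by group
      rw [e]
      exact mul_mem (mem_norm (hF.hyp.norm hF.sS) h2) h.st

/-- **CASE II ⟹ `Fv`.** -/
theorem Two.exists_Fv [Finite G] {S : Sylow 2 G} {A U : Subgroup G} {z f x s : G} {Y : Subgroup G} {t : G}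
    {P : Subgroup G} (h : Two S A U z f x s Y t P) :
    ∃ f' x' v' g t' : G, Fv S A U z f' x' v' g ∧ YH S A U z x' v' Y t' := by
  obtain ⟨X, hX⟩ := h.exists_X
  obtain ⟨w, hw, hwU⟩ := hX.exists_w
  -- conjugate `f` to `w`
  have hwA := hX.XA hw
  have hF := h.fr
  have hfw : f * w ∈ U := by
    rcases hF.mem_A hwA with h1 | h1
    · exact absurd h1 hwU
    · exact h1
  obtain ⟨b, hb, hbf⟩ := hF.tv _ hfw
  have hbw : b * f * b⁻¹ = w := by
    rw [hbf, ← mul_assoc, hF.sqA hF.fA, one_mul]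
  have hF' := Fr_conj hF hb.1
  have hY' := YH_conj hF.zc hF.hyp.norm h.yh hb.1
  rw [hbw] at hF'
  -- the second point
  obtain ⟨l, hl, hlU⟩ := SetLike.not_le_iff_exists.1 h.max.not
  have hlA : cj l A ≠ A := fun he => hlU (hF.nU (cj_eq_iff.1 he))
  have hEl : Pt A P (cj l A) := ⟨l, hl, rfl⟩
  have hzl : z ∈ cj l U := by
    rw [mem_cj]
    have : l⁻¹ * z * l = z := by rw [mul_assoc, ← h.Lz l hl, inv_mul_cancel_left]
    rw [this]; exact hF.zU
  obtain ⟨v₀, hv₀, hv₀X⟩ : ∃ v ∈ U, v ∉ X := by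
    by_contra hno
    push Not at hno
    exact hX.XU (Subgroup.eq_of_le_of_card_ge (show U ≤ X from hno) (by rw [hX.cardX, hF.cardU])).symm
  set v := l * v₀ * l⁻¹ with hv
  have hvU : v ∈ cj l U := conj_mem_cj hv₀ l
  have hvX : v ∉ X := hX.notMem_X hl hv₀X
  have hvl : v ∈ cj l A := conj_mem_cj (hF.UA hv₀) l
  have hlS : cj l A ≤ S := (h.pt_le hEl).trans h.PS
  have hvQ : v ∉ QQ S U := by
    intro h1
    have h2 := hX.anti (Two.ptA A P) hEl hlA.symm (hF.UA hv₀) hv₀X hvl hvX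
    have h3 := mem_cent_iff.1 h1.2 v₀ hv₀
    rw [← h3] at h2
    exact hX.z1 (mul_eq_left.1 h2.symm)
  have hwl : w ∈ cj l A := hX.X_le hEl hw
  obtain ⟨m, hm, hFv⟩ := hF'.exists_Fv (v := v) (g := l) ((h.pt_oct hEl).sq v hvl) hlS hzl hvU hwl hvQ
  refine ⟨w, m * (b * x * b⁻¹) * m⁻¹, v, l, m * (b * t * b⁻¹) * m⁻¹, hFv, ?_⟩
  have hY2 := YH_conj hF.zc hF.hyp.norm hY' hm.1
  exact YH_change (Fr_conj hF' hm.1) hY2 (hlS hvl)

end Cfsg.Agent.RankThreeFus.CTwo
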