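import Cfsg.Agent.RankThreeFus.YZero
import Cfsg.Agent.RankThreeFus.VRoot
import Cfsg.Agent.RankThreeFus.AEnd

/-!
# S1730, (B8*), CASE II: glue
-/

set_option autoImplicit false
set_option linter.style.haveILetI false

namespace Cfsg.Agent.RankThreeFus.CTwo

open Subgroup Cfsg.Agent.Lib.GoldschmidtFusion Cfsg.Agent.StdL2.G23Aut Cfsg.Agent.RankThreeFus

variable {G : Type*} [Group G] {S : Sylow 2 G} {A U : Subgroup G} {z f x s : G} {Y : Subgroup G} {t : G}
  {P : Subgroup G}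

theorem YH_of_Yz (h : Yz S A U z f x s Y t) : YH S A U z x s Y t where
  AY := h.AY
  YT := h.YT
  comm := h.comm
  nS := h.nS
  nx := h.nx
  QY := h.QY
  tY := h.tY
  tt := h.tt
  ttt := by
    have e : t * (x * t * x⁻¹) * (x * x * t * (x * x)⁻¹) = t * (x * t * x⁻¹) * (x * (x * t * x⁻¹) * x⁻¹) := by
      group
    rw [e, h.tr]
  x3 := by
    intro y hy
    have e : x * x * x = x ^ 3 := by rw [pow_succ, pow_two]
    rw [e]
    exact h.x3 y hy
  st := h.st

/-- CASE II from helper727's `Yz` and helper276's `Choice.Max`. -/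
theorem Two.mk' (hY : Yz S A U z f x s Y t) (hm : Choice.Max S U P) (hAP : A ≤ P)
    (hLz : ∀ l ∈ normalizer (P : Set G), l * z = z * l)
    (h4 : ∀ l ∈ normalizer (P : Set G), 4 ≤ Nat.card (A ⊓ cj l A : Subgroup G)) :
    Two S A U z f x s Y t P :=
  ⟨hY.fr, YH_of_Yz hY, hm, hAP, hLz, h4⟩

/-- The missing part of the kill of type (a5). -/
def ExistsC (G : Type*) [Group G] : Prop :=
  ∀ (S : Sylow 2 G) (A U : Subgroup G) (z f x v g t : G), Fv S A U z f x v g → Eone.Root S A U z x v t →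
    v * t = t * v → ∃ c ∈ QQ S U, (∀ q ∈ QQ S U, v * (q * v * q⁻¹) ∈ zpowers c) ∧
      (∀ q ∈ QQ S U, q * c * q⁻¹ ∈ zpowers c) ∧ z ∈ zpowers c

/-- CASE II gives sectional 2-rank at most 4. -/
theorem Two.rank_le_of [Finite G] (h : Two S A U z f x s Y t P) (hC : ExistsC G) :
    Cfsg.SectionalPRankLE 2 4 G := by
  obtain ⟨f', x', v', g, t', hFv, R, hvt⟩ := VRoot.exists_all h
  obtain ⟨c, hc, h1, h2, h3⟩ := hC S A U z f' x' v' g t' hFv R hvt
  exact AEnd.rank_le hFv hc h1 h2 h3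

end Cfsg.Agent.RankThreeFus.CTwo
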