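import Cfsg.Agent.RankThreeFus.CTwoT

/-!
# S1730, (B8*), CASE II: `t₂ = x t x⁻¹ ∈ N_S(P)` moves all points but `A`
-/

set_option autoImplicit false
set_option linter.style.haveILetI false

namespace Cfsg.Agent.RankThreeFus.CTwo

open Subgroup Cfsg.Agent.Lib.GoldschmidtFusion Cfsg.Agent.Lib.EssentialFusion Cfsg.Agent.StdL2.G23Aut
  Cfsg.Agent.RankThreeFus

variable {G : Type*} [Group G]

namespace TwoX

variable {S : Sylow 2 G} {A U : Subgroup G} {z f x s : G} {Y : Subgroup G} {t : G} {P X : Subgroup G}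
  (h : TwoX S A U z f x s Y t P X)

include h

theorem t2Y : x * t * x⁻¹ ∈ Y := mem_norm h.two.yh.nx h.two.yh.tY

theorem t2T : x * t * x⁻¹ ∈ TT S A := h.two.yh.YT h.t2Y

theorem t2S : x * t * x⁻¹ ∈ (S : Subgroup G) := h.t2T.1

theorem t2sq : x * t * x⁻¹ * (x * t * x⁻¹) = x * z * x⁻¹ := by
  rw [← h.two.yh.tt]; group

theorem e1U : x * z * x⁻¹ ∈ U := mem_norm h.two.fr.xU h.two.fr.zU

theorem e1A : x * z * x⁻¹ ∈ A := h.two.fr.UA h.e1U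

theorem e1ne : x * z * x⁻¹ ≠ 1 := fun he => h.z1 (conj_eq_one_iff.1 he)

theorem YS : Y ≤ S := h.two.yh.YT.trans inf_le_left

/-- involutions of `Y` lie in `A` -/
theorem sqY [Finite G] {y : G} (hy : y ∈ Y) (hyy : y * y = 1) : y ∈ A :=
  Oct.mem_of_comm h.two.fr.hyp.rank h.two.fr.hyp.oct hyy fun _ he => h.tA (h.two.yh.YT hy) he

/-- `[s, t₂] ∈ tA`. -/
theorem st2 : t⁻¹ * (s * (x * t * x⁻¹) * s⁻¹ * (x * t * x⁻¹)⁻¹) ∈ A := by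
  have hF := h.two.fr
  have hY := h.two.yh
  set t₂ := x * t * x⁻¹ with ht₂
  set t₃ := x * x * t * (x * x)⁻¹ with ht₃
  have t3Y : t₃ ∈ Y := by
    have := mem_norm hY.nx h.t2Y
    have e : x * (x * t * x⁻¹) * x⁻¹ = t₃ := by rw [ht₃]; group
    rwa [e] at this
  -- `x⁻¹ t x = t₃`
  have h1 : x⁻¹ * t * x = t₃ := by
    have h2 := hY.x3 t hY.tY
    rw [ht₃]
    calc x⁻¹ * t * x = x⁻¹ * (t * (x * x * x)) * (x * x)⁻¹ := by group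
      _ = x⁻¹ * (x * x * x * t) * (x * x)⁻¹ := by rw [h2]
      _ = _ := by group
  -- `s t₂ s⁻¹ = (x⁻¹ [s,t] x) (x⁻¹ t x)`
  have hsx : s * x = x⁻¹ * s := by
    calc s * x = (s * x * s⁻¹) * s := by group
      _ = _ := by rw [hF.sx]
  have h3 : s * t₂ * s⁻¹ = (x⁻¹ * (s * t * s⁻¹ * t⁻¹) * x) * t₃ := by
    rw [← h1, ht₂]
    have h4 : x⁻¹ * s⁻¹ = (s * x)⁻¹ := by group
    calc s * (x * t * x⁻¹) * s⁻¹ = (s * x) * t * (x⁻¹ * s⁻¹) := by group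
      _ = (x⁻¹ * s) * t * (x⁻¹ * s)⁻¹ := by rw [h4, hsx]
      _ = _ := by group
  have ha : x⁻¹ * (s * t * s⁻¹ * t⁻¹) * x ∈ A := mem_norm' hF.xA hY.st
  set a := x⁻¹ * (s * t * s⁻¹ * t⁻¹) * x
  have h5 : t * t₂ * t₃ = 1 := hY.ttt
  have h6 : t₃ = (t * t₂)⁻¹ := eq_inv_of_mul_eq_one_right h5
  have haY : a ∈ Y := hY.AY ha
  have htt₂ : t * t₂ = t₂ * t := hY.comm t hY.tY t₂ h.t2Y
  -- `t⁻¹ a t₃ t₂⁻¹ = a (t t₂ t t₂)⁻¹`
  have h7 : t⁻¹ * (s * t₂ * s⁻¹ * t₂⁻¹) = a * ((t₂ * t₂)⁻¹ * (t * t)⁻¹) := by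
    rw [h3, h6]
    have hat : t⁻¹ * a = a * t⁻¹ := hY.comm _ (inv_mem hY.tY) a haY
    calc t⁻¹ * (a * (t * t₂)⁻¹ * t₂⁻¹) = (t⁻¹ * a) * (t * t₂)⁻¹ * t₂⁻¹ := by group
      _ = a * (t⁻¹ * (t * t₂)⁻¹ * t₂⁻¹) := by rw [hat]; group
      _ = a * ((t₂ * t * t₂ * t)⁻¹) := by
          congr 1
          group
      _ = a * ((t₂ * t₂)⁻¹ * (t * t)⁻¹) := by
          congr 1
          have e : t₂ * t * t₂ * t = t * t * (t₂ * t₂) := by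
            calc t₂ * t * t₂ * t = (t₂ * t) * (t₂ * t) := by group
              _ = (t * t₂) * (t₂ * t) := by rw [htt₂]
              _ = t * (t₂ * (t₂ * t)) := by group
              _ = t * (t₂ * (t * t₂)) := by rw [htt₂]
              _ = t * ((t₂ * t) * t₂) := by group
              _ = t * ((t * t₂) * t₂) := by rw [htt₂]
              _ = _ := by group
          rw [e]; group
  rw [h7, h.t2sq, hY.tt]
  exact mul_mem ha (mul_mem (inv_mem h.e1A) (inv_mem h.two.zA))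

variable [Finite G]

/-- `[S, t₂] ⊆ A ∪ tA`. -/
theorem St2 {g : G} (hg : g ∈ (S : Subgroup G)) :
    g * (x * t * x⁻¹) * g⁻¹ * (x * t * x⁻¹)⁻¹ ∈ A ∨ t⁻¹ * (g * (x * t * x⁻¹) * g⁻¹ * (x * t * x⁻¹)⁻¹) ∈ A := by
  have hF := h.two.fr
  rcases h.s_mul hg with h1 | h1
  · exact Or.inl (h.two.yh.QY g h1 _ h.t2Y)
  · right
    set t₂ := x * t * x⁻¹ with ht₂
    set q := s⁻¹ * g with hq
    have h2 := h.two.yh.QY q h1 t₂ h.t2Y
    have e : g * t₂ * g⁻¹ * t₂⁻¹ = (s * (q * t₂ * q⁻¹ * t₂⁻¹) * s⁻¹) * (s * t₂ * s⁻¹ * t₂⁻¹) := by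
      rw [hq]; group
    have h3 := mem_norm (hF.hyp.norm hF.sS) h2
    set a := s * (q * t₂ * q⁻¹ * t₂⁻¹) * s⁻¹
    have h4 : t⁻¹ * a = a * t⁻¹ := by
      have := h.tA h.tP' h3
      calc t⁻¹ * a = t⁻¹ * (a * t) * t⁻¹ := by group
        _ = t⁻¹ * (t * a) * t⁻¹ := by rw [this]
        _ = _ := by group
    rw [e]
    have e2 : t⁻¹ * (a * (s * t₂ * s⁻¹ * t₂⁻¹)) = a * (t⁻¹ * (s * t₂ * s⁻¹ * t₂⁻¹)) := by
      rw [← mul_assoc, h4]; group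
    rw [e2]
    exact mul_mem h3 h.st2

theorem t2_cmt {g : G} (hg : g ∈ (S : Subgroup G)) :
    (x * t * x⁻¹) * g * (x * t * x⁻¹)⁻¹ * g⁻¹ ∈ A ∨ t⁻¹ * ((x * t * x⁻¹) * g * (x * t * x⁻¹)⁻¹ * g⁻¹) ∈ A := by
  set t₂ := x * t * x⁻¹ with ht₂
  have e : t₂ * g * t₂⁻¹ * g⁻¹ = (g * t₂ * g⁻¹ * t₂⁻¹)⁻¹ := by group
  rw [e]
  rcases h.St2 hg with h1 | h1
  · exact Or.inl (inv_mem h1)
  · right
    rw [← ht₂] at h1
    set c := g * t₂ * g⁻¹ * t₂⁻¹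
    -- `t⁻¹ c⁻¹ = (t⁻¹ c)⁻¹ t⁻²`, everything in `Y`
    have hz : t * t = z := h.two.yh.tt
    have htA := h.tA h.tP' h1
    have e2 : t⁻¹ * c⁻¹ = (t⁻¹ * c)⁻¹ * (t * t)⁻¹ := by
      have e3 : c⁻¹ = (t⁻¹ * c)⁻¹ * t⁻¹ := by group
      have e4 : t⁻¹ * (t⁻¹ * c)⁻¹ = (t⁻¹ * c)⁻¹ * t⁻¹ := by
        calc t⁻¹ * (t⁻¹ * c)⁻¹ = (t⁻¹ * c * t)⁻¹ := by group
          _ = (t * (t⁻¹ * c))⁻¹ := by rw [htA]
          _ = _ := by group
      rw [e3, ← mul_assoc, e4]; group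
    rw [e2, hz]
    exact mul_mem (inv_mem h1) (inv_mem h.two.zA)

theorem e1z : x * z * x⁻¹ ≠ z := h.two.fr.xz

theorem e1X : x * z * x⁻¹ ∉ X := by
  intro h1
  rcases h.XU_cases h1 h.e1U with h2 | h2
  · exact h.e1ne h2
  · exact h.e1z h2

theorem tA_le {y : G} (hy : y ∈ A ∨ t⁻¹ * y ∈ A) : y ∈ P := by
  rcases hy with hy | hy
  · exact h.two.AP hy
  · have : y = t * (t⁻¹ * y) := by group
    rw [this]
    exact mul_mem h.tP (h.two.AP hy)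

theorem t2N : x * t * x⁻¹ ∈ normalizer (P : Set G) := by
  apply mem_norm_of_conj
  intro p hp
  have h1 := h.tA_le (h.t2_cmt (h.two.PS hp))
  have e : (x * t * x⁻¹) * p * (x * t * x⁻¹)⁻¹ = ((x * t * x⁻¹) * p * (x * t * x⁻¹)⁻¹ * p⁻¹) * p := by group
  rw [e]
  exact mul_mem h1 hp

theorem t2_wY {g : G} (hg : g ∈ (S : Subgroup G)) : (x * t * x⁻¹) * g * (x * t * x⁻¹)⁻¹ * g⁻¹ ∈ Y := by
  have h1 : g * (x * t * x⁻¹)⁻¹ * g⁻¹ ∈ Y := mem_norm (h.two.yh.nS hg) (inv_mem h.t2Y)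
  have e : (x * t * x⁻¹) * g * (x * t * x⁻¹)⁻¹ * g⁻¹ = (x * t * x⁻¹) * (g * (x * t * x⁻¹)⁻¹ * g⁻¹) := by group
  rw [e]
  exact mul_mem h.t2Y h1

/-- `[t₂, e]² = z` for `e ∈ E - X`, `E ≠ A`. -/
theorem t2_w {E : Subgroup G} (hE : Pt A P E) (hEA : E ≠ A) {e : G} (he : e ∈ E) (heX : e ∉ X) :
    ((x * t * x⁻¹) * e * (x * t * x⁻¹)⁻¹ * e⁻¹) * ((x * t * x⁻¹) * e * (x * t * x⁻¹)⁻¹ * e⁻¹) = z := by
  have heS := h.two.PS (h.two.pt_le hE he)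
  have hw := h.t2_wY heS
  have h1 := h.anti (Two.ptA A P) hE hEA.symm h.e1A h.e1X he heX
  rw [← h.t2sq] at h1
  set t₂ := x * t * x⁻¹ with ht₂
  set w := t₂ * e * t₂⁻¹ * e⁻¹ with hw'
  have hcomm : t₂ * w = w * t₂ := h.two.yh.comm _ h.t2Y _ hw
  -- `t₂² e t₂⁻² e⁻¹ = t₂ w t₂⁻¹ w`
  have h2 : t₂ * t₂ * e = w * w * e * (t₂ * t₂) := by
    have e1 : t₂ * e = w * e * t₂ := by rw [hw']; group
    calc t₂ * t₂ * e = t₂ * (t₂ * e) := by group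
      _ = (t₂ * w) * e * t₂ := by rw [e1]; group
      _ = w * (t₂ * e) * t₂ := by rw [hcomm]; group
      _ = _ := by rw [e1]; group
  rw [h1] at h2
  have hz := h.zPc (h.two.pt_le hE he)
  have hz2 : (t₂ * t₂) * z = z * (t₂ * t₂) := by
    rw [h.t2sq]; exact h.zPc (h.two.AP h.e1A)
  have h3 : e * (t₂ * t₂) * z = z * (e * (t₂ * t₂)) := by
    rw [mul_assoc, hz2, ← mul_assoc, hz]; group
  have h4 : z * (e * (t₂ * t₂)) = w * w * (e * (t₂ * t₂)) := by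
    rw [← h3, h2]; group
  exact (mul_right_cancel h4).symm

/-- **(a3)** `t₂` fixes no point except `A`. -/
theorem t2_ne {E : Subgroup G} (hE : Pt A P E) (hEA : E ≠ A) : cj (x * t * x⁻¹) E ≠ E := by
  intro hfix
  obtain ⟨e, he, heX⟩ : ∃ e ∈ E, e ∉ X := by
    by_contra hno
    push Not at hno
    have h1 := Subgroup.card_le_of_le (show E ≤ X from hno)
    rw [(h.two.pt_oct hE).card, h.cardX] at h1
    omega
  have h1 := h.t2_w hE hEA he heX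
  have h2 : (x * t * x⁻¹) * e * (x * t * x⁻¹)⁻¹ ∈ E := by
    have := conj_mem_cj he (x * t * x⁻¹)
    rwa [hfix] at this
  have h3 := (h.two.pt_oct hE).sq _ (mul_mem h2 (inv_mem he))
  rw [h3] at h1
  exact h.z1 h1.symm

theorem exists_e {E : Subgroup G} (hE : Pt A P E) : ∃ e ∈ E, e ∉ X := by
  by_contra hno
  push Not at hno
  have h1 := Subgroup.card_le_of_le (show E ≤ X from hno)
  rw [(h.two.pt_oct hE).card, h.cardX] at h1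
  omega

theorem t2P : x * t * x⁻¹ ∉ P := by
  intro h1
  obtain ⟨E, hE, hEA⟩ := h.ex
  exact h.t2_ne hE hEA (cj_eq_iff.2 (h.two.pt_norm hE h1))

/-- `[t₂, e] ∈ tA` for `e ∈ E - X`, `E ≠ A`. -/
theorem t2_wt {E : Subgroup G} (hE : Pt A P E) (hEA : E ≠ A) {e : G} (he : e ∈ E) (heX : e ∉ X) :
    t⁻¹ * ((x * t * x⁻¹) * e * (x * t * x⁻¹)⁻¹ * e⁻¹) ∈ A := by
  rcases h.t2_cmt (h.two.PS (h.two.pt_le hE he)) with h1 | h1
  · exfalso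
    have h2 := h.two.fr.sqA h1
    rw [h.t2_w hE hEA he heX] at h2
    exact h.z1 h2
  · exact h1

/-- the square of `t₂` fixes all points -/
theorem t2_t2 {E : Subgroup G} (hE : Pt A P E) : cj (x * t * x⁻¹) (cj (x * t * x⁻¹) E) = E := by
  rw [cj_cj, h.t2sq, cj_eq_iff]
  exact h.two.pt_norm hE (h.two.AP h.e1A)

theorem t2_ne_A {E : Subgroup G} (hEA : E ≠ A) : cj (x * t * x⁻¹) E ≠ A := by
  intro he
  apply hEA
  have h1 : cj (x * t * x⁻¹) A = A := cj_eq_iff.2 (h.two.fr.hyp.norm h.t2S)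
  have h2 := cj_inv_eq he
  rw [← h2]
  exact cj_inv_eq h1

end TwoX

end Cfsg.Agent.RankThreeFus.CTwo
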