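import Cfsg.Agent.RankThreeFus.CTwoBase

/-!
# S1730, (B8*), CASE II: commutators between the points; `t ∈ P`, `t₂ ∈ N_S(P)` moves all points but `A`
-/

set_option autoImplicit false
set_option linter.style.haveILetI false

namespace Cfsg.Agent.RankThreeFus.CTwo

open Subgroup Cfsg.Agent.Lib.GoldschmidtFusion Cfsg.Agent.Lib.EssentialFusion Cfsg.Agent.StdL2.G23Aut
  Cfsg.Agent.RankThreeFus

variable {G : Type*} [Group G]

/-- An element normalising a group `V` of order 4 and centralising `z ∈ V` moves elements by `z`. -/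
theorem fix4 [Finite G] {V : Subgroup G} (hV : Nat.card V = 4) (hsq : ∀ v ∈ V, v * v = 1) {z r v : G}
    (hz : z ∈ V) (hz1 : z ≠ 1) (hr : r ∈ normalizer (V : Set G)) (hrz : r * z = z * r) (hv : v ∈ V) :
    r * v * r⁻¹ = v ∨ r * v * r⁻¹ = v * z := by
  by_cases hv1 : v = 1
  · left; rw [hv1]; group
  by_cases hvz : v = z
  · left; rw [hvz]; exact conj_eq_iff.2 hrz
  rcases four_cases hV hsq hz hv hz1 hv1 hvz (mem_norm hr hv) with h | h | h | h
  · exact absurd (conj_eq_one_iff.1 h) hv1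
  · exfalso
    apply hvz
    have h2 : r * v = r * z := by rw [hrz]; exact mul_inv_eq_iff_eq_mul.1 h
    exact mul_left_cancel h2
  · exact Or.inl h
  · exact Or.inr h

/-- An element of odd order. -/
theorem fix_of_odd {z g w : G} (ho : Odd (orderOf g)) (hgz : g * z = z * g) (hzz : z * z = 1)
    (h : g * w * g⁻¹ = w ∨ g * w * g⁻¹ = w * z) : g * w * g⁻¹ = w := by
  rcases h with h | h
  · exact h
  have key : ∀ n : ℕ, g ^ n * w * (g ^ n)⁻¹ = w * z ^ n := by
    intro n
    induction n with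
    | zero => simp
    | succ n ih =>
      have hz : g * z ^ n * g⁻¹ = z ^ n := by
        rw [← conj_pow, conj_eq_iff.2 hgz]
      calc g ^ (n + 1) * w * (g ^ (n + 1))⁻¹ = g * (g ^ n * w * (g ^ n)⁻¹) * g⁻¹ := by
            rw [pow_succ']; group
        _ = (g * w * g⁻¹) * (g * z ^ n * g⁻¹) := by rw [ih]; group
        _ = w * z ^ (n + 1) := by rw [h, hz, mul_assoc, ← pow_succ']
  obtain ⟨k, hk⟩ := ho
  have h1 := key (orderOf g)
  rw [pow_orderOf_eq_one, hk, pow_succ, pow_mul, pow_two, hzz, one_pow] at h1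
  have hz1 : z = 1 := by
    have : w * 1 = w * z := by simpa using h1
    exact (mul_left_cancel this).symm
  rw [h, hz1, mul_one]

namespace TwoX

variable {S : Sylow 2 G} {A U : Subgroup G} {z f x s : G} {Y : Subgroup G} {t : G} {P X : Subgroup G}
  (h : TwoX S A U z f x s Y t P X)

include h

theorem z1 : z ≠ 1 := h.two.fr.z1

theorem zz : z * z = 1 := h.two.zz

theorem sqX {a : G} (ha : a ∈ X) : a * a = 1 := h.two.fr.sqA (h.XA ha)

theorem zP : z ∈ P := h.two.AP h.two.zA

/-- `z` commutes with the elements of `N_G(P)`. -/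
theorem zL {l : G} (hl : l ∈ normalizer (P : Set G)) : l * z = z * l := h.two.Lz l hl

theorem zPc {p : G} (hp : p ∈ P) : p * z = z * p := h.zL (le_normalizer hp)

theorem X_le {E : Subgroup G} (hE : Pt A P E) : X ≤ E := by
  obtain ⟨F, hF, hFA⟩ := h.ex
  by_cases he : E = A
  · rw [he]; exact h.XA
  · rw [← h.int E A hE (Two.ptA A P) he]
    exact inf_le_left

theorem mem_X {E E' : Subgroup G} (hE : Pt A P E) (hE' : Pt A P E') (hne : E ≠ E') {e : G} (he : e ∈ E)
    (he' : e ∈ E') : e ∈ X := by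
  rw [← h.int E E' hE hE' hne]
  exact ⟨he, he'⟩

variable [Finite G]

theorem XU_cases {w : G} (hX : w ∈ X) (hU : w ∈ U) : w = 1 ∨ w = z := by
  by_contra hno
  push Not at hno
  apply h.XU
  refine Subgroup.eq_of_le_of_card_ge ?_ (by rw [h.cardX, h.two.fr.cardU])
  intro y hy
  rcases four_cases h.cardX (fun _ => h.sqX) h.zX hX h.z1 hno.1 hno.2 hy with rfl | rfl | rfl | rfl
  · exact U.one_mem
  · exact h.two.fr.zU
  · exact hU
  · exact mul_mem hU h.two.fr.zU

theorem exists_w : ∃ w ∈ X, w ∉ U := by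
  by_contra hno
  push Not at hno
  exact h.XU (Subgroup.eq_of_le_of_card_ge (show X ≤ U from hno) (by rw [h.cardX, h.two.fr.cardU]))

/-- `[A, N_S(P)] ≤ ⟨z⟩`. -/
theorem cmtA {r a : G} (hrS : r ∈ (S : Subgroup G)) (hrP : r ∈ normalizer (P : Set G)) (ha : a ∈ A) :
    r * a * r⁻¹ = a ∨ r * a * r⁻¹ = a * z := by
  obtain ⟨u, hu, v, hv, rfl⟩ := exists_of_two h.two.fr.hyp.oct h.XA h.two.fr.UA h.cardX h.two.fr.cardU h.XU ha
  have h1 := fix4 h.cardX (fun _ => h.sqX) h.zX h.z1 (h.NX hrP) (h.zL hrP) hu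
  have h2 := fix4 h.two.fr.cardU (fun _ hv => h.two.fr.sqA (h.two.fr.UA hv)) h.two.fr.zU h.z1
    (h.two.fr.SnU hrS) (h.zL hrP) hv
  have hvz : v * z = z * v := h.two.fr.commA (h.two.fr.UA hv) h.two.zA
  have e : r * (u * v) * r⁻¹ = (r * u * r⁻¹) * (r * v * r⁻¹) := by group
  rw [e]
  rcases h1 with h1 | h1 <;> rcases h2 with h2 | h2 <;> rw [h1, h2]
  · exact Or.inl rfl
  · right; group
  · right
    rw [mul_assoc, ← hvz, ← mul_assoc]
  · left
    calc u * z * (v * z) = u * (z * v) * z := by group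
      _ = u * v * (z * z) := by rw [← hvz]; group
      _ = u * v := by rw [h.zz, mul_one]

/-- `[E, P] ≤ ⟨z⟩` for all points. -/
theorem cmt {E : Subgroup G} (hE : Pt A P E) {p e : G} (hp : p ∈ P) (he : e ∈ E) :
    p * e * p⁻¹ = e ∨ p * e * p⁻¹ = e * z := by
  obtain ⟨l, hl, rfl⟩ := hE
  rw [mem_cj] at he
  have hp' := mem_norm' hl hp
  have e1 : l * z * l⁻¹ = z := conj_eq_iff.2 (h.zL hl)
  have e2 : p * e * p⁻¹ = l * ((l⁻¹ * p * l) * (l⁻¹ * e * l) * (l⁻¹ * p * l)⁻¹) * l⁻¹ := by group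
  rcases h.cmtA (h.two.PS hp') (le_normalizer hp') he with h1 | h1
  · left; rw [e2, h1]; group
  · right
    rw [e2, h1]
    calc l * (l⁻¹ * e * l * z) * l⁻¹ = e * (l * z * l⁻¹) := by group
      _ = e * z := by rw [e1]

/-- `E = X ∪ eX`. -/
theorem pt_cases {E : Subgroup G} (hE : Pt A P E) {e g : G} (he : e ∈ E) (heX : e ∉ X) (hg : g ∈ E) :
    g ∈ X ∨ e * g ∈ X := by
  by_cases hgX : g ∈ X
  · exact Or.inl hgX
  · right
    exact mul_mem_of_index_two (h.X_le hE) (by rw [(h.two.pt_oct hE).card, h.cardX]) he hg heX hgX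

/-- Elements of distinct points, outside `X`, anticommute. -/
theorem anti {E E' : Subgroup G} (hE : Pt A P E) (hE' : Pt A P E') (hne : E ≠ E') {e e' : G} (he : e ∈ E)
    (heX : e ∉ X) (he' : e' ∈ E') (heX' : e' ∉ X) : e * e' = e' * e * z := by
  rcases h.cmt hE' (h.two.pt_le hE he) he' with h1 | h1
  · exfalso
    have hc : e * e' = e' * e := conj_eq_iff.1 h1
    apply h.two.noncomm hE hE' hne
    intro a ha b hb
    have oE := h.two.pt_oct hE
    have oE' := h.two.pt_oct hE'
    rcases h.pt_cases hE he heX ha with ha' | ha'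
    · exact oE'.comm (h.X_le hE' ha') hb
    rcases h.pt_cases hE' he' heX' hb with hb' | hb'
    · exact oE.comm ha (h.X_le hE hb')
    -- `a = e u`, `b = e' v`
    have ea : a = e * (e * a) := by rw [← mul_assoc, oE.sq e he, one_mul]
    have eb : b = e' * (e' * b) := by rw [← mul_assoc, oE'.sq e' he', one_mul]
    set u := e * a
    set v := e' * b
    have c1 : u * e' = e' * u := oE'.comm (h.X_le hE' ha') he'
    have c2 : u * v = v * u := oE.comm (h.X_le hE ha') (h.X_le hE hb')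
    have c3 : e * v = v * e := oE.comm he (h.X_le hE hb')
    rw [ea, eb]
    calc e * u * (e' * v) = e * (u * e') * v := by group
      _ = (e * e') * (u * v) := by rw [c1]; group
      _ = e' * (e * v) * u := by rw [hc, c2]; group
      _ = e' * v * (e * u) := by rw [c3]; group
  · calc e * e' = (e * e' * e⁻¹) * e := by group
      _ = e' * (z * e) := by rw [h1]; group
      _ = e' * e * z := by rw [← h.zPc (h.two.pt_le hE he)]; group

omit [Finite G] h in
/-- A point different from `E` is moved to a point different from `l E l⁻¹`. -/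
theorem cj_ne {E E' : Subgroup G} (hne : E ≠ E') (l : G) : cj l E ≠ cj l E' := by
  intro he
  apply hne
  have := congrArg (fun Z : Subgroup G => cj l⁻¹ Z) he
  simpa only [cj_cj, inv_mul_cancel, cj_one] using this

omit [Finite G] in
theorem notMem_X {l e : G} (hl : l ∈ normalizer (P : Set G)) (he : e ∉ X) : l * e * l⁻¹ ∉ X := by
  intro h1
  apply he
  have h2 := mem_norm' (h.NX hl) h1
  have h3 : l⁻¹ * (l * e * l⁻¹) * l = e := by group
  rwa [h3] at h2

/-- **(1.4)** an element of `N_S(P)` fixing a point other than `A` lies in `P`. -/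
theorem mem_P {r : G} (hrS : r ∈ (S : Subgroup G)) (hrP : r ∈ normalizer (P : Set G)) {E : Subgroup G}
    (hE : Pt A P E) (hEA : E ≠ A) (hr : cj r E = E) : r ∈ P := by
  by_contra hno
  obtain ⟨l, hl, rfl⟩ := hE
  set R₁ : Subgroup G := P ⊔ zpowers r with hR₁
  have hR₁S : R₁ ≤ S := sup_le h.two.PS (by rw [zpowers_le]; exact hrS)
  have hlt : P < R₁ := by
    refine lt_of_le_of_ne le_sup_left ?_
    intro he
    apply hno
    rw [he]
    exact (le_sup_right : zpowers r ≤ R₁) (mem_zpowers r)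
  have hcard : Nat.card P < Nat.card R₁ := Set.Finite.card_lt_card (Set.toFinite _) hlt
  set M : Subgroup G := normalizer (A : Set G) ⊓ normalizer (P : Set G) with hM
  have hR₂ : cj l⁻¹ R₁ ≤ M := by
    have h1 : R₁ ≤ normalizer ((cj l A : Subgroup G) : Set G) ⊓ normalizer (P : Set G) := by
      refine sup_le (le_inf (h.two.pt_norm ⟨l, hl, rfl⟩) le_normalizer) ?_
      rw [zpowers_le]
      exact ⟨cj_eq_iff.1 hr, hrP⟩
    intro y hy
    rw [mem_cj, inv_inv] at hy
    obtain ⟨h2, h3⟩ := mem_inf.1 (h1 hy)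
    refine mem_inf.2 ⟨?_, ?_⟩
    · rw [← cj_eq_iff] at h2 ⊢
      rw [cj_cj] at h2
      have h4 := congrArg (fun Z : Subgroup G => cj l⁻¹ Z) h2
      simp only [cj_cj, inv_mul_cancel, cj_one] at h4
      have e : l⁻¹ * (l * y * l⁻¹ * l) = y := by group
      rw [e] at h4
      exact h4
    · have h4 := mul_mem (mul_mem (inv_mem hl) h3) hl
      have e : l⁻¹ * (l * y * l⁻¹) * l = y := by group
      rwa [e] at h4
  have hSM : (S : Subgroup G) ⊓ normalizer (P : Set G) ≤ M := inf_le_inf_right _ h.two.fr.hyp.norm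
  have hfull := not_dvd_relIndex_of_le (p := 2) hSM (inf_le_right : M ≤ normalizer (P : Set G))
    h.two.max.ess.full
  obtain ⟨m, hm, hmS⟩ := exists_conj_le_in (p := 2) (N := M) (R := (S : Subgroup G) ⊓ normalizer (P : Set G))
    (S.isPGroup'.to_le inf_le_left) hfull hR₂ ((S.isPGroup'.to_le hR₁S).map _)
  rw [map_conj_map_conj] at hmS
  have h5 := Choice.control (S := S) h.two.max.max hR₁S (hmS.trans inf_le_left) (h.two.max.le.trans hlt.le) hcard
  have h6 : m ∈ normalizer (U : Set G) := h.two.fr.nU hm.1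
  have h7 : l ∈ normalizer (U : Set G) := by
    have h8 := mul_mem (inv_mem h6) h5
    have e : m⁻¹ * (m * l⁻¹) = l⁻¹ := by group
    rw [e] at h8
    simpa using inv_mem h8
  have h8 : U ≤ X := by
    rw [← h.int A (cj l A) (Two.ptA A P) ⟨l, hl, rfl⟩ hEA.symm]
    refine le_inf h.two.fr.UA ?_
    have := map_conj_mono h.two.fr.UA l
    rwa [mem_normalizer_iff_map_conj.1 h7] at this
  exact h.XU (Subgroup.eq_of_le_of_card_ge h8 (by rw [h.cardX, h.two.fr.cardU])).symm

end TwoX

end Cfsg.Agent.RankThreeFus.CTwo
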