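import Cfsg.Agent.RankThreeFus.CTwoPts

/-!
# S1730, (B8*), CASE II: `t ∈ P`, and `t₂ = x t x⁻¹ ∈ N_S(P)` moves all points but `A`
-/

set_option autoImplicit false
set_option linter.style.haveILetI false

namespace Cfsg.Agent.RankThreeFus.CTwo

open Subgroup Cfsg.Agent.Lib.GoldschmidtFusion Cfsg.Agent.Lib.EssentialFusion Cfsg.Agent.StdL2.G23Aut
  Cfsg.Agent.RankThreeFus

variable {G : Type*} [Group G]

/-- The subgroup generated by the points. -/
def DD (A P : Subgroup G) : Subgroup G := closure {e : G | ∃ E : Subgroup G, Pt A P E ∧ e ∈ E}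

theorem pt_le_DD {A P E : Subgroup G} (hE : Pt A P E) : E ≤ DD A P := fun e he => subset_closure ⟨E, hE, he⟩

theorem DD_norm [Finite G] (A P : Subgroup G) : normalizer (P : Set G) ≤ normalizer (DD A P : Set G) := by
  intro l hl
  apply mem_norm_of_conj
  intro d hd
  rw [DD] at hd
  induction hd using closure_induction with
  | mem d hd =>
    obtain ⟨E, hE, hd⟩ := hd
    exact pt_le_DD (Two.pt_cj hE hl) (conj_mem_cj hd l)
  | one => simp
  | mul a b _ _ iha ihb =>
    have : l * (a * b) * l⁻¹ = (l * a * l⁻¹) * (l * b * l⁻¹) := by group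
    rw [this]; exact mul_mem iha ihb
  | inv a _ iha =>
    have : l * a⁻¹ * l⁻¹ = (l * a * l⁻¹)⁻¹ := by group
    rw [this]; exact inv_mem iha

namespace TwoX

variable {S : Sylow 2 G} {A U : Subgroup G} {z f x s : G} {Y : Subgroup G} {t : G} {P X : Subgroup G}
  (h : TwoX S A U z f x s Y t P X)

include h

theorem DD_le : DD A P ≤ P := by
  rw [DD, closure_le]
  rintro e ⟨E, hE, he⟩
  exact h.two.pt_le hE he

theorem A_le_DD : A ≤ DD A P := pt_le_DD (Two.ptA A P)

theorem X_le_DD : X ≤ DD A P := h.XA.trans h.A_le_DD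

theorem tP' : t ∈ TT S A := h.two.yh.YT h.two.yh.tY

/-- every element of `T` centralises `A` -/
theorem tA {y a : G} (hy : y ∈ TT S A) (ha : a ∈ A) : y * a = a * y := mem_cent_iff.1 hy.2 a ha

variable [Finite G]

/-- Squares of `D` lie in `⟨z⟩`, and `[D, P] ≤ ⟨z⟩`. -/
theorem DD_cmt {p d : G} (hp : p ∈ P) (hd : d ∈ DD A P) : p * d * p⁻¹ = d ∨ p * d * p⁻¹ = d * z := by
  rw [DD] at hd
  induction hd using closure_induction with
  | mem d hd =>
    obtain ⟨E, hE, hd⟩ := hd
    exact h.cmt hE hp hd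
  | one => left; group
  | mul a b ha hb iha ihb =>
    have hbz := h.zPc (h.DD_le hb)
    have e : p * (a * b) * p⁻¹ = (p * a * p⁻¹) * (p * b * p⁻¹) := by group
    rw [e]
    rcases iha with iha | iha <;> rcases ihb with ihb | ihb <;> rw [iha, ihb]
    · exact Or.inl rfl
    · right; group
    · right; rw [mul_assoc a z b, ← hbz]; group
    · left
      calc a * z * (b * z) = a * (z * b) * z := by group
        _ = a * b * (z * z) := by rw [← hbz]; group
        _ = a * b := by rw [h.zz, mul_one]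
  | inv a ha iha =>
    have hpa : p * a⁻¹ * p⁻¹ = (p * a * p⁻¹)⁻¹ := by group
    rw [hpa]
    rcases iha with iha | iha <;> rw [iha]
    · exact Or.inl rfl
    · right
      have hbz := h.zPc (inv_mem (h.DD_le ha))
      have hzi : z⁻¹ = z := inv_eq_of_mul_eq_one_left h.zz
      rw [mul_inv_rev, hzi, ← hbz]

theorem DD_sq {d : G} (hd : d ∈ DD A P) : d * d = 1 ∨ d * d = z := by
  have hd' := hd
  rw [DD] at hd
  induction hd using closure_induction with
  | mem d hd =>
    obtain ⟨E, hE, hd⟩ := hd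
    exact Or.inl ((h.two.pt_oct hE).sq d hd)
  | one => left; group
  | mul a b ha hb iha ihb =>
    have haD : a ∈ DD A P := ha
    have hbD : b ∈ DD A P := hb
    have iha := iha haD
    have ihb := ihb hbD
    have haz := h.zPc (h.DD_le haD)
    have hbz := h.zPc (h.DD_le hbD)
    have e : a * b * (a * b) = (a * a) * (a⁻¹ * b * a⁻¹⁻¹) * b := by group
    rw [e]
    rcases h.DD_cmt (inv_mem (h.DD_le haD)) hbD with h1 | h1 <;> rw [h1]
    · rw [mul_assoc]
      rcases iha with iha | iha <;> rcases ihb with ihb | ihb <;> rw [iha, ihb]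
      · left; group
      · right; group
      · right; group
      · left; exact h.zz
    · have e2 : a * a * (b * z) * b = (a * a) * (b * b) * z := by
        rw [mul_assoc (a * a), mul_assoc b z b, ← hbz]; group
      rw [e2]
      rcases iha with iha | iha <;> rcases ihb with ihb | ihb <;> rw [iha, ihb]
      · right; group
      · left; rw [one_mul]; exact h.zz
      · left; rw [mul_one]; exact h.zz
      · right; rw [h.zz, one_mul]
  | inv a ha iha =>
    have haD : a ∈ DD A P := ha
    have e : a⁻¹ * a⁻¹ = (a * a)⁻¹ := by group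
    rw [e]
    rcases iha haD with iha | iha <;> rw [iha]
    · left; exact inv_one
    · right; exact inv_eq_of_mul_eq_one_left h.zz

/-- `S = Q ∪ sQ`. -/
theorem s_mul {g : G} (hg : g ∈ (S : Subgroup G)) :
    g ∈ (S : Subgroup G) ⊓ centralizer (U : Set G) ∨
      s⁻¹ * g ∈ (S : Subgroup G) ⊓ centralizer (U : Set G) := by
  by_cases hgU : g ∈ centralizer (U : Set G)
  · exact Or.inl ⟨hg, hgU⟩
  · right
    have hF := h.two.fr
    refine mul_mem_of_index_two (H := (S : Subgroup G) ⊓ centralizer (U : Set G)) (K := S) inf_le_left ?_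
      (inv_mem hF.sS) hg (fun h' => hF.sU (by simpa using inv_mem (mem_inf.1 h').2)) (fun h' => hgU h'.2)
    have h1 := hF.cardS
    have h2 := hF.cardQ
    omega

/-- `[S, t] ≤ A`. -/
theorem St {g : G} (hg : g ∈ (S : Subgroup G)) : g * t * g⁻¹ * t⁻¹ ∈ A := by
  have hF := h.two.fr
  rcases h.s_mul hg with h1 | h1
  · exact h.two.yh.QY g h1 t h.two.yh.tY
  · set q := s⁻¹ * g with hq
    have h2 := h.two.yh.QY q h1 t h.two.yh.tY
    have e : g * t * g⁻¹ * t⁻¹ = (s * (q * t * q⁻¹ * t⁻¹) * s⁻¹) * (s * t * s⁻¹ * t⁻¹) := by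
      rw [hq]; group
    rw [e]
    exact mul_mem (mem_norm (hF.hyp.norm hF.sS) h2) h.two.yh.st

/-- **(a1)** `t ∈ P`. -/
theorem tP : t ∈ P := by
  classical
  have hF := h.two.fr
  have htS : t ∈ (S : Subgroup G) := h.tP'.1
  have htN : t ∈ normalizer (P : Set G) := by
    apply mem_norm_of_conj
    intro p hp
    have h1 := h.St (inv_mem (h.two.PS hp))
    -- `t p t⁻¹ = p * (p⁻¹ t p t⁻¹)`
    have e : t * p * t⁻¹ = p * (p⁻¹ * t * p⁻¹⁻¹ * t⁻¹) := by group
    rw [e]
    exact mul_mem hp (h.two.AP h1)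
  let c : ℕ → Subgroup G := fun i => if i = 0 then P else if i = 1 then DD A P else if i = 2 then X else ⊥
  have c0 : c 0 = P := rfl
  have c1 : c 1 = DD A P := rfl
  have c2 : c 2 = X := rfl
  have c3 : ∀ i, c (i + 3) = ⊥ := by
    intro i
    simp only [c]
    rw [if_neg (by omega), if_neg (by omega), if_neg (by omega)]
  have hle : ∀ i, c (i + 1) ≤ c i := by
    intro i
    match i with
    | 0 => exact h.DD_le
    | 1 => exact h.X_le_DD
    | 2 => rw [c3 0]; exact bot_le
    | i + 3 =>
      have : i + 3 + 1 = (i + 1) + 3 := by ring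
      rw [this, c3]; exact bot_le
  have hc : ∀ i, normalizer (P : Set G) ≤ normalizer (c i : Set G) := by
    intro i
    match i with
    | 0 => exact le_rfl
    | 1 => exact DD_norm A P
    | 2 => exact h.NX
    | i + 3 =>
      rw [c3]
      intro g _
      rw [mem_normalizer_iff]
      intro y
      constructor
      · intro hy; rw [mem_bot] at hy; rw [hy, mem_bot]; group
      · intro hy; rw [mem_bot] at hy ⊢; exact conj_eq_one_iff.1 hy
  refine h.two.max.ess.mem_of_chain c 3 c0 (c3 0) hle hc htS htN ?_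
  -- `t` is trivial on `D / X`
  have hD : ∀ e ∈ DD A P, t * e * t⁻¹ * e⁻¹ ∈ X := by
    have hgen : ∀ E : Subgroup G, Pt A P E → ∀ e ∈ E, t * e * t⁻¹ * e⁻¹ ∈ X := by
      intro E hE e he
      by_cases hEA : E = A
      · subst hEA
        have : t * e * t⁻¹ * e⁻¹ = 1 := by rw [h.tA h.tP' he]; group
        rw [this]; exact X.one_mem
      by_cases heX : e ∈ X
      · exact mul_mem (mem_norm (h.NX htN) heX) (inv_mem heX)
      -- `t e t⁻¹ e⁻¹ ∈ A`
      have heS := h.two.PS (h.two.pt_le hE he)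
      have hA : t * e * t⁻¹ * e⁻¹ ∈ A := by
        have h1 := inv_mem (h.St heS)
        have e1 : (e * t * e⁻¹ * t⁻¹)⁻¹ = t * e * t⁻¹ * e⁻¹ := by group
        rwa [e1] at h1
      have hE' := Two.pt_cj hE htN
      have he' : t * e * t⁻¹ ∈ cj t E := conj_mem_cj he t
      by_cases hEE : cj t E = E
      · rw [hEE] at he'
        exact h.mem_X hE (Two.ptA A P) hEA (mul_mem he' (inv_mem he)) hA
      · exfalso
        have h1 := h.anti hE' hE hEE he' (h.notMem_X htN heX) he heX
        have hei : e⁻¹ = e := (h.two.pt_oct hE).inv he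
        rw [hei] at hA
        have h2 := hF.sqA hA
        have h3 := (h.two.pt_oct hE').sq _ he'
        have h4 := (h.two.pt_oct hE).sq _ he
        set e' := t * e * t⁻¹
        -- `(e' e)² = 1`, `e' e = e e' z`
        have h5 : e' * e * (e' * e) = z := by
          have hz := h.zPc (h.two.pt_le hE' he')
          calc e' * e * (e' * e) = e' * e * (e * e' * z) := by rw [h1]
            _ = e' * (e * e) * e' * z := by group
            _ = (e' * e') * z := by rw [h4]; group
            _ = z := by rw [h3, one_mul]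
        rw [h5] at h2
        exact h.z1 h2
    intro e he
    rw [DD] at he
    induction he using closure_induction with
    | mem d hd =>
      obtain ⟨E, hE, hd⟩ := hd
      exact hgen E hE d hd
    | one => simp
    | mul a b ha hb iha ihb =>
      have e : t * (a * b) * t⁻¹ * (a * b)⁻¹ = (t * a * t⁻¹ * a⁻¹) * (a * (t * b * t⁻¹ * b⁻¹) * a⁻¹) := by group
      rw [e]
      exact mul_mem iha (mem_norm (h.NX (le_normalizer (h.DD_le ha))) ihb)
    | inv a ha iha =>
      have e : t * a⁻¹ * t⁻¹ * a⁻¹⁻¹ = (a⁻¹ * (t * a * t⁻¹ * a⁻¹) * a⁻¹⁻¹)⁻¹ := by group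
      rw [e]
      exact inv_mem (mem_norm (h.NX (inv_mem (le_normalizer (h.DD_le ha)))) iha)
  intro i
  match i with
  | 0 =>
    intro e he
    change t * e * t⁻¹ * e⁻¹ ∈ DD A P
    have heS := h.two.PS he
    have h1 := inv_mem (h.St heS)
    have e1 : (e * t * e⁻¹ * t⁻¹)⁻¹ = t * e * t⁻¹ * e⁻¹ := by group
    rw [e1] at h1
    exact h.A_le_DD h1
  | 1 => exact hD
  | 2 =>
    intro e he
    have : t * e * t⁻¹ * e⁻¹ = 1 := by rw [h.tA h.tP' (h.XA he)]; group
    rw [this]; exact one_mem _
  | i + 3 =>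
    intro e he
    rw [c3, mem_bot] at he
    rw [he]
    simp

end TwoX

end Cfsg.Agent.RankThreeFus.CTwo
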