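import Cfsg.Agent.RankThreeFus.YZero

/-!
# S1730, branch (B), (B8*), CASE I: the data

`Ci S A U z f x e Y t b`: `e ∈ S - Q` and `b ∈ Q - T` are commuting involutions, `e` inverts `x` and
centralises `f` and `t`, `[f, b] = z`.
-/

set_option autoImplicit false
set_option linter.style.haveILetI false
set_option linter.unusedSectionVars false
set_option linter.unusedVariables false

namespace Cfsg.Agent.RankThreeFus

open Subgroup Cfsg.Agent.Lib.GoldschmidtFusion Cfsg.Agent.StdL2.G23Aut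

variable {G : Type*} [Group G]

/-- The data of CASE I. -/
structure Ci (S : Sylow 2 G) (A U : Subgroup G) (z f x e : G) (Y : Subgroup G) (t b : G) : Prop where
  yz : Yz S A U z f x e Y t
  ee : e * e = 1
  et : e * t = t * e
  bQ : b ∈ QQ S U
  bb : b * b = 1
  bf : b * f * b⁻¹ = f * z
  be : b * e = e * b

namespace Fr

variable {S : Sylow 2 G} {A U : Subgroup G} {z f x s : G} (h : Fr S A U z f x s)

include h

/-- `u u^x u^{x²} = 1` on `U` -/
theorem trace_U [Finite G] {u : G} (hu : u ∈ U) : u * (x * u * x⁻¹) * (x * (x * u * x⁻¹) * x⁻¹) = 1 := by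
  have h1 := mem_norm h.xU hu
  have h2 := mem_norm h.xU h1
  have h3 := h.x3_comm_U hu
  have h4 : x * (x * (x * u * x⁻¹) * x⁻¹) * x⁻¹ = u := by
    have e : x * (x * (x * u * x⁻¹) * x⁻¹) * x⁻¹ = x ^ 3 * u * (x ^ 3)⁻¹ := by
      have e4 : x ^ 3 = x * x * x := by rw [pow_succ, pow_two]
      rw [e4]; group
    rw [e]
    exact conj_eq_iff.2 h3
  refine h.eq_one_of_comm (mul_mem (mul_mem hu h1) h2) ?_
  rw [← conj_eq_iff]
  have e : x * (u * (x * u * x⁻¹) * (x * (x * u * x⁻¹) * x⁻¹)) * x⁻¹ =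
      (x * u * x⁻¹) * (x * (x * u * x⁻¹) * x⁻¹) * (x * (x * (x * u * x⁻¹) * x⁻¹) * x⁻¹) := by group
  rw [e, h4, h.commA (h.UA (mul_mem h1 h2)) (h.UA hu), ← mul_assoc]

/-- A new `x`, inverted by a given involution of `S - Q`. -/
theorem adapt [Finite G] {e : G} (heS : e ∈ (S : Subgroup G)) (heU : e ∉ centralizer (U : Set G))
    (hee : e * e = 1) : ∃ f' x' : G, Fr S A U z f' x' e ∧ f * f' ∈ U := by
  have hei : e⁻¹ = e := inv_eq_of_mul_eq_one_right hee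
  have hcS : Nat.card S = 2 * Nat.card (QQ S U) := by
    rw [h.cardS, h.cardQ]; ring
  have hsQ : s⁻¹ ∉ QQ S U := fun h1 => h.sU (by
    have := inv_mem h1
    rw [inv_inv] at this
    exact this.2)
  have hq : e * s⁻¹ ∈ QQ S U := mul_mem_of_index_two (inf_le_left : QQ S U ≤ (S : Subgroup G)) hcS heS
    (inv_mem h.sS) (fun h1 => heU h1.2) hsQ
  obtain ⟨q, hqe⟩ : ∃ q, q = e * s⁻¹ := ⟨_, rfl⟩
  rw [← hqe] at hq
  have heq : e = q * s := by rw [hqe]; group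
  obtain ⟨w, hw⟩ : ∃ w, w = e * x⁻¹ * e * x := ⟨_, rfl⟩
  have hwinv : e * w * e⁻¹ = w⁻¹ := by
    have e1 : w⁻¹ = x⁻¹ * e⁻¹ * x * e⁻¹ := by rw [hw]; group
    rw [e1, hei, hw]
    calc e * (e * x⁻¹ * e * x) * e = (e * e) * x⁻¹ * e * x * e := by group
      _ = _ := by rw [hee, one_mul]
  obtain ⟨r, hr⟩ : ∃ r, r = q * (x * ((s * q * s⁻¹) * (s * s)) * x⁻¹) := ⟨_, rfl⟩
  have hrQ : r ∈ QQ S U := by
    rw [hr]
    exact mul_mem hq (mem_norm h.xQ (mul_mem (mem_norm (h.SnQ h.sS) hq) h.s_sq_mem_Q'))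
  have hwr : w = r * (x * x) := by
    have e1 : w = q * (s * x⁻¹ * s⁻¹) * (s * q * s⁻¹) * (s * s) * x := by rw [hw, heq]; group
    rw [e1, h.sxi, hr]; group
  have hwU : ∀ u ∈ U, w * u * w⁻¹ = x * (x * u * x⁻¹) * x⁻¹ := by
    intro u hu
    have h1 := h.Q_comm hrQ (mem_norm h.xU (mem_norm h.xU hu))
    have e1 : w * u * w⁻¹ = r * (x * (x * u * x⁻¹) * x⁻¹) * r⁻¹ := by rw [hwr]; group
    rw [e1]
    exact conj_eq_iff.2 h1
  have hxN := h.xA
  have heN := h.hyp.norm heS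
  have hwA : w ∈ normalizer (A : Set G) := by
    rw [hw]; exact mul_mem (mul_mem (mul_mem heN (inv_mem hxN)) heN) hxN
  have hwT : w ∈ normalizer (TT S A : Set G) := by
    rw [hw]; exact mul_mem (mul_mem (mul_mem (h.SnT heS) (inv_mem h.xT)) (h.SnT heS)) h.xT
  have hwQ : w ∈ normalizer (QQ S U : Set G) := by
    rw [hw]; exact mul_mem (mul_mem (mul_mem (h.SnQ heS) (inv_mem h.xQ)) (h.SnQ heS)) h.xQ
  -- the new `f`
  have hxf : x * f * x⁻¹ = f := conj_eq_iff.2 h.xf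
  have hwf : w * f * w⁻¹ = r * f * r⁻¹ := by
    have e1 : w * f * w⁻¹ = r * (x * (x * f * x⁻¹) * x⁻¹) * r⁻¹ := by rw [hwr]; group
    rw [e1, hxf, hxf]
  have hrfA : r * f * r⁻¹ ∈ A := mem_norm (h.hyp.norm hrQ.1) h.fA
  have hrfU : f * (r * f * r⁻¹) ∈ U := by
    rcases h.mem_A hrfA with h1 | h1
    · exfalso
      apply h.fU
      have h2 := mem_norm' (h.SnU hrQ.1) h1
      have e1 : r⁻¹ * (r * f * r⁻¹) * r = f := by group
      rwa [e1] at h2
    · exact h1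
  obtain ⟨u, hu⟩ : ∃ u, u = f * (r * f * r⁻¹) := ⟨_, rfl⟩
  rw [← hu] at hrfU
  have hfu : w * f * w⁻¹ = f * u := by
    rw [hwf, hu, ← mul_assoc, h.sqA h.fA, one_mul]
  obtain ⟨v, hv⟩ : ∃ v, v = w * u * w⁻¹ := ⟨_, rfl⟩
  have hvx : v = x * (x * u * x⁻¹) * x⁻¹ := by rw [hv]; exact hwU u hrfU
  have hvU : v ∈ U := by rw [hvx]; exact mem_norm h.xU (mem_norm h.xU hrfU)
  have hwv : w * v * w⁻¹ = x * u * x⁻¹ := by
    rw [hwU v hvU, hvx]
    have e1 : x * (x * (x * (x * u * x⁻¹) * x⁻¹) * x⁻¹) * x⁻¹ = x ^ 3 * (x * u * x⁻¹) * (x ^ 3)⁻¹ := by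
      have e4 : x ^ 3 = x * x * x := by rw [pow_succ, pow_two]
      rw [e4]; group
    rw [e1]
    exact conj_eq_iff.2 (h.x3_comm_U (mem_norm h.xU hrfU))
  have htr := h.trace_U hrfU
  rw [← hvx] at htr
  have huv : u * (x * u * x⁻¹) = v := by
    rw [← inv_eq_of_mul_eq_one_left htr]
    exact h.invA (h.UA hvU)
  have hwf' : w * (f * v) * w⁻¹ = f * v := by
    have e1 : w * (f * v) * w⁻¹ = (w * f * w⁻¹) * (w * v * w⁻¹) := by group
    rw [e1, hfu, hwv, mul_assoc, huv]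
  have hcwf : Commute w (f * v) := conj_eq_iff.1 hwf'
  -- the power
  have hn0 : orderOf w ≠ 0 := (orderOf_pos w).ne'
  obtain ⟨k, m, hm, hkm⟩ := Nat.exists_eq_pow_mul_and_not_dvd hn0 3 (by norm_num)
  have hm0 : m ≠ 0 := by
    rintro rfl
    exact hm (dvd_zero 3)
  have hord : orderOf (w ^ m) = 3 ^ k := by
    rw [orderOf_pow_of_dvd hm0 (by rw [hkm]; exact dvd_mul_left _ _), hkm, Nat.mul_div_cancel _
      (Nat.pos_of_ne_zero hm0)]
  have hw3 : Commute (w ^ 3) z := by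
    have h1 := h.zU
    have h2 : w ^ 3 * z * (w ^ 3)⁻¹ = z := by
      have e4 : w ^ 3 = w * w * w := by rw [pow_succ, pow_two]
      have e1 : w ^ 3 * z * (w ^ 3)⁻¹ = w * (w * (w * z * w⁻¹) * w⁻¹) * w⁻¹ := by rw [e4]; group
      have m1 := mem_norm h.xU (mem_norm h.xU h1)
      have m2 := mem_norm h.xU (mem_norm h.xU m1)
      rw [e1, hwU z h1, hwU _ m1, hwU _ m2]
      have e5 : x * (x * (x * (x * (x * (x * z * x⁻¹) * x⁻¹) * x⁻¹) * x⁻¹) * x⁻¹) * x⁻¹ =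
          x ^ 3 * (x ^ 3 * z * (x ^ 3)⁻¹) * (x ^ 3)⁻¹ := by
        have e4 : x ^ 3 = x * x * x := by rw [pow_succ, pow_two]
        rw [e4]; group
      rw [e5, conj_eq_iff.2 (h.x3_comm_U h1), conj_eq_iff.2 (h.x3_comm_U h1)]
    exact conj_eq_iff.1 h2
  have hwz : w * z ≠ z * w := by
    intro h1
    apply h.xz
    rw [conj_eq_iff]
    apply h.comm_of_sq_x
    have h2 := hwU z h.zU
    rw [conj_eq_iff.2 h1] at h2
    rw [← conj_eq_iff]
    have e : x * x * z * (x * x)⁻¹ = x * (x * z * x⁻¹) * x⁻¹ := by group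
    rw [e, ← h2]
  have hwmz : w ^ m * z ≠ z * w ^ m := by
    intro h1
    have hc1 : Commute (w ^ m) z := h1
    have hcop : IsCoprime (m : ℤ) (3 : ℤ) := by
      have : Nat.Coprime 3 m := (Nat.Prime.coprime_iff_not_dvd Nat.prime_three).2 hm
      exact (Nat.isCoprime_iff_coprime.2 this.symm)
    obtain ⟨a, b, hab⟩ := hcop
    have h2 : w = (w ^ m) ^ a * (w ^ 3) ^ b := by
      have : w = w ^ (a * (m : ℤ) + b * 3) := by rw [hab, zpow_one]
      conv_lhs => rw [this]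
      rw [zpow_add, mul_comm a, mul_comm b, zpow_mul, zpow_mul, zpow_natCast]
      norm_cast
    apply hwz
    have h3 : Commute ((w ^ m) ^ a * (w ^ 3) ^ b) z := (hc1.zpow_left a).mul_left (hw3.zpow_left b)
    rw [← h2] at h3
    exact h3.eq
  refine ⟨f * v, w ^ m, ?_, ?_⟩
  · exact { hyp := h.hyp, UA := h.UA, cardU := h.cardU, nU := h.nU, zU := h.zU, z1 := h.z1, zc := h.zc
            zuniq := h.zuniq, fA := mul_mem h.fA (h.UA hvU)
            fU := fun h1 => h.fU ((mul_mem_cancel_right hvU).1 h1)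
            xA := pow_mem hwA m, xT := pow_mem hwT m, xQ := pow_mem hwQ m
            xz := fun h1 => hwmz (conj_eq_iff.1 h1)
            xf := (hcwf.pow_left m).eq, xo := ⟨k, hord⟩, sS := heS, sU := heU
            sx := by rw [← conj_pow, hwinv, inv_pow]
            cardS := h.cardS, cardQ := h.cardQ
            tv := by
              intro c hc
              obtain ⟨b, hb, hbf⟩ := h.tv c hc
              refine ⟨b, hb, ?_⟩
              have h1 : b * v * b⁻¹ = v := conj_eq_iff.2 (h.Q_comm hb hvU)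
              have e1 : b * (f * v) * b⁻¹ = (b * f * b⁻¹) * (b * v * b⁻¹) := by group
              rw [e1, hbf, h1, mul_assoc, mul_assoc, h.commA (h.UA hc) (h.UA hvU)] }
  · rw [← mul_assoc, h.sqA h.fA, one_mul]
    exact hvU

end Fr

namespace Yz

variable {S : Sylow 2 G} {A U : Subgroup G} {z f x s : G} {Y : Subgroup G} {t : G}
  (h : Yz S A U z f x s Y t)

include h

theorem trace_comm {a : G} (ha : a ∈ Y) : x * (x * (x * a * x⁻¹) * x⁻¹) * x⁻¹ = a := by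
  have e : x * (x * (x * a * x⁻¹) * x⁻¹) * x⁻¹ = x ^ 3 * a * (x ^ 3)⁻¹ := by
    have e4 : x ^ 3 = x * x * x := by rw [pow_succ, pow_two]
    rw [e4]; group
  rw [e]
  exact conj_eq_iff.2 (h.x3 a ha)

/-- changing `t` by an element of `U` -/
theorem change [Finite G] {u : G} (hu : u ∈ U) : Yz S A U z f x s Y (u * t) := by
  have hF := h.fr
  have hUY : ∀ v ∈ U, v ∈ Y := fun v hv => h.AY (hF.UA hv)
  have hxu := mem_norm hF.xU hu
  have hxxu := mem_norm hF.xU hxu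
  have hxt := mem_norm h.nx h.tY
  have hxxt := mem_norm h.nx hxt
  have e1 : x * (u * t) * x⁻¹ = (x * u * x⁻¹) * (x * t * x⁻¹) := by group
  have hc : ∀ a ∈ Y, ∀ b ∈ Y, a * b = b * a := h.comm
  refine { fr := h.fr, AY := h.AY, YT := h.YT, cardY := h.cardY, comm := h.comm, nS := h.nS, nx := h.nx
           QY := h.QY, tY := mul_mem (hUY u hu) h.tY, tt := ?_, tr := ?_, st := ?_, x3 := h.x3, sqU := h.sqU
           sq1 := h.sq1, mem := ?_ }
  · have h1 := hc u (hUY u hu) t h.tY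
    calc u * t * (u * t) = u * (t * u) * t := by group
      _ = u * (u * t) * t := by rw [h1]
      _ = (u * u) * (t * t) := by group
      _ = z := by rw [hF.sqA (hF.UA hu), one_mul, h.tt]
  · have e2 : x * (x * (u * t) * x⁻¹) * x⁻¹ = (x * (x * u * x⁻¹) * x⁻¹) * (x * (x * t * x⁻¹) * x⁻¹) := by group
    rw [e2, e1]
    have h1 := hc t h.tY _ (hUY _ hxu)
    have h2 := hc (t * (x * t * x⁻¹)) (mul_mem h.tY hxt) _ (hUY _ hxxu)
    calc u * t * ((x * u * x⁻¹) * (x * t * x⁻¹)) * ((x * (x * u * x⁻¹) * x⁻¹) * (x * (x * t * x⁻¹) * x⁻¹))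
        = u * (t * (x * u * x⁻¹)) * (x * t * x⁻¹) * ((x * (x * u * x⁻¹) * x⁻¹) * (x * (x * t * x⁻¹) * x⁻¹)) := by
          group
      _ = u * ((x * u * x⁻¹) * t) * (x * t * x⁻¹) * ((x * (x * u * x⁻¹) * x⁻¹) *
          (x * (x * t * x⁻¹) * x⁻¹)) := by rw [h1]
      _ = u * (x * u * x⁻¹) * ((t * (x * t * x⁻¹)) * (x * (x * u * x⁻¹) * x⁻¹)) *
          (x * (x * t * x⁻¹) * x⁻¹) := by group
      _ = u * (x * u * x⁻¹) * ((x * (x * u * x⁻¹) * x⁻¹) * (t * (x * t * x⁻¹))) *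
          (x * (x * t * x⁻¹) * x⁻¹) := by rw [h2]
      _ = (u * (x * u * x⁻¹) * (x * (x * u * x⁻¹) * x⁻¹)) *
          (t * (x * t * x⁻¹) * (x * (x * t * x⁻¹) * x⁻¹)) := by group
      _ = 1 := by rw [hF.trace_U hu, h.tr, one_mul]
  · have e2 : s * (u * t) * s⁻¹ * (u * t)⁻¹ =
        (s * u * s⁻¹) * (s * t * s⁻¹ * t⁻¹) * u⁻¹ := by group
    rw [e2]
    exact mul_mem (mul_mem (hF.UA (mem_norm (hF.SnU hF.sS) hu)) h.st) (inv_mem (hF.UA hu))
  · intro y hy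
    obtain ⟨a, ha, h1⟩ := h.mem y hy
    have huA := hF.UA hu
    have hxuA := hF.UA hxu
    rw [e1]
    have huu := hF.sqA huA
    have hxx := hF.sqA hxuA
    rcases h1 with h1 | h1 | h1 | h1
    · exact ⟨a, ha, Or.inl h1⟩
    · refine ⟨a * u, mul_mem ha huA, Or.inr (Or.inl ?_)⟩
      rw [h1]
      calc a * t = a * (u * u) * t := by rw [huu, mul_one]
        _ = _ := by group
    · refine ⟨a * (x * u * x⁻¹), mul_mem ha hxuA, Or.inr (Or.inr (Or.inl ?_))⟩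
      rw [h1]
      calc a * (x * t * x⁻¹) = a * ((x * u * x⁻¹) * (x * u * x⁻¹)) * (x * t * x⁻¹) := by rw [hxx, mul_one]
        _ = _ := by group
    · refine ⟨a * ((x * u * x⁻¹) * u), mul_mem ha (mul_mem hxuA huA), Or.inr (Or.inr (Or.inr ?_))⟩
      rw [h1]
      have h2 := hc t h.tY _ (hUY _ hxu)
      calc a * (t * (x * t * x⁻¹)) = a * ((x * u * x⁻¹) * (x * u * x⁻¹)) * (u * u) * (t * (x * t * x⁻¹)) := by
            rw [huu, hxx, mul_one, mul_one]
        _ = a * (x * u * x⁻¹) * ((x * u * x⁻¹) * (u * u)) * (t * (x * t * x⁻¹)) := by group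
        _ = a * (x * u * x⁻¹) * ((u * u) * (x * u * x⁻¹)) * (t * (x * t * x⁻¹)) := by
            rw [hF.commA hxuA (mul_mem huA huA)]
        _ = a * ((x * u * x⁻¹) * u) * (u * ((x * u * x⁻¹) * t) * (x * t * x⁻¹)) := by group
        _ = a * ((x * u * x⁻¹) * u) * (u * (t * (x * u * x⁻¹)) * (x * t * x⁻¹)) := by rw [h2]
        _ = _ := by group

/-- `t` can be chosen so that a given involution `s = e` centralises it -/
theorem exists_comm [Finite G] (hss : s * s = 1) : ∃ t', Yz S A U z f x s Y t' ∧ s * t' = t' * s := by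
  have hF := h.fr
  have hsi : s⁻¹ = s := inv_eq_of_mul_eq_one_right hss
  have hUY : ∀ v ∈ U, v ∈ Y := fun v hv => h.AY (hF.UA hv)
  have hc : ∀ a ∈ Y, ∀ b ∈ Y, a * b = b * a := h.comm
  have hxt := mem_norm h.nx h.tY
  have hxxt := mem_norm h.nx hxt
  obtain ⟨a, ha⟩ : ∃ a, a = s * t * s⁻¹ * t⁻¹ := ⟨_, rfl⟩
  have haA : a ∈ A := by rw [ha]; exact h.st
  have hst : s * t * s⁻¹ = a * t := by rw [ha]; group
  -- the trace of `a`
  have hxa := mem_norm hF.xA haA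
  have hxxa := mem_norm hF.xA hxa
  have htra : a * (x * a * x⁻¹) * (x * (x * a * x⁻¹) * x⁻¹) = 1 := by
    -- trace of `a t`
    have h1 : (a * t) * (x * (a * t) * x⁻¹) * (x * (x * (a * t) * x⁻¹) * x⁻¹) = 1 := by
      rw [← hst]
      have hsx := hF.sx
      have e2 : s * x⁻¹ * s⁻¹ = x := hF.sxi
      have e3 : x * (s * t * s⁻¹) * x⁻¹ = s * (x⁻¹ * t * x) * s⁻¹ := by
        calc x * (s * t * s⁻¹) * x⁻¹ = (s * x⁻¹ * s⁻¹) * (s * t * s⁻¹) * (s * x⁻¹ * s⁻¹)⁻¹ := by rw [e2]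
          _ = _ := by group
      have e4 : x * (s * (x⁻¹ * t * x) * s⁻¹) * x⁻¹ = s * (x⁻¹ * (x⁻¹ * t * x) * x) * s⁻¹ := by
        calc x * (s * (x⁻¹ * t * x) * s⁻¹) * x⁻¹ = (s * x⁻¹ * s⁻¹) * (s * (x⁻¹ * t * x) * s⁻¹) *
              (s * x⁻¹ * s⁻¹)⁻¹ := by rw [e2]
          _ = _ := by group
      rw [e3, e4]
      have e5 : x⁻¹ * t * x = x * (x * t * x⁻¹) * x⁻¹ := by
        have := h.trace_comm h.tY
        calc x⁻¹ * t * x = x⁻¹ * (x * (x * (x * t * x⁻¹) * x⁻¹) * x⁻¹) * x := by rw [this]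
          _ = _ := by group
      have e6 : x⁻¹ * (x⁻¹ * t * x) * x = x * t * x⁻¹ := by rw [e5]; group
      rw [e6, e5]
      have e7 : s * t * s⁻¹ * (s * (x * (x * t * x⁻¹) * x⁻¹) * s⁻¹) * (s * (x * t * x⁻¹) * s⁻¹) =
          s * (t * ((x * (x * t * x⁻¹) * x⁻¹) * (x * t * x⁻¹))) * s⁻¹ := by group
      rw [e7, hc _ hxxt _ hxt, ← mul_assoc t, h.tr]
      group
    have e8 : x * (a * t) * x⁻¹ = (x * a * x⁻¹) * (x * t * x⁻¹) := by group
    have e9 : x * ((x * a * x⁻¹) * (x * t * x⁻¹)) * x⁻¹ =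
      (x * (x * a * x⁻¹) * x⁻¹) * (x * (x * t * x⁻¹) * x⁻¹) := by group
    rw [e8, e9] at h1
    have h2 := hc t h.tY _ (h.AY hxa)
    have h3 := hc (t * (x * t * x⁻¹)) (mul_mem h.tY hxt) _ (h.AY hxxa)
    have h4 : a * t * ((x * a * x⁻¹) * (x * t * x⁻¹)) * ((x * (x * a * x⁻¹) * x⁻¹) * (x * (x * t * x⁻¹) * x⁻¹))
        = (a * (x * a * x⁻¹) * (x * (x * a * x⁻¹) * x⁻¹)) *
          (t * (x * t * x⁻¹) * (x * (x * t * x⁻¹) * x⁻¹)) := by
      calc a * t * ((x * a * x⁻¹) * (x * t * x⁻¹)) * ((x * (x * a * x⁻¹) * x⁻¹) * (x * (x * t * x⁻¹) * x⁻¹))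
          = a * (t * (x * a * x⁻¹)) * (x * t * x⁻¹) * ((x * (x * a * x⁻¹) * x⁻¹) *
            (x * (x * t * x⁻¹) * x⁻¹)) := by group
        _ = a * ((x * a * x⁻¹) * t) * (x * t * x⁻¹) * ((x * (x * a * x⁻¹) * x⁻¹) *
            (x * (x * t * x⁻¹) * x⁻¹)) := by rw [h2]
        _ = a * (x * a * x⁻¹) * ((t * (x * t * x⁻¹)) * (x * (x * a * x⁻¹) * x⁻¹)) *
            (x * (x * t * x⁻¹) * x⁻¹) := by group
        _ = a * (x * a * x⁻¹) * ((x * (x * a * x⁻¹) * x⁻¹) * (t * (x * t * x⁻¹))) *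
            (x * (x * t * x⁻¹) * x⁻¹) := by rw [h3]
        _ = _ := by group
    rw [h4, h.tr, mul_one] at h1
    exact h1
  have haU : a ∈ U := by
    rcases hF.mem_A haA with h1 | h1
    · exact h1
    · exfalso
      obtain ⟨u, hu⟩ : ∃ u, u = f * a := ⟨_, rfl⟩
      rw [← hu] at h1
      have hau : a = f * u := by rw [hu, ← mul_assoc, hF.sqA hF.fA, one_mul]
      have hxf : x * f * x⁻¹ = f := conj_eq_iff.2 hF.xf
      have e1 : x * a * x⁻¹ = f * (x * u * x⁻¹) := by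
        rw [hau]
        have : x * (f * u) * x⁻¹ = (x * f * x⁻¹) * (x * u * x⁻¹) := by group
        rw [this, hxf]
      have e2 : x * (f * (x * u * x⁻¹)) * x⁻¹ = f * (x * (x * u * x⁻¹) * x⁻¹) := by
        have : x * (f * (x * u * x⁻¹)) * x⁻¹ = (x * f * x⁻¹) * (x * (x * u * x⁻¹) * x⁻¹) := by group
        rw [this, hxf]
      have hxu := mem_norm hF.xU h1
      have hxxu := mem_norm hF.xU hxu
      rw [e1, e2, hau] at htra
      have c1 := hF.commA (hF.UA h1) hF.fA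
      have c2 := hF.commA (hF.UA (mul_mem h1 hxu)) hF.fA
      have h2 : f * u * (f * (x * u * x⁻¹)) * (f * (x * (x * u * x⁻¹) * x⁻¹)) =
          f * (f * f) * (u * (x * u * x⁻¹) * (x * (x * u * x⁻¹) * x⁻¹)) := by
        calc f * u * (f * (x * u * x⁻¹)) * (f * (x * (x * u * x⁻¹) * x⁻¹))
            = f * (u * f) * (x * u * x⁻¹) * (f * (x * (x * u * x⁻¹) * x⁻¹)) := by group
          _ = f * (f * u) * (x * u * x⁻¹) * (f * (x * (x * u * x⁻¹) * x⁻¹)) := by rw [c1]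
          _ = f * f * ((u * (x * u * x⁻¹)) * f) * (x * (x * u * x⁻¹) * x⁻¹) := by group
          _ = f * f * (f * (u * (x * u * x⁻¹))) * (x * (x * u * x⁻¹) * x⁻¹) := by rw [c2]
          _ = _ := by group
      rw [h2, hF.sqA hF.fA, mul_one, hF.trace_U h1, mul_one] at htra
      exact hF.f1 htra
  -- `a ∈ ⟨z⟩`
  have hsa : s * a = a * s := by
    have h1 : s * (a * t) * s⁻¹ = t := by
      rw [← hst]
      calc s * (s * t * s⁻¹) * s⁻¹ = (s * s) * t * (s⁻¹ * s⁻¹) := by group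
        _ = t := by rw [hsi, hss]; group
    have h2 : s * (a * t) * s⁻¹ = (s * a * s⁻¹) * (a * t) := by
      have e1 : s * (a * t) * s⁻¹ = (s * a * s⁻¹) * (s * t * s⁻¹) := by group
      rw [e1, hst]
    rw [h2, ← mul_assoc] at h1
    have h3 : s * a * s⁻¹ * a = 1 := mul_eq_right.1 h1
    have h4 : s * a * s⁻¹ = a := by
      rw [← inv_eq_of_mul_eq_one_left h3]
      exact hF.invA haA
    exact conj_eq_iff.1 h4
  rcases hF.fix_s haU hsa with h1 | h1
  · refine ⟨t, h, ?_⟩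
    rw [h1, one_mul] at hst
    exact conj_eq_iff.1 hst
  · obtain ⟨p, hp⟩ : ∃ p, p = x * z * x⁻¹ := ⟨_, rfl⟩
    have hpU : p ∈ U := by rw [hp]; exact hF.z2_mem
    refine ⟨p * t, h.change hpU, ?_⟩
    rw [← conj_eq_iff]
    have e1 : s * (p * t) * s⁻¹ = (s * p * s⁻¹) * (s * t * s⁻¹) := by group
    have e2 : s * p * s⁻¹ = z * p := by
      have e2 : s * x⁻¹ * s⁻¹ = x := hF.sxi
      have hsz : s * z * s⁻¹ = z := conj_eq_iff.2 (hF.zc s hF.sS)
      have e3 : s * p * s⁻¹ = x⁻¹ * z * x := by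
        rw [hp]
        calc s * (x * z * x⁻¹) * s⁻¹ = (s * x * s⁻¹) * (s * z * s⁻¹) * (s * x * s⁻¹)⁻¹ := by group
          _ = x⁻¹ * z * x := by rw [hF.sx, hsz, inv_inv]
      rw [e3]
      have h5 := hF.xz3
      rw [hp]
      calc x⁻¹ * z * x = x⁻¹ * (x * (z * (x * z * x⁻¹)) * x⁻¹) * x := by rw [h5]
        _ = _ := by group
    rw [e1, e2, hst, h1]
    have c1 := hF.commA (hF.UA hpU) hF.zA
    calc z * p * (z * t) = z * (p * z) * t := by group
      _ = z * (z * p) * t := by rw [c1]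
      _ = (z * z) * (p * t) := by group
      _ = p * t := by rw [hF.sqA hF.zA, one_mul]

end Yz

/-- **The data of CASE I exist** as soon as there are commuting involutions `e ∈ S - Q` and `b ∈ Q - T` with
`[f, b] = z`. -/
theorem Fr.exists_ci [Finite G] {S : Sylow 2 G} {A U : Subgroup G} {z f x s : G} (h : Fr S A U z f x s)
    {e b : G} (heS : e ∈ (S : Subgroup G)) (heU : e ∉ centralizer (U : Set G)) (hee : e * e = 1)
    (hb : b ∈ QQ S U) (hbb : b * b = 1) (hbf : b * f * b⁻¹ = f * z) (hbe : b * e = e * b) :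
    ∃ (f' x' : G) (Y : Subgroup G) (t : G), Ci S A U z f' x' e Y t b ∧ f * f' ∈ U := by
  obtain ⟨f', x', h', hff⟩ := h.adapt heS heU hee
  obtain ⟨Y, t, hY⟩ := h'.exists_yz
  obtain ⟨t', hY', hst⟩ := hY.exists_comm hee
  refine ⟨f', x', Y, t', ⟨hY', hee, hst, hb, hbb, ?_, hbe⟩, hff⟩
  obtain ⟨v, hv⟩ : ∃ v, v = f * f' := ⟨_, rfl⟩
  rw [← hv] at hff
  have hf' : f' = f * v := by rw [hv, ← mul_assoc, h.sqA h.fA, one_mul]
  have h1 : b * v * b⁻¹ = v := conj_eq_iff.2 (h.Q_comm hb hff)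
  have e1 : b * (f * v) * b⁻¹ = (b * f * b⁻¹) * (b * v * b⁻¹) := by group
  rw [hf', e1, hbf, h1, mul_assoc, mul_assoc, h.commA h.zA (h.UA hff)]

end Cfsg.Agent.RankThreeFus
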