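import Cfsg.Agent.RankThreeFus.Eone

/-!
# S1730, branch (B), last case (B8*): `T = Y₀`

`Eone.false_of_T_eq`: in the frame `Fr S A U z f x s` with a root `t` of `z` assume `T = ⟨t, t^x⟩ A`.
Then there is no involution in `Q - T`.
-/

set_option autoImplicit false

namespace Cfsg.Agent.RankThreeFus

open Subgroup Cfsg.Agent.Lib.GoldschmidtFusion Cfsg.Agent.StdL2.G23Aut

variable {G : Type*} [Group G]

namespace Eone

/-- An element `y` of odd order with `g ^ y = g a`, `a ^ y = a`, `a` a 2-element centralises `g`. -/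
theorem odd_trick' {y g a : G} (hodd : Odd (orderOf y)) (h1 : y * g * y⁻¹ = g * a)
    (h2 : y * a = a * y) {m : ℕ} (h3 : a ^ (2 ^ m) = 1) : a = 1 := by
  have key : ∀ n : ℕ, y ^ n * g * (y ^ n)⁻¹ = g * a ^ n := by
    intro n
    induction n with
    | zero => simp
    | succ n ih =>
      have h4 : y * a ^ n * y⁻¹ = a ^ n := by
        rw [mul_inv_eq_iff_eq_mul]
        exact (Commute.pow_right (show Commute y a from h2) n).eq
      calc y ^ (n + 1) * g * (y ^ (n + 1))⁻¹ = y * (y ^ n * g * (y ^ n)⁻¹) * y⁻¹ := by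
            rw [pow_succ']; group
        _ = (y * g * y⁻¹) * (y * a ^ n * y⁻¹) := by rw [ih]; group
        _ = g * a ^ (n + 1) := by rw [h1, h4, mul_assoc, ← pow_succ']
  have h5 := key (orderOf y)
  rw [pow_orderOf_eq_one] at h5
  have h6 : a ^ orderOf y = 1 := by
    have : g * a ^ orderOf y = g * 1 := by rw [← h5]; group
    exact mul_left_cancel this
  have h7 : orderOf a ∣ orderOf y := orderOf_dvd_of_pow_eq_one h6
  have h8 : orderOf a ∣ 2 ^ m := orderOf_dvd_of_pow_eq_one h3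
  have h9 : Nat.Coprime (orderOf y) (2 ^ m) := (Nat.coprime_two_right.2 hodd).pow_right m
  exact orderOf_eq_one_iff.1 (Nat.eq_one_of_dvd_coprimes h9 h7 h8)

variable {S : Sylow 2 G} {A U : Subgroup G} {z f x s : G} (h : Fr S A U z f x s)

include h

theorem odd_x3 : Odd (orderOf (x ^ 3)) := by
  obtain ⟨k, hk⟩ := h.xo
  have h2 : orderOf (x ^ 3) ∣ 3 ^ k := by
    rw [← hk]
    exact orderOf_pow_dvd 3
  exact Odd.of_dvd_nat (Odd.pow (by decide)) h2

theorem mem_T [Finite G] {g : G} (hgS : g ∈ (S : Subgroup G)) (hgU : ∀ u ∈ U, g * u = u * g)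
    (hgf : g * f * g⁻¹ = f) : g ∈ TT S A := by
  refine ⟨hgS, mem_cent_iff.2 ?_⟩
  intro a ha
  rcases h.mem_A ha with h1 | h1
  · exact hgU a h1
  · have h2 := hgU _ h1
    have h3 : g * f = f * g := mul_inv_eq_iff_eq_mul.1 hgf
    have h4 : f * (g * a) = f * (a * g) := by
      rw [← mul_assoc, ← h3, mul_assoc, h2, mul_assoc]
    exact mul_left_cancel h4

theorem s_f [Finite G] : s * f * s⁻¹ = f := by
  have hsA : s ∈ normalizer (A : Set G) := h.hyp.norm h.sS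
  have h1 : s * f * s⁻¹ ∈ A := mem_norm hsA h.fA
  have hxf : x * f * x⁻¹ = f := by rw [h.xf, mul_inv_cancel_right]
  have h2 : x * (s * f * s⁻¹) * x⁻¹ = s * f * s⁻¹ := by
    have h3 := s_conj_x h f
    rw [hxf] at h3
    calc x * (s * f * s⁻¹) * x⁻¹ = x * (x⁻¹ * (s * f * s⁻¹) * x) * x⁻¹ := by rw [← h3]
      _ = _ := by group
  rcases fix_A h h1 h2 with h3 | h3
  · exfalso
    apply h.f1
    have : f = s⁻¹ * (s * f * s⁻¹) * s := by group
    rw [this, h3]; group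
  · exact h3

/-- The cosets of `A` in `⟨t, t^x⟩ A`. -/
theorem mem_cosets [Finite G] {t : G} (R : Root S A U z x s t) {g : G}
    (hg : g ∈ A ⊔ closure {t, x * t * x⁻¹}) :
    ∃ w, (w = 1 ∨ w = t ∨ w = x * t * x⁻¹ ∨ w = x * (x * t * x⁻¹) * x⁻¹) ∧ ∃ a ∈ A, g = w * a := by
  have htT := R.mem
  have hT2 := Tx h htT
  have hT3 := Tx h hT2
  have hp2U := p2U h
  have hp3U := p3U h
  have sq2 : (x * t * x⁻¹) * (x * t * x⁻¹) = x * z * x⁻¹ := by rw [← R.sq]; group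
  have sq3 : (x * (x * t * x⁻¹) * x⁻¹) * (x * (x * t * x⁻¹) * x⁻¹) = x * (x * z * x⁻¹) * x⁻¹ := by
    rw [← sq2]; group
  have hprod := R.prod
  have hcomm := R.comm
  have hcube := R.cube
  have hcomm23 : (x * t * x⁻¹) * (x * (x * t * x⁻¹) * x⁻¹) = (x * (x * t * x⁻¹) * x⁻¹) * (x * t * x⁻¹) := by
    have := congrArg (fun g => x * g * x⁻¹) hcomm
    have e1 : x * (t * (x * t * x⁻¹)) * x⁻¹ = (x * t * x⁻¹) * (x * (x * t * x⁻¹) * x⁻¹) := by group
    have e2 : x * ((x * t * x⁻¹) * t) * x⁻¹ = (x * (x * t * x⁻¹) * x⁻¹) * (x * t * x⁻¹) := by group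
    rw [e1, e2] at this
    exact this
  generalize x * (x * z * x⁻¹) * x⁻¹ = p3 at *
  generalize x * z * x⁻¹ = p2 at *
  generalize x * (x * t * x⁻¹) * x⁻¹ = t3 at *
  generalize x * t * x⁻¹ = t2 at *
  have i1 : t⁻¹ = t * z := by
    have : t * (t * z) = 1 := by rw [← mul_assoc, R.sq, h.sqA h.zA]
    exact inv_eq_of_mul_eq_one_right this
  have i2 : t2⁻¹ = t2 * p2 := by
    have : t2 * (t2 * p2) = 1 := by rw [← mul_assoc, sq2, h.sqA (h.UA hp2U)]
    exact inv_eq_of_mul_eq_one_right this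
  have i3 : t3⁻¹ = t3 * p3 := by
    have : t3 * (t3 * p3) = 1 := by rw [← mul_assoc, sq3, h.sqA (h.UA hp3U)]
    exact inv_eq_of_mul_eq_one_right this
  have q12 : t * t2 = t3 * p3 := by rw [← i3]; exact eq_inv_of_mul_eq_one_left hprod
  have q21 : t2 * t = t3 * p3 := by rw [← hcomm, q12]
  have q23 : t2 * t3 = t * z := by
    rw [← i1]
    rw [mul_assoc] at hprod
    exact eq_inv_of_mul_eq_one_right hprod
  have q32 : t3 * t2 = t * z := by rw [← hcomm23, q23]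
  have q31 : t3 * t = t2 * p2 := by
    have h1 : t2 * (t3 * t) = 1 := by
      rw [← mul_assoc, q23, ← i1, inv_mul_cancel]
    rw [← i2]
    exact eq_inv_of_mul_eq_one_right h1
  have q13 : t * t3 = t2 * p2 := by
    have h1 : (t * t3) * t2 = 1 := by
      rw [mul_assoc, ← hcomm23, ← mul_assoc, hprod]
    rw [← i2]
    exact eq_inv_of_mul_eq_one_left h1
  have hle : A ⊔ closure {t, t2} ≤ closure ((A : Set G) ∪ {t, t2}) := by
    refine sup_le (fun u hu => subset_closure (Or.inl hu)) ?_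
    exact closure_mono Set.subset_union_right
  have hTA : ∀ w a w' a' : G, a ∈ A → w' ∈ TT S A → w * a * (w' * a') = w * w' * (a * a') := by
    intro w a w' a' ha hw'
    calc w * a * (w' * a') = w * (a * w') * a' := by group
      _ = _ := by rw [commT ha hw']; group
  have key : ∀ w w' : G, (w = 1 ∨ w = t ∨ w = t2 ∨ w = t3) → (w' = 1 ∨ w' = t ∨ w' = t2 ∨ w' = t3) →
      ∃ v, (v = 1 ∨ v = t ∨ v = t2 ∨ v = t3) ∧ ∃ a ∈ A, w * w' = v * a := by
    intro w w' hw hw'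
    have hz := h.zA
    have h2A := h.UA hp2U
    have h3A := h.UA hp3U
    rcases hw with rfl | rfl | rfl | rfl <;> rcases hw' with rfl | rfl | rfl | rfl
    · exact ⟨1, Or.inl rfl, 1, A.one_mem, rfl⟩
    · exact ⟨_, Or.inr (Or.inl rfl), 1, A.one_mem, by group⟩
    · exact ⟨_, Or.inr (Or.inr (Or.inl rfl)), 1, A.one_mem, by group⟩
    · exact ⟨_, Or.inr (Or.inr (Or.inr rfl)), 1, A.one_mem, by group⟩
    · exact ⟨_, Or.inr (Or.inl rfl), 1, A.one_mem, by group⟩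
    · exact ⟨1, Or.inl rfl, z, hz, by rw [R.sq, one_mul]⟩
    · exact ⟨_, Or.inr (Or.inr (Or.inr rfl)), p3, h3A, q12⟩
    · exact ⟨_, Or.inr (Or.inr (Or.inl rfl)), p2, h2A, q13⟩
    · exact ⟨_, Or.inr (Or.inr (Or.inl rfl)), 1, A.one_mem, by group⟩
    · exact ⟨_, Or.inr (Or.inr (Or.inr rfl)), p3, h3A, q21⟩
    · exact ⟨1, Or.inl rfl, p2, h2A, by rw [sq2, one_mul]⟩
    · exact ⟨_, Or.inr (Or.inl rfl), z, hz, q23⟩
    · exact ⟨_, Or.inr (Or.inr (Or.inr rfl)), 1, A.one_mem, by group⟩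
    · exact ⟨_, Or.inr (Or.inr (Or.inl rfl)), p2, h2A, q31⟩
    · exact ⟨_, Or.inr (Or.inl rfl), z, hz, q32⟩
    · exact ⟨1, Or.inl rfl, p3, h3A, by rw [sq3, one_mul]⟩
  have hwT : ∀ w : G, (w = 1 ∨ w = t ∨ w = t2 ∨ w = t3) → w ∈ TT S A := by
    intro w hw
    rcases hw with rfl | rfl | rfl | rfl
    exacts [(TT S A).one_mem, htT, hT2, hT3]
  have hg' := hle hg
  clear hg
  induction hg' using closure_induction with
  | mem g hg =>
    rcases hg with hg | hg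
    · exact ⟨1, Or.inl rfl, g, hg, by group⟩
    · simp only [Set.mem_insert_iff, Set.mem_singleton_iff] at hg
      rcases hg with rfl | rfl
      · exact ⟨_, Or.inr (Or.inl rfl), 1, A.one_mem, by group⟩
      · exact ⟨_, Or.inr (Or.inr (Or.inl rfl)), 1, A.one_mem, by group⟩
  | one => exact ⟨1, Or.inl rfl, 1, A.one_mem, by group⟩
  | mul y w hy hw ihy ihw =>
    obtain ⟨v1, hv1, a1, ha1, rfl⟩ := ihy
    obtain ⟨v2, hv2, a2, ha2, rfl⟩ := ihw
    obtain ⟨v, hv, a, ha, hva⟩ := key v1 v2 hv1 hv2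
    refine ⟨v, hv, a * (a1 * a2), A.mul_mem ha (A.mul_mem ha1 ha2), ?_⟩
    rw [hTA _ _ _ _ ha1 (hwT _ hv2), hva]; group
  | inv y hy ihy =>
    obtain ⟨v1, hv1, a1, ha1, rfl⟩ := ihy
    have h9 : (v1 * a1)⁻¹ = v1⁻¹ * a1⁻¹ := by
      rw [mul_inv_rev, commT (A.inv_mem ha1) ((TT S A).inv_mem (hwT _ hv1))]
    rcases hv1 with rfl | rfl | rfl | rfl
    · exact ⟨1, Or.inl rfl, a1⁻¹, A.inv_mem ha1, by group⟩
    · exact ⟨_, Or.inr (Or.inl rfl), z * a1⁻¹, A.mul_mem h.zA (A.inv_mem ha1), by rw [h9, i1]; group⟩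
    · exact ⟨_, Or.inr (Or.inr (Or.inl rfl)), p2 * a1⁻¹, A.mul_mem (h.UA hp2U) (A.inv_mem ha1),
        by rw [h9, i2]; group⟩
    · exact ⟨_, Or.inr (Or.inr (Or.inr rfl)), p3 * a1⁻¹, A.mul_mem (h.UA hp3U) (A.inv_mem ha1),
        by rw [h9, i3]; group⟩


omit h in
theorem conj_odd3 {g : G} : x * (x * (x * g * x⁻¹) * x⁻¹) * x⁻¹ = x ^ 3 * g * (x ^ 3)⁻¹ := by
  rw [pow_succ, pow_two]; group

theorem false_of_cosets [Finite G] {t : G} (R : Root S A U z x s t)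
    (hT : ∀ g ∈ TT S A, ∃ w, (w = 1 ∨ w = t ∨ w = x * t * x⁻¹ ∨ w = x * (x * t * x⁻¹) * x⁻¹) ∧
      ∃ a ∈ A, g = w * a) {b : G}
    (hbS : b ∈ ((S : Subgroup G) ⊓ centralizer (U : Set G) : Subgroup G)) (hbb : b * b = 1)
    (hbf : b * f * b⁻¹ = f * z) : False := by
  have htT := R.mem
  have hT2 := Tx h htT
  have hT3 := Tx h hT2
  have hff : f * f = 1 := h.sqA h.fA
  have hzz : z * z = 1 := h.sqA h.zA
  have hbU : ∀ u ∈ U, b * u = u * b := mem_cent_iff.1 hbS.2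
  have hb' : b⁻¹ = b := inv_eq_of_mul_eq_one_left hbb
  have hxf : x * f * x⁻¹ = f := by rw [h.xf, mul_inv_cancel_right]
  have hcomm := R.comm
  have hcube := R.cube
  have hcomm23 : (x * t * x⁻¹) * (x * (x * t * x⁻¹) * x⁻¹) = (x * (x * t * x⁻¹) * x⁻¹) * (x * t * x⁻¹) := by
    have := congrArg (fun g => x * g * x⁻¹) hcomm
    have e1 : x * (t * (x * t * x⁻¹)) * x⁻¹ = (x * t * x⁻¹) * (x * (x * t * x⁻¹) * x⁻¹) := by group
    have e2 : x * ((x * t * x⁻¹) * t) * x⁻¹ = (x * (x * t * x⁻¹) * x⁻¹) * (x * t * x⁻¹) := by group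
    rw [e1, e2] at this
    exact this
  have hcomm31 : (x * (x * t * x⁻¹) * x⁻¹) * t = t * (x * (x * t * x⁻¹) * x⁻¹) := by
    have := congrArg (fun g => x * g * x⁻¹) hcomm23
    have e1 : x * ((x * t * x⁻¹) * (x * (x * t * x⁻¹) * x⁻¹)) * x⁻¹ =
      (x * (x * t * x⁻¹) * x⁻¹) * (x * (x * (x * t * x⁻¹) * x⁻¹) * x⁻¹) := by simp [mul_assoc]
    have e2 : x * ((x * (x * t * x⁻¹) * x⁻¹) * (x * t * x⁻¹)) * x⁻¹ =
      (x * (x * (x * t * x⁻¹) * x⁻¹) * x⁻¹) * (x * (x * t * x⁻¹) * x⁻¹) := by simp [mul_assoc]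
    rw [e1, e2, hcube] at this
    exact this
  -- `T` is commutative
  have hTab : ∀ g ∈ TT S A, ∀ g' ∈ TT S A, g * g' = g' * g := by
    intro g hg g' hg'
    obtain ⟨w, hw, a, ha, rfl⟩ := hT g hg
    obtain ⟨w', hw', a', ha', rfl⟩ := hT g' hg'
    have hwT : ∀ w : G, (w = 1 ∨ w = t ∨ w = x * t * x⁻¹ ∨ w = x * (x * t * x⁻¹) * x⁻¹) → w ∈ TT S A := by
      intro w hw
      rcases hw with rfl | rfl | rfl | rfl
      exacts [(TT S A).one_mem, htT, hT2, hT3]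
    have hww : w * w' = w' * w := by
      rcases hw with rfl | rfl | rfl | rfl <;> rcases hw' with rfl | rfl | rfl | rfl
      · rfl
      · group
      · group
      · group
      · group
      · rfl
      · exact hcomm
      · exact hcomm31.symm
      · group
      · exact hcomm.symm
      · rfl
      · exact hcomm23
      · group
      · exact hcomm31
      · exact hcomm23.symm
      · rfl
    have k1 := commT ha (hwT w' hw')
    have k2 := commT ha' (hwT w hw)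
    have k3 := h.commA ha ha'
    calc w * a * (w' * a') = w * (a * w') * a' := by group
      _ = (w * w') * (a * a') := by rw [k1]; group
      _ = (w' * w) * (a' * a) := by rw [hww, k3]
      _ = w' * (w * a') * a := by group
      _ = w' * (a' * w) * a := by rw [k2]
      _ = _ := by group
  -- `x ^ 3` centralises `b`
  have hb2Q : x * b * x⁻¹ ∈ ((S : Subgroup G) ⊓ centralizer (U : Set G) : Subgroup G) := mem_norm h.xQ hbS
  have hb3Q : x * (x * b * x⁻¹) * x⁻¹ ∈ ((S : Subgroup G) ⊓ centralizer (U : Set G) : Subgroup G) :=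
    mem_norm h.xQ hb2Q
  have hb4Q : x * (x * (x * b * x⁻¹) * x⁻¹) * x⁻¹ ∈
      ((S : Subgroup G) ⊓ centralizer (U : Set G) : Subgroup G) := mem_norm h.xQ hb3Q
  have hact : ∀ (c u : G), c * f * c⁻¹ = f * u → (x * c * x⁻¹) * f * (x * c * x⁻¹)⁻¹ = f * (x * u * x⁻¹) := by
    intro c u hc
    have hxf' : x⁻¹ * f * x = f := by
      have : x⁻¹ * f * x = x⁻¹ * (x * f * x⁻¹) * x := by rw [hxf]
      rw [this]; group
    calc x * c * x⁻¹ * f * (x * c * x⁻¹)⁻¹ = x * (c * (x⁻¹ * f * x) * c⁻¹) * x⁻¹ := by group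
      _ = x * (f * u) * x⁻¹ := by rw [hxf', hc]
      _ = (x * f * x⁻¹) * (x * u * x⁻¹) := by group
      _ = _ := by rw [hxf]
  have hb2f := hact b z hbf
  have hb3f := hact _ _ hb2f
  have hb4f := hact _ _ hb3f
  rw [p3_conj h] at hb4f
  have hcentU : ∀ c ∈ ((S : Subgroup G) ⊓ centralizer (U : Set G) : Subgroup G), ∀ u ∈ U, c * u = u * c :=
    fun c hc => mem_cent_iff.1 hc.2
  have hx3T : ∀ g ∈ TT S A, x ^ 3 * g = g * x ^ 3 := by
    intro g hg
    obtain ⟨w, hw, a, ha, rfl⟩ := hT g hg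
    have k1 : x ^ 3 * a * (x ^ 3)⁻¹ = a := by
      rw [← conj_odd3]
      exact cube_A h ha
    have k2 : x ^ 3 * w * (x ^ 3)⁻¹ = w := by
      rw [← conj_odd3]
      rcases hw with rfl | rfl | rfl | rfl
      · group
      · exact hcube
      · rw [hcube]
      · rw [hcube]
    have k3 : x ^ 3 * (w * a) * (x ^ 3)⁻¹ = (x ^ 3 * w * (x ^ 3)⁻¹) * (x ^ 3 * a * (x ^ 3)⁻¹) := by group
    rw [k1, k2] at k3
    exact mul_inv_eq_iff_eq_mul.1 k3
  have hx3b : x * (x * (x * b * x⁻¹) * x⁻¹) * x⁻¹ = b := by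
    set c := b⁻¹ * (x * (x * (x * b * x⁻¹) * x⁻¹) * x⁻¹) with hc
    have hcT : c ∈ TT S A := by
      refine mem_T h (mul_mem (inv_mem hbS.1) hb4Q.1) ?_ ?_
      · intro u hu
        have k1 := hcentU _ (mul_mem (inv_mem hbS) hb4Q) u hu
        rw [hc]; exact k1
      · have k1 : c * f * c⁻¹ = b⁻¹ * ((x * (x * (x * b * x⁻¹) * x⁻¹) * x⁻¹) * f *
          (x * (x * (x * b * x⁻¹) * x⁻¹) * x⁻¹)⁻¹) * b := by
          rw [hc]; simp only [mul_assoc, mul_inv_rev, inv_inv]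
        rw [k1, hb4f, ← hbf]; group
    have h4 : x ^ 3 * b * (x ^ 3)⁻¹ = b * c := by
      rw [← conj_odd3, hc]; group
    have hc2 : ∃ m : ℕ, c ^ (2 ^ m) = 1 := by
      have hp : IsPGroup 2 (S : Subgroup G) := S.isPGroup'
      obtain ⟨m, hm⟩ := hp ⟨c, hcT.1⟩
      exact ⟨m, by simpa using congrArg Subtype.val hm⟩
    obtain ⟨m, hm⟩ := hc2
    have h5 := odd_trick' (odd_x3 h) h4 (hx3T c hcT) hm
    rw [hc] at h5
    exact (inv_mul_eq_one.1 h5).symm
  -- `F ∈ A`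
  set F := b * (x * b * x⁻¹) * (x * (x * b * x⁻¹) * x⁻¹) with hFd
  have hFQ : F ∈ ((S : Subgroup G) ⊓ centralizer (U : Set G) : Subgroup G) :=
    mul_mem (mul_mem hbS hb2Q) hb3Q
  have hFT : F ∈ TT S A := by
    refine mem_T h hFQ.1 (hcentU F hFQ) ?_
    have k1 : F * f * F⁻¹ = b * ((x * b * x⁻¹) * ((x * (x * b * x⁻¹) * x⁻¹) * f *
        (x * (x * b * x⁻¹) * x⁻¹)⁻¹) * (x * b * x⁻¹)⁻¹) * b⁻¹ := by
      rw [hFd]; group
    have hconjU : ∀ c ∈ ((S : Subgroup G) ⊓ centralizer (U : Set G) : Subgroup G), ∀ u ∈ U, ∀ u',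
        c * f * c⁻¹ = f * u' → c * (f * u) * c⁻¹ = f * u' * u := by
      intro c hc u hu u' hcf
      have k2 : c * (f * u) * c⁻¹ = (c * f * c⁻¹) * (c * u * c⁻¹) := by group
      rw [k2, hcf, hcentU c hc u hu, mul_inv_cancel_right]
    have hp3 := p3U h
    have hp2 := p2U h
    have k3 := hconjU _ hb2Q _ hp3 _ hb2f
    have k4 := hconjU b hbS _ (U.mul_mem hp2 hp3) z hbf
    rw [k1, hb3f, k3, mul_assoc f, k4, mul_assoc f]
    have k5 : z * (x * z * x⁻¹ * (x * (x * z * x⁻¹) * x⁻¹)) = 1 := by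
      rw [p3_eq h, ← mul_assoc]
      exact h.sqA (A.mul_mem h.zA (h.UA hp2))
    rw [k5, mul_one]
  have hXF : x * F * x⁻¹ = b⁻¹ * F * b := by
    have k1 : x * F * x⁻¹ = (x * b * x⁻¹) * (x * (x * b * x⁻¹) * x⁻¹) *
        (x * (x * (x * b * x⁻¹) * x⁻¹) * x⁻¹) := by rw [hFd]; simp [mul_assoc]
    rw [k1, hx3b, hFd]; group
  have hFA : F ∈ A := by
    obtain ⟨w, hw, a, ha, hFw⟩ := hT F hFT
    have hwT : w ∈ TT S A := by
      rcases hw with rfl | rfl | rfl | rfl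
      exacts [(TT S A).one_mem, htT, hT2, hT3]
    have hwQ : ∀ q ∈ ((S : Subgroup G) ⊓ centralizer (U : Set G) : Subgroup G), q * w * q⁻¹ * w⁻¹ ∈ A := by
      intro q hq
      rcases hw with rfl | rfl | rfl | rfl
      · have : q * 1 * q⁻¹ * 1⁻¹ = 1 := by group
        rw [this]; exact A.one_mem
      · exact R.Q q hq
      · have h2 : x⁻¹ * q * x ∈ ((S : Subgroup G) ⊓ centralizer (U : Set G) : Subgroup G) := mem_norm' h.xQ hq
        have h3 := mem_norm h.xA (R.Q _ h2)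
        have h4 : x * ((x⁻¹ * q * x) * t * (x⁻¹ * q * x)⁻¹ * t⁻¹) * x⁻¹ =
          q * (x * t * x⁻¹) * q⁻¹ * (x * t * x⁻¹)⁻¹ := by group
        rwa [h4] at h3
      · have h2 : x⁻¹ * (x⁻¹ * q * x) * x ∈ ((S : Subgroup G) ⊓ centralizer (U : Set G) : Subgroup G) :=
          mem_norm' h.xQ (mem_norm' h.xQ hq)
        have h3 := mem_norm h.xA (mem_norm h.xA (R.Q _ h2))
        have h4 : x * (x * ((x⁻¹ * (x⁻¹ * q * x) * x) * t * (x⁻¹ * (x⁻¹ * q * x) * x)⁻¹ * t⁻¹) * x⁻¹) * x⁻¹ =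
          q * (x * (x * t * x⁻¹) * x⁻¹) * q⁻¹ * (x * (x * t * x⁻¹) * x⁻¹)⁻¹ := by group
        rwa [h4] at h3
    have hbiQ : b⁻¹ ∈ ((S : Subgroup G) ⊓ centralizer (U : Set G) : Subgroup G) := inv_mem hbS
    have hbA : b⁻¹ ∈ normalizer (A : Set G) := h.hyp.norm hbiQ.1
    -- `x w x⁻¹ ∈ w A`
    have k1 : b⁻¹ * F * b = (b⁻¹ * w * b⁻¹⁻¹ * w⁻¹) * w * (b⁻¹ * a * b⁻¹⁻¹) := by
      rw [hFw]; group
    have k2 : x * F * x⁻¹ = (x * w * x⁻¹) * (x * a * x⁻¹) := by rw [hFw]; group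
    have k3 := hwQ _ hbiQ
    have k4 := mem_norm hbA ha
    have k5 := mem_norm h.xA ha
    have k6 : ∃ a' ∈ A, x * w * x⁻¹ = w * a' := by
      refine ⟨(b⁻¹ * w * b⁻¹⁻¹ * w⁻¹) * (b⁻¹ * a * b⁻¹⁻¹) * (x * a * x⁻¹)⁻¹,
        A.mul_mem (A.mul_mem k3 k4) (A.inv_mem k5), ?_⟩
      have k7 : x * w * x⁻¹ = (b⁻¹ * F * b) * (x * a * x⁻¹)⁻¹ := by rw [← hXF, k2]; group
      rw [k7, k1, commT k3 hwT]; group
    obtain ⟨a', ha', k8⟩ := k6
    have k9 : x * (w * w) * x⁻¹ = w * w := by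
      have : x * (w * w) * x⁻¹ = (x * w * x⁻¹) * (x * w * x⁻¹) := by group
      rw [this, k8]
      calc w * a' * (w * a') = w * (a' * w) * a' := by group
        _ = w * w * (a' * a') := by rw [commT ha' hwT]; group
        _ = w * w := by rw [h.sqA ha', mul_one]
    have sq2 : (x * t * x⁻¹) * (x * t * x⁻¹) = x * z * x⁻¹ := by rw [← R.sq]; group
    have sq3 : (x * (x * t * x⁻¹) * x⁻¹) * (x * (x * t * x⁻¹) * x⁻¹) = x * (x * z * x⁻¹) * x⁻¹ := by
      rw [← sq2]; group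
    rcases hw with hw | hw | hw | hw
    · rw [hFw, hw, one_mul]; exact ha
    · exfalso
      rw [hw, R.sq] at k9
      exact h.xz k9
    · exfalso
      rw [hw, sq2] at k9
      exact p2_ne h (fix_U h (p2U h) k9)
    · exfalso
      rw [hw, sq3] at k9
      have k10 := fix_U h (p3U h) k9
      apply p2_ne h
      have : x * z * x⁻¹ = x⁻¹ * (x * (x * z * x⁻¹) * x⁻¹) * x := by group
      rw [this, k10]; group
  refine false_of_root_fix h R hbS hbb hbf ?_ hFA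
  -- `s` fixes `[b, t]`
  have haU := root_s h R
  set a := s * t * s⁻¹ * t⁻¹ with ha
  have st : s * t * s⁻¹ = a * t := by rw [ha]; group
  set c := b * t * b⁻¹ * t⁻¹ with hcd
  have hcA : c ∈ A := R.Q b hbS
  have bt : b * t * b⁻¹ = c * t := by rw [hcd]; group
  set τ := s * b * s⁻¹ * b⁻¹ with hτ
  have hsU : s ∈ normalizer (U : Set G) := h.SnU h.sS
  have hsbQ : s * b * s⁻¹ ∈ ((S : Subgroup G) ⊓ centralizer (U : Set G) : Subgroup G) :=
    mem_norm (h.SnQ h.sS) hbS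
  have hτT : τ ∈ TT S A := by
    refine mem_T h (mul_mem hsbQ.1 (inv_mem hbS.1)) ?_ ?_
    · exact hcentU _ (mul_mem hsbQ (inv_mem hbS))
    · have hsf := s_f h
      have hsf' : s⁻¹ * f * s = f := by
        have : s⁻¹ * f * s = s⁻¹ * (s * f * s⁻¹) * s := by rw [hsf]
        rw [this]; group
      have hsz : s * z * s⁻¹ = z := by rw [h.zc s h.sS, mul_inv_cancel_right]
      have hbf' : b⁻¹ * f * b = f * z := by
        have : b⁻¹ * f * b = b * f * b⁻¹ := by rw [hb']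
        rw [this, hbf]
      have k1 : τ * f * τ⁻¹ = s * (b * (s⁻¹ * (b⁻¹ * f * b) * s) * b⁻¹) * s⁻¹ := by rw [hτ]; group
      have k2 : s⁻¹ * (f * z) * s = (s⁻¹ * f * s) * (s⁻¹ * z * s) := by group
      have hsz' : s⁻¹ * z * s = z := by
        have : s⁻¹ * z * s = s⁻¹ * (s * z * s⁻¹) * s := by rw [hsz]
        rw [this]; group
      have k3 : b * (f * z) * b⁻¹ = f := by
        have k4 : b * (f * z) * b⁻¹ = (b * f * b⁻¹) * (b * z * b⁻¹) := by group
        rw [k4, hbf, hbU z h.zU, mul_inv_cancel_right, mul_assoc, hzz, mul_one]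
      rw [k1, hbf', k2, hsf', hsz', k3, hsf]
  have k1 : s * c * s⁻¹ = τ * (b * (a * t) * b⁻¹) * τ⁻¹ * (a * t)⁻¹ := by
    rw [← st, hcd, hτ]; group
  have k2 : b * (a * t) * b⁻¹ = a * (c * t) := by
    have : b * (a * t) * b⁻¹ = (b * a * b⁻¹) * (b * t * b⁻¹) := by group
    rw [this, bt, hbU a haU, mul_inv_cancel_right]
  have k3 : a * (c * t) ∈ TT S A :=
    (TT S A).mul_mem (h.A_le_T (h.UA haU)) ((TT S A).mul_mem (h.A_le_T hcA) htT)
  rw [k1, k2, hTab _ hτT _ k3]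
  have k4 := h.commA (h.UA haU) hcA
  calc a * (c * t) * τ * τ⁻¹ * (a * t)⁻¹ = (a * c) * a⁻¹ := by group
    _ = c := by rw [k4]; group

/-- `T = Y₀`: no involution in `Q - T`. -/
theorem false_of_T_eq [Finite G] {t : G} (R : Root S A U z x s t)
    (hT : TT S A ≤ A ⊔ closure {t, x * t * x⁻¹}) {b : G}
    (hbS : b ∈ ((S : Subgroup G) ⊓ centralizer (U : Set G) : Subgroup G)) (hbb : b * b = 1)
    (hbT : b ∉ TT S A) : False := by
  have hT' : ∀ g ∈ TT S A, ∃ w, (w = 1 ∨ w = t ∨ w = x * t * x⁻¹ ∨ w = x * (x * t * x⁻¹) * x⁻¹) ∧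
      ∃ a ∈ A, g = w * a := fun g hg => mem_cosets h R (hT hg)
  have hff : f * f = 1 := h.sqA h.fA
  have hbU : ∀ u ∈ U, b * u = u * b := mem_cent_iff.1 hbS.2
  have hbA : b ∈ normalizer (A : Set G) := h.hyp.norm hbS.1
  have hxf : x * f * x⁻¹ = f := by rw [h.xf, mul_inv_cancel_right]
  have hxf' : x⁻¹ * f * x = f := by
    have : x⁻¹ * f * x = x⁻¹ * (x * f * x⁻¹) * x := by rw [hxf]
    rw [this]; group
  have h1 : b * f * b⁻¹ ∈ A := mem_norm hbA h.fA
  obtain ⟨u, hu, hbf⟩ : ∃ u ∈ U, b * f * b⁻¹ = f * u := by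
    rcases h.mem_A h1 with h2 | h2
    · exfalso
      have h3 := hbU _ h2
      have h4 : b * f * b⁻¹ = f := by
        have h5 : b * (b * f * b⁻¹) = b * f * b⁻¹ * b := h3
        have h6 : b * (b * f * b⁻¹) = b * f := by rw [h5]; group
        exact mul_left_cancel h6
      rw [h4] at h2
      exact h.fU h2
    · exact ⟨f * (b * f * b⁻¹), h2, by rw [← mul_assoc, hff, one_mul]⟩
  have hu1 : u ≠ 1 := by
    intro hu1
    rw [hu1, mul_one] at hbf
    exact hbT (mem_T h hbS.1 hbU hbf)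
  -- conjugation by `x⁻¹`
  have hstep : ∀ c v : G, c * f * c⁻¹ = f * (x * v * x⁻¹) →
      (x⁻¹ * c * x) * f * (x⁻¹ * c * x)⁻¹ = f * v := by
    intro c v hc
    calc (x⁻¹ * c * x) * f * (x⁻¹ * c * x)⁻¹ = x⁻¹ * (c * (x * f * x⁻¹) * c⁻¹) * x := by group
      _ = x⁻¹ * (f * (x * v * x⁻¹)) * x := by rw [hxf, hc]
      _ = (x⁻¹ * f * x) * v := by group
      _ = _ := by rw [hxf']
  have hinv : ∀ c : G, c * c = 1 → (x⁻¹ * c * x) * (x⁻¹ * c * x) = 1 := by
    intro c hc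
    have : (x⁻¹ * c * x) * (x⁻¹ * c * x) = x⁻¹ * (c * c) * x := by group
    rw [this, hc]; group
  have hbS1 := mem_norm' h.xQ hbS
  have hbS2 := mem_norm' h.xQ hbS1
  rcases mem_U h hu with h2 | h2 | h2 | h2
  · exact hu1 h2
  · rw [h2] at hbf
    exact false_of_cosets h R hT' hbS hbb hbf
  · rw [h2] at hbf
    exact false_of_cosets h R hT' hbS1 (hinv b hbb) (hstep b z hbf)
  · rw [h2, ← p3_eq h] at hbf
    have h3 := hstep b _ hbf
    exact false_of_cosets h R hT' hbS2 (hinv _ (hinv b hbb)) (hstep _ z h3)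

/-- The same with the elements of `T` in the form of `Yz.mem`. -/
theorem false_of_T_mem [Finite G] {t : G} (R : Root S A U z x s t)
    (hT : ∀ y ∈ TT S A, ∃ a ∈ A, y = a ∨ y = a * t ∨ y = a * (x * t * x⁻¹) ∨ y = a * (t * (x * t * x⁻¹)))
    {b : G} (hbS : b ∈ ((S : Subgroup G) ⊓ centralizer (U : Set G) : Subgroup G)) (hbb : b * b = 1)
    (hbT : b ∉ TT S A) : False := by
  refine false_of_T_eq h R ?_ hbS hbb hbT
  intro y hy
  have h1 : t ∈ A ⊔ closure {t, x * t * x⁻¹} := le_sup_right (a := A) (subset_closure (by simp))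
  have h2 : x * t * x⁻¹ ∈ A ⊔ closure {t, x * t * x⁻¹} := le_sup_right (a := A) (subset_closure (by simp))
  obtain ⟨a, ha, hy | hy | hy | hy⟩ := hT y hy
  all_goals have h3 : a ∈ A ⊔ closure {t, x * t * x⁻¹} := le_sup_left (a := A) ha
  · rw [hy]; exact h3
  · rw [hy]; exact mul_mem h3 h1
  · rw [hy]; exact mul_mem h3 h2
  · rw [hy]; exact mul_mem h3 (mul_mem h1 h2)

end Eone

end Cfsg.Agent.RankThreeFus
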