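import Cfsg.Agent.RankThreeFus.Frame
import Cfsg.Agent.Lib.SylowNormalInf

/-!
# Tools for the frame of (B8*): relative Sylow and Frattini, conjugacy of 3-elements in a coset
-/

set_option autoImplicit false
set_option linter.style.haveILetI false

namespace Cfsg.Agent.RankThreeFus

open Subgroup Cfsg.Agent.Lib.GoldschmidtFusion Cfsg.Agent.StdL2.G23Aut

variable {G : Type*} [Group G]

theorem exists_conj_le_p [Finite G] {p : ℕ} [Fact p.Prime] {C P R : Subgroup G} (hP2 : IsPGroup p P)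
    (hidx : ¬ p ∣ P.relIndex C) (hR : R ≤ C) (hR2 : IsPGroup p R) :
    ∃ c ∈ C, ∀ x ∈ R, c * x * c⁻¹ ∈ P := by
  have h1 : IsPGroup p (P.subgroupOf C) := hP2.comap_subtype
  have h2 : IsPGroup p (R.subgroupOf C) := hR2.comap_subtype
  obtain ⟨X, hX⟩ := h2.exists_le_sylow
  obtain ⟨c, hc⟩ := MulAction.exists_smul_eq C X (h1.toSylow hidx)
  refine ⟨c, c.2, fun x hx => ?_⟩
  have h3 : (⟨x, hR hx⟩ : C) ∈ (X : Subgroup C) := hX (mem_subgroupOf.2 hx)
  have h4 : c * ⟨x, hR hx⟩ * c⁻¹ ∈ ((c • X : Sylow p C) : Subgroup C) := by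
    have : c * ⟨x, hR hx⟩ * c⁻¹ = (MulAut.conj c) • (⟨x, hR hx⟩ : C) := rfl
    rw [this]
    exact Subgroup.smul_mem_pointwise_smul _ _ _ h3
  rw [hc] at h4
  exact mem_subgroupOf.1 h4

/-- relative Frattini argument -/
theorem frattini_rel [Finite G] {N K T : Subgroup G} (hN : N ≤ normalizer (K : Set G)) (hTK : T ≤ K)
    (hT : IsPGroup 2 T) (hidx : ¬ 2 ∣ T.relIndex K) {n : G} (hn : n ∈ N) :
    ∃ k ∈ K, k * n ∈ normalizer (T : Set G) := by
  haveI : Fact (Nat.Prime 2) := ⟨Nat.prime_two⟩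
  have h1 : cj n T ≤ K := by
    rintro _ ⟨t, ht, rfl⟩
    exact mem_norm (hN hn) (hTK ht)
  obtain ⟨k, hk, hkT⟩ := exists_conj_le_p (p := 2) hT hidx h1 (hT.map _)
  refine ⟨k, hk, mem_norm_of_conj fun t ht => ?_⟩
  have := hkT _ (conj_mem_cj ht n)
  have h2 : k * n * t * (k * n)⁻¹ = k * (n * t * n⁻¹) * k⁻¹ := by group
  rw [h2]
  exact this

/-- `S ⊓ K` has odd index in `K` for `K` normalised by `N ≥ S`. -/
theorem not_dvd_inf [Finite G] {S : Sylow 2 G} {N K : Subgroup G} (hSN : (S : Subgroup G) ≤ N)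
    (hKN : K ≤ N) (hN : N ≤ normalizer (K : Set G)) : ¬ 2 ∣ ((S : Subgroup G) ⊓ K : Subgroup G).relIndex K := by
  haveI : Fact (Nat.Prime 2) := ⟨Nat.prime_two⟩
  have h1 : ¬ 2 ∣ (S : Subgroup G).relIndex N := fun h =>
    S.not_dvd_index (h.trans (relIndex_dvd_index_of_le hSN))
  have hp : IsPGroup 2 ((S : Subgroup G).subgroupOf N) := S.2.comap_subtype
  haveI : (K.subgroupOf N).Normal := by
    refine ⟨fun k hk n => ?_⟩
    rw [mem_subgroupOf] at hk ⊢
    exact mem_norm (hN n.2) hk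
  have h2 := Cfsg.Agent.Lib.SylowNormalInf.not_dvd_relIndex (hp.toSylow h1) (K.subgroupOf N)
  intro h3
  apply h2
  have h4 : (((hp.toSylow h1 : Sylow 2 N) : Subgroup N)).relIndex (K.subgroupOf N) =
      ((S : Subgroup G) ⊓ K : Subgroup G).relIndex K := by
    change ((S : Subgroup G).subgroupOf N).relIndex (K.subgroupOf N) = _
    rw [inf_relIndex_right, subgroupOf, subgroupOf, relIndex_comap, map_comap_eq, range_subtype,
      inf_eq_right.2 hKN]
  rw [h4]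
  exact h3

/-- Elements of 3-power order in a coset of a normalised 2-group are conjugate. -/
theorem exists_conj_coset [Finite G] {Q : Subgroup G} (hQ : IsPGroup 2 Q) {x x' : G}
    (hx : x ∈ normalizer (Q : Set G)) (ho : ∃ k, orderOf x = 3 ^ k) (ho' : ∃ k, orderOf x' = 3 ^ k)
    (hxx : x' * x⁻¹ ∈ Q) : ∃ q ∈ Q, q * x' * q⁻¹ = x := by
  haveI : Fact (Nat.Prime 2) := ⟨Nat.prime_two⟩
  haveI : Fact (Nat.Prime 3) := ⟨Nat.prime_three⟩
  have hP : IsPGroup 3 (zpowers x) := by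
    obtain ⟨k, hk⟩ := ho
    exact IsPGroup.of_card (n := k) (by rw [Nat.card_zpowers, hk])
  have hP' : IsPGroup 3 (zpowers x') := by
    obtain ⟨k, hk⟩ := ho'
    exact IsPGroup.of_card (n := k) (by rw [Nat.card_zpowers, hk])
  have hxn : zpowers x ≤ normalizer (Q : Set G) := by rwa [zpowers_le]
  have hdisj : ∀ y, y ∈ Q → y ∈ zpowers x → y = 1 := by
    intro y hy hy'
    have h1 := IsPGroup.disjoint_of_ne 2 3 (by norm_num) Q (zpowers x) hQ hP
    exact (disjoint_def.1 h1) hy hy'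
  have hsup : ∀ y ∈ zpowers x ⊔ Q, ∃ a ∈ zpowers x, ∃ q ∈ Q, a * q = y := by
    intro y hy
    rw [← SetLike.mem_coe, coe_mul_of_left_le_normalizer_right _ _ hxn] at hy
    obtain ⟨a, ha, q, hq, rfl⟩ := Set.mem_mul.1 hy
    exact ⟨a, ha, q, hq, rfl⟩
  have hidx : ¬ 3 ∣ (zpowers x).relIndex (zpowers x ⊔ Q) := by
    have h1 : Nat.card (zpowers x ⊔ Q : Subgroup G) = Nat.card (zpowers x) * Nat.card Q := by
      have h2 : Nat.card (zpowers x × Q) = Nat.card (zpowers x ⊔ Q : Subgroup G) := by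
        refine Nat.card_congr (Equiv.ofBijective
          (fun y : zpowers x × Q => (⟨y.1 * y.2, mul_mem (le_sup_left (a := zpowers x) y.1.2)
            (le_sup_right (a := zpowers x) y.2.2)⟩ : (zpowers x ⊔ Q : Subgroup G))) ⟨?_, ?_⟩)
        · rintro ⟨a, q⟩ ⟨a', q'⟩ h
          have h3 : (a : G) * q = a' * q' := congrArg Subtype.val h
          have h4 : (a' : G)⁻¹ * a = q' * (q : G)⁻¹ := by
            rw [inv_mul_eq_iff_eq_mul, ← mul_assoc, ← h3]; group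
          have h5 : (a' : G)⁻¹ * a = 1 := hdisj _ (by rw [h4]; exact mul_mem q'.2 (inv_mem q.2))
            (mul_mem (inv_mem a'.2) a.2)
          have h6 : (a' : G) = a := inv_mul_eq_one.1 h5
          rw [h5] at h4
          have h7 : (q' : G) = q := (mul_inv_eq_one.1 h4.symm)
          exact Prod.ext (Subtype.ext h6.symm) (Subtype.ext h7.symm)
        · rintro ⟨y, hy⟩
          obtain ⟨a, ha, q, hq, rfl⟩ := hsup y hy
          exact ⟨(⟨a, ha⟩, ⟨q, hq⟩), rfl⟩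
      rw [← h2, Nat.card_prod]
    have h3 := relIndex_mul_card' (le_sup_left (a := zpowers x) (b := Q))
    rw [h1, mul_comm] at h3
    have h4 : (zpowers x).relIndex (zpowers x ⊔ Q) = Nat.card Q :=
      Nat.eq_of_mul_eq_mul_left Nat.card_pos h3
    rw [h4]
    obtain ⟨k, hk⟩ := IsPGroup.iff_card.1 hQ
    rw [hk]
    intro h5
    have := (Nat.prime_dvd_prime_iff_eq Nat.prime_three Nat.prime_two).1
      (Nat.prime_three.dvd_of_dvd_pow h5)
    omega
  have hx'mem : x' ∈ zpowers x ⊔ Q := by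
    have h1 : x' = (x' * x⁻¹) * x := by group
    rw [h1]
    exact mul_mem (le_sup_right (a := zpowers x) hxx) (le_sup_left (a := zpowers x) (mem_zpowers x))
  obtain ⟨c, hc, hcc⟩ := exists_conj_le_p (p := 3) hP hidx
    (by rwa [zpowers_le]) hP'
  have h1 := hcc x' (mem_zpowers x')
  obtain ⟨a, ha, q, hq, rfl⟩ := hsup c hc
  have h2 : q * x' * q⁻¹ ∈ zpowers x := by
    have h3 : q * x' * q⁻¹ = a⁻¹ * (a * q * x' * (a * q)⁻¹) * a := by group
    rw [h3]
    exact mul_mem (mul_mem (inv_mem ha) h1) ha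
  refine ⟨q, hq, ?_⟩
  have h4 : q * x' * q⁻¹ * x⁻¹ = 1 := by
    refine hdisj _ ?_ (mul_mem h2 (inv_mem (mem_zpowers x)))
    have h5 : q * x' * q⁻¹ * x⁻¹ = q * (x' * x⁻¹) * (x * q⁻¹ * x⁻¹) := by group
    rw [h5]
    exact mul_mem (mul_mem hq hxx) (mem_norm hx (inv_mem hq))
  exact mul_inv_eq_one.1 h4

/-- The 3-part of an element. -/
theorem exists_three_part [Finite G] (y : G) :
    ∃ e : ℕ, (∃ k, orderOf (y ^ e) = 3 ^ k) ∧ e % 3 = 1 := by
  have ho : 0 < orderOf y := orderOf_pos y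
  obtain ⟨k, n, hn, hkn⟩ : ∃ k n, ¬ 3 ∣ n ∧ orderOf y = 3 ^ k * n :=
    Nat.exists_eq_pow_mul_and_not_dvd ho.ne' 3 (by norm_num)
  have h3 : Nat.Coprime n 3 := ((Nat.prime_three.coprime_iff_not_dvd).2 hn).symm
  have h1 : n % 3 = 1 ∨ n % 3 = 2 := by
    have : n % 3 ≠ 0 := fun h => hn (Nat.dvd_of_mod_eq_zero h)
    omega
  rcases h1 with h1 | h1
  · refine ⟨n, ⟨k, ?_⟩, h1⟩
    rw [orderOf_pow' y (by rintro rfl; exact hn (dvd_zero 3)), hkn, Nat.gcd_eq_right (dvd_mul_left n _),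
      Nat.mul_div_cancel _ (Nat.pos_of_ne_zero (by rintro rfl; exact hn (dvd_zero 3)))]
  · refine ⟨n * n, ⟨k, ?_⟩, ?_⟩
    · have hn0 : n ≠ 0 := by rintro rfl; exact hn (dvd_zero 3)
      rw [orderOf_pow' y (Nat.mul_ne_zero hn0 hn0), hkn]
      have h4 : Nat.gcd (3 ^ k * n) (n * n) = n := by
        rw [Nat.gcd_mul_right]
        have : Nat.gcd (3 ^ k) n = 1 := Nat.Coprime.pow_left k h3.symm
        rw [this, one_mul]
      rw [h4, Nat.mul_div_cancel _ (Nat.pos_of_ne_zero hn0)]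
    · rw [Nat.mul_mod, h1]

/-- a Sylow 2-subgroup of `C` induces all automorphisms induced by `C` when these form a 2-group -/
theorem mem_same [Finite G] {C P A : Subgroup G} (hodd : ¬ 2 ∣ P.relIndex C)
    (hCA : ∀ c ∈ C, ∀ a ∈ A, c * a * c⁻¹ ∈ A) (m : ℕ)
    (h2 : ∀ c ∈ C, ∀ a ∈ A, c ^ 2 ^ m * a * (c ^ 2 ^ m)⁻¹ = a) {c : G} (hc : c ∈ C) :
    ∃ p ∈ P, ∀ a ∈ A, p * a * p⁻¹ = c * a * c⁻¹ := by
  have hf2 : Fact (Nat.Prime 2) := ⟨Nat.prime_two⟩
  have hn : ∀ c ∈ C, ∀ a, a ∈ A ↔ c * a * c⁻¹ ∈ A := by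
    intro c hc a
    refine ⟨fun ha => hCA c hc a ha, fun ha => ?_⟩
    have h1 := hCA c⁻¹ (C.inv_mem hc) _ ha
    have h2 : c⁻¹ * (c * a * c⁻¹) * c⁻¹⁻¹ = a := by group
    rwa [h2] at h1
  let f : C →* MulAut A := A.normalizerMonoidHom.comp
    (Subgroup.inclusion (fun c hc => mem_normalizer_iff.2 (hn c hc) : C ≤ normalizer (A : Set G)))
  have hf : ∀ (c : C) (a : A), (f c a : G) = c * a * (c : G)⁻¹ := fun _ _ => rfl
  let P' : Subgroup C := P.subgroupOf C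
  have hidx : ¬ 2 ∣ (P'.map f.rangeRestrict).index := by
    intro h
    apply hodd
    exact h.trans (Subgroup.index_map_dvd P' f.rangeRestrict_surjective)
  have hp : IsPGroup 2 f.range := by
    rintro ⟨_, ⟨c, rfl⟩⟩
    refine ⟨m, ?_⟩
    apply Subtype.ext
    change f c ^ 2 ^ m = 1
    rw [← map_pow]
    apply MulEquiv.ext
    intro a
    apply Subtype.ext
    rw [hf]
    exact h2 c c.2 a a.2
  have htop : P'.map f.rangeRestrict = ⊤ := by
    rw [← Subgroup.index_eq_one]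
    obtain ⟨k, hk⟩ := hp.index (P'.map f.rangeRestrict)
    rcases Nat.eq_zero_or_pos k with rfl | hk0
    · rw [hk, pow_zero]
    · exfalso
      apply hidx
      rw [hk]
      exact dvd_pow_self 2 hk0.ne'
  have hmem : f.rangeRestrict ⟨c, hc⟩ ∈ P'.map f.rangeRestrict := by rw [htop]; trivial
  obtain ⟨p, hp', hpc⟩ := hmem
  refine ⟨p, hp', fun a ha => ?_⟩
  have h3 : f p = f ⟨c, hc⟩ := congrArg Subtype.val hpc
  have h4 := congrArg (fun φ : MulAut A => ((φ ⟨a, ha⟩ : A) : G)) h3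
  exact h4

end Cfsg.Agent.RankThreeFus
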