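import Cfsg.Agent.RankThreeFus.YZero

/-!
# S1730, branch (B), last case: no element of `A - U` is conjugate to `z`

helper455's blueprint `S1730-caseI-helper455.md`, (0.1).
-/

set_option autoImplicit false
set_option linter.unusedSectionVars false
set_option linter.unusedVariables false

namespace Cfsg.Agent.RankThreeFus

open Subgroup Cfsg.Agent.Lib.GoldschmidtFusion Cfsg.Agent.StdL2.G23Aut

variable {G : Type*} [Group G]

namespace Fr

variable {S : Sylow 2 G} {A U : Subgroup G} {z f x s : G} (h : Fr S A U z f x s)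

include h

/-- squares of elements of `Q` are in `T` -/
theorem sq_mem_T [Finite G] {q : G} (hq : q ∈ QQ S U) : q * q ∈ TT S A := by
  obtain ⟨u, hu, hqu⟩ := h.Qf hq
  refine h.mem_T_of_fix (mul_mem hq hq) ?_
  have e : q * q * f * (q * q)⁻¹ = q * (q * f * q⁻¹) * q⁻¹ := by group
  have hqu' : q * u * q⁻¹ = u := conj_eq_iff.2 (h.Q_comm hq hu)
  have e2 : q * (f * u) * q⁻¹ = (q * f * q⁻¹) * (q * u * q⁻¹) := by group
  rw [e, hqu, e2, hqu, hqu', mul_assoc, h.sqA (h.UA hu), mul_one]

/-- an element of `S - Q` centralises only `⟨z⟩` in `U` -/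
theorem fix_U_of_notMem [Finite G] {y : G} (hy : y ∈ (S : Subgroup G)) (hyQ : y ∉ QQ S U) {u : G} (hu : u ∈ U)
    (hc : y * u = u * y) : u = 1 ∨ u = z := by
  by_contra hcon
  push Not at hcon
  apply hyQ
  refine ⟨hy, mem_cent_iff.2 fun v hv => ?_⟩
  have hz : Commute y z := h.zc y hy
  have hsu : Commute y u := hc
  rcases h.U_cases' hu hcon.1 hcon.2 v hv with rfl | rfl | rfl | rfl
  · simp
  · exact hz.eq
  · exact hc
  · exact (hz.mul_right hsu).eq

/-- the square of an element of `S` is in `Q` -/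
theorem sq_mem_Q [Finite G] {y : G} (hy : y ∈ (S : Subgroup G)) : y * y ∈ QQ S U := by
  by_cases hyQ : y ∈ QQ S U
  · exact mul_mem hyQ hyQ
  · exact h.mul_mem_Q hy hy hyQ hyQ

end Fr

/-- **(0.1)** No element of `A - U` is conjugate to `z`. -/
theorem Yz.not_conj [Finite G] {S : Sylow 2 G} {A U : Subgroup G} {z f x s : G} {Y : Subgroup G} {t : G}
    (hY : Yz S A U z f x s Y t) {a : G} (ha : a ∈ A) (haU : a ∉ U) (g : G) : g * a * g⁻¹ ≠ z := by
  have h := hY.fr
  haveI : Fact (Nat.Prime 2) := ⟨Nat.prime_two⟩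
  intro hg
  -- move `T` into `S`
  obtain ⟨g, hg, hTS⟩ : ∃ g : G, g * a * g⁻¹ = z ∧ cj g (TT S A) ≤ S := by
    have hSz : (S : Subgroup G) ≤ centralizer {z} := fun y hy => mem_centralizer_singleton_iff.2 (h.zc y hy)
    have hDN : cj g (TT S A) ≤ centralizer {z} := by
      intro y hy
      rw [mem_centralizer_singleton_iff, ← hg]
      have h1 := h.T_comm (mem_cj.1 hy) ha
      calc y * (g * a * g⁻¹) = g * ((g⁻¹ * y * g) * a) * g⁻¹ := by group
        _ = g * (a * (g⁻¹ * y * g)) * g⁻¹ := by rw [h1]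
        _ = _ := by group
    obtain ⟨n, hn, hn'⟩ := exists_conj_le_in (p := 2) (N := centralizer {z}) (R := (S : Subgroup G))
      (D := cj g (TT S A)) S.isPGroup' (fun hd => S.not_dvd_index
        (hd.trans (relIndex_dvd_index_of_le hSz))) hDN
      ((S.isPGroup'.to_le (inf_le_left : TT S A ≤ S)).map _)
    refine ⟨n * g, ?_, ?_⟩
    · have e : n * g * a * (n * g)⁻¹ = n * (g * a * g⁻¹) * n⁻¹ := by group
      rw [e, hg]
      exact conj_eq_iff.2 (mem_centralizer_singleton_iff.1 hn)
    · have h1 : cj n (cj g (TT S A)) = cj (n * g) (TT S A) := cj_cj _ _ _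
      rw [← h1]; exact hn'
  have hAT := h.A_le_T
  have hA1S : cj g A ≤ S := (map_mono hAT).trans hTS
  have hYS : cj g Y ≤ S := (map_mono hY.YT).trans hTS
  have hA1 : Oct (cj g A) := RankThreeFus.Oct.cj h.hyp.oct g
  have hcomm : ∀ y ∈ cj g Y, ∀ b ∈ cj g A, y * b = b * y := by
    intro y hy b hb
    have h1 := h.T_comm (hY.YT (mem_cj.1 hy)) (mem_cj.1 hb)
    calc y * b = g * ((g⁻¹ * y * g) * (g⁻¹ * b * g)) * g⁻¹ := by group
      _ = g * ((g⁻¹ * b * g) * (g⁻¹ * y * g)) * g⁻¹ := by rw [h1]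
      _ = _ := by group
  -- squares are in `T`
  have claim : ∀ y ∈ cj g Y, y * y ∈ TT S A := by
    intro y hy
    by_contra hyT
    have hyS := hYS hy
    have hyQ : y ∉ QQ S U := fun h1 => hyT (h.sq_mem_T h1)
    have hyi : y⁻¹ ∉ QQ S U := fun h1 => hyQ (by have := inv_mem h1; rwa [inv_inv] at this)
    have hyyQ := h.sq_mem_Q hyS
    have hA1Q : ∀ b ∈ cj g A, b ∈ QQ S U := by
      intro b hb
      by_contra hbQ
      apply hyT
      have h1 := h.mul_mem_Q (hA1S hb) hyS hbQ hyQ
      have h2 := h.sq_mem_T h1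
      have h3 := hcomm y hy b hb
      have e : b * y * (b * y) = y * y := by
        calc b * y * (b * y) = b * (y * b) * y := by group
          _ = b * (b * y) * y := by rw [h3]
          _ = (b * b) * (y * y) := by group
          _ = y * y := by rw [hA1.sq b hb, one_mul]
      rwa [e] at h2
    have hyN := h.hyp.norm hyS
    have hyU := h.SnU hyS
    -- `y f y⁻¹ = f u₂`
    have hf2U : f * (y * f * y⁻¹) ∈ U := by
      refine mul_mem_of_index_two h.UA (by rw [h.hyp.oct.card, h.cardU]) h.fA (mem_norm hyN h.fA) h.fU ?_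
      intro h1
      apply h.fU
      have := mem_norm' hyU h1
      have e : y⁻¹ * (y * f * y⁻¹) * y = f := by group
      rwa [e] at this
    obtain ⟨u2, hu2, hyf⟩ : ∃ u2 ∈ U, y * f * y⁻¹ = f * u2 :=
      ⟨_, hf2U, by rw [← mul_assoc, h.f2, one_mul]⟩
    have hyyf : y * u2 * y⁻¹ ≠ u2 := by
      intro h1
      apply hyT
      refine h.mem_T_of_fix hyyQ ?_
      have e : y * y * f * (y * y)⁻¹ = y * (y * f * y⁻¹) * y⁻¹ := by group
      have e2 : y * (f * u2) * y⁻¹ = (y * f * y⁻¹) * (y * u2 * y⁻¹) := by group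
      rw [e, hyf, e2, hyf, h1, mul_assoc, h.sqA (h.UA hu2), mul_one]
    -- `C_A(y) = ⟨z⟩`
    have hCA : ∀ b ∈ A, y * b = b * y → b = 1 ∨ b = z := by
      intro b hb hyb
      rcases h.mem_A hb with h1 | h1
      · exact h.fix_U_of_notMem hyS hyQ h1 hyb
      · exfalso
        set w := f * b with hw
        have hyw : y * w * y⁻¹ ∈ U := mem_norm hyU h1
        have e1 : y * w * y⁻¹ = f * u2 * b := by
          have e : y * (f * b) * y⁻¹ = (y * f * y⁻¹) * (y * b * y⁻¹) := by group
          rw [hw, e, hyf, conj_eq_iff.2 hyb]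
        have e2 : w * (y * w * y⁻¹) = u2 := by
          have c1 := h.commA (h.UA hu2) hb
          have c2 := h.commA hb h.fA
          rw [e1, hw]
          calc f * b * (f * u2 * b) = f * (b * f) * (u2 * b) := by group
            _ = f * (f * b) * (b * u2) := by rw [c2, c1]
            _ = (f * f) * (b * b) * u2 := by group
            _ = u2 := by rw [h.f2, h.sqA hb, one_mul, one_mul]
        apply hyyf
        have e3 : y * (w * (y * w * y⁻¹)) * y⁻¹ = (y * w * y⁻¹) * ((y * y) * w * (y * y)⁻¹) := by group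
        rw [← e2, e3, conj_eq_iff.2 (h.Q_comm hyyQ h1)]
        exact h.commA (h.UA hyw) (h.UA h1)
    -- `A₁` moves `f` only by `⟨z⟩`
    have hfz : ∀ b ∈ cj g A, b * f * b⁻¹ = f ∨ b * f * b⁻¹ = f * z := by
      intro b hb
      obtain ⟨u, hu, hbf⟩ := h.Qf (hA1Q b hb)
      have h3 := hcomm y hy b hb
      have e1 : y * u * y⁻¹ = u := by
        have k1 : (y * b) * f * (y * b)⁻¹ = f * u2 * (y * u * y⁻¹) := by
          have e : (y * b) * f * (y * b)⁻¹ = y * (b * f * b⁻¹) * y⁻¹ := by group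
          have e' : y * (f * u) * y⁻¹ = (y * f * y⁻¹) * (y * u * y⁻¹) := by group
          rw [e, hbf, e', hyf]
        have k2 : (b * y) * f * (b * y)⁻¹ = f * u * u2 := by
          have e : (b * y) * f * (b * y)⁻¹ = b * (y * f * y⁻¹) * b⁻¹ := by group
          have e' : b * (f * u2) * b⁻¹ = (b * f * b⁻¹) * (b * u2 * b⁻¹) := by group
          rw [e, hyf, e', hbf, conj_eq_iff.2 (h.Q_comm (hA1Q b hb) hu2)]
        rw [h3, k2, mul_assoc, mul_assoc] at k1
        have k3 := mul_left_cancel k1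
        rw [h.commA (h.UA hu) (h.UA hu2)] at k3
        exact (mul_left_cancel k3).symm
      rcases h.fix_U_of_notMem hyS hyQ hu (conj_eq_iff.1 e1) with h4 | h4
      · left; rw [hbf, h4, mul_one]
      · right; rw [hbf, h4]
    have hfix : ∀ b ∈ cj g A, b * f * b⁻¹ = f → b = 1 ∨ b = z := by
      intro b hb hbf
      have hbT := h.mem_T_of_fix (hA1Q b hb) hbf
      exact hCA b (h.mem_A_of_sq hbT (hA1.sq b hb)) (hcomm y hy b hb)
    -- count
    have hz2 := h.z2
    obtain ⟨b, hb, hbc⟩ : ∃ b ∈ cj g A, ∀ c ∈ cj g A, c = 1 ∨ c = z ∨ c = b ∨ c = b * z := by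
      by_cases hall : ∀ b ∈ cj g A, b * f * b⁻¹ = f
      · refine ⟨1, one_mem _, fun c hc => ?_⟩
        rcases hfix c hc (hall c hc) with h1 | h1
        · exact Or.inl h1
        · exact Or.inr (Or.inl h1)
      · push Not at hall
        obtain ⟨b, hb, hbf⟩ := hall
        have hbf' := (hfz b hb).resolve_left hbf
        refine ⟨b, hb, fun c hc => ?_⟩
        rcases hfz c hc with h1 | h1
        · rcases hfix c hc h1 with h2 | h2
          · exact Or.inl h2
          · exact Or.inr (Or.inl h2)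
        · have hbz : b * z * b⁻¹ = z := conj_eq_iff.2 (h.zc b (hA1S hb))
          have h2 : (b * c) * f * (b * c)⁻¹ = f := by
            have e : (b * c) * f * (b * c)⁻¹ = b * (c * f * c⁻¹) * b⁻¹ := by group
            have e' : b * (f * z) * b⁻¹ = (b * f * b⁻¹) * (b * z * b⁻¹) := by group
            rw [e, h1, e', hbf', hbz, mul_assoc, hz2, mul_one]
          have hbi : c = b * (b * c) := by rw [← mul_assoc, hA1.sq b hb, one_mul]
          rcases hfix _ (mul_mem hb hc) h2 with h3 | h3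
          · right; right; left
            rw [hbi, h3, mul_one]
          · right; right; right
            rw [hbi, h3]
    have hsub : (cj g A : Set G) ⊆ ({1, z, b, b * z} : Set G) := by
      intro c hc
      simpa only [Set.mem_insert_iff, Set.mem_singleton_iff] using hbc c hc
    have hn1 : (cj g A : Set G).ncard = 8 := by
      rw [← hA1.card]; exact (Nat.card_coe_set_eq _).symm
    have hn2 := Set.ncard_le_ncard hsub (Set.toFinite _)
    have hn3 : ({1, z, b, b * z} : Set G).ncard ≤ 4 := by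
      refine (Set.ncard_insert_le _ _).trans ?_
      refine Nat.succ_le_succ ((Set.ncard_insert_le _ _).trans ?_)
      refine Nat.succ_le_succ ((Set.ncard_insert_le _ _).trans ?_)
      rw [Set.ncard_singleton]
    omega
  -- `U^g ≤ A`
  have hsq : ∀ u ∈ U, ∃ y ∈ Y, y * y = u := by
    intro u hu
    have hxt : x * t * x⁻¹ ∈ Y := mem_norm hY.nx hY.tY
    have e1 : (x * t * x⁻¹) * (x * t * x⁻¹) = x * z * x⁻¹ := by
      have e : (x * t * x⁻¹) * (x * t * x⁻¹) = x * (t * t) * x⁻¹ := by group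
      rw [e, hY.tt]
    rcases h.U_cases' h.z2_mem h.z2_ne_one h.xz u hu with rfl | rfl | rfl | rfl
    · exact ⟨1, one_mem _, by simp⟩
    · exact ⟨t, hY.tY, hY.tt⟩
    · exact ⟨_, hxt, e1⟩
    · refine ⟨t * (x * t * x⁻¹), mul_mem hY.tY hxt, ?_⟩
      have hc := hY.comm t hY.tY _ hxt
      calc t * (x * t * x⁻¹) * (t * (x * t * x⁻¹)) = t * ((x * t * x⁻¹) * t) * (x * t * x⁻¹) := by group
        _ = t * (t * (x * t * x⁻¹)) * (x * t * x⁻¹) := by rw [← hc]
        _ = (t * t) * ((x * t * x⁻¹) * (x * t * x⁻¹)) := by group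
        _ = _ := by rw [hY.tt, e1]
  have hUA : ∀ u ∈ cj g U, u ∈ A := by
    intro u hu
    obtain ⟨y, hy, hyu⟩ := hsq _ (mem_cj.1 hu)
    have h1 := claim _ (conj_mem_cj hy g)
    have e : g * y * g⁻¹ * (g * y * g⁻¹) = u := by
      have e' : g * y * g⁻¹ * (g * y * g⁻¹) = g * (y * y) * g⁻¹ := by group
      rw [e', hyu]; group
    rw [e] at h1
    exact h.mem_A_of_sq h1 (hA1.sq u (map_mono h.UA hu))
  have hzA1 : z ∈ cj g A := by rw [← hg]; exact conj_mem_cj ha g
  have hzU1 : z ∉ cj g U := by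
    intro h1
    have h2 := mem_cj.1 h1
    rw [← hg] at h2
    have e : g⁻¹ * (g * a * g⁻¹) * g = a := by group
    rw [e] at h2
    exact haU h2
  have hA1A : cj g A ≤ A := by
    intro b hb
    by_cases hbU : b ∈ cj g U
    · exact hUA b hbU
    · have h1 : z * b ∈ cj g U := mul_mem_of_index_two (map_mono h.UA)
        (by rw [hA1.card, card_cj, h.cardU]) hzA1 hb hzU1 hbU
      have h2 : b = z * (z * b) := by rw [← mul_assoc, h.z2, one_mul]
      rw [h2]
      exact mul_mem h.zA (hUA _ h1)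
  have hEq : cj g A = A := Subgroup.eq_of_le_of_card_ge hA1A (by rw [card_cj])
  have hgN : g ∈ normalizer (U : Set G) := h.nU (cj_eq_iff.1 hEq)
  apply haU
  have h1 := mem_norm' hgN h.zU
  rw [← hg] at h1
  have e : g⁻¹ * (g * a * g⁻¹) * g = a := by group
  rwa [e] at h1

end Cfsg.Agent.RankThreeFus
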