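import Cfsg.Agent.RankThreeFus.SecThree
import Cfsg.Agent.RankThreeFus.NoZ

/-!
# S1730, branch (B), (B8*), CASE I, `PT ≠ S`: section 4 (the `n`-trick)
-/

set_option autoImplicit false
set_option linter.style.haveILetI false
set_option linter.unusedSectionVars false
set_option linter.unusedVariables false

namespace Cfsg.Agent.RankThreeFus

open Subgroup Cfsg.Agent.Lib.GoldschmidtFusion Cfsg.Agent.StdL2.G23Aut Cfsg.Agent.Lib.EssentialFusion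

variable {G : Type*} [Group G]

namespace Ci

variable {S : Sylow 2 G} {A U : Subgroup G} {z f x e : G} {Y : Subgroup G} {t b : G}
  (h : Ci S A U z f x e Y t b)

include h

/-- `[t₂, e] = p t` -/
theorem re [Finite G] : (x * t * x⁻¹) * e * (x * t * x⁻¹)⁻¹ * e⁻¹ = (x * z * x⁻¹) * t := by
  have h1 := h.er'
  have e1 : (x * t * x⁻¹) * e * (x * t * x⁻¹)⁻¹ * e⁻¹ = (e * (x * t * x⁻¹) * e⁻¹ * (x * t * x⁻¹)⁻¹)⁻¹ := by group
  rw [e1, h1, mul_inv_rev, inv_inv, h.fr.invA (h.fr.UA h.pU)]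

theorem rT : x * t * x⁻¹ ∈ TT S A := h.yz.YT h.rY

theorem cardSQ : Nat.card S = 2 * Nat.card (QQ S U) := by
  rw [h.fr.cardS, h.fr.cardQ]; ring

theorem eQ : e ∉ QQ S U := fun h1 => h.fr.sU h1.2

/-- `S = Q ∪ eQ` -/
theorem mem_S [Finite G] {g : G} (hg : g ∈ (S : Subgroup G)) : g ∈ QQ S U ∨ e * g ∈ QQ S U := by
  by_cases h1 : g ∈ QQ S U
  · exact Or.inl h1
  · exact Or.inr (mul_mem_of_index_two (inf_le_left : QQ S U ≤ (S : Subgroup G)) h.cardSQ h.eS hg h.eQ h1)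

theorem eeg (g : G) : e * (e * g) = g := by rw [← mul_assoc, h.ee, one_mul]

/-- `p ≠ 1, z` and `zp ≠ 1, z` -/
theorem U_ne {ζ β : G} (hζ : ζ = 1 ∨ ζ = z) (hβ : β = x * z * x⁻¹ ∨ β = z * (x * z * x⁻¹)) :
    ζ * β ≠ 1 ∧ ζ * β ≠ z := by
  have hzz := h.zz
  have h1 := h.fr.z2_ne_one
  have h2 := h.fr.xz
  have h3 := h.fr.z1
  have canc : ∀ c : G, z * (z * c) = c := fun c => by rw [← mul_assoc, hzz, one_mul]
  have h4 : z * (x * z * x⁻¹) ≠ 1 := fun h5 => h2 (by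
    have := canc (x * z * x⁻¹)
    rw [h5, mul_one] at this
    exact this.symm)
  have h5 : z * (x * z * x⁻¹) ≠ z := fun h6 => h1 (mul_eq_left.1 h6)
  rcases hζ with rfl | rfl <;> rcases hβ with rfl | rfl
  · rw [one_mul]; exact ⟨h1, h2⟩
  · rw [one_mul]; exact ⟨h4, h5⟩
  · exact ⟨h4, h5⟩
  · rw [canc]; exact ⟨h1, h2⟩

/-- the involutions of `U` are conjugate to `z` -/
theorem conj_U [Finite G] {u : G} (hu : u ∈ U) (h1 : u ≠ 1) : ∃ m : G, m * u * m⁻¹ = z := by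
  rcases h.fr.U_cases' h.pU h.fr.z2_ne_one h.fr.xz u hu with rfl | rfl | rfl | rfl
  · exact absurd rfl h1
  · exact ⟨1, by simp⟩
  · exact ⟨x⁻¹, by group⟩
  · exact ⟨x, h.fr.xz3⟩

/-- an element of `A` which is conjugate to an element of `U` is in `U` -/
theorem mem_U_of_conj [Finite G] {a u g : G} (ha : a ∈ A) (hu : u ∈ U) (hau : a = g * u * g⁻¹) : a ∈ U := by
  by_contra haU
  have hu1 : u ≠ 1 := by
    rintro rfl
    apply haU
    rw [hau, mul_one, mul_inv_cancel]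
    exact one_mem _
  obtain ⟨m, hm⟩ := h.conj_U hu hu1
  refine h.yz.not_conj ha haU (m * g⁻¹) ?_
  rw [hau, ← hm]
  group

end Ci

namespace Pd

variable {S : Sylow 2 G} {A U : Subgroup G} {z f x e : G} {Y : Subgroup G} {t b : G} {P : Subgroup G}
  (h : Pd S A U z f x e Y t b P)

include h

/-- (3.3) `[t₂, c] ∈ U` for `c ∈ T` commuting with `b` -/
theorem rc [Finite G] (hbr : b * (x * t * x⁻¹) * b⁻¹ * (x * t * x⁻¹)⁻¹ ∈ U) {c : G} (hc : c ∈ TT S A)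
    (hcb : c * b = b * c) : (x * t * x⁻¹) * c * (x * t * x⁻¹)⁻¹ * c⁻¹ ∈ U := by
  have hF := h.fr
  have hci := h.ci
  have hrY := hci.rY
  have hrT := hci.rT
  obtain ⟨r, hr⟩ : ∃ r, r = x * t * x⁻¹ := ⟨_, rfl⟩
  rw [← hr] at hbr hrY hrT ⊢
  refine hci.fix_b' ?_ ?_
  · have e1 : r * c * r⁻¹ * c⁻¹ = (c * r * c⁻¹ * r⁻¹)⁻¹ := by group
    rw [e1]
    exact inv_mem (hci.yz.QY c (hF.T_le_Q hc) r hrY)
  · obtain ⟨β, hβ⟩ : ∃ β, β = b * r * b⁻¹ * r⁻¹ := ⟨_, rfl⟩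
    rw [← hβ] at hbr
    have h1 : b * r * b⁻¹ = β * r := by rw [hβ]; group
    have h2 : b * c * b⁻¹ = c := conj_eq_iff.2 hcb.symm
    rw [← conj_eq_iff]
    have e1 : b * (r * c * r⁻¹ * c⁻¹) * b⁻¹ = (b * r * b⁻¹) * (b * c * b⁻¹) * (b * r * b⁻¹)⁻¹ * (b * c * b⁻¹)⁻¹ := by
      group
    rw [e1, h1, h2]
    have h3 := hF.T_comm (mul_mem (mul_mem hrT hc) (inv_mem hrT)) (hF.UA hbr)
    calc β * r * c * (β * r)⁻¹ * c⁻¹ = (β * (r * c * r⁻¹)) * β⁻¹ * c⁻¹ := by group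
      _ = ((r * c * r⁻¹) * β) * β⁻¹ * c⁻¹ := by rw [h3]
      _ = _ := by group

/-- (3.3) `t₂` normalises `P` -/
theorem rN [Finite G] (hzt : b * t * b⁻¹ * t⁻¹ = z)
    (hbr : b * (x * t * x⁻¹) * b⁻¹ * (x * t * x⁻¹)⁻¹ ∈ U) : x * t * x⁻¹ ∈ normalizer (P : Set G) := by
  have hF := h.fr
  have hci := h.ci
  have hrT := hci.rT
  have hre := hci.re
  have hrc := fun (c : G) (hc : c ∈ TT S A) (hcb : c * b = b * c) => h.rc hbr hc hcb
  obtain ⟨r, hr⟩ : ∃ r, r = x * t * x⁻¹ := ⟨_, rfl⟩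
  rw [← hr] at hbr hrT hre hrc ⊢
  have hUP : U ≤ P := hF.UA.trans h.AP
  have hb' : r * b * r⁻¹ ∈ P := by
    have e1 : r * b * r⁻¹ = (b * r * b⁻¹ * r⁻¹)⁻¹ * b := by group
    rw [e1]
    exact mul_mem (inv_mem (hUP hbr)) h.bP
  have he' : r * e * r⁻¹ ∈ P := by
    have e1 : r * e * r⁻¹ = (r * e * r⁻¹ * e⁻¹) * e := by group
    rw [e1, hre]
    exact mul_mem (mul_mem (hUP hci.pU) (h.tP hzt)) h.eP
  refine mem_norm_of_conj fun g hg => ?_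
  obtain ⟨c, hcP, hcT, hcb, hce, a, ha, y, hy, rfl⟩ := h.dec hg
  have hc' : r * c * r⁻¹ ∈ P := by
    have e1 : r * c * r⁻¹ = (r * c * r⁻¹ * c⁻¹) * c := by group
    rw [e1]
    exact mul_mem (hUP (hrc c hcT hcb)) hcP
  have ha' : r * a * r⁻¹ ∈ P := by
    rw [conj_eq_iff.2 (hF.T_comm hrT ha)]
    exact h.AP ha
  have hy' : r * y * r⁻¹ ∈ P := by
    rcases hy with rfl | rfl | rfl | rfl
    · simp
    · exact hb'
    · exact he'
    · have e1 : r * (b * e) * r⁻¹ = (r * b * r⁻¹) * (r * e * r⁻¹) := by group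
      rw [e1]
      exact mul_mem hb' he'
  have e1 : r * (c * a * y) * r⁻¹ = (r * c * r⁻¹) * (r * a * r⁻¹) * (r * y * r⁻¹) := by group
  rw [e1]
  exact mul_mem (mul_mem hc' ha') hy'

/-- (3.3) `t₂ ∉ P` -/
theorem r_notMem [Finite G] (hbr : b * (x * t * x⁻¹) * b⁻¹ * (x * t * x⁻¹)⁻¹ = x * z * x⁻¹ ∨
    b * (x * t * x⁻¹) * b⁻¹ * (x * t * x⁻¹)⁻¹ = z * (x * z * x⁻¹)) : x * t * x⁻¹ ∉ P := by
  intro hrP
  have hci := h.ci
  have hne := hci.U_ne (Or.inl rfl) hbr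
  rw [one_mul] at hne
  obtain ⟨r, hr⟩ : ∃ r, r = x * t * x⁻¹ := ⟨_, rfl⟩
  rw [← hr] at hrP hne
  have e1 : b * r * b⁻¹ * r⁻¹ = b * (r * b * r⁻¹)⁻¹ := by group
  rcases h.Pb r hrP with h1 | h1
  · apply hne.1
    rw [e1, h1, mul_inv_cancel]
  · apply hne.2
    rw [e1, h1, mul_inv_rev, mul_inv_cancel_left, hci.fr.invA hci.fr.zA]

/-- (3.4) -/
theorem sq_mem [Finite G] (hbr : b * (x * t * x⁻¹) * b⁻¹ * (x * t * x⁻¹)⁻¹ ∈ U) {y : G} (hy : y ∈ P)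
    (hyy : y * y = 1 ∨ y * y = z)
    (hk : ((x * t * x⁻¹) * y * (x * t * x⁻¹)⁻¹ * y⁻¹) * ((x * t * x⁻¹) * y * (x * t * x⁻¹)⁻¹ * y⁻¹) = 1) :
    (x * t * x⁻¹) * y * (x * t * x⁻¹)⁻¹ * y⁻¹ ∈ U := by
  have hF := h.fr
  have hci := h.ci
  have hrY := hci.rY
  have hrT := hci.rT
  have hre := hci.re
  have hrc := fun (c : G) (hc : c ∈ TT S A) (hcb : c * b = b * c) => h.rc hbr hc hcb
  obtain ⟨r, hr⟩ : ∃ r, r = x * t * x⁻¹ := ⟨_, rfl⟩
  rw [← hr] at hbr hrY hrT hre hrc hk ⊢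
  have hyS := h.PS hy
  have hA : ∀ q ∈ QQ S U, r * q * r⁻¹ * q⁻¹ ∈ A := by
    intro q hq
    have e1 : r * q * r⁻¹ * q⁻¹ = (q * r * q⁻¹ * r⁻¹)⁻¹ := by group
    rw [e1]
    exact inv_mem (hci.yz.QY q hq r hrY)
  rcases hci.mem_S hyS with hyQ | hyQ
  · by_cases hyT : y ∈ TT S A
    · obtain ⟨a, ha, h1, h2⟩ := hci.exists_comm hyT (h.Pb _ hy) (h.Pe _ hy)
      have h3 := hrc (y * a) (mul_mem hyT (hF.A_le_T ha)) h1
      have h4 : r * a * r⁻¹ = a := conj_eq_iff.2 (hF.T_comm hrT ha)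
      have e1 : r * (y * a) * r⁻¹ * (y * a)⁻¹ = (r * y * r⁻¹) * (r * a * r⁻¹) * a⁻¹ * y⁻¹ := by group
      rw [e1, h4, mul_inv_cancel_right] at h3
      exact h3
    · have hkA := hA y hyQ
      obtain ⟨k, hk'⟩ : ∃ k, k = r * y * r⁻¹ * y⁻¹ := ⟨_, rfl⟩
      rw [← hk'] at hk hkA ⊢
      -- `k` commutes with `y`
      have h1 : r * (y * y) * r⁻¹ = y * y := by
        rcases hyy with h2 | h2
        · rw [h2]; simp
        · rw [h2]; exact conj_eq_iff.2 (hF.T_comm hrT hF.zA)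
      have h2 : r * y * r⁻¹ = k * y := by rw [hk']; group
      have h3 : r * (y * y) * r⁻¹ = k * (y * k * y⁻¹) * (y * y) := by
        have e1 : r * (y * y) * r⁻¹ = (r * y * r⁻¹) * (r * y * r⁻¹) := by group
        rw [e1, h2]; group
      rw [h1] at h3
      have h4 : k * (y * k * y⁻¹) = 1 := mul_eq_right.1 h3.symm
      have h5 : y * k * y⁻¹ = k := by
        rw [← inv_eq_of_mul_eq_one_right h4]
        exact hF.invA hkA
      rcases hF.mem_A hkA with h6 | h6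
      · exact h6
      · exfalso
        apply hyT
        have c1 : Commute y k := conj_eq_iff.1 h5
        have c2 : Commute y (f * k) := hF.Q_comm hyQ h6
        have c3 := c2.mul_right c1
        rw [mul_assoc, hF.sqA hkA, mul_one] at c3
        refine ⟨hyS, mem_cent_iff.2 fun a ha => ?_⟩
        rcases hF.mem_A ha with h7 | h7
        · exact hF.Q_comm hyQ h7
        · have c4 : Commute y (f * a) := hF.Q_comm hyQ h7
          have c5 : Commute y (f * (f * a)) := c3.mul_right c4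
          have e1 : f * (f * a) = a := by rw [← mul_assoc, hF.sqA hF.fA, one_mul]
          rw [e1] at c5
          exact c5.eq
  · exfalso
    have h1 := hA _ hyQ
    have heN := hF.hyp.norm hci.eS
    have h2 : t * (r * y * r⁻¹ * y⁻¹) ∈ A := by
      have e1 : r * y * r⁻¹ * y⁻¹ = (r * e * r⁻¹ * e⁻¹) * (e * (r * (e * y) * r⁻¹ * (e * y)⁻¹) * e⁻¹) := by
        calc r * y * r⁻¹ * y⁻¹ = r * (e * (e * y)) * r⁻¹ * (e * (e * y))⁻¹ := by rw [hci.eeg]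
          _ = _ := by group
      rw [e1, hre]
      have h3 := mem_norm heN h1
      have h4 := hF.T_comm hci.tT (hF.UA hci.pU)
      have e2 : t * ((x * z * x⁻¹) * t * (e * (r * (e * y) * r⁻¹ * (e * y)⁻¹) * e⁻¹)) =
          (t * (x * z * x⁻¹)) * t * (e * (r * (e * y) * r⁻¹ * (e * y)⁻¹) * e⁻¹) := by group
      rw [e2, h4, mul_assoc (x * z * x⁻¹), hci.yz.tt]
      exact mul_mem (mul_mem (hF.UA hci.pU) hF.zA) h3
    have h3 := hci.sq_tA h2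
    rw [hk] at h3
    exact hF.z1 h3.symm

/-- (4.2), (4.3): the core of the `n`-trick -/
theorem core [Finite G] (hzt : b * t * b⁻¹ * t⁻¹ = z)
    (hbr : b * (x * t * x⁻¹) * b⁻¹ * (x * t * x⁻¹)⁻¹ = x * z * x⁻¹ ∨
      b * (x * t * x⁻¹) * b⁻¹ * (x * t * x⁻¹)⁻¹ = z * (x * z * x⁻¹))
    {n : G} (hn : n ∈ TT S A) (hnn : n * n ∈ Y) (hnQ : ∀ q ∈ QQ S U, n * q * n⁻¹ * q⁻¹ ∈ Y)
    (hne : n * e * n⁻¹ * e⁻¹ ∈ A) : n ∈ P := by
  have hF := h.fr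
  have hci := h.ci
  have hyz := hci.yz
  have hzz := hci.zz
  have hpU := hci.pU
  have htP := h.tP hzt
  have hUP : U ≤ P := hF.UA.trans h.AP
  have hbrU : b * (x * t * x⁻¹) * b⁻¹ * (x * t * x⁻¹)⁻¹ ∈ U := by
    rcases hbr with h1 | h1 <;> rw [h1]
    · exact hpU
    · exact mul_mem hF.zU hpU
  have hrN := h.rN hzt hbrU
  have hrP := h.r_notMem hbr
  have hrr := hci.rr
  have hrT := hci.rT
  have hsq : ∀ y ∈ P, (y * y = 1 ∨ y * y = z) →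
    ((x * t * x⁻¹) * y * (x * t * x⁻¹)⁻¹ * y⁻¹) * ((x * t * x⁻¹) * y * (x * t * x⁻¹)⁻¹ * y⁻¹) = 1 →
    (x * t * x⁻¹) * y * (x * t * x⁻¹)⁻¹ * y⁻¹ ∈ U := fun y hy h1 h2 => h.sq_mem hbrU hy h1 h2
  obtain ⟨r, hr⟩ : ∃ r, r = x * t * x⁻¹ := ⟨_, rfl⟩
  rw [← hr] at hbr hbrU hrN hrP hrr hrT hsq
  have hnS := hn.1
  obtain ⟨w, hw⟩ : ∃ w, w = n * e * n⁻¹ * e⁻¹ := ⟨_, rfl⟩
  rw [← hw] at hne
  have hww := hF.sqA hne
  have hwi := hF.invA hne
  have hew : e * w * e⁻¹ = w := by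
    have e1 : e * w * e⁻¹ = e * n * e * n⁻¹ * (e⁻¹ * e⁻¹) := by rw [hw]; group
    have e2 : w⁻¹ = e * n * e⁻¹ * n⁻¹ := by rw [hw]; group
    rw [e1, hci.ei, hci.ee, mul_one]
    rw [hci.ei] at e2
    rw [← e2, hwi]
  have hene : e * n * e⁻¹ = w * n := by
    have e2 : w⁻¹ * n = e * n * e⁻¹ := by rw [hw]; group
    rw [← e2, hwi]
  have hnew : n * e * n⁻¹ = w * e := by rw [hw]; group
  have hY1P : ∀ y, (y ∈ A ∨ t * y ∈ A) → y ∈ P := by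
    rintro y (h1 | h1)
    · exact h.AP h1
    · have := mul_mem (inv_mem htP) (h.AP h1)
      rwa [inv_mul_cancel_left] at this
  -- commutators with elements of `Q` commuting with `e`
  have hvq : ∀ q ∈ QQ S U, q * e = e * q → n * q * n⁻¹ * q⁻¹ ∈ P := by
    intro q hq hqe
    apply hY1P
    have h1 := hnQ q hq
    refine hci.mem_Y1 h1 ?_
    obtain ⟨v, hv⟩ : ∃ v, v = n * q * n⁻¹ * q⁻¹ := ⟨_, rfl⟩
    rw [← hv] at h1 ⊢
    have h2 : e * q * e⁻¹ = q := conj_eq_iff.2 hqe.symm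
    have e1 : e * v * e⁻¹ = w * v * (q * w * q⁻¹) := by
      have e2 : e * v * e⁻¹ = (e * n * e⁻¹) * (e * q * e⁻¹) * (e * n * e⁻¹)⁻¹ * (e * q * e⁻¹)⁻¹ := by
        rw [hv]; group
      rw [e2, hene, h2, mul_inv_rev, hwi, hv]
      group
    have h3 := mem_norm (hF.hyp.norm hq.1) hne
    have h4 := hyz.comm w (hyz.AY hne) v h1
    have h5 := hF.T_comm (hyz.YT h1) (mul_mem hne h3)
    rw [e1, h4]
    have e3 : v * w * (q * w * q⁻¹) * v⁻¹ = v * (w * (q * w * q⁻¹)) * v⁻¹ := by group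
    rw [e3, conj_eq_iff.2 h5]
    exact mul_mem hne h3
  have hnnP : n * n ∈ P := by
    apply hY1P
    refine hci.mem_Y1 hnn ?_
    have h1 := hF.T_comm hn hne
    have e1 : e * (n * n) * e⁻¹ = n * n := by
      have e2 : e * (n * n) * e⁻¹ = (e * n * e⁻¹) * (e * n * e⁻¹) := by group
      rw [e2, hene]
      calc w * n * (w * n) = w * (n * w) * n := by group
        _ = w * (w * n) * n := by rw [h1]
        _ = (w * w) * (n * n) := by group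
        _ = _ := by rw [hww, one_mul]
    rw [e1, mul_inv_cancel]
    exact one_mem _
  have hnN : n ∈ normalizer (P : Set G) := by
    refine mem_norm_of_conj fun g hg => ?_
    obtain ⟨c, hcP, hcT, hcb, hce, a, ha, y, hy, rfl⟩ := h.dec hg
    have hc' : n * c * n⁻¹ ∈ P := by
      have e1 : n * c * n⁻¹ = (n * c * n⁻¹ * c⁻¹) * c := by group
      rw [e1]
      exact mul_mem (hvq c (hF.T_le_Q hcT) hce) hcP
    have ha' : n * a * n⁻¹ ∈ P := by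
      rw [conj_eq_iff.2 (hF.T_comm hn ha)]
      exact h.AP ha
    have hb' : n * b * n⁻¹ ∈ P := by
      have e1 : n * b * n⁻¹ = (n * b * n⁻¹ * b⁻¹) * b := by group
      rw [e1]
      exact mul_mem (hvq b hci.bQ hci.be) h.bP
    have he' : n * e * n⁻¹ ∈ P := by
      rw [hnew]
      exact mul_mem (h.AP hne) h.eP
    have hy' : n * y * n⁻¹ ∈ P := by
      rcases hy with rfl | rfl | rfl | rfl
      · simp
      · exact hb'
      · exact he'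
      · have e1 : n * (b * e) * n⁻¹ = (n * b * n⁻¹) * (n * e * n⁻¹) := by group
        rw [e1]
        exact mul_mem hb' he'
    have e1 : n * (c * a * y) * n⁻¹ = (n * c * n⁻¹) * (n * a * n⁻¹) * (n * y * n⁻¹) := by group
    rw [e1]
    exact mul_mem (mul_mem hc' ha') hy'
  by_contra hnP
  -- conjugacy of involutions of the outer automizer
  obtain ⟨g, hg, p, hp, d, hd, hngp⟩ := StrongM.exists_conj h.ess hrT.1 hrN hrP
    (by rw [hrr]; exact hUP hpU) hnS hnN hnP hnnP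
  have hgz := h.hz g hg
  have hzP : ∀ ζ : G, (ζ = 1 ∨ ζ = z) → ∀ k ∈ normalizer (P : Set G), ζ * k = k * ζ := by
    rintro ζ (rfl | rfl) k hk
    · simp
    · exact (h.hz k hk).symm
  have hPN : P ≤ normalizer (P : Set G) := le_normalizer
  have star : ∀ y ∈ P, (∀ k ∈ P, k * y * k⁻¹ = y ∨ k * y * k⁻¹ = z * y) → ∃ ζ, (ζ = 1 ∨ ζ = z) ∧
      n * y * n⁻¹ * y⁻¹ = g * (ζ * (r * (g⁻¹ * y * g) * r⁻¹ * (g⁻¹ * y * g)⁻¹)) * g⁻¹ := by
    intro y hy hyc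
    have hdy : d * y * d⁻¹ = y := conj_eq_iff.2 (mem_cent_iff.1 hd y hy)
    obtain ⟨ζ, hζ, hpy⟩ : ∃ ζ, (ζ = 1 ∨ ζ = z) ∧ p * y * p⁻¹ = ζ * y := by
      rcases hyc p hp with h1 | h1
      · exact ⟨1, Or.inl rfl, by rw [one_mul]; exact h1⟩
      · exact ⟨z, Or.inr rfl, h1⟩
    refine ⟨ζ, hζ, ?_⟩
    have h1 := hzP ζ hζ _ (mul_mem (mul_mem hg hrN) (inv_mem hg))
    have h2 := hzP ζ hζ _ hg
    have e1 : n * y * n⁻¹ = (g * r * g⁻¹) * (p * (d * y * d⁻¹) * p⁻¹) * (g * r * g⁻¹)⁻¹ := by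
      rw [hngp]; group
    rw [e1, hdy, hpy]
    calc (g * r * g⁻¹) * (ζ * y) * (g * r * g⁻¹)⁻¹ * y⁻¹
        = ((g * r * g⁻¹) * ζ) * y * (g * r * g⁻¹)⁻¹ * y⁻¹ := by group
      _ = (ζ * (g * r * g⁻¹)) * y * (g * r * g⁻¹)⁻¹ * y⁻¹ := by rw [h1]
      _ = (ζ * g) * (r * (g⁻¹ * y * g) * r⁻¹ * (g⁻¹ * y * g)⁻¹) * g⁻¹ := by group
      _ = (g * ζ) * (r * (g⁻¹ * y * g) * r⁻¹ * (g⁻¹ * y * g)⁻¹) * g⁻¹ := by rw [h2]
      _ = _ := by group
  have hζU : ∀ ζ : G, (ζ = 1 ∨ ζ = z) → ζ ∈ U := by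
    rintro ζ (rfl | rfl)
    · exact one_mem _
    · exact hF.zU
  -- `w ∈ ⟨z⟩`
  have hwz : w = 1 ∨ w = z := by
    obtain ⟨ζ, hζ, h1⟩ := star e h.eP h.Pe
    rw [← hw] at h1
    have hy' : g⁻¹ * e * g ∈ P := by
      have := (mem_normalizer_iff.1 (inv_mem hg) e).1 h.eP
      simpa using this
    obtain ⟨y', hyy'⟩ : ∃ y', y' = g⁻¹ * e * g := ⟨_, rfl⟩
    rw [← hyy'] at hy' h1
    have hyy2 : y' * y' = 1 := by
      rw [hyy']
      calc g⁻¹ * e * g * (g⁻¹ * e * g) = g⁻¹ * (e * e) * g := by group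
        _ = 1 := by rw [hci.ee]; group
    obtain ⟨k, hk⟩ : ∃ k, k = r * y' * r⁻¹ * y'⁻¹ := ⟨_, rfl⟩
    rw [← hk] at h1
    have hkN : k ∈ normalizer (P : Set G) := by
      rw [hk]
      exact mul_mem (mul_mem (mul_mem hrN (hPN hy')) (inv_mem hrN)) (inv_mem (hPN hy'))
    have hζζ : ζ * ζ = 1 := hF.sqA (hF.UA (hζU ζ hζ))
    have h2 : k * k = 1 := by
      have e1 : w * w = g * ((ζ * k) * (ζ * k)) * g⁻¹ := by rw [h1]; group
      rw [hww] at e1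
      have e2 : (ζ * k) * (ζ * k) = 1 := by
        have : g⁻¹ * (1 : G) * g = (ζ * k) * (ζ * k) := by rw [e1]; group
        rw [← this]; group
      have e3 : (ζ * k) * (ζ * k) = (ζ * ζ) * (k * k) := by
        calc (ζ * k) * (ζ * k) = ζ * (k * ζ) * k := by group
          _ = ζ * (ζ * k) * k := by rw [hzP ζ hζ k hkN]
          _ = _ := by group
      rw [e3, hζζ, one_mul] at e2
      exact e2
    have h3 : k ∈ U := by
      rw [hk] at h2 ⊢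
      exact hsq y' hy' (Or.inl hyy2) h2
    have h4 : w ∈ U := hci.mem_U_of_conj hne (mul_mem (hζU ζ hζ) h3) h1
    exact hF.fix_s h4 (conj_eq_iff.1 hew)
  -- `y = b^g`
  obtain ⟨y, hy⟩ : ∃ y, y = g * b * g⁻¹ := ⟨_, rfl⟩
  have hyP : y ∈ P := by rw [hy]; exact (mem_normalizer_iff.1 hg b).1 h.bP
  have hyc : ∀ k ∈ P, k * y * k⁻¹ = y ∨ k * y * k⁻¹ = z * y := by
    intro k hk
    have hk' : g⁻¹ * k * g ∈ P := by
      have := (mem_normalizer_iff.1 (inv_mem hg) k).1 hk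
      simpa using this
    have e1 : k * y * k⁻¹ = g * ((g⁻¹ * k * g) * b * (g⁻¹ * k * g)⁻¹) * g⁻¹ := by rw [hy]; group
    rw [e1]
    rcases h.Pb _ hk' with h1 | h1 <;> rw [h1]
    · left; rw [hy]
    · right
      rw [hy]
      calc g * (z * b) * g⁻¹ = (g * z) * b * g⁻¹ := by group
        _ = (z * g) * b * g⁻¹ := by rw [hgz]
        _ = _ := by group
  obtain ⟨ζ, hζ, h1⟩ := star y hyP hyc
  have e0 : g⁻¹ * y * g = b := by rw [hy]; group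
  rw [e0] at h1
  obtain ⟨β, hβ⟩ : ∃ β, β = r * b * r⁻¹ * b⁻¹ := ⟨_, rfl⟩
  rw [← hβ] at h1
  have hβ' : β = x * z * x⁻¹ ∨ β = z * (x * z * x⁻¹) := by
    have e1 : β = (b * r * b⁻¹ * r⁻¹)⁻¹ := by rw [hβ]; group
    rw [e1, hF.invA (hF.UA hbrU)]
    exact hbr
  have hβU : β ∈ U := by
    rcases hβ' with h2 | h2 <;> rw [h2]
    · exact hpU
    · exact mul_mem hF.zU hpU
  have hne := hci.U_ne hζ hβ'
  have hζβ : ζ * β ∈ U := mul_mem (hζU ζ hζ) hβU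
  obtain ⟨v, hv⟩ : ∃ v, v = n * y * n⁻¹ * y⁻¹ := ⟨_, rfl⟩
  rw [← hv] at h1
  have hvv : v * v = 1 := by
    rw [h1]
    calc g * (ζ * β) * g⁻¹ * (g * (ζ * β) * g⁻¹) = g * ((ζ * β) * (ζ * β)) * g⁻¹ := by group
      _ = 1 := by rw [hF.sqA (hF.UA hζβ)]; group
  have hvY : v ∈ Y := by
    rw [hv]
    rcases hci.mem_S (h.PS hyP) with h2 | h2
    · exact hnQ y h2
    · have h3 := mem_norm (hyz.nS hci.eS) (hnQ _ h2)
      have e1 : n * y * n⁻¹ * y⁻¹ = w * (e * (n * (e * y) * n⁻¹ * (e * y)⁻¹) * e⁻¹) := by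
        calc n * y * n⁻¹ * y⁻¹ = n * (e * (e * y)) * n⁻¹ * (e * (e * y))⁻¹ := by rw [hci.eeg]
          _ = (n * e * n⁻¹ * e⁻¹) * (e * (n * (e * y) * n⁻¹ * (e * y)⁻¹) * e⁻¹) := by group
          _ = _ := by rw [← hw]
      rw [e1]
      exact mul_mem (hyz.AY (by assumption)) h3
  have hvA : v ∈ A := hyz.sq1 v hvY hvv
  have hvU : v ∈ U := hci.mem_U_of_conj hvA hζβ h1
  have hwN : w ∈ normalizer (P : Set G) := by
    rcases hwz with h2 | h2 <;> rw [h2]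
    · exact one_mem _
    · exact hPN (hUP hF.zU)
  have hev : e * v * e⁻¹ = v := by
    obtain ⟨η, hη, h2⟩ : ∃ η, (η = 1 ∨ η = z) ∧ e * y * e⁻¹ = η * y := by
      rcases hyc e h.eP with h1 | h1
      · exact ⟨1, Or.inl rfl, by rw [one_mul]; exact h1⟩
      · exact ⟨z, Or.inr rfl, h1⟩
    have e1 : e * v * e⁻¹ = (e * n * e⁻¹) * (e * y * e⁻¹) * (e * n * e⁻¹)⁻¹ * (e * y * e⁻¹)⁻¹ := by
      rw [hv]; group
    rw [e1, hene, h2, hv]
    have c1 : Commute w n := hzP w hwz n hnN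
    have c2 : Commute w y := hzP w hwz y (hPN hyP)
    have c3 : Commute η n := hzP η hη n hnN
    have c4 : Commute η y := hzP η hη y (hPN hyP)
    have c5 : Commute w η := hzP w hwz η (by
      rcases hη with h3 | h3 <;> rw [h3]
      · exact one_mem _
      · exact hPN (hUP hF.zU))
    calc w * n * (η * y) * (w * n)⁻¹ * (η * y)⁻¹
        = w * (n * η) * y * n⁻¹ * w⁻¹ * y⁻¹ * η⁻¹ := by group
      _ = w * (η * n) * y * n⁻¹ * w⁻¹ * y⁻¹ * η⁻¹ := by rw [c3.eq]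
      _ = (w * (η * (n * y * n⁻¹))) * w⁻¹ * y⁻¹ * η⁻¹ := by group
      _ = ((η * (n * y * n⁻¹)) * w) * w⁻¹ * y⁻¹ * η⁻¹ := by
          rw [(c5.mul_right ((c1.mul_right c2).mul_right c1.inv_right)).eq]
      _ = (η * (n * y * n⁻¹ * y⁻¹)) * η⁻¹ := by group
      _ = ((n * y * n⁻¹ * y⁻¹) * η) * η⁻¹ := by
          rw [(((c3.mul_right c4).mul_right c3.inv_right).mul_right c4.inv_right).eq]
      _ = _ := by group
  rcases hF.fix_s hvU (conj_eq_iff.1 hev) with h2 | h2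
  · apply hne.1
    have : ζ * β = g⁻¹ * v * g := by rw [h1]; group
    rw [this, h2]; group
  · apply hne.2
    have : ζ * β = g⁻¹ * v * g := by rw [h1]; group
    rw [this, h2]
    calc g⁻¹ * z * g = g⁻¹ * (z * g) := by group
      _ = g⁻¹ * (g * z) := by rw [hgz]
      _ = z := by group

/-- **The `n`-trick.** -/
theorem ntrick [Finite G] (hzt : b * t * b⁻¹ * t⁻¹ = z)
    (hbr : b * (x * t * x⁻¹) * b⁻¹ * (x * t * x⁻¹)⁻¹ = x * z * x⁻¹ ∨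
      b * (x * t * x⁻¹) * b⁻¹ * (x * t * x⁻¹)⁻¹ = z * (x * z * x⁻¹))
    (n : G) (hn : n ∈ TT S A) (hnn : n * n ∈ Y) (hnQ : ∀ q ∈ QQ S U, n * q * n⁻¹ * q⁻¹ ∈ Y)
    (hne : n * e * n⁻¹ * e⁻¹ ∈ Y) :
    ∃ y ∈ Y, (n * y) * b = b * (n * y) ∧ (n * y) * e = e * (n * y) := by
  have hF := h.fr
  have hci := h.ci
  have hyz := hci.yz
  obtain ⟨w, hw⟩ : ∃ w, w = n * e * n⁻¹ * e⁻¹ := ⟨_, rfl⟩
  have hwY := hne
  rw [← hw] at hwY
  have hew : e * w * e⁻¹ = w⁻¹ := by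
    have e1 : e * w * e⁻¹ = e * n * e * n⁻¹ * (e⁻¹ * e⁻¹) := by rw [hw]; group
    have e2 : w⁻¹ = e * n * e⁻¹ * n⁻¹ := by rw [hw]; group
    rw [e1, e2, hci.ei, hci.ee, mul_one]
  have h1 : e * w * e⁻¹ * w⁻¹ ∈ A := by
    rw [hew, ← mul_inv_rev]
    exact inv_mem (hF.UA (hyz.sqU w hwY))
  rcases hci.mem_Y1 hwY h1 with h2 | h2
  · have hnP := h.core hzt hbr hn hnn hnQ (by rw [← hw]; exact h2)
    obtain ⟨a, ha, h3, h4⟩ := hci.exists_comm hn (h.Pb _ hnP) (h.Pe _ hnP)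
    exact ⟨a, hyz.AY ha, h3, h4⟩
  · have hrT := hci.rT
    have hrY := hci.rY
    have hre := hci.re
    have hcore := fun (n : G) (hn : n ∈ TT S A) (hnn : n * n ∈ Y) (hnQ : ∀ q ∈ QQ S U, n * q * n⁻¹ * q⁻¹ ∈ Y)
      (hne : n * e * n⁻¹ * e⁻¹ ∈ A) => h.core hzt hbr hn hnn hnQ hne
    obtain ⟨r, hr⟩ : ∃ r, r = x * t * x⁻¹ := ⟨_, rfl⟩
    rw [← hr] at hrT hrY hre
    have hnY := hyz.nS hn.1
    have hnr : n * r ∈ TT S A := mul_mem hn hrT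
    have hnP := hcore (n * r) hnr ?_ ?_ ?_
    · obtain ⟨a, ha, h3, h4⟩ := hci.exists_comm hnr (h.Pb _ hnP) (h.Pe _ hnP)
      refine ⟨r * a, mul_mem hrY (hyz.AY ha), ?_, ?_⟩
      · rw [← mul_assoc]; exact h3
      · rw [← mul_assoc]; exact h4
    · have e1 : n * r * (n * r) = (n * n) * (n⁻¹ * r * n) * r := by group
      rw [e1]
      exact mul_mem (mul_mem hnn (mem_norm' hnY hrY)) hrY
    · intro q hq
      have e1 : n * r * q * (n * r)⁻¹ * q⁻¹ = (n * (r * (q * r⁻¹ * q⁻¹)) * n⁻¹) * (n * q * n⁻¹ * q⁻¹) := by group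
      rw [e1]
      exact mul_mem (mem_norm hnY (mul_mem hrY (mem_norm (hyz.nS hq.1) (inv_mem hrY)))) (hnQ q hq)
    · have e1 : n * r * e * (n * r)⁻¹ * e⁻¹ = (n * (r * e * r⁻¹ * e⁻¹) * n⁻¹) * (n * e * n⁻¹ * e⁻¹) := by group
      rw [e1, hre, ← hw]
      have e2 : n * ((x * z * x⁻¹) * t) * n⁻¹ * w =
          (n * (x * z * x⁻¹) * n⁻¹) * ((n * t * n⁻¹ * t⁻¹) * (t * w)) := by group
      rw [e2, conj_eq_iff.2 (hF.T_comm hn (hF.UA hci.pU))]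
      exact mul_mem (hF.UA hci.pU) (mul_mem (hyz.QY n (hF.T_le_Q hn) t hyz.tY) h2)

end Pd

end Cfsg.Agent.RankThreeFus
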