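import Cfsg.Agent.RankThreeFus.SecThree
import Cfsg.Agent.RankThreeFus.EoneY

/-!
# S1730, branch (B), (B8*), CASE I: section 1

`Fr.exists_be`: if `A ∩ A^l = ⟨z⟩` for some `l ∈ N_G(P)`, `A ≤ P`, then `A^l = ⟨z, b, e⟩` with `b ∈ Q - T`,
`[f, b] = z` and `e ∉ Q`.  `Fr.exists_pd`: the data of CASE I for `P` with `[A, P] ≤ ⟨z⟩`.
-/

set_option autoImplicit false

namespace Cfsg.Agent.RankThreeFus

open Subgroup Cfsg.Agent.Lib.GoldschmidtFusion Cfsg.Agent.StdL2.G23Aut Cfsg.Agent.Lib.EssentialFusion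

variable {G : Type*} [Group G]

namespace Fr

variable {S : Sylow 2 G} {A U : Subgroup G} {z f x s : G} (h : Fr S A U z f x s)

include h

omit h in
theorem cj_le_of_norm {P : Subgroup G} {l : G} (hl : l ∈ normalizer (P : Set G)) {B : Subgroup G}
    (hB : B ≤ P) : cj l B ≤ P := by
  intro y hy
  have h1 := mem_norm hl (hB (mem_cj.1 hy))
  have h2 : l * (l⁻¹ * y * l) * l⁻¹ = y := by group
  rwa [h2] at h1

omit h in
theorem norm_cj {P B : Subgroup G} {l : G} (hl : l ∈ normalizer (P : Set G))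
    (hB : P ≤ normalizer (B : Set G)) {g : G} (hg : g ∈ P) {y : G} (hy : y ∈ cj l B) :
    g * y * g⁻¹ ∈ cj l B := by
  have h1 := mem_norm (hB (mem_norm' hl hg)) (mem_cj.1 hy)
  rw [mem_cj]
  have h2 : l⁻¹ * (g * y * g⁻¹) * l = l⁻¹ * g * l * (l⁻¹ * y * l) * (l⁻¹ * g * l)⁻¹ := by group
  rw [h2]; exact h1

theorem comm_cases [Finite G] {P : Subgroup G} (hPS : P ≤ (S : Subgroup G)) (hAP : A ≤ P) {l : G}
    (hl : l ∈ normalizer (P : Set G)) (hAl : A ⊓ cj l A = zpowers z) {a y : G} (ha : a ∈ A)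
    (hy : y ∈ cj l A) : y * a * y⁻¹ = a ∨ y * a * y⁻¹ = z * a := by
  have hPN : P ≤ normalizer (A : Set G) := hPS.trans h.hyp.norm
  have hyP : y ∈ P := cj_le_of_norm hl hAP hy
  have h1 : y * a * y⁻¹ * a⁻¹ ∈ A := A.mul_mem (mem_norm (hPN hyP) ha) (A.inv_mem ha)
  have h2 : y * a * y⁻¹ * a⁻¹ ∈ cj l A := by
    have h3 := norm_cj hl hPN (hAP ha) ((cj l A).inv_mem hy)
    have h4 : y * a * y⁻¹ * a⁻¹ = y * (a * y⁻¹ * a⁻¹) := by group
    rw [h4]; exact (cj l A).mul_mem hy h3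
  have h3 : y * a * y⁻¹ * a⁻¹ ∈ zpowers z := by
    rw [← hAl]; exact ⟨h1, h2⟩
  rcases zpowers_cases (h.sqA h.zA) _ h3 with h4 | h4
  · left; exact mul_inv_eq_one.1 h4
  · right; exact mul_inv_eq_iff_eq_mul.1 h4

/-- no element of `A^l - ⟨z⟩` centralises `A` -/
theorem mem_of_cent [Finite G] {l : G} (hAl : A ⊓ cj l A = zpowers z) {y : G}
    (hy : y ∈ cj l A) (hc : ∀ a ∈ A, y * a = a * y) : y = 1 ∨ y = z := by
  have hyy : y * y = 1 := (RankThreeFus.Oct.cj h.hyp.oct l).sq y hy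
  have h1 : y ∈ A := RankThreeFus.Oct.mem_of_comm h.hyp.rank h.hyp.oct hyy hc
  have h2 : y ∈ zpowers z := by rw [← hAl]; exact ⟨h1, hy⟩
  exact zpowers_cases (h.sqA h.zA) _ h2

/-- no element of `A - ⟨z⟩` centralises `A^l` -/
theorem mem_of_cent' [Finite G] {l : G} (hAl : A ⊓ cj l A = zpowers z) {a : G}
    (ha : a ∈ A) (hc : ∀ y ∈ cj l A, y * a = a * y) : a = 1 ∨ a = z := by
  have h1 : a ∈ cj l A := RankThreeFus.Oct.mem_of_comm h.hyp.rank (RankThreeFus.Oct.cj h.hyp.oct l) (h.sqA ha)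
    (fun y hy => (hc y hy).symm)
  have h2 : a ∈ zpowers z := by rw [← hAl]; exact ⟨ha, h1⟩
  exact zpowers_cases (h.sqA h.zA) _ h2

/-- **(1.1), (1.2)**: `A^l = ⟨z, b, e⟩`. -/
theorem exists_be [Finite G] {P : Subgroup G} (hPS : P ≤ (S : Subgroup G)) (hAP : A ≤ P) {l : G}
    (hl : l ∈ normalizer (P : Set G)) (hAl : A ⊓ cj l A = zpowers z) :
    ∃ b ∈ cj l A, ∃ e ∈ cj l A, b ∈ QQ S U ∧ b ∉ TT S A ∧ b * f * b⁻¹ = f * z ∧
      e ∈ (S : Subgroup G) ∧ e ∉ centralizer (U : Set G) ∧ b * b = 1 ∧ e * e = 1 ∧ b * e = e * b ∧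
      ∀ y ∈ cj l A, ∃ i, (i = 1 ∨ i = z) ∧ (y = i ∨ y = i * b ∨ y = i * e ∨ y = i * (b * e)) := by
  have hO : Oct (cj l A) := RankThreeFus.Oct.cj h.hyp.oct l
  have hsq : ∀ y ∈ cj l A, y * y = 1 := hO.sq
  have hcm : ∀ y ∈ cj l A, ∀ w ∈ cj l A, y * w = w * y := fun y hy w hw => hO.comm hy hw
  have hS : ∀ y ∈ cj l A, y ∈ (S : Subgroup G) := fun y hy => hPS (cj_le_of_norm hl hAP hy)
  have hz2 : z * z = 1 := h.sqA h.zA
  have hzl : z ∈ cj l A := by
    have h1 : z ∈ A ⊓ cj l A := by rw [hAl]; exact mem_zpowers z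
    exact h1.2
  have hcase : ∀ y ∈ cj l A, ∀ a ∈ A, y * a * y⁻¹ = a ∨ y * a * y⁻¹ = z * a := fun y hy a ha =>
    h.comm_cases hPS hAP hl hAl ha hy
  -- commuting with `p₂` means centralising `U`
  have hp : ∀ y ∈ cj l A, y * (x * z * x⁻¹) * y⁻¹ = x * z * x⁻¹ → y ∈ centralizer (U : Set G) := by
    intro y hy h1
    refine mem_cent_iff.2 fun u hu => ?_
    have h2 : y * z = z * y := h.zc y (hS y hy)
    rw [conj_eq_iff] at h1
    rcases h.U_cases' h.z2_mem h.z2_ne_one h.xz u hu with rfl | rfl | rfl | rfl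
    · simp
    · exact h2
    · exact h1
    · rw [← mul_assoc, h2, mul_assoc, h1, ← mul_assoc]
  -- `e`
  obtain ⟨e, he, heU⟩ : ∃ e ∈ cj l A, e ∉ centralizer (U : Set G) := by
    by_contra hcon
    push Not at hcon
    have h1 := h.mem_of_cent' hAl (h.UA h.z2_mem) (fun y hy => mem_cent_iff.1 (hcon y hy) _ h.z2_mem)
    rcases h1 with h1 | h1
    exacts [h.z2_ne_one h1, h.xz h1]
  have hep : ∀ y ∈ cj l A, y ∉ centralizer (U : Set G) → y * (x * z * x⁻¹) * y⁻¹ = z * (x * z * x⁻¹) :=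
    fun y hy hyU => (hcase y hy _ (h.UA h.z2_mem)).resolve_left (fun h1 => hyU (hp y hy h1))
  have heU' : ∀ y ∈ cj l A, y ∉ centralizer (U : Set G) → e * y ∈ centralizer (U : Set G) := by
    intro y hy hyU
    refine hp _ ((cj l A).mul_mem he hy) ?_
    have h1 : e * z * e⁻¹ = z := conj_eq_iff.2 (h.zc e (hS e he))
    have h2 : e * y * (x * z * x⁻¹) * (e * y)⁻¹ = e * (y * (x * z * x⁻¹) * y⁻¹) * e⁻¹ := by group
    have h3 : e * (z * (x * z * x⁻¹)) * e⁻¹ = (e * z * e⁻¹) * (e * (x * z * x⁻¹) * e⁻¹) := by group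
    rw [h2, hep y hy hyU, h3, h1, hep e he heU, ← mul_assoc, hz2, one_mul]
  have hei : e⁻¹ = e := inv_eq_of_mul_eq_one_left (hsq e he)
  classical
  -- `b`
  obtain ⟨b, hb, hbU, hb1, hbz⟩ : ∃ b ∈ cj l A, b ∈ centralizer (U : Set G) ∧ b ≠ 1 ∧ b ≠ z := by
    by_contra hcon
    push Not at hcon
    have h1 : ((cj l A : Subgroup G) : Set G) ⊆ (({1, z, e, e * z} : Finset G) : Set G) := by
      classical
      intro y hy
      have h2 : ∀ w ∈ cj l A, w ∈ centralizer (U : Set G) → w = 1 ∨ w = z := by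
        intro w hw hwU
        by_cases h3 : w = 1
        · exact Or.inl h3
        · exact Or.inr (hcon w hw hwU h3)
      simp only [Finset.coe_insert, Finset.coe_singleton, Set.mem_insert_iff, Set.mem_singleton_iff]
      by_cases hyU : y ∈ centralizer (U : Set G)
      · rcases h2 y hy hyU with h3 | h3
        · exact Or.inl h3
        · exact Or.inr (Or.inl h3)
      · have h4 : y = e * (e * y) := by rw [← mul_assoc, hsq e he, one_mul]
        rcases h2 _ ((cj l A).mul_mem he hy) (heU' y hy hyU) with h3 | h3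
        · right; right; left
          rw [h4, h3, mul_one]
        · right; right; right
          rw [h4, h3]
    have h2 := Set.ncard_le_ncard h1 (Set.toFinite _)
    rw [Set.ncard_coe_finset] at h2
    have h3 : ((cj l A : Subgroup G) : Set G).ncard = 8 := by
      rw [← Nat.card_coe_set_eq]; exact hO.card
    have h4 : ({1, z, e, e * z} : Finset G).card ≤ 4 := Finset.card_le_four
    omega
  have hbQ : b ∈ QQ S U := ⟨hS b hb, hbU⟩
  have hbT : b ∉ TT S A := by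
    intro h1
    rcases h.mem_of_cent hAl hb (mem_cent_iff.1 h1.2) with h2 | h2
    exacts [hb1 h2, hbz h2]
  have hfcase : ∀ y ∈ cj l A, y ∈ centralizer (U : Set G) → y * f * y⁻¹ = f → y = 1 ∨ y = z := by
    intro y hy hyU hyf
    have h1 := Eone.mem_T h (hS y hy) (mem_cent_iff.1 hyU) hyf
    exact h.mem_of_cent hAl hy (mem_cent_iff.1 h1.2)
  have hfz : z * f = f * z := h.commA h.zA h.fA
  have hbf : b * f * b⁻¹ = f * z := by
    rcases hcase b hb f h.fA with h1 | h1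
    · rcases hfcase b hb hbU h1 with h2 | h2
      exacts [absurd h2 hb1, absurd h2 hbz]
    · rw [h1, hfz]
  have hbb := hsq b hb
  -- elements of `A^l ∩ C(U)`
  have hU : ∀ y ∈ cj l A, y ∈ centralizer (U : Set G) → ∃ i, (i = 1 ∨ i = z) ∧ (y = i ∨ y = i * b) := by
    intro y hy hyU
    rcases hcase y hy f h.fA with h1 | h1
    · exact ⟨y, hfcase y hy hyU h1, Or.inl rfl⟩
    · have h2 : y * b * f * (y * b)⁻¹ = f := by
        have h3 : y * z * y⁻¹ = z := conj_eq_iff.2 (h.zc y (hS y hy))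
        calc y * b * f * (y * b)⁻¹ = y * (b * f * b⁻¹) * y⁻¹ := by group
          _ = (y * f * y⁻¹) * (y * z * y⁻¹) := by rw [hbf]; group
          _ = f * (z * z) := by rw [h1, h3, hfz, mul_assoc]
          _ = f := by rw [hz2, mul_one]
      refine ⟨y * b, hfcase _ ((cj l A).mul_mem hy hb) (mul_mem hyU hbU) h2, Or.inr ?_⟩
      rw [mul_assoc, hbb, mul_one]
  refine ⟨b, hb, e, he, hbQ, hbT, hbf, hS e he, heU, hbb, hsq e he, hcm b hb e he, fun y hy => ?_⟩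
  by_cases hyU : y ∈ centralizer (U : Set G)
  · obtain ⟨i, hi, h1 | h1⟩ := hU y hy hyU
    · exact ⟨i, hi, Or.inl h1⟩
    · exact ⟨i, hi, Or.inr (Or.inl h1)⟩
  · obtain ⟨i, hi, h1⟩ := hU _ ((cj l A).mul_mem he hy) (heU' y hy hyU)
    have h4 : y = e * (e * y) := by rw [← mul_assoc, hsq e he, one_mul]
    have h5 : e * i = i * e := by
      rcases hi with rfl | rfl
      · simp
      · exact hcm e he _ hzl
    refine ⟨i, hi, ?_⟩
    rcases h1 with h1 | h1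
    · right; right; left
      rw [h4, h1, h5]
    · right; right; right
      rw [h4, h1, ← mul_assoc, h5, mul_assoc, hcm e he b hb]

/-- The data of CASE I for `P` with `[A, P] ≤ ⟨z⟩`. -/
theorem exists_pd [Finite G] {P : Subgroup G} (hE : Ess S P) (hAP : A ≤ P)
    (hz : ∀ l ∈ normalizer (P : Set G), l * z = z * l) {l : G} (hl : l ∈ normalizer (P : Set G))
    (hAl : A ⊓ cj l A = zpowers z)
    (hPA : ∀ g ∈ P, ∀ a ∈ A, g * a * g⁻¹ = a ∨ g * a * g⁻¹ = z * a) :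
    ∃ (f' x' e : G) (Y : Subgroup G) (t b : G), Pd S A U z f' x' e Y t b P ∧ b ∈ cj l A ∧ e ∈ cj l A ∧
      f * f' ∈ U := by
  obtain ⟨b, hb, e, he, hbQ, hbT, hbf, heS, heU, hbb, hee, hbe, -⟩ := h.exists_be hE.lt.le hAP hl hAl
  obtain ⟨f', x', Y, t, hci, hff⟩ := h.exists_ci heS heU hee hbQ hbb hbf hbe
  have hP' : ∀ g ∈ P, ∀ y ∈ cj l A, g * y * g⁻¹ = y ∨ g * y * g⁻¹ = z * y := by
    intro g hg y hy
    have h1 := hPA _ (mem_norm' hl hg) _ (mem_cj.1 hy)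
    have h2 : l * (l⁻¹ * g * l * (l⁻¹ * y * l) * (l⁻¹ * g * l)⁻¹) * l⁻¹ = g * y * g⁻¹ := by group
    rcases h1 with h1 | h1 <;> rw [h1] at h2
    · left; rw [← h2]; group
    · right
      rw [← h2]
      calc l * (z * (l⁻¹ * y * l)) * l⁻¹ = (l * z) * l⁻¹ * y := by group
        _ = _ := by rw [hz l hl]; group
  exact ⟨f', x', e, Y, t, b, ⟨hci, hE, hAP, cj_le_of_norm hl hAP hb, cj_le_of_norm hl hAP he, hz, hPA,
    fun g hg => hP' g hg b hb, fun g hg => hP' g hg e he⟩, hb, he, hff⟩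

end Fr

end Cfsg.Agent.RankThreeFus
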