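import Cfsg.Agent.RankThreeFus.PtsBase
import Cfsg.Agent.RankThreeFus.SecOne
import Cfsg.Agent.RankThreeFus.SecFour
import Cfsg.Agent.RankThreeFus.LastTools
import Cfsg.Agent.RankThreeFus.Invert
import Cfsg.Agent.RankThreeFus.EoneY

/-!
# S1730, (B8*), CASE I, `PT = S`, section 9: the element `κ`
-/

set_option autoImplicit false
set_option linter.style.haveILetI false
set_option linter.unusedSectionVars false
set_option linter.unusedVariables false

namespace Cfsg.Agent.RankThreeFus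

open Subgroup Cfsg.Agent.Lib.GoldschmidtFusion Cfsg.Agent.StdL2.G23Aut Cfsg.Agent.Lib.EssentialFusion

variable {G : Type*} [Group G]

/-- equality modulo `⟨z⟩` -/
def Zq (z a b : G) : Prop := a = b ∨ a = z * b

namespace Zq

variable {z a b c a' b' : G}

theorem refl (z a : G) : Zq z a a := Or.inl rfl

theorem symm (hz : z * z = 1) (h : Zq z a b) : Zq z b a := by
  rcases h with h | h
  · exact Or.inl h.symm
  · right; rw [h, ← mul_assoc, hz, one_mul]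

theorem trans (hz : z * z = 1) (h : Zq z a b) (h' : Zq z b c) : Zq z a c := by
  rcases h with h | h <;> rcases h' with h' | h' <;> rw [h, h']
  · exact Or.inl rfl
  · exact Or.inr rfl
  · exact Or.inr rfl
  · left; rw [← mul_assoc, hz, one_mul]

theorem mul (hz : z * z = 1) (h : Zq z a b) (h' : Zq z a' b') (hc : z * b = b * z) : Zq z (a * a') (b * b') := by
  rcases h with h | h <;> rcases h' with h' | h' <;> rw [h, h']
  · exact Or.inl rfl
  · right; rw [← mul_assoc, ← hc, mul_assoc]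
  · right; rw [mul_assoc]
  · left
    calc z * b * (z * b') = z * (b * z) * b' := by group
      _ = z * (z * b) * b' := by rw [hc]
      _ = (z * z) * (b * b') := by group
      _ = _ := by rw [hz, one_mul]

theorem conj {l : G} (hl : l * z = z * l) (h : Zq z a b) : Zq z (l * a * l⁻¹) (l * b * l⁻¹) := by
  rcases h with h | h <;> rw [h]
  · exact Or.inl rfl
  · right
    calc l * (z * b) * l⁻¹ = (l * z) * b * l⁻¹ := by group
      _ = (z * l) * b * l⁻¹ := by rw [hl]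
      _ = _ := by group

/-- composition of actions -/
theorem comp (hz : z * z = 1) {l l' w w' w'' : G} (hl' : l' * z = z * l') (h : Zq z (l * w * l⁻¹) w')
    (h' : Zq z (l' * w' * l'⁻¹) w'') : Zq z ((l' * l) * w * (l' * l)⁻¹) w'' := by
  have h1 := h.conj hl'
  have e : l' * (l * w * l⁻¹) * l'⁻¹ = (l' * l) * w * (l' * l)⁻¹ := by group
  rw [e] at h1
  exact h1.trans hz h'

end Zq

namespace Pts

variable {S : Sylow 2 G} {A U : Subgroup G} {z f x s : G} {Y : Subgroup G} {t : G} {P W : Subgroup G}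
  (h : Pts S A U z f x s Y t P W)

include h

theorem fr : Fr S A U z f x s := h.yz.fr

theorem zz : z * z = 1 := h.fr.sqA h.fr.zA

theorem zW : z ∈ W := h.UW h.fr.zU

theorem PS : P ≤ (S : Subgroup G) := h.ess.lt.le

theorem commW {a b : G} (ha : a ∈ W) (hb : b ∈ W) : a * b = b * a := comm_of_sq' h.sqW a ha b hb

theorem rY : x * t * x⁻¹ ∈ Y := mem_norm h.yz.nx h.yz.tY

theorem rT : x * t * x⁻¹ ∈ TT S A := h.yz.YT h.rY

theorem rr : (x * t * x⁻¹) * (x * t * x⁻¹) = x * z * x⁻¹ := by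
  rw [← h.yz.tt]; group

theorem rU {u : G} (hu : u ∈ U) : (x * t * x⁻¹) * u * (x * t * x⁻¹)⁻¹ = u :=
  conj_eq_iff.2 (h.fr.T_comm h.rT (h.fr.UA hu))

/-- `P₀` -/
def P0 : Subgroup G where
  carrier := {g | g ∈ P ∧ ∀ a ∈ A, Zq z (g * a * g⁻¹) a}
  one_mem' := ⟨one_mem _, fun a _ => by left; group⟩
  mul_mem' := by
    rintro g k ⟨hg, hg'⟩ ⟨hk, hk'⟩
    refine ⟨mul_mem hg hk, fun a ha => ?_⟩
    exact Zq.comp h.zz (h.fr.zc g (h.PS hg)) (hk' a ha) (hg' a ha)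
  inv_mem' := by
    rintro g ⟨hg, hg'⟩
    refine ⟨inv_mem hg, fun a ha => ?_⟩
    have h1 := (hg' a ha).conj (l := g⁻¹) (h.fr.zc _ (inv_mem (h.PS hg)))
    have e : g⁻¹ * (g * a * g⁻¹) * g⁻¹⁻¹ = a := by group
    rw [e] at h1
    exact h1.symm h.zz

theorem mem_P0 {g : G} : g ∈ h.P0 ↔ g ∈ P ∧ ∀ a ∈ A, Zq z (g * a * g⁻¹) a := Iff.rfl

theorem P0_norm [Finite G] {l : G} (hl : l ∈ normalizer (P : Set G)) : l ∈ normalizer (h.P0 : Set G) := by
  refine mem_norm_of_conj fun g hg => ?_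
  exact ⟨mem_norm hl hg.1, fun a ha => h.P0n l hl g hg.1 hg.2 a ha⟩

theorem U_P0 {u : G} (hu : u ∈ U) : u ∈ h.P0 :=
  ⟨h.AP (h.fr.UA hu), fun a ha => Or.inl (conj_eq_iff.2 (h.fr.commA (h.fr.UA hu) ha))⟩

/-- `τ = r = x t x⁻¹`, `κ₀ = τ τᵍ`: `τ κ₀ τ⁻¹ κ₀ ∈ P₀` -/
theorem tau_conj [Finite G] {g : G} (hg : g ∈ normalizer (P : Set G)) :
    (x * t * x⁻¹) * ((x * t * x⁻¹) * (g * (x * t * x⁻¹) * g⁻¹)) * (x * t * x⁻¹)⁻¹ *
      ((x * t * x⁻¹) * (g * (x * t * x⁻¹) * g⁻¹)) ∈ h.P0 := by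
  obtain ⟨r, hr⟩ : ∃ r, r = x * t * x⁻¹ := ⟨_, rfl⟩
  have hrr := h.rr
  rw [← hr] at hrr ⊢
  have e : r * (r * (g * r * g⁻¹)) * r⁻¹ * (r * (g * r * g⁻¹)) = (r * r) * (g * (r * r) * g⁻¹) := by group
  rw [e, hrr]
  exact mul_mem (h.U_P0 h.fr.z2_mem) (mem_norm (h.P0_norm hg) (h.U_P0 h.fr.z2_mem))

/-- elements of `N(P)` acting on `C_S(W)/W` trivially -/
def KC : Subgroup G where
  carrier := {l | l ∈ normalizer (P : Set G) ∧ ∀ g ∈ (S : Subgroup G), (∀ w ∈ W, g * w = w * g) → l * g * l⁻¹ * g⁻¹ ∈ W}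
  one_mem' := ⟨one_mem _, fun g _ _ => by simp⟩
  mul_mem' := by
    rintro l m ⟨hl, hl'⟩ ⟨hm, hm'⟩
    refine ⟨mul_mem hl hm, fun g hg hgW => ?_⟩
    have h1 := hm' g hg hgW
    have hgP : g ∈ P := h.F1 g hg fun w hw => Or.inl (conj_eq_iff.2 (hgW w hw))
    have h2 : m * g * m⁻¹ ∈ (S : Subgroup G) := h.PS (mem_norm hm hgP)
    have h3 : ∀ w ∈ W, (m * g * m⁻¹) * w = w * (m * g * m⁻¹) := by
      intro w hw
      have h4 := hgW _ (mem_norm' (h.LW hm) hw)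
      calc m * g * m⁻¹ * w = m * (g * (m⁻¹ * w * m)) * m⁻¹ := by group
        _ = m * ((m⁻¹ * w * m) * g) * m⁻¹ := by rw [h4]
        _ = _ := by group
    have h4 := hl' _ h2 h3
    have e : l * m * g * (l * m)⁻¹ * g⁻¹ = (l * (m * g * m⁻¹) * l⁻¹ * (m * g * m⁻¹)⁻¹) * (m * g * m⁻¹ * g⁻¹) := by
      group
    rw [e]
    exact mul_mem h4 h1
  inv_mem' := by
    rintro l ⟨hl, hl'⟩
    refine ⟨inv_mem hl, fun g hg hgW => ?_⟩
    have hgP : g ∈ P := h.F1 g hg fun w hw => Or.inl (conj_eq_iff.2 (hgW w hw))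
    have h2 : l⁻¹ * g * l ∈ (S : Subgroup G) := h.PS (mem_norm' hl hgP)
    have h3 : ∀ w ∈ W, (l⁻¹ * g * l) * w = w * (l⁻¹ * g * l) := by
      intro w hw
      have h4 := hgW _ (mem_norm (h.LW hl) hw)
      calc l⁻¹ * g * l * w = l⁻¹ * (g * (l * w * l⁻¹)) * l := by group
        _ = l⁻¹ * ((l * w * l⁻¹) * g) * l := by rw [h4]
        _ = _ := by group
    have h4 := hl' _ h2 h3
    have e : l⁻¹ * g * l⁻¹⁻¹ * g⁻¹ = (l * (l⁻¹ * g * l) * l⁻¹ * (l⁻¹ * g * l)⁻¹)⁻¹ := by group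
    rw [e]
    exact inv_mem h4

theorem mem_KC {l : G} : l ∈ h.KC ↔ l ∈ normalizer (P : Set G) ∧
    ∀ g ∈ (S : Subgroup G), (∀ w ∈ W, g * w = w * g) → l * g * l⁻¹ * g⁻¹ ∈ W := Iff.rfl

theorem KC_conj {l m : G} (hl : l ∈ h.KC) (hm : m ∈ normalizer (P : Set G)) : m * l * m⁻¹ ∈ h.KC := by
  refine ⟨mul_mem (mul_mem hm hl.1) (inv_mem hm), fun g hg hgW => ?_⟩
  have hgP : g ∈ P := h.F1 g hg fun w hw => Or.inl (conj_eq_iff.2 (hgW w hw))
  have h2 : m⁻¹ * g * m ∈ (S : Subgroup G) := h.PS (mem_norm' hm hgP)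
  have h3 : ∀ w ∈ W, (m⁻¹ * g * m) * w = w * (m⁻¹ * g * m) := by
    intro w hw
    have h4 := hgW _ (mem_norm (h.LW hm) hw)
    calc m⁻¹ * g * m * w = m⁻¹ * (g * (m * w * m⁻¹)) * m := by group
      _ = m⁻¹ * ((m * w * m⁻¹) * g) * m := by rw [h4]
      _ = _ := by group
  have h4 := mem_norm (h.LW hm) (hl.2 _ h2 h3)
  have e : m * l * m⁻¹ * g * (m * l * m⁻¹)⁻¹ * g⁻¹ =
      m * (l * (m⁻¹ * g * m) * l⁻¹ * (m⁻¹ * g * m)⁻¹) * m⁻¹ := by group
  rw [e]
  exact h4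

/-- an element `b₀ ∈ W - U` -/
theorem exists_b0 [Finite G] : ∃ b ∈ W, b ∉ U := by
  by_contra hc
  push Not at hc
  have h1 := Subgroup.card_le_of_le (show W ≤ U from hc)
  rw [h.cardW, h.fr.cardU] at h1
  omega

/-- `W = U ∪ b U` -/
theorem W_or [Finite G] {b w : G} (hb : b ∈ W) (hbU : b ∉ U) (hw : w ∈ W) : w ∈ U ∨ b * w ∈ U := by
  by_cases h1 : w ∈ U
  · exact Or.inl h1
  · exact Or.inr (mul_mem_of_index_two h.UW (by rw [h.cardW, h.fr.cardU]) hb hw hbU h1)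

/-- elements of `U - ⟨z⟩` are equal modulo `⟨z⟩` -/
theorem U_zq [Finite G] {u v : G} (hu : u ∈ U) (hu1 : u ≠ 1) (huz : u ≠ z) (hv : v ∈ U) (hv1 : v ≠ 1)
    (hvz : v ≠ z) : Zq z u v := by
  rcases h.fr.U_cases hv hv1 hvz hu with h1 | h1 | h1 | h1
  · exact (hu1 h1).elim
  · exact (huz h1).elim
  · exact Or.inl h1
  · exact Or.inr h1

/-- `τ ∈ KC` -/
theorem tau_KC [Finite G] : x * t * x⁻¹ ∈ h.KC := by
  refine ⟨h.rP, fun g hg hgW => h.UW ?_⟩
  have hF := h.fr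
  have hgQ : g ∈ QQ S U := ⟨hg, mem_cent_iff.2 fun u hu => hgW u (h.UW hu)⟩
  obtain ⟨b, hbW, hbU⟩ := h.exists_b0
  obtain ⟨u, hu, hu1, huz, hbr⟩ := h.rW b hbW hbU
  have hrT := h.rT
  have hrY := h.rY
  obtain ⟨r, hr⟩ : ∃ r, r = x * t * x⁻¹ := ⟨_, rfl⟩
  rw [← hr] at hbr hrT hrY ⊢
  have hc : g * r * g⁻¹ * r⁻¹ ∈ A := h.yz.QY g hgQ r hrY
  have hc' : r * g * r⁻¹ * g⁻¹ ∈ A := by
    have e : r * g * r⁻¹ * g⁻¹ = (g * r * g⁻¹ * r⁻¹)⁻¹ := by group
    rw [e]; exact inv_mem hc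
  -- `b` commutes with the commutator
  have hbb := h.sqW b hbW
  have hbi : b⁻¹ = b := inv_eq_of_mul_eq_one_left hbb
  have hbQ := h.WQ hbW
  have hbru : b * r * b⁻¹ = u * r := by
    -- `r b r⁻¹ = u b` so `b r⁻¹ b⁻¹ = r⁻¹ u`, `b r b⁻¹ = u r`
    have h1 : r * b = u * b * r := mul_inv_eq_iff_eq_mul.1 hbr
    have h2 : u * b = b * u := (hF.Q_comm hbQ hu).symm
    have h3 : b * r = u * (r * b) := by
      rw [h1, h2]
      have h4 : u * (b * u * r) = (u * b) * u * r := by group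
      rw [h4, h2]
      have h5 : b * u * u * r = b * (u * u) * r := by group
      rw [h5, hF.sqA (hF.UA hu), mul_one]
    rw [h3]; group
  have hgb : g * b = b * g := hgW b hbW
  have hbg : b * g * b⁻¹ = g := conj_eq_iff.2 hgb.symm
  have hug : u * g = g * u := (hF.Q_comm hgQ hu).symm
  have hbc : b * (r * g * r⁻¹ * g⁻¹) * b⁻¹ = r * g * r⁻¹ * g⁻¹ := by
    have e : b * (r * g * r⁻¹ * g⁻¹) * b⁻¹ =
        (b * r * b⁻¹) * (b * g * b⁻¹) * (b * r * b⁻¹)⁻¹ * (b * g * b⁻¹)⁻¹ := by group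
    have hur : u * r = r * u := (hF.T_comm hrT (hF.UA hu)).symm
    rw [e, hbru, hbg, hur]
    have e2 : r * u * g * (r * u)⁻¹ * g⁻¹ = r * (u * g) * u⁻¹ * r⁻¹ * g⁻¹ := by group
    rw [e2, hug]; group
  -- `C_A(b) = U`
  rcases hF.mem_A hc' with h1 | h1
  · exact h1
  · exfalso
    have h2 : b * (f * (r * g * r⁻¹ * g⁻¹)) * b⁻¹ = f * (r * g * r⁻¹ * g⁻¹) :=
      conj_eq_iff.2 (hF.Q_comm hbQ h1)
    have h3 : b * f * b⁻¹ = f := by
      have e : b * (f * (r * g * r⁻¹ * g⁻¹)) * b⁻¹ = (b * f * b⁻¹) * (b * (r * g * r⁻¹ * g⁻¹) * b⁻¹) := by group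
      rw [e, hbc] at h2
      exact mul_right_cancel h2
    exact hbU (h.WT b hbW (hF.mem_T_of_fix hbQ h3))

/-- **The element `κ`** (9.1) -/
theorem exists_kappa [Finite G] : ∃ κ ∈ normalizer (P : Set G), (∃ k, orderOf κ = 3 ^ k) ∧ κ ∈ h.KC ∧
    (x * t * x⁻¹) * κ * (x * t * x⁻¹)⁻¹ * κ ∈ h.P0 ∧
    ∃ b ∈ W, b ∉ U ∧ Zq z (κ * (x * z * x⁻¹) * κ⁻¹) b ∧ Zq z (κ * b * κ⁻¹) ((x * z * x⁻¹) * b) ∧
      Zq z (κ * ((x * z * x⁻¹) * b) * κ⁻¹) (x * z * x⁻¹) := by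
  have hF := h.fr
  have hzz := h.zz
  obtain ⟨g, hg, hgU⟩ := h.mov
  -- `b ∈ g U g⁻¹ - U`
  obtain ⟨b, hb, hbU⟩ : ∃ b ∈ cj g U, b ∉ U := by
    by_contra hc
    push Not at hc
    exact hgU (Subgroup.eq_of_le_of_card_ge hc (by rw [card_cj]))
  have hbW : b ∈ W := by
    rw [mem_cj] at hb
    have h1 := mem_norm (h.LW hg) (h.UW hb)
    have e : g * (g⁻¹ * b * g) * g⁻¹ = b := by group
    rwa [e] at h1
  have hrW := h.rW
  have hrU := fun u hu => h.rU (u := u) hu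
  have hKC := h.tau_KC
  have htc := h.tau_conj hg
  have hrP := h.rP
  obtain ⟨r, hr⟩ : ∃ r, r = x * t * x⁻¹ := ⟨_, rfl⟩
  obtain ⟨p, hp⟩ : ∃ p, p = x * z * x⁻¹ := ⟨_, rfl⟩
  rw [← hr] at hrW hKC htc hrP ⊢
  simp only [← hr] at hrU
  rw [← hp]
  have hpU : p ∈ U := by rw [hp]; exact hF.z2_mem
  have hp1 : p ≠ 1 := by rw [hp]; exact hF.z2_ne_one
  have hpz : p ≠ z := by rw [hp]; exact hF.xz
  have hpW := h.UW hpU
  have hb1 : b ≠ 1 := fun e => hbU (e ▸ U.one_mem)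
  have hbz : b ≠ z := fun e => hbU (e ▸ hF.zU)
  have hLz := h.Lz
  have hpb : p * b = b * p := h.commW hpW hbW
  have hpbW : p * b ∈ W := mul_mem hpW hbW
  have hpp := hF.sqA (hF.UA hpU)
  have hbb := h.sqW b hbW
  have hzcW : ∀ w ∈ W, z * w = w * z := fun w hw => h.commW h.zW hw
  -- elements of `g U g⁻¹ - ⟨z⟩` are equal to `b` modulo `z`
  have hgz : g⁻¹ * z * g = z := by
    have h1 := hLz g⁻¹ (inv_mem hg)
    rw [h1]; group
  have hgUb : ∀ y ∈ cj g U, y ≠ 1 → y ≠ z → Zq z y b := by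
    intro y hy hy1 hyz
    rw [mem_cj] at hy hb
    have c1 : g⁻¹ * y * g ≠ 1 := fun e => hy1 (by
      have : y = g * (g⁻¹ * y * g) * g⁻¹ := by group
      rw [this, e]; group)
    have c2 : g⁻¹ * y * g ≠ z := fun e => hyz (by
      have e1 : y = g * (g⁻¹ * y * g) * g⁻¹ := by group
      rw [e1, e, hLz g hg]; group)
    have c3 : g⁻¹ * b * g ≠ 1 := fun e => hb1 (by
      have : b = g * (g⁻¹ * b * g) * g⁻¹ := by group
      rw [this, e]; group)
    have c4 : g⁻¹ * b * g ≠ z := fun e => hbz (by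
      have e1 : b = g * (g⁻¹ * b * g) * g⁻¹ := by group
      rw [e1, e, hLz g hg]; group)
    have h1 := (h.U_zq hy c1 c2 hb c3 c4).conj (hLz g hg)
    have e1 : g * (g⁻¹ * y * g) * g⁻¹ = y := by group
    have e2 : g * (g⁻¹ * b * g) * g⁻¹ = b := by group
    rwa [e1, e2] at h1
  -- the action of `r`
  obtain ⟨u, hu, hu1, huz, hrb⟩ := hrW b hbW hbU
  have hrb' : Zq z (r * b * r⁻¹) (p * b) := by
    rw [hrb]
    exact (h.U_zq hu hu1 huz hpU hp1 hpz).mul hzz (Zq.refl z b) (hzcW p hpW)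
  have hrp : r * p * r⁻¹ = p := hrU p hpU
  -- the action of `r' = g r g⁻¹`
  obtain ⟨r', hr'⟩ : ∃ r', r' = g * r * g⁻¹ := ⟨_, rfl⟩
  have hr'b : r' * b * r'⁻¹ = b := by
    have hb' := hb
    rw [mem_cj] at hb'
    have h1 := hrU _ hb'
    calc r' * b * r'⁻¹ = g * (r * (g⁻¹ * b * g) * r⁻¹) * g⁻¹ := by rw [hr']; group
      _ = b := by rw [h1]; group
  have hr'p : Zq z (r' * p * r'⁻¹) (b * p) := by
    have hgp : g⁻¹ * p * g ∈ W := mem_norm' (h.LW hg) hpW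
    have hgpU : g⁻¹ * p * g ∉ U := by
      intro h1
      have h2 : p ∈ cj g U := mem_cj.2 h1
      rcases hgUb p h2 hp1 hpz with h3 | h3
      · exact hbU (h3 ▸ hpU)
      · apply hbU
        have h4 : b = z * p := by rw [h3, ← mul_assoc, hzz, one_mul]
        rw [h4]; exact mul_mem hF.zU hpU
    obtain ⟨v, hv, hv1, hvz, hrv⟩ := hrW _ hgp hgpU
    have h2 : r' * p * r'⁻¹ = (g * v * g⁻¹) * p := by
      calc r' * p * r'⁻¹ = g * (r * (g⁻¹ * p * g) * r⁻¹) * g⁻¹ := by rw [hr']; group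
        _ = _ := by rw [hrv]; group
    rw [h2]
    refine (hgUb (g * v * g⁻¹) (conj_mem_cj hv g) ?_ ?_).mul hzz (Zq.refl z p) (hzcW b hbW)
    · intro e; exact hv1 (by
        have : v = g⁻¹ * (g * v * g⁻¹) * g := by group
        rw [this, e]; group)
    · intro e; exact hvz (by
        have : v = g⁻¹ * (g * v * g⁻¹) * g := by group
        rw [this, e, hgz])
  have hr'P : r' ∈ normalizer (P : Set G) := by rw [hr']; exact mul_mem (mul_mem hg hrP) (inv_mem hg)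
  -- `κ₀ = r r'`
  obtain ⟨k0, hk0⟩ : ∃ k0, k0 = r * r' := ⟨_, rfl⟩
  have hk0P : k0 ∈ normalizer (P : Set G) := by rw [hk0]; exact mul_mem hrP hr'P
  have hrz := hLz r hrP
  have a1 : Zq z (k0 * b * k0⁻¹) (p * b) := by
    rw [hk0]
    exact Zq.comp hzz hrz (Or.inl hr'b) hrb'
  have a2 : Zq z (k0 * p * k0⁻¹) b := by
    rw [hk0]
    refine Zq.comp hzz hrz hr'p ?_
    have e : r * (b * p) * r⁻¹ = (r * b * r⁻¹) * (r * p * r⁻¹) := by group
    rw [e, hrp]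
    have h1 := hrb'.mul hzz (Zq.refl z p) (hzcW _ hpbW)
    have e2 : p * b * p = b := by rw [hpb, mul_assoc, hpp, mul_one]
    rwa [e2] at h1
  have a3 : Zq z (k0 * (p * b) * k0⁻¹) p := by
    have e : k0 * (p * b) * k0⁻¹ = (k0 * p * k0⁻¹) * (k0 * b * k0⁻¹) := by group
    rw [e]
    have h1 := a2.mul hzz a1 (hzcW b hbW)
    have e2 : b * (p * b) = p := by rw [hpb, ← mul_assoc, hbb, one_mul]
    rwa [e2] at h1
  have hk0z := hLz k0 hk0P
  -- `κ₀³` is trivial on `p`, `b`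
  have hc3 : ∀ w, (w = p ∨ w = b ∨ w = p * b) → Zq z (k0 ^ 3 * w * (k0 ^ 3)⁻¹) w := by
    have e3 : k0 ^ 3 = k0 * (k0 * k0) := by rw [pow_succ, pow_two, mul_assoc]
    intro w hw
    rw [e3]
    rcases hw with rfl | rfl | rfl
    · exact Zq.comp hzz hk0z (Zq.comp hzz hk0z a2 a1) a3
    · exact Zq.comp hzz hk0z (Zq.comp hzz hk0z a1 a3) a2
    · exact Zq.comp hzz hk0z (Zq.comp hzz hk0z a3 a2) a1
  have hc3n : ∀ n : ℕ, ∀ w, (w = p ∨ w = b ∨ w = p * b) → Zq z ((k0 ^ 3) ^ n * w * ((k0 ^ 3) ^ n)⁻¹) w := by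
    intro n
    induction n with
    | zero => intro w _; left; simp
    | succ n ih =>
      intro w hw
      rw [pow_succ]
      exact Zq.comp hzz (hLz _ (pow_mem (pow_mem hk0P 3) n)) (hc3 w hw) (ih w hw)
  obtain ⟨m, ⟨k, hk⟩, hm⟩ := exists_three_part k0
  have hmm : k0 ^ m = k0 * (k0 ^ 3) ^ (m / 3) := by
    rw [← pow_mul, ← pow_succ']
    congr 1
    omega
  have act : ∀ w w', (w = p ∨ w = b ∨ w = p * b) → Zq z (k0 * w * k0⁻¹) w' →
      Zq z (k0 ^ m * w * (k0 ^ m)⁻¹) w' := by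
    intro w w' hw h1
    rw [hmm]
    exact Zq.comp hzz hk0z (hc3n _ w hw) h1
  have hKC' : k0 ∈ h.KC := by
    rw [hk0, hr']
    exact mul_mem hKC (h.KC_conj hKC hg)
  refine ⟨k0 ^ m, pow_mem hk0P m, ⟨k, hk⟩, pow_mem hKC' m, ?_, b, hbW, hbU, ?_, ?_, ?_⟩
  · -- `r κ r⁻¹ κ ∈ P₀`
    have h1 : (r * k0 * r⁻¹) * (k0⁻¹)⁻¹ ∈ h.P0 := by
      rw [inv_inv, hk0, hr']
      exact htc
    have h2 := pow_mem_coset (M := h.P0) (y := k0⁻¹) (w := r * k0 * r⁻¹) (inv_mem (h.P0_norm hk0P)) h1 m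
    have e : r * k0 ^ m * r⁻¹ * k0 ^ m = (r * k0 * r⁻¹) ^ m * ((k0⁻¹) ^ m)⁻¹ := by
      rw [conj_pow, inv_pow, inv_inv]
    rw [e]
    exact h2
  · exact act p b (Or.inl rfl) a2
  · exact act b (p * b) (Or.inr (Or.inl rfl)) a1
  · exact act (p * b) p (Or.inr (Or.inr rfl)) a3

end Pts

namespace Emod

variable {c g w g' w' : G}

theorem refl (c g : G) : Emod c g g := ⟨1, one_mem _, by group⟩

theorem of_zq {z : G} (hz : z ∈ zpowers c) (h : Zq z g w) (hc : z * w = w * z) : Emod c g w := by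
  rcases h with h | h
  · exact ⟨1, one_mem _, by rw [h, mul_one]⟩
  · exact ⟨z, hz, by rw [h, hc]⟩

theorem trans (h : Emod c g w) (h' : Emod c w w') : Emod c g w' := by
  obtain ⟨d, hd, h⟩ := h
  obtain ⟨d', hd', h'⟩ := h'
  exact ⟨d' * d, mul_mem hd' hd, by rw [h, h']; group⟩

theorem comm_of {d l : G} (hd : d ∈ zpowers c) (hl : l * c = c * l) : l * d = d * l := by
  obtain ⟨i, rfl⟩ := mem_zpowers_iff.1 hd
  exact ((show Commute l c from hl).zpow_right i).eq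

theorem mul (h : Emod c g w) (h' : Emod c g' w') (hc : c * w' = w' * c) : Emod c (g * g') (w * w') := by
  obtain ⟨d, hd, h⟩ := h
  obtain ⟨d', hd', h'⟩ := h'
  refine ⟨d * d', mul_mem hd hd', ?_⟩
  have h1 : w' * d = d * w' := comm_of hd hc.symm
  rw [h, h']
  calc w * d * (w' * d') = w * (d * w') * d' := by group
    _ = w * (w' * d) * d' := by rw [h1]
    _ = _ := by group

theorem conj {l : G} (hl : l * c = c * l) (h : Emod c g w) : Emod c (l * g * l⁻¹) (l * w * l⁻¹) := by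
  obtain ⟨d, hd, h⟩ := h
  have h1 : l * d * l⁻¹ = d := conj_eq_iff.2 (comm_of hd hl)
  refine ⟨d, hd, ?_⟩
  rw [h]
  calc l * (w * d) * l⁻¹ = (l * w * l⁻¹) * (l * d * l⁻¹) := by group
    _ = _ := by rw [h1]

end Emod

namespace Ci

variable {S : Sylow 2 G} {A U : Subgroup G} {z f x e : G} {Y : Subgroup G} {t b : G}
  (h : Ci S A U z f x e Y t b)

include h

theorem theta_T [Finite G] : t * f ∈ TT S A := mul_mem h.tT (h.fr.A_le_T h.fr.fA)

theorem theta_Y [Finite G] : t * f ∈ Y := mul_mem h.yz.tY (h.yz.AY h.fr.fA)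

theorem theta_sq [Finite G] : (t * f) * (t * f) = z := by
  have h1 := h.fr.T_comm h.tT h.fr.fA
  calc (t * f) * (t * f) = t * (f * t) * f := by group
    _ = t * (t * f) * f := by rw [h1]
    _ = (t * t) * (f * f) := by group
    _ = z := by rw [h.yz.tt, h.fr.sqA h.fr.fA, mul_one]

theorem theta_b [Finite G] : (t * f) * b = b * (t * f) := by
  have hF := h.fr
  have hzt := h.zprime.1
  have hbt : b * t * b⁻¹ = z * t := by rw [← hzt]; group
  rw [eq_comm, ← conj_eq_iff]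
  have e1 : b * (t * f) * b⁻¹ = (b * t * b⁻¹) * (b * f * b⁻¹) := by group
  rw [e1, hbt, h.bf]
  have c1 := hF.commA hF.fA hF.zA
  have c2 := h.zc h.tT.1
  calc z * t * (f * z) = z * t * (z * f) := by rw [c1]
    _ = z * (t * z) * f := by group
    _ = z * (z * t) * f := by rw [c2]
    _ = (z * z) * (t * f) := by group
    _ = t * f := by rw [h.zz, one_mul]

theorem theta_e [Finite G] : (t * f) * e = e * (t * f) := by
  have c1 : Commute e t := h.et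
  have c2 : Commute e f := h.ef
  exact (c1.mul_right c2).eq.symm

/-- an element of `S` acting on `A` trivially modulo `⟨z⟩` is in `T⟨b, e⟩` -/
theorem exists_T' [Finite G] {g : G} (hgS : g ∈ (S : Subgroup G)) (hgf : Zq z (g * f * g⁻¹) f)
    (hgp : Zq z (g * (x * z * x⁻¹) * g⁻¹) (x * z * x⁻¹)) :
    ∃ y, (y = 1 ∨ y = b ∨ y = e ∨ y = b * e) ∧ g * y ∈ TT S A := by
  have hF := h.fr
  have hzz := h.zz
  obtain ⟨p, hp⟩ : ∃ p, p = x * z * x⁻¹ := ⟨_, rfl⟩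
  rw [← hp] at hgp
  have hpU : p ∈ U := by rw [hp]; exact h.pU
  have hp1 : p ≠ 1 := by rw [hp]; exact hF.z2_ne_one
  have hpz : p ≠ z := by rw [hp]; exact hF.xz
  have hep : e * p * e⁻¹ = z * p := by rw [hp]; exact h.ep
  have hbp : b * p * b⁻¹ = p := conj_eq_iff.2 (hF.Q_comm h.bQ hpU)
  have hbf : b * f * b⁻¹ = z * f := by rw [h.bf]; exact hF.commA hF.fA hF.zA
  have hef : e * f * e⁻¹ = f := conj_eq_iff.2 h.ef
  have hgz : g * z * g⁻¹ = z := conj_eq_iff.2 (h.zc hgS)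
  have hbz : b * z * b⁻¹ = z := conj_eq_iff.2 h.bz
  -- criterion
  have crit : ∀ k : G, k ∈ (S : Subgroup G) → k * f * k⁻¹ = f → k * p * k⁻¹ = p → k ∈ TT S A := by
    intro k hkS hkf hkp
    refine ⟨hkS, mem_cent_iff.2 fun a ha => ?_⟩
    have c1 : Commute k f := conj_eq_iff.1 hkf
    have c2 : Commute k p := conj_eq_iff.1 hkp
    have c3 : Commute k z := h.zc hkS
    have c4 : ∀ u ∈ U, Commute k u := by
      intro u hu
      rcases hF.U_cases' hpU hp1 hpz u hu with rfl | rfl | rfl | rfl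
      · exact Commute.one_right _
      · exact c3
      · exact c2
      · exact c3.mul_right c2
    rcases hF.mem_A ha with h1 | h1
    · exact (c4 a h1).eq
    · have e1 : a = f * (f * a) := by rw [← mul_assoc, hF.sqA hF.fA, one_mul]
      have := (c1.mul_right (c4 _ h1)).eq
      rwa [← e1] at this
  have mulz : ∀ c : G, g * (z * c) * g⁻¹ = z * (g * c * g⁻¹) := by
    intro c
    calc g * (z * c) * g⁻¹ = (g * z * g⁻¹) * (g * c * g⁻¹) := by group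
      _ = _ := by rw [hgz]
  have key : ∀ (y c : G), (g * y) * c * (g * y)⁻¹ = g * (y * c * y⁻¹) * g⁻¹ := by intro y c; group
  have canc : ∀ c : G, z * (z * c) = c := fun c => by rw [← mul_assoc, hzz, one_mul]
  rcases hgf with h1 | h1 <;> rcases hgp with h2 | h2
  · exact ⟨1, Or.inl rfl, crit _ (by rw [mul_one]; exact hgS) (by rw [mul_one]; exact h1)
      (by rw [mul_one]; exact h2)⟩
  · refine ⟨e, Or.inr (Or.inr (Or.inl rfl)), crit _ (mul_mem hgS h.eS) ?_ ?_⟩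
    · rw [key, hef, h1]
    · rw [key, hep, mulz, h2, canc]
  · refine ⟨b, Or.inr (Or.inl rfl), crit _ (mul_mem hgS h.bQ.1) ?_ ?_⟩
    · rw [key, hbf, mulz, h1, canc]
    · rw [key, hbp, h2]
  · refine ⟨b * e, Or.inr (Or.inr (Or.inr rfl)), crit _ (mul_mem hgS (mul_mem h.bQ.1 h.eS)) ?_ ?_⟩
    · have e1 : (b * e) * f * (b * e)⁻¹ = b * (e * f * e⁻¹) * b⁻¹ := by group
      rw [key, e1, hef, hbf, mulz, h1, canc]
    · have e1 : (b * e) * p * (b * e)⁻¹ = b * (e * p * e⁻¹) * b⁻¹ := by group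
      have e2 : b * (z * p) * b⁻¹ = (b * z * b⁻¹) * (b * p * b⁻¹) := by group
      rw [key, e1, hep, e2, hbz, hbp, mulz, h2, canc]

/-- `[t f, g] ∈ ⟨z⟩` -/
theorem theta_comm [Finite G] {g : G} (hgS : g ∈ (S : Subgroup G)) (hgf : Zq z (g * f * g⁻¹) f)
    (hgp : Zq z (g * (x * z * x⁻¹) * g⁻¹) (x * z * x⁻¹)) (hgb : Zq z (g * b * g⁻¹) b)
    (hge : Zq z (g * e * g⁻¹) e) : Zq z (g * (t * f) * g⁻¹) (t * f) := by
  have hF := h.fr
  have hzz := h.zz
  obtain ⟨y, hy, hT⟩ := h.exists_T' hgS hgf hgp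
  have hwT := h.theta_T
  have hwb := h.theta_b
  have hwe := h.theta_e
  obtain ⟨w, hw⟩ : ∃ w, w = t * f := ⟨_, rfl⟩
  rw [← hw] at hwT hwb hwe ⊢
  have cwy : Commute w y := by
    rcases hy with rfl | rfl | rfl | rfl
    · exact Commute.one_right _
    · exact hwb
    · exact hwe
    · exact (show Commute w b from hwb).mul_right hwe
  have cyb : y * b * y⁻¹ = b := by
    rw [conj_eq_iff]
    rcases hy with rfl | rfl | rfl | rfl
    · simp
    · rfl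
    · exact h.be.symm
    · rw [mul_assoc, ← h.be]
  have cye : y * e * y⁻¹ = e := by
    rw [conj_eq_iff]
    rcases hy with rfl | rfl | rfl | rfl
    · simp
    · exact h.be
    · rfl
    · rw [← mul_assoc, ← h.be, mul_assoc]
  have hgb' : (g * y) * b * (g * y)⁻¹ = b ∨ (g * y) * b * (g * y)⁻¹ = z * b := by
    have e1 : (g * y) * b * (g * y)⁻¹ = g * (y * b * y⁻¹) * g⁻¹ := by group
    rw [e1, cyb]; exact hgb
  have hge' : (g * y) * e * (g * y)⁻¹ = e ∨ (g * y) * e * (g * y)⁻¹ = z * e := by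
    have e1 : (g * y) * e * (g * y)⁻¹ = g * (y * e * y⁻¹) * g⁻¹ := by group
    rw [e1, cye]; exact hge
  obtain ⟨a, ha, hb1, he1⟩ := h.exists_comm hT hgb' hge'
  obtain ⟨c, hc⟩ : ∃ c, c = g * y * a := ⟨_, rfl⟩
  rw [← hc] at hb1 he1
  have hcT : c ∈ TT S A := by rw [hc]; exact mul_mem hT (hF.A_le_T ha)
  have cwa : Commute w a := hF.T_comm hwT ha
  have key : c * w * c⁻¹ * w⁻¹ = 1 ∨ c * w * c⁻¹ * w⁻¹ = z := by
    refine h.fix_be ?_ ?_ ?_
    · have c1 := hF.T_comm hcT hF.fA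
      have h3 := h.yz.QY c (hF.T_le_Q hcT) w (by rw [hw]; exact h.theta_Y)
      exact h3
    · have c1 : Commute b w := hwb.symm
      have c2 : Commute b c := hb1.symm
      exact (((c2.mul_right c1).mul_right c2.inv_right).mul_right c1.inv_right).eq
    · have c1 : Commute e w := hwe.symm
      have c2 : Commute e c := he1.symm
      exact (((c2.mul_right c1).mul_right c2.inv_right).mul_right c1.inv_right).eq
  have e1 : c * w * c⁻¹ = g * w * g⁻¹ := by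
    have c3 : (y * a) * w * (y * a)⁻¹ = w := by
      rw [conj_eq_iff]
      exact ((cwy.mul_right cwa).eq).symm
    calc c * w * c⁻¹ = g * ((y * a) * w * (y * a)⁻¹) * g⁻¹ := by rw [hc]; group
      _ = _ := by rw [c3]
  rw [e1] at key
  rcases key with h1 | h1
  · left; exact mul_inv_eq_one.1 h1
  · right; exact mul_inv_eq_iff_eq_mul.1 h1

end Ci

/-- The intermediate data of section 9. -/
structure KapZ (S : Sylow 2 G) (A U : Subgroup G) (z f₀ x₀ s : G) (Y : Subgroup G) (t₀ : G) (P W : Subgroup G)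
    (f x e t b κ : G) : Prop where
  pts : Pts S A U z f₀ x₀ s Y t₀ P W
  ci : Ci S A U z f x e Y t b
  κP : κ ∈ normalizer (P : Set G)
  κo : ∃ k, orderOf κ = 3 ^ k
  κK : κ ∈ pts.KC
  κπ : (x₀ * t₀ * x₀⁻¹) * κ * (x₀ * t₀ * x₀⁻¹)⁻¹ * κ ∈ pts.P0
  bW : b ∈ W
  bU : b ∉ U
  bA : b ∈ cj κ⁻¹ A
  eA : e ∈ cj κ⁻¹ A
  Uc : ∀ y ∈ cj κ⁻¹ U, y = 1 ∨ y = z ∨ y = b ∨ y = z * b
  Ac : ∀ y ∈ cj κ⁻¹ A, ∃ i, (i = 1 ∨ i = z) ∧ (y = i ∨ y = i * b ∨ y = i * e ∨ y = i * (b * e))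
  κp : Zq z (κ * (x * z * x⁻¹) * κ⁻¹) ((x * z * x⁻¹) * b)
  κb : Zq z (κ * b * κ⁻¹) (x * z * x⁻¹)

namespace Pts

variable {S : Sylow 2 G} {A U : Subgroup G} {z f x s : G} {Y : Subgroup G} {t : G} {P W : Subgroup G}
  (h : Pts S A U z f x s Y t P W)

include h

/-- the adapted data -/
theorem exists_kapZ [Finite G] : ∃ f' x' e t' b κ, KapZ S A U z f x s Y t P W f' x' e t' b κ ∧ f * f' ∈ U := by
  have hF := h.fr
  have hzz := h.zz
  obtain ⟨κ, hκP, hκo, hκK, hκπ, b₀, hb0W, hb0U, hkp, hkb, hkpb⟩ := h.exists_kappa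
  obtain ⟨p, hp⟩ : ∃ p, p = x * z * x⁻¹ := ⟨_, rfl⟩
  rw [← hp] at hkp hkb hkpb
  have hpU : p ∈ U := by rw [hp]; exact hF.z2_mem
  have hp1 : p ≠ 1 := by rw [hp]; exact hF.z2_ne_one
  have hpz : p ≠ z := by rw [hp]; exact hF.xz
  have hpp := hF.sqA (hF.UA hpU)
  have hpW := h.UW hpU
  have hpbW : p * b₀ ∈ W := mul_mem hpW hb0W
  have hzcW : ∀ w ∈ W, z * w = w * z := fun w hw => h.commW h.zW hw
  have hpbU : p * b₀ ∉ U := fun h1 => hb0U ((mul_mem_cancel_left hpU).1 h1)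
  have hpbc : p * b₀ ∈ cj κ⁻¹ U := by
    rw [mem_cj, inv_inv]
    rcases hkpb with h1 | h1 <;> rw [h1]
    · exact hpU
    · exact mul_mem hF.zU hpU
  have hκi : κ⁻¹ ∈ normalizer (P : Set G) := inv_mem hκP
  have hmov : cj κ⁻¹ U ≠ U := fun h1 => hpbU (by rw [← h1]; exact hpbc)
  have hcas := h.cas κ⁻¹ hκi hmov
  obtain ⟨b, hbA, e, heA, hbQ, hbT, hbf, heS, heU, hbb, hee, hbe, hAc⟩ := hF.exists_be h.PS h.AP hκi hcas
  obtain ⟨f', x', t', hci, hff⟩ := h.yz.exists_ci heS heU hee hbQ hbb hbf hbe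
  have hUc : ∀ y ∈ cj κ⁻¹ U, y = 1 ∨ y = z ∨ y = b ∨ y = z * b := by
    intro y hy
    have hyA : y ∈ cj κ⁻¹ A := by
      rw [mem_cj] at hy ⊢
      exact hF.UA hy
    have hyW : y ∈ W := by
      rw [mem_cj, inv_inv] at hy
      have h1 := mem_norm' (h.LW hκP) (h.UW hy)
      have e1 : κ⁻¹ * (κ * y * κ⁻¹) * κ = y := by group
      rwa [e1] at h1
    have hyU := (h.WQ hyW).2
    obtain ⟨i, hi, h1⟩ := hAc y hyA
    have hiU : i ∈ centralizer (U : Set G) := by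
      refine mem_cent_iff.2 fun u hu => ?_
      rcases hi with rfl | rfl
      · simp
      · exact hF.commA hF.zA (hF.UA hu)
    rcases h1 with h1 | h1 | h1 | h1
    · rcases hi with rfl | rfl
      · exact Or.inl h1
      · exact Or.inr (Or.inl h1)
    · rcases hi with rfl | rfl
      · right; right; left; rw [h1, one_mul]
      · right; right; right; exact h1
    · exfalso
      apply heU
      have e1 : e = i⁻¹ * y := by rw [h1]; group
      rw [e1]; exact mul_mem (inv_mem hiU) hyU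
    · exfalso
      apply heU
      have e1 : e = b⁻¹ * (i⁻¹ * y) := by rw [h1]; group
      rw [e1]; exact mul_mem (inv_mem hbQ.2) (mul_mem (inv_mem hiU) hyU)
  have hbp : Zq z b (p * b₀) := by
    rcases hUc _ hpbc with h1 | h1 | h1 | h1
    · exact (hpbU (h1 ▸ U.one_mem)).elim
    · exact (hpbU (h1 ▸ hF.zU)).elim
    · exact Or.inl h1.symm
    · exact Zq.symm hzz (Or.inr h1)
  have hbU : b ∉ U := fun h1 => hbT (hF.A_le_T (hF.UA h1))
  have hbW : b ∈ W := by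
    rcases hbp with h1 | h1 <;> rw [h1]
    · exact hpbW
    · exact mul_mem h.zW hpbW
  have hκz := h.Lz κ hκP
  obtain ⟨p', hp'⟩ : ∃ p', p' = x' * z * x'⁻¹ := ⟨_, rfl⟩
  have hF' := hci.fr
  have hp'U : p' ∈ U := by rw [hp']; exact hF'.z2_mem
  have hp'1 : p' ≠ 1 := by rw [hp']; exact hF'.z2_ne_one
  have hp'z : p' ≠ z := by rw [hp']; exact hF'.xz
  have hpp' : Zq z p p' := h.U_zq hpU hp1 hpz hp'U hp'1 hp'z
  have hpp'' : Zq z p' p := hpp'.symm hzz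
  refine ⟨f', x', e, t', b, κ, ⟨h, hci, hκP, hκo, hκK, hκπ, hbW, hbU, hbA, heA, hUc, hAc, ?_, ?_⟩, hff⟩
  · rw [← hp']
    have h1 : Zq z (κ * p' * κ⁻¹) b₀ := (hpp''.conj hκz).trans hzz hkp
    have h2 : Zq z (p' * b) (p * (p * b₀)) := hpp''.mul hzz hbp (hzcW p hpW)
    rw [← mul_assoc, hpp, one_mul] at h2
    exact h1.trans hzz (h2.symm hzz)
  · rw [← hp']
    exact ((hbp.conj hκz).trans hzz hkpb).trans hzz hpp'

end Pts

namespace KapZ

variable {S : Sylow 2 G} {A U : Subgroup G} {z f₀ x₀ s : G} {Y : Subgroup G} {t₀ : G} {P W : Subgroup G}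
  {f x e t b κ : G} (h : KapZ S A U z f₀ x₀ s Y t₀ P W f x e t b κ)

include h

theorem bP [Finite G] : b ∈ P := Fr.cj_le_of_norm (inv_mem h.κP) h.pts.AP h.bA

theorem eP [Finite G] : e ∈ P := Fr.cj_le_of_norm (inv_mem h.κP) h.pts.AP h.eA

theorem κz : κ * z = z * κ := h.pts.Lz κ h.κP

theorem κodd : Odd (orderOf κ) := by
  obtain ⟨k, hk⟩ := h.κo
  rw [hk]
  exact Odd.pow (by decide)

theorem pne : x * z * x⁻¹ ≠ 1 ∧ x * z * x⁻¹ ≠ z := ⟨h.ci.fr.z2_ne_one, h.ci.fr.xz⟩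

theorem pW [Finite G] : x * z * x⁻¹ ∈ W := h.pts.UW h.ci.fr.z2_mem

theorem theta_W [Finite G] {w : G} (hw : w ∈ W) : (t * f) * w = w * (t * f) := by
  have hF := h.ci.fr
  have hT := h.ci.theta_T
  rcases h.pts.W_or h.bW h.bU hw with h1 | h1
  · exact hF.T_comm hT (hF.UA h1)
  · have c1 : Commute (t * f) b := h.ci.theta_b
    have c2 : Commute (t * f) (b * w) := hF.T_comm hT (hF.UA h1)
    have e1 : w = b * (b * w) := by rw [← mul_assoc, h.ci.bb, one_mul]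
    rw [e1]
    exact (c1.mul_right c2).eq

theorem theta_P [Finite G] : t * f ∈ P :=
  h.pts.F1 _ h.ci.theta_T.1 fun w hw => Or.inl (conj_eq_iff.2 (h.theta_W hw))

/-- `P₀` commutes with `t f` modulo `⟨z⟩` -/
theorem theta_P0 [Finite G] {g : G} (hg : g ∈ h.pts.P0) : Zq z (g * (t * f) * g⁻¹) (t * f) := by
  have hF := h.ci.fr
  have hg' := h.pts.mem_P0.1 hg
  refine h.ci.theta_comm (h.pts.PS hg'.1) (hg'.2 _ hF.fA) (hg'.2 _ (hF.UA hF.z2_mem))
    (h.pts.PW g hg'.1 b h.bW) ?_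
  -- `[g, e] ∈ ⟨z⟩` since `κ g κ⁻¹ ∈ P₀`
  have h1 := (h.pts.mem_P0.1 (mem_norm (h.pts.P0_norm h.κP) hg)).2 (κ * e * κ⁻¹) (by
    have := mem_cj.1 h.eA
    rwa [inv_inv] at this)
  have e1 : κ * g * κ⁻¹ * (κ * e * κ⁻¹) * (κ * g * κ⁻¹)⁻¹ = κ * (g * e * g⁻¹) * κ⁻¹ := by group
  rw [e1] at h1
  have h2 := h1.conj (l := κ⁻¹) (h.pts.Lz _ (inv_mem h.κP))
  have e2 : κ⁻¹ * (κ * (g * e * g⁻¹) * κ⁻¹) * κ⁻¹⁻¹ = g * e * g⁻¹ := by group
  have e3 : κ⁻¹ * (κ * e * κ⁻¹) * κ⁻¹⁻¹ = e := by group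
  rwa [e2, e3] at h2

/-- `κ` commutes with elements which it fixes modulo `⟨z⟩` -/
theorem comm_of_zq {g : G} (hg : Zq z (κ * g * κ⁻¹) g) (hc : z * g = g * z) : κ * g = g * κ := by
  have hzz := h.pts.zz
  obtain ⟨a, ha, h1⟩ : ∃ a, (a = 1 ∨ a = z) ∧ κ * g * κ⁻¹ = g * a := by
    rcases hg with h1 | h1
    · exact ⟨1, Or.inl rfl, by rw [h1, mul_one]⟩
    · exact ⟨z, Or.inr rfl, by rw [h1, hc]⟩
  have h2 : κ * a = a * κ := by
    rcases ha with rfl | rfl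
    · simp
    · exact h.κz
  have h3 : a * a = 1 := by
    rcases ha with rfl | rfl
    · simp
    · exact hzz
  have h4 := Eone.odd_trick h.κodd h1 h2 h3
  rw [h4, mul_one] at h1
  exact conj_eq_iff.1 h1

/-- the element `b'` of `W` with `θ b'` centralised by `κ` -/
theorem exists_b' [Finite G] : ∃ b', (b' = 1 ∨ b' = x * z * x⁻¹ ∨ b' = b ∨ b' = (x * z * x⁻¹) * b) ∧
    κ * ((t * f) * b') = ((t * f) * b') * κ := by
  have hF := h.ci.fr
  have hzz := h.pts.zz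
  have hκz := h.κz
  have hθW := fun w hw => h.theta_W (w := w) hw
  have hθT := h.ci.theta_T
  have h1 := (h.pts.mem_KC.1 h.κK).2 (t * f) hθT.1 hθW
  have hpW := h.pW
  have hpU := hF.z2_mem
  have hκp := h.κp
  have hκb := h.κb
  have hfix := fun g => h.comm_of_zq (g := g)
  have hcases : ∀ w ∈ W, Zq z w 1 ∨ Zq z w (x * z * x⁻¹) ∨ Zq z w b ∨ Zq z w ((x * z * x⁻¹) * b) := by
    have key : ∀ w ∈ U, Zq z w 1 ∨ Zq z w (x * z * x⁻¹) := by
      intro w hw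
      rcases Eone.mem_U hF hw with h2 | h2 | h2 | h2
      · left; left; exact h2
      · left; right; rw [h2, mul_one]
      · right; left; exact h2
      · right; right; exact h2
    intro w hw
    rcases h.pts.W_or h.bW h.bU hw with h2 | h2
    · rcases key w h2 with h3 | h3
      · exact Or.inl h3
      · exact Or.inr (Or.inl h3)
    · have e1 : w = (b * w) * b := by
        rw [h.pts.commW h.bW hw, mul_assoc, h.ci.bb, mul_one]
      rcases key _ h2 with h3 | h3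
      · right; right; left
        have h4 := h3.mul hzz (Zq.refl z b) (by rw [mul_one, one_mul])
        rwa [one_mul, ← e1] at h4
      · right; right; right
        have h4 := h3.mul hzz (Zq.refl z b) (h.pts.commW h.pts.zW hpW)
        rwa [← e1] at h4
  obtain ⟨p, hp⟩ : ∃ p, p = x * z * x⁻¹ := ⟨_, rfl⟩
  obtain ⟨θ, hθ⟩ : ∃ θ, θ = t * f := ⟨_, rfl⟩
  rw [← hθ] at h1 hθT ⊢
  simp only [← hθ] at hθW
  rw [← hp] at hκp hκb hpU hpW ⊢
  simp only [← hp] at hcases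
  have hbW := h.bW
  have hzW := h.pts.zW
  have hpp := h.pts.sqW p hpW
  have hbb := h.ci.bb
  have hpb := h.pts.commW hpW hbW
  obtain ⟨w, hw⟩ : ∃ w, w = κ * θ * κ⁻¹ * θ⁻¹ := ⟨_, rfl⟩
  rw [← hw] at h1
  have hκθ : κ * θ * κ⁻¹ = w * θ := by rw [hw]; group
  have hzθ : z * θ = θ * z := (hθW z hzW).symm
  -- general step
  have step : ∀ b' ∈ W, Zq z (w * (κ * b' * κ⁻¹)) b' → κ * (θ * b') = (θ * b') * κ := by
    intro b' hb' h2
    refine hfix _ ?_ ?_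
    · have e1 : κ * (θ * b') * κ⁻¹ = (κ * θ * κ⁻¹) * (κ * b' * κ⁻¹) := by group
      rw [e1, hκθ, ← hθW w h1, mul_assoc]
      exact (Zq.refl z θ).mul hzz h2 hzθ
    · rw [← mul_assoc, hzθ, mul_assoc, mul_assoc, h.pts.commW hzW hb']
  have hzc : ∀ v ∈ W, z * v = v * z := fun v hv => h.pts.commW hzW hv
  have hpbW : p * b ∈ W := mul_mem hpW hbW
  have hκpb : Zq z (κ * (p * b) * κ⁻¹) b := by
    have e1 : κ * (p * b) * κ⁻¹ = (κ * p * κ⁻¹) * (κ * b * κ⁻¹) := by group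
    rw [e1]
    have h2 := hκp.mul hzz hκb (hzc _ hpbW)
    have e2 : p * b * p = b := by rw [hpb, mul_assoc, hpp, mul_one]
    rwa [e2] at h2
  rcases hcases w h1 with h2 | h2 | h2 | h2
  · refine ⟨1, Or.inl rfl, step 1 (one_mem _) ?_⟩
    have e1 : w * (κ * 1 * κ⁻¹) = w := by group
    rw [e1]; exact h2
  · refine ⟨p * b, Or.inr (Or.inr (Or.inr rfl)), step _ hpbW ?_⟩
    exact h2.mul hzz hκpb (hzc p hpW)
  · refine ⟨p, Or.inr (Or.inl rfl), step p hpW ?_⟩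
    have h3 := h2.mul hzz hκp (hzc b hbW)
    have e2 : b * (p * b) = p := by rw [← mul_assoc, ← hpb, mul_assoc, hbb, mul_one]
    rwa [e2] at h3
  · refine ⟨b, Or.inr (Or.inr (Or.inl rfl)), step b hbW ?_⟩
    have h3 := h2.mul hzz hκb (hzc _ hpbW)
    have e2 : p * b * p = b := by rw [hpb, mul_assoc, hpp, mul_one]
    rwa [e2] at h3

theorem no_fix [Finite G] {u : G} (hu : u ∈ U) (hu1 : u ≠ 1) (huz : u ≠ z) (hc : Zq z (κ * u * κ⁻¹) u) : False := by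
  have hF := h.ci.fr
  have hzz := h.pts.zz
  obtain ⟨hp1, hpz⟩ := h.pne
  have h1 : Zq z (x * z * x⁻¹) u := h.pts.U_zq hF.z2_mem hp1 hpz hu hu1 huz
  have h2 := ((h1.conj h.κz).trans hzz hc).symm hzz
  have h3 := h2.trans hzz h.κp
  have h4 : (x * z * x⁻¹) * b ∈ U := by
    rcases h3.symm hzz with h4 | h4 <;> rw [h4]
    · exact hu
    · exact mul_mem hF.zU hu
  exact h.bU ((mul_mem_cancel_left hF.z2_mem).1 h4)

/-- `κ` commutes with `t f` -/
theorem κt [Finite G] : κ * (t * f) = (t * f) * κ := by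
  have hF := h.ci.fr
  have hzz := h.pts.zz
  obtain ⟨b', hb', hκ⟩ := h.exists_b'
  have hpU := hF.z2_mem
  have hpW := h.pW
  have hbW := h.bW
  -- the case `b' ∉ U`
  have bad : b' ∈ W → b' ∉ U → False := by
    intro hb'W hb'U
    obtain ⟨u, hu, hu1, huz, hru⟩ := h.pts.rW b' hb'W hb'U
    have hπ := h.κπ
    have hτθ := h.pts.yz.comm _ h.pts.rY _ h.ci.theta_Y
    have hθP := fun g hg => h.theta_P0 (g := g) hg
    have hθu := h.theta_W (h.pts.UW hu)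
    obtain ⟨τ, hτ⟩ : ∃ τ, τ = x₀ * t₀ * x₀⁻¹ := ⟨_, rfl⟩
    rw [← hτ] at hπ hru hτθ
    obtain ⟨θ, hθ⟩ : ∃ θ, θ = t * f := ⟨_, rfl⟩
    rw [← hθ] at hκ hθu hτθ
    simp only [← hθ] at hθP
    have e1 : τ * (θ * b') * τ⁻¹ = u * (θ * b') := by
      calc τ * (θ * b') * τ⁻¹ = (τ * θ * τ⁻¹) * (τ * b' * τ⁻¹) := by group
        _ = θ * (u * b') := by rw [conj_eq_iff.2 hτθ, hru]
        _ = (θ * u) * b' := by group
        _ = (u * θ) * b' := by rw [hθu]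
        _ = _ := by group
    have e2 : (τ * κ * τ⁻¹) * (u * (θ * b')) * (τ * κ * τ⁻¹)⁻¹ = u * (θ * b') := by
      rw [← e1]
      calc (τ * κ * τ⁻¹) * (τ * (θ * b') * τ⁻¹) * (τ * κ * τ⁻¹)⁻¹ = τ * (κ * (θ * b') * κ⁻¹) * τ⁻¹ := by group
        _ = _ := by rw [conj_eq_iff.2 hκ]
    obtain ⟨π, hπe⟩ : ∃ π, π = τ * κ * τ⁻¹ * κ := ⟨_, rfl⟩
    rw [← hπe] at hπ
    have hπP := (h.pts.mem_P0.1 hπ).1
    have e3 : τ * κ * τ⁻¹ = π * κ⁻¹ := by rw [hπe]; group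
    rw [e3] at e2
    have hκ' : κ⁻¹ * (θ * b') * κ = θ * b' := by
      have : κ⁻¹ * (θ * b') * κ = κ⁻¹ * (κ * (θ * b')) := by rw [hκ]; group
      rw [this]; group
    have e4 : π * κ⁻¹ * (u * (θ * b')) * (π * κ⁻¹)⁻¹ =
        (π * (κ⁻¹ * u * κ) * π⁻¹) * ((π * θ * π⁻¹) * (π * b' * π⁻¹)) := by
      calc π * κ⁻¹ * (u * (θ * b')) * (π * κ⁻¹)⁻¹ = π * (κ⁻¹ * u * κ) * (κ⁻¹ * (θ * b') * κ) * π⁻¹ := by group
        _ = π * (κ⁻¹ * u * κ) * (θ * b') * π⁻¹ := by rw [hκ']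
        _ = _ := by group
    rw [e4] at e2
    have hκuW : κ⁻¹ * u * κ ∈ W := mem_norm' (h.pts.LW h.κP) (h.pts.UW hu)
    have z1 : Zq z (π * (κ⁻¹ * u * κ) * π⁻¹) (κ⁻¹ * u * κ) := h.pts.PW π hπP _ hκuW
    have z2 : Zq z (π * θ * π⁻¹) θ := hθP π hπ
    have z3 : Zq z (π * b' * π⁻¹) b' := h.pts.PW π hπP _ hb'W
    have hzθ : z * θ = θ * z := by
      rw [hθ]; exact (h.theta_W h.pts.zW).symm
    have z4 := z1.mul hzz (z2.mul hzz z3 hzθ) (h.pts.commW h.pts.zW hκuW)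
    rw [e2] at z4
    have z5 : Zq z u (κ⁻¹ * u * κ) := by
      rcases z4 with h1 | h1
      · left; exact mul_right_cancel h1
      · right
        rw [← mul_assoc z] at h1
        exact mul_right_cancel h1
    have z6 := z5.conj h.κz
    have e5 : κ * (κ⁻¹ * u * κ) * κ⁻¹ = u := by group
    rw [e5] at z6
    exact h.no_fix hu hu1 huz z6
  rcases hb' with h1 | h1 | h1 | h1
  · rw [h1, mul_one] at hκ
    exact hκ
  · exfalso
    -- `e` commutes with `θ p`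
    have heA : κ * e * κ⁻¹ ∈ A := by
      have := mem_cj.1 h.eA
      rwa [inv_inv] at this
    have hθT := h.ci.theta_T
    have hθe := h.ci.theta_e
    have hep := h.ci.ep
    rw [h1] at hκ
    have hz1 := hF.z1
    obtain ⟨p, hp⟩ : ∃ p, p = x * z * x⁻¹ := ⟨_, rfl⟩
    rw [← hp] at hκ hpU hep
    obtain ⟨θ, hθ⟩ : ∃ θ, θ = t * f := ⟨_, rfl⟩
    rw [← hθ] at hκ hθT hθe
    have c1 : Commute (θ * p) (κ * e * κ⁻¹) := by
      have c2 : Commute θ (κ * e * κ⁻¹) := hF.T_comm hθT heA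
      have c3 : Commute p (κ * e * κ⁻¹) := hF.commA (hF.UA hpU) heA
      exact c2.mul_left c3
    have hκ' : κ⁻¹ * (θ * p) * κ = θ * p := by
      have : κ⁻¹ * (θ * p) * κ = κ⁻¹ * (κ * (θ * p)) := by rw [hκ]; group
      rw [this]; group
    have c4 : (θ * p) * e = e * (θ * p) := by
      calc (θ * p) * e = (κ⁻¹ * (θ * p) * κ) * e := by rw [hκ']
        _ = κ⁻¹ * ((θ * p) * (κ * e * κ⁻¹)) * κ := by group
        _ = κ⁻¹ * ((κ * e * κ⁻¹) * (θ * p)) * κ := by rw [c1.eq]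
        _ = e * (κ⁻¹ * (θ * p) * κ) := by group
        _ = _ := by rw [hκ']
    have c5 : p * e = e * p := by
      have : θ * (p * e) = θ * (e * p) := by
        rw [← mul_assoc, c4, ← mul_assoc, ← hθe, mul_assoc]
      exact mul_left_cancel this
    have c6 : e * p * e⁻¹ = p := conj_eq_iff.2 c5.symm
    rw [c6] at hep
    exact hz1 (mul_eq_right.1 hep.symm)
  · exact (bad (h1 ▸ hbW) (h1 ▸ h.bU)).elim
  · refine (bad (h1 ▸ mul_mem hpW hbW) ?_).elim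
    rw [h1]
    exact fun h2 => h.bU ((mul_mem_cancel_left hpU).1 h2)

/-- `[A, e] ≤ ⟨z⟩` -/
theorem a_e [Finite G] {a : G} (ha : a ∈ A) : Zq z (a * e * a⁻¹) e := by
  have hF := h.ci.fr
  have hzz := h.pts.zz
  have hpU := hF.z2_mem
  have hep := h.ci.ep
  have hU : ∀ u ∈ U, Zq z (u * e * u⁻¹) e := by
    have hz : Zq z (z * e * z⁻¹) e := Or.inl (conj_eq_iff.2 (hF.zc e h.ci.eS).symm)
    have hp : Zq z ((x * z * x⁻¹) * e * (x * z * x⁻¹)⁻¹) e := by
      right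
      obtain ⟨p, hp⟩ : ∃ p, p = x * z * x⁻¹ := ⟨_, rfl⟩
      rw [← hp] at hpU hep ⊢
      have h1 : e * p = z * p * e := by rw [← hep]; group
      have hpp := hF.sqA (hF.UA hpU)
      calc p * e * p⁻¹ = p * (e * p) := by rw [hF.invA (hF.UA hpU), mul_assoc]
        _ = p * (z * p) * e := by rw [h1]; group
        _ = (z * p) * p * e := by rw [hF.commA (hF.UA hpU) (mul_mem hF.zA (hF.UA hpU))]
        _ = z * (p * p) * e := by group
        _ = z * e := by rw [hpp, mul_one]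
    intro u hu
    rcases Eone.mem_U hF hu with rfl | rfl | rfl | rfl
    · left; group
    · exact hz
    · exact hp
    · exact Zq.comp hzz rfl hp hz
  rcases hF.mem_A ha with h1 | h1
  · exact hU a h1
  · have e1 : a = f * (f * a) := by rw [← mul_assoc, hF.sqA hF.fA, one_mul]
    have h2 := Zq.comp hzz (hF.commA hF.fA hF.zA) (hU _ h1) (Or.inl (conj_eq_iff.2 h.ci.ef.symm))
    rwa [← e1] at h2

theorem zmem [Finite G] : z ∈ zpowers (t * f) := by
  have h1 := h.ci.theta_sq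
  rw [← h1]
  exact mul_mem (mem_zpowers _) (mem_zpowers _)

/-- `τ e τ⁻¹ = p f e` modulo `⟨t f⟩` -/
theorem tau_e [Finite G] : Emod (t * f) ((x₀ * t₀ * x₀⁻¹) * e * (x₀ * t₀ * x₀⁻¹)⁻¹) ((x * z * x⁻¹) * f * e) := by
  have hF := h.ci.fr
  have hzz := h.pts.zz
  have hτY := h.pts.rY
  have hττ := h.pts.rr
  have hp0 := h.pts.fr.z2_ne_one
  have hp0z := h.pts.fr.xz
  obtain ⟨τ, hτ⟩ : ∃ τ, τ = x₀ * t₀ * x₀⁻¹ := ⟨_, rfl⟩
  obtain ⟨p₀, hp₀⟩ : ∃ p₀, p₀ = x₀ * z * x₀⁻¹ := ⟨_, rfl⟩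
  rw [← hτ, ← hp₀] at hττ
  rw [← hτ] at hτY ⊢
  rw [← hp₀] at hp0 hp0z
  have hre := h.ci.re
  have hrY := h.ci.rY
  have hzm := h.zmem
  have hze : z * e = e * z := (h.ci.zc h.ci.eS).symm
  -- `g e g⁻¹` for `g = a g'` with `g' e g'⁻¹ = p t e`
  have key : ∀ a ∈ A, ∀ g', g' * e * g'⁻¹ = (x * z * x⁻¹) * t * e →
      Emod (t * f) ((a * g') * e * (a * g')⁻¹) ((x * z * x⁻¹) * f * e) := by
    intro a ha g' hg'
    have hpt : (x * z * x⁻¹) * t ∈ TT S A := mul_mem (hF.A_le_T (hF.UA hF.z2_mem)) h.ci.tT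
    have c1 : a * ((x * z * x⁻¹) * t) * a⁻¹ = (x * z * x⁻¹) * t := conj_eq_iff.2 (hF.T_comm hpt ha).symm
    have e1 : (a * g') * e * (a * g')⁻¹ = ((x * z * x⁻¹) * t) * (a * e * a⁻¹) := by
      calc (a * g') * e * (a * g')⁻¹ = a * (g' * e * g'⁻¹) * a⁻¹ := by group
        _ = (a * ((x * z * x⁻¹) * t) * a⁻¹) * (a * e * a⁻¹) := by rw [hg']; group
        _ = _ := by rw [c1]
    rw [e1]
    have h1 : Emod (t * f) (((x * z * x⁻¹) * t) * (a * e * a⁻¹)) (((x * z * x⁻¹) * t) * e) := by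
      refine (Emod.refl _ _).mul (Emod.of_zq hzm (h.a_e ha) hze) h.ci.theta_e
    refine h1.trans ⟨t * f, mem_zpowers _, ?_⟩
    have c2 := h.ci.theta_e
    have c3 := hF.T_comm h.ci.tT hF.fA
    calc (x * z * x⁻¹) * t * e = (x * z * x⁻¹) * (f * f) * t * e := by rw [hF.sqA hF.fA, mul_one]
      _ = (x * z * x⁻¹) * f * (f * t) * e := by group
      _ = (x * z * x⁻¹) * f * ((t * f) * e) := by rw [← c3]; group
      _ = (x * z * x⁻¹) * f * (e * (t * f)) := by rw [c2]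
      _ = _ := by group
  obtain ⟨p, hp⟩ : ∃ p, p = x * z * x⁻¹ := ⟨_, rfl⟩
  have hpU : p ∈ U := by rw [hp]; exact hF.z2_mem
  rw [← hp] at hre ⊢
  simp only [← hp] at key
  have hrr : (x * t * x⁻¹) * e * (x * t * x⁻¹)⁻¹ = p * t * e := by rw [← hre]; group
  obtain ⟨a, ha, h1 | h1 | h1 | h1⟩ := h.ci.yz.mem τ hτY
  · exact (hp0 (by rw [← hττ, h1, hF.sqA ha])).elim
  · refine (hp0z ?_).elim
    have c1 := hF.T_comm h.ci.tT ha
    rw [← hττ, h1]
    calc a * t * (a * t) = a * (t * a) * t := by group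
      _ = (a * a) * (t * t) := by rw [c1]; group
      _ = z := by rw [hF.sqA ha, one_mul, h.ci.yz.tt]
  · rw [h1]
    exact key a ha _ hrr
  · rw [h1]
    refine key a ha _ ?_
    have c1 : t * p = p * t := hF.T_comm h.ci.tT (hF.UA hpU)
    calc t * (x * t * x⁻¹) * e * (t * (x * t * x⁻¹))⁻¹ = t * ((x * t * x⁻¹) * e * (x * t * x⁻¹)⁻¹) * t⁻¹ := by group
      _ = (t * p) * t * e * t⁻¹ := by rw [hrr]; group
      _ = p * t * (t * e) * t⁻¹ := by rw [c1]; group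
      _ = p * t * (e * t) * t⁻¹ := by rw [h.ci.et]
      _ = _ := by group

theorem tau_b [Finite G] : Zq z ((x₀ * t₀ * x₀⁻¹) * b * (x₀ * t₀ * x₀⁻¹)⁻¹) ((x * z * x⁻¹) * b) := by
  obtain ⟨u, hu, hu1, huz, h1⟩ := h.pts.rW b h.bW h.bU
  rw [h1]
  have hF := h.ci.fr
  exact (h.pts.U_zq hu hu1 huz hF.z2_mem hF.z2_ne_one hF.xz).mul h.pts.zz (Zq.refl z b)
    (h.pts.commW h.pts.zW h.pW)

theorem kf_tau [Finite G] : Zq z (κ * f * κ⁻¹)
    ((x₀ * t₀ * x₀⁻¹) * (κ⁻¹ * f * κ) * (x₀ * t₀ * x₀⁻¹)⁻¹) := by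
  have hF := h.ci.fr
  have hzz := h.pts.zz
  have hπ := h.κπ
  have hτf := h.pts.fr.T_comm h.pts.rT hF.fA
  obtain ⟨τ, hτ⟩ : ∃ τ, τ = x₀ * t₀ * x₀⁻¹ := ⟨_, rfl⟩
  rw [← hτ] at hπ hτf ⊢
  have h1 := (h.pts.mem_P0.1 (inv_mem hπ)).2 f hF.fA
  have h2 := (h1.conj h.κz).symm hzz
  have e1 : κ * ((τ * κ * τ⁻¹ * κ)⁻¹ * f * (τ * κ * τ⁻¹ * κ)⁻¹⁻¹) * κ⁻¹ =
      τ * κ⁻¹ * (τ⁻¹ * f * τ) * κ * τ⁻¹ := by group
  have e2 : τ⁻¹ * f * τ = f := by
    have : τ⁻¹ * f * τ = τ⁻¹ * (τ * f) := by rw [hτf]; group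
    rw [this]; group
  rw [e1, e2] at h2
  have e3 : τ * κ⁻¹ * f * κ * τ⁻¹ = τ * (κ⁻¹ * f * κ) * τ⁻¹ := by group
  rwa [e3] at h2

/-- **(9.3)**: the action of `κ` on `f`, `e` -/
theorem κfe [Finite G] : Zq z (κ * e * κ⁻¹) (f * (x * z * x⁻¹)) ∧ Emod (t * f) (κ * f * κ⁻¹) (f * b * e) := by
  have hF := h.ci.fr
  have hzz := h.pts.zz
  have hκz := h.κz
  have heA : κ * e * κ⁻¹ ∈ A := by
    have := mem_cj.1 h.eA
    rwa [inv_inv] at this
  have heU : κ * e * κ⁻¹ ∉ U := by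
    intro h1
    have h2 : e ∈ cj κ⁻¹ U := by rw [mem_cj, inv_inv]; exact h1
    have heU' := hF.sU
    rcases h.Uc e h2 with h3 | h3 | h3 | h3
    · apply heU'; rw [h3]; exact one_mem _
    · apply heU'; rw [h3]; exact mem_cent_iff.2 fun u hu => hF.commA hF.zA (hF.UA hu)
    · apply heU'; rw [h3]; exact h.ci.bQ.2
    · apply heU'; rw [h3]
      exact mul_mem (mem_cent_iff.2 fun u hu => hF.commA hF.zA (hF.UA hu)) h.ci.bQ.2
  have hkf := h.kf_tau
  have htb := h.tau_b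
  have hte := h.tau_e
  have hκθ := h.κt
  have hzm := h.zmem
  have hκp := h.κp
  have hκb := h.κb
  have hpU := hF.z2_mem
  have hpne := h.pne
  have hθe := h.ci.theta_e
  have hθb := h.ci.theta_b
  have hθT := h.ci.theta_T
  have hθθ := h.ci.theta_sq
  have hcases := (hF.mem_A heA).resolve_left heU
  have hcases' := Eone.mem_U hF hcases
  obtain ⟨τ, hτ⟩ : ∃ τ, τ = x₀ * t₀ * x₀⁻¹ := ⟨_, rfl⟩
  rw [← hτ] at hkf htb hte
  obtain ⟨p, hp⟩ : ∃ p, p = x * z * x⁻¹ := ⟨_, rfl⟩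
  rw [← hp] at htb hte hκp hκb hpU hcases' hpne ⊢
  obtain ⟨θ, hθ⟩ : ∃ θ, θ = t * f := ⟨_, rfl⟩
  rw [← hθ] at hte hκθ hzm hθe hθb hθT hθθ ⊢
  have hpA := hF.UA hpU
  have hpp := hF.sqA hpA
  have hff := hF.sqA hF.fA
  have hbb := h.ci.bb
  have hpf := hF.commA hpA hF.fA
  have hfz := hF.commA hF.fA hF.zA
  have hpz := hF.commA hpA hF.zA
  have hbp : b * p = p * b := hF.Q_comm h.ci.bQ hpU
  have hef := h.ci.ef
  have hez := h.ci.zc h.ci.eS
  have hbz := h.ci.bz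
  have hbf : b * f = f * z * b := by rw [← h.ci.bf]; group
  have hθp : θ * p = p * θ := hF.T_comm hθT hpA
  have hθf : θ * f = f * θ := hF.T_comm hθT hF.fA
  have hθz : θ * z = z * θ := hF.T_comm hθT hF.zA
  have cz : ∀ c, Commute c z → z * c = c * z := fun c hc => hc.symm.eq
  have Zf : Commute f z := hfz
  have Zp : Commute p z := hpz
  have Ze : Commute e z := hez
  have Zb : Commute b z := hbz
  -- the two cases
  have hcas : Zq z (κ * e * κ⁻¹) (f * p) ∨ Zq z (κ * e * κ⁻¹) f := by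
    have e1 : κ * e * κ⁻¹ = f * (f * (κ * e * κ⁻¹)) := by rw [← mul_assoc, hff, one_mul]
    rcases hcases' with h1 | h1 | h1 | h1
    · right; left; rw [e1, h1, mul_one]
    · right; right; rw [e1, h1, hfz]
    · left; left; rw [e1, h1]
    · left; right; rw [e1, h1, ← mul_assoc, hfz, mul_assoc]
  -- passing from `κ w κ⁻¹ ≡ f` to `κ f κ⁻¹ ≡ τ w τ⁻¹`
  have hpass : ∀ w, Zq z (κ * w * κ⁻¹) f → Zq z (κ * f * κ⁻¹) (τ * w * τ⁻¹) := by
    intro w hw
    have h1 := (hw.conj (l := κ⁻¹) (h.pts.Lz _ (inv_mem h.κP)))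
    have e1 : κ⁻¹ * (κ * w * κ⁻¹) * κ⁻¹⁻¹ = w := by group
    have e2 : κ⁻¹ * f * κ⁻¹⁻¹ = κ⁻¹ * f * κ := by rw [inv_inv]
    rw [e1, e2] at h1
    have h2 := (h1.symm hzz).conj (l := τ) (by rw [hτ]; exact h.pts.Lz _ h.pts.rP)
    exact hkf.trans hzz h2
  have hτz : τ * z = z * τ := by rw [hτ]; exact h.pts.Lz _ h.pts.rP
  have czm : ∀ c, Commute c z → ∀ g, Zq z g c → Emod θ g c := fun c hc g hg => Emod.of_zq hzm hg (cz c hc)
  rcases hcas with h1 | h1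
  · refine ⟨h1, ?_⟩
    have h2 : Zq z (κ * (b * e) * κ⁻¹) f := by
      have e1 : κ * (b * e) * κ⁻¹ = (κ * b * κ⁻¹) * (κ * e * κ⁻¹) := by group
      rw [e1]
      have h3 := hκb.mul hzz h1 (cz p Zp)
      have e2 : p * (f * p) = f := by rw [← mul_assoc, hpf, mul_assoc, hpp, mul_one]
      rwa [e2] at h3
    have h3 := hpass _ h2
    have e1 : τ * (b * e) * τ⁻¹ = (τ * b * τ⁻¹) * (τ * e * τ⁻¹) := by group
    have h4 : Emod θ (τ * (b * e) * τ⁻¹) ((p * b) * (p * f * e)) := by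
      rw [e1]
      refine (czm _ (Zp.mul_left Zb) _ htb).mul hte ?_
      have c1 : Commute θ (p * f * e) :=
        ((show Commute θ p from hθp).mul_right (show Commute θ f from hθf)).mul_right (show Commute θ e from hθe)
      exact c1.eq
    have e2 : (p * b) * (p * f * e) = f * b * e * z := by
      calc (p * b) * (p * f * e) = (p * b) * p * f * e := by group
        _ = p * (b * p) * f * e := by group
        _ = p * (p * b) * f * e := by rw [hbp]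
        _ = (p * p) * (b * f) * e := by group
        _ = f * z * b * e := by rw [hpp, one_mul, hbf]
        _ = f * (z * (b * e)) := by group
        _ = f * ((b * e) * z) := by rw [cz (b * e) (Zb.mul_left Ze)]
        _ = _ := by group
    have h5 : Emod θ (f * b * e * z) (f * b * e) := ⟨z, hzm, rfl⟩
    rw [e2] at h4
    have h6 : Emod θ (κ * f * κ⁻¹) (τ * (b * e) * τ⁻¹) := by
      have c0 : Commute τ z := hτz
      refine czm _ ?_ _ h3
      exact (c0.mul_left (Zb.mul_left Ze)).mul_left c0.inv_left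
    exact (h6.trans h4).trans h5
  · -- the bad case
    exfalso
    have h3 := hpass _ h1
    have c0 : Commute τ z := hτz
    have k1 : Emod θ (κ * f * κ⁻¹) (p * f * e) :=
      (czm _ ((c0.mul_left Ze).mul_left c0.inv_left) _ h3).trans hte
    have k2 : Emod θ (κ * (p * f * e) * κ⁻¹) (b * e) := by
      have e1 : κ * (p * f * e) * κ⁻¹ = (κ * p * κ⁻¹) * (κ * f * κ⁻¹) * (κ * e * κ⁻¹) := by group
      rw [e1]
      have h4 := ((czm _ (Zp.mul_left Zb) _ hκp).mul k1 (by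
        have c1 : Commute θ (p * f * e) :=
          ((show Commute θ p from hθp).mul_right (show Commute θ f from hθf)).mul_right (show Commute θ e from hθe)
        exact c1.eq)).mul (czm _ Zf _ h1) hθf
      have e2 : (p * b) * (p * f * e) * f = b * e := by
        calc (p * b) * (p * f * e) * f = p * (b * p) * f * (e * f) := by group
          _ = p * (p * b) * f * (f * e) := by rw [hbp, hef]
          _ = (p * p) * b * (f * f) * e := by group
          _ = b * e := by rw [hpp, hff, one_mul, mul_one]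
      rwa [e2] at h4
    have k3 : Emod θ (κ * (b * e) * κ⁻¹) (p * f) := by
      have e1 : κ * (b * e) * κ⁻¹ = (κ * b * κ⁻¹) * (κ * e * κ⁻¹) := by group
      rw [e1]
      exact (czm _ Zp _ hκb).mul (czm _ Zf _ h1) hθf
    have e3 : κ ^ 3 = κ * κ * κ := by rw [pow_succ, pow_two]
    have k4 : Emod θ (κ ^ 3 * f * (κ ^ 3)⁻¹) (p * f) := by
      have e4 : κ ^ 3 * f * (κ ^ 3)⁻¹ = κ * (κ * (κ * f * κ⁻¹) * κ⁻¹) * κ⁻¹ := by rw [e3]; group
      rw [e4]
      exact (((k1.conj hκθ).trans k2).conj hκθ).trans k3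
    have hodd3 : Odd (orderOf (κ ^ 3)) := h.κodd.of_dvd_nat (orderOf_pow_dvd 3)
    have k5 : κ ^ 3 * p = p * κ ^ 3 := by
      have hκpb : Zq z (κ * (p * b) * κ⁻¹) b := by
        have e1 : κ * (p * b) * κ⁻¹ = (κ * p * κ⁻¹) * (κ * b * κ⁻¹) := by group
        rw [e1]
        have h2 := hκp.mul hzz hκb (cz _ (Zp.mul_left Zb))
        have e2 : p * b * p = b := by rw [← hbp, mul_assoc, hpp, mul_one]
        rwa [e2] at h2
      have k6 : Zq z (κ ^ 3 * p * (κ ^ 3)⁻¹) p := by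
        have e4 : κ ^ 3 * p * (κ ^ 3)⁻¹ = κ * (κ * (κ * p * κ⁻¹) * κ⁻¹) * κ⁻¹ := by rw [e3]; group
        rw [e4]
        exact (((hκp.conj hκz).trans hzz hκpb).conj hκz).trans hzz hκb
      obtain ⟨a, ha, h1⟩ : ∃ a, (a = 1 ∨ a = z) ∧ κ ^ 3 * p * (κ ^ 3)⁻¹ = p * a := by
        rcases k6 with h1 | h1
        · exact ⟨1, Or.inl rfl, by rw [h1, mul_one]⟩
        · exact ⟨z, Or.inr rfl, by rw [h1, hpz]⟩
      have h2 : κ ^ 3 * a = a * κ ^ 3 := by
        rcases ha with rfl | rfl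
        · simp
        · exact ((show Commute κ a from hκz).pow_left 3).eq
      have h3 : a * a = 1 := by
        rcases ha with rfl | rfl
        · simp
        · exact hzz
      have h4 := Eone.odd_trick hodd3 h1 h2 h3
      rw [h4, mul_one] at h1
      exact conj_eq_iff.1 h1
    obtain ⟨c, hc, hkc⟩ := k4
    have hcc : c = 1 ∨ c = z ∨ c * c = z := by
      obtain ⟨i, rfl⟩ := mem_zpowers_iff.1 hc
      have hzi : ∀ j : ℤ, z ^ j = 1 ∨ z ^ j = z := fun j => zpowers_cases hzz _ (zpow_mem (mem_zpowers z) j)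
      obtain ⟨j, hj | hj⟩ := Int.even_or_odd' i
      · have e5 : θ ^ i = z ^ j := by
          rw [hj, zpow_mul, zpow_two, hθθ]
        rw [e5]
        rcases hzi j with h4 | h4
        · exact Or.inl h4
        · exact Or.inr (Or.inl h4)
      · right; right
        have e5 : θ ^ i * θ ^ i = (z ^ j) * (z ^ j) * z := by
          have e6 : θ ^ i = z ^ j * θ := by
            rw [hj, zpow_add, zpow_one, zpow_mul, zpow_two, hθθ]
          have e7 : Commute θ (z ^ j) := (show Commute θ z from hθz).zpow_right j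
          rw [e6]
          calc z ^ j * θ * (z ^ j * θ) = z ^ j * (θ * z ^ j) * θ := by group
            _ = z ^ j * (z ^ j * θ) * θ := by rw [e7.eq]
            _ = (z ^ j) * (z ^ j) * (θ * θ) := by rw [← mul_assoc (z ^ j) (z ^ j) θ, mul_assoc]
            _ = _ := by rw [hθθ]
        rw [e5]
        rcases hzi j with h4 | h4
        · rw [h4, one_mul, one_mul]
        · rw [h4, hzz, one_mul]
    have hpc : p * c = c * p := Emod.comm_of hc hθp.symm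
    have hk3c : κ ^ 3 * c = c * κ ^ 3 := by
      refine Emod.comm_of hc ?_
      exact ((show Commute κ θ from hκθ).pow_left 3).eq
    have h4 : p * c = 1 := by
      refine Eone.odd_trick' (g := f) (m := 2) hodd3 ?_ ?_ ?_
      · rw [hkc, hpf, mul_assoc]
      · exact ((show Commute (κ ^ 3) p from k5).mul_right (show Commute (κ ^ 3) c from hk3c)).eq
      · have e5 : (p * c) ^ 2 ^ 2 = (c * c) * (c * c) := by
          have e6 : (p * c) * (p * c) = c * c := by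
            calc (p * c) * (p * c) = p * (c * p) * c := by group
              _ = p * (p * c) * c := by rw [hpc]
              _ = (p * p) * (c * c) := by group
              _ = _ := by rw [hpp, one_mul]
          have e7 : (2 : ℕ) ^ 2 = 2 * 2 := rfl
          rw [e7, pow_mul, pow_two, pow_two, e6]
        rw [e5]
        rcases hcc with h5 | h5 | h5
        · rw [h5]; simp
        · rw [h5, hzz, one_mul]
        · rw [h5, hzz]
    have hpc' : p = c⁻¹ := eq_inv_of_mul_eq_one_left h4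
    rcases hcc with h5 | h5 | h5
    · apply hpne.1; rw [hpc', h5, inv_one]
    · apply hpne.2; rw [hpc', h5]; exact hF.invA hF.zA
    · apply hF.z1
      rw [← h5]
      have : (c * c)⁻¹ = 1 := by rw [mul_inv_rev, ← hpc', hpp]
      rw [inv_eq_one] at this
      exact this

/-- **Section 9.** -/
theorem kap [Finite G] : Kap S A U z f x e Y t b P W κ := by
  have hF := h.ci.fr
  have hfe := h.κfe
  have hpz : z * (x * z * x⁻¹) = (x * z * x⁻¹) * z := hF.commA hF.zA (hF.UA hF.z2_mem)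
  refine { ci := h.ci, κP := h.κP, κo := h.κo, bP := h.bP, eP := h.eP, bW := h.bW, tfP := h.theta_P, κz := h.κz
           κt := h.κt, Uc := h.Uc, Ac := h.Ac, κf := hfe.2, κp := ?_, κb := ?_, κe := ?_ }
  · refine Emod.of_zq h.zmem h.κp ?_
    exact h.pts.commW h.pts.zW (mul_mem h.pW h.bW)
  · exact Emod.of_zq h.zmem h.κb hpz
  · refine Emod.of_zq h.zmem hfe.1 ?_
    exact hF.commA hF.zA (mul_mem hF.fA (hF.UA hF.z2_mem))

end KapZ

/-- **Section 9: the element `κ`.** -/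
theorem Pts.exists_kap [Finite G] {S : Sylow 2 G} {A U : Subgroup G} {z f x s : G} {Y : Subgroup G} {t : G}
    {P W : Subgroup G} (h : Pts S A U z f x s Y t P W) :
    ∃ f' x' e t' b κ, Kap S A U z f' x' e Y t' b P W κ ∧ f * f' ∈ U := by
  obtain ⟨f', x', e, t', b, κ, hk, hff⟩ := h.exists_kapZ
  exact ⟨f', x', e, t', b, κ, hk.kap, hff⟩

end Cfsg.Agent.RankThreeFus
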