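import Cfsg.Agent.RankThreeFus.YzAdapt

/-!
# S1730, (B8*), CASE I, `PT = S`: the situation at the end of section 8

`Pts S A U z f x s Y t P W`: `P` is a maximal choice, `W = ⟨U^{N(P)}⟩` is elementary abelian of order 8.
-/

set_option autoImplicit false
set_option linter.style.haveILetI false

namespace Cfsg.Agent.RankThreeFus

open Subgroup Cfsg.Agent.Lib.GoldschmidtFusion Cfsg.Agent.StdL2.G23Aut Cfsg.Agent.Lib.EssentialFusion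

variable {G : Type*} [Group G]

/-- The results of section 8 (`PT = S`). -/
structure Pts (S : Sylow 2 G) (A U : Subgroup G) (z f x s : G) (Y : Subgroup G) (t : G) (P W : Subgroup G) :
    Prop where
  yz : Yz S A U z f x s Y t
  ess : Ess S P
  AP : A ≤ P
  Lz : ∀ l ∈ normalizer (P : Set G), l * z = z * l
  mov : ∃ l ∈ normalizer (P : Set G), cj l U ≠ U
  cardW : Nat.card W = 8
  sqW : ∀ w ∈ W, w * w = 1
  UW : U ≤ W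
  WQ : W ≤ QQ S U
  WT : ∀ w ∈ W, w ∈ TT S A → w ∈ U
  LW : normalizer (P : Set G) ≤ normalizer (W : Set G)
  PW : ∀ g ∈ P, ∀ w ∈ W, g * w * g⁻¹ = w ∨ g * w * g⁻¹ = z * w
  F1 : ∀ g ∈ (S : Subgroup G), (∀ w ∈ W, g * w * g⁻¹ = w ∨ g * w * g⁻¹ = z * w) → g ∈ P
  P0n : ∀ l ∈ normalizer (P : Set G), ∀ g ∈ P, (∀ a ∈ A, g * a * g⁻¹ = a ∨ g * a * g⁻¹ = z * a) →
    ∀ a ∈ A, (l * g * l⁻¹) * a * (l * g * l⁻¹)⁻¹ = a ∨ (l * g * l⁻¹) * a * (l * g * l⁻¹)⁻¹ = z * a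
  cas : ∀ l ∈ normalizer (P : Set G), cj l U ≠ U → A ⊓ cj l A = zpowers z
  rP : x * t * x⁻¹ ∈ normalizer (P : Set G)
  rW : ∀ w ∈ W, w ∉ U → ∃ u ∈ U, u ≠ 1 ∧ u ≠ z ∧ (x * t * x⁻¹) * w * (x * t * x⁻¹)⁻¹ = u * w

/-- `g ≡ w` modulo `⟨c⟩` -/
def Emod (c g w : G) : Prop := ∃ d ∈ zpowers c, g = w * d

/-- The element `κ` of section 9. -/
structure Kap (S : Sylow 2 G) (A U : Subgroup G) (z f x e : G) (Y : Subgroup G) (t b : G) (P W : Subgroup G)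
    (κ : G) : Prop where
  ci : Ci S A U z f x e Y t b
  κP : κ ∈ normalizer (P : Set G)
  κo : ∃ k, orderOf κ = 3 ^ k
  bP : b ∈ P
  eP : e ∈ P
  bW : b ∈ W
  tfP : t * f ∈ P
  κz : κ * z = z * κ
  κt : κ * (t * f) = (t * f) * κ
  Uc : ∀ y ∈ cj κ⁻¹ U, y = 1 ∨ y = z ∨ y = b ∨ y = z * b
  Ac : ∀ y ∈ cj κ⁻¹ A, ∃ i, (i = 1 ∨ i = z) ∧ (y = i ∨ y = i * b ∨ y = i * e ∨ y = i * (b * e))
  κf : Emod (t * f) (κ * f * κ⁻¹) (f * b * e)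
  κp : Emod (t * f) (κ * (x * z * x⁻¹) * κ⁻¹) ((x * z * x⁻¹) * b)
  κb : Emod (t * f) (κ * b * κ⁻¹) (x * z * x⁻¹)
  κe : Emod (t * f) (κ * e * κ⁻¹) (f * (x * z * x⁻¹))

end Cfsg.Agent.RankThreeFus
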