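import Cfsg.Agent.RankThreeFus.NTrick
import Cfsg.Agent.RankThreeFus.SecOne
import Cfsg.Agent.RankThreeFus.PtsBase

/-!
# S1730, branch (B), (B8*), CASE I, `PT = S`: sections (10.1)-(10.4)

`EQ c g w`: `g = w` modulo `⟨c⟩`.  `LetE z f p b e c`: the relations of `X ∘ Z₄`.  `KapE z f p b e c κ`: the
action of `κ` modulo `⟨c⟩`.  `NT.ntrick_or`: either the n-trick holds for `n`, or (after changing `n` by an
element of `Y₀`) `n` acts as `b ↦ b f`, `e ↦ e` modulo `⟨t f⟩`.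
-/

set_option autoImplicit false

namespace Cfsg.Agent.RankThreeFus

open Subgroup Cfsg.Agent.Lib.GoldschmidtFusion Cfsg.Agent.StdL2.G23Aut

variable {G : Type*} [Group G]

/-- `g = w` modulo `⟨c⟩` -/
def EQ (c g w : G) : Prop := ∃ d ∈ zpowers c, g = w * d

namespace EQ

variable {c : G}

theorem refl (g : G) : EQ c g g := ⟨1, one_mem _, by simp⟩

theorem of_eq {g w : G} (h : g = w) : EQ c g w := h ▸ refl g

theorem trans {g w v : G} (h1 : EQ c g w) (h2 : EQ c w v) : EQ c g v := by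
  obtain ⟨d, hd, rfl⟩ := h1
  obtain ⟨d', hd', rfl⟩ := h2
  exact ⟨d' * d, mul_mem hd' hd, by group⟩

theorem symm {g w : G} (h1 : EQ c g w) : EQ c w g := by
  obtain ⟨d, hd, rfl⟩ := h1
  exact ⟨d⁻¹, inv_mem hd, by group⟩

theorem comm_of {w : G} (hw : w * c = c * w) {d : G} (hd : d ∈ zpowers c) : d * w = w * d := by
  obtain ⟨i, rfl⟩ := mem_zpowers_iff.1 hd
  exact (((show Commute w c from hw).zpow_right i).symm).eq

theorem mul {g w g' w' : G} (hw' : w' * c = c * w') (h1 : EQ c g w) (h2 : EQ c g' w') :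
    EQ c (g * g') (w * w') := by
  obtain ⟨d, hd, rfl⟩ := h1
  obtain ⟨d', hd', rfl⟩ := h2
  refine ⟨d * d', mul_mem hd hd', ?_⟩
  calc w * d * (w' * d') = w * (d * w') * d' := by group
    _ = _ := by rw [comm_of hw' hd]; group

theorem conj {g w k : G} (hk : k * c * k⁻¹ ∈ zpowers c) (h1 : EQ c g w) : EQ c (k * g * k⁻¹) (k * w * k⁻¹) := by
  obtain ⟨d, hd, rfl⟩ := h1
  refine ⟨k * d * k⁻¹, ?_, by group⟩
  obtain ⟨i, rfl⟩ := mem_zpowers_iff.1 hd
  rw [← conj_zpow]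
  exact zpow_mem hk i

theorem conj3 {g g' w w' k : G} (hw' : w' * c = c * w') (h1 : EQ c (k * g * k⁻¹) w)
    (h2 : EQ c (k * g' * k⁻¹) w') : EQ c (k * (g * g') * k⁻¹) (w * w') := by
  have h3 := mul hw' h1 h2
  have h4 : k * g * k⁻¹ * (k * g' * k⁻¹) = k * (g * g') * k⁻¹ := by group
  rwa [h4] at h3

theorem mulc {w w' : G} (h1 : w * c = c * w) (h2 : w' * c = c * w') : w * w' * c = c * (w * w') := by
  rw [mul_assoc, h2, ← mul_assoc, h1, mul_assoc]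

/-- `k g k⁻¹ = w` gives `k⁻¹ w k = g` if `k` centralises `c` -/
theorem back {g w k : G} (hk : k * c = c * k) (h1 : EQ c (k * g * k⁻¹) w) : EQ c (k⁻¹ * w * k) g := by
  obtain ⟨d, hd, h2⟩ := h1
  refine ⟨d⁻¹, inv_mem hd, ?_⟩
  have h3 : d * k = k * d := comm_of hk hd
  have h4 : w = k * g * k⁻¹ * d⁻¹ := by rw [h2]; group
  rw [h4]
  have h5 : d⁻¹ * k = k * d⁻¹ := by rw [inv_mul_eq_iff_eq_mul, ← mul_assoc, h3]; group
  calc k⁻¹ * (k * g * k⁻¹ * d⁻¹) * k = g * k⁻¹ * (d⁻¹ * k) := by group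
    _ = _ := by rw [h5]; group

end EQ

/-- The relations of `X ∘ Z₄`. -/
structure LetE (z f p b e c : G) : Prop where
  ff : f * f = 1
  pp : p * p = 1
  bb : b * b = 1
  ee : e * e = 1
  cc : c * c = z
  zz : z * z = 1
  fz : f * z = z * f
  pz : p * z = z * p
  bz : b * z = z * b
  ez : e * z = z * e
  fc : f * c = c * f
  pc : p * c = c * p
  bc : b * c = c * b
  ec : e * c = c * e
  fp : f * p = p * f
  bf : b * f = f * b * z
  bp : b * p = p * b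
  ef : e * f = f * e
  ep : e * p = p * e * z
  be : b * e = e * b

/-- The action of `κ` modulo `⟨c⟩`. -/
structure KapE (z f p b e c κ : G) : Prop where
  kc : κ * c = c * κ
  kz : κ * z = z * κ
  kf : EQ c (κ * f * κ⁻¹) (f * b * e)
  kp : EQ c (κ * p * κ⁻¹) (p * b)
  kb : EQ c (κ * b * κ⁻¹) p
  ke : EQ c (κ * e * κ⁻¹) (f * p)

namespace LetE

variable {z f p b e c : G} (L : LetE z f p b e c)

include L

theorem zmem : z ∈ zpowers c := by
  rw [← L.cc]; exact mul_mem (mem_zpowers c) (mem_zpowers c)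

theorem absorb (w : G) : EQ c (w * z) w := ⟨z, L.zmem, rfl⟩

theorem zc : z * c = c * z := by rw [← L.cc]; group

theorem kz_of {k : G} (hk : k * c * k⁻¹ = c ∨ k * c * k⁻¹ = z * c) : k * z * k⁻¹ = z := by
  have h1 : k * z * k⁻¹ = (k * c * k⁻¹) * (k * c * k⁻¹) := by rw [← L.cc]; group
  rw [h1]
  rcases hk with h2 | h2 <;> rw [h2]
  · exact L.cc
  · calc z * c * (z * c) = z * (c * z) * c := by group
      _ = z * (z * c) * c := by rw [L.zc]
      _ = (z * z) * (c * c) := by group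
      _ = z := by rw [L.zz, L.cc, one_mul]

theorem cpow_of {k : G} (hk : k * c * k⁻¹ = c ∨ k * c * k⁻¹ = z * c) : k * c * k⁻¹ ∈ zpowers c := by
  rcases hk with h2 | h2 <;> rw [h2]
  · exact mem_zpowers c
  · exact mul_mem L.zmem (mem_zpowers c)

end LetE

namespace KapE

variable {z f p b e c κ : G} (K : KapE z f p b e c κ) (L : LetE z f p b e c)

include K

theorem kci : κ⁻¹ * c = c * κ⁻¹ := by
  rw [inv_mul_eq_iff_eq_mul, ← mul_assoc, K.kc]; group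

theorem kcc : κ * c * κ⁻¹ = c := by rw [K.kc]; group

theorem kcc' : κ⁻¹ * c * κ⁻¹⁻¹ = c := by rw [K.kci]; group

/-- `κ⁻¹ : p ↦ b` -/
theorem ip : EQ c (κ⁻¹ * p * κ⁻¹⁻¹) b := by
  rw [inv_inv]
  exact K.kb.back K.kc

include L

/-- `κ⁻¹ : b ↦ b p` -/
theorem ib : EQ c (κ⁻¹ * b * κ⁻¹⁻¹) (b * p) := by
  have h1 := K.kp.back K.kc
  -- `κ⁻¹ (p b) κ = p`
  have h2 := EQ.mul (c := c) L.pc K.ip (by rw [← inv_inv κ] at h1; simpa using h1 :
    EQ c (κ⁻¹ * (p * b) * κ⁻¹⁻¹) p)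
  have h3 : κ⁻¹ * p * κ⁻¹⁻¹ * (κ⁻¹ * (p * b) * κ⁻¹⁻¹) = κ⁻¹ * b * κ⁻¹⁻¹ := by
    calc κ⁻¹ * p * κ⁻¹⁻¹ * (κ⁻¹ * (p * b) * κ⁻¹⁻¹) = κ⁻¹ * ((p * p) * b) * κ⁻¹⁻¹ := by group
      _ = _ := by rw [L.pp, one_mul]
  rwa [h3] at h2

/-- `κ⁻¹ : f ↦ e b` -/
theorem if_ : EQ c (κ⁻¹ * f * κ⁻¹⁻¹) (e * b) := by
  have h1 := K.ke.back K.kc
  have h1' : EQ c (κ⁻¹ * (f * p) * κ⁻¹⁻¹) e := by rw [inv_inv]; exact h1
  have h2 := EQ.mul (c := c) L.bc h1' K.ip
  have h3 : κ⁻¹ * (f * p) * κ⁻¹⁻¹ * (κ⁻¹ * p * κ⁻¹⁻¹) = κ⁻¹ * f * κ⁻¹⁻¹ := by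
    calc κ⁻¹ * (f * p) * κ⁻¹⁻¹ * (κ⁻¹ * p * κ⁻¹⁻¹) = κ⁻¹ * (f * (p * p)) * κ⁻¹⁻¹ := by group
      _ = _ := by rw [L.pp, mul_one]
  rwa [h3] at h2

/-- `κ⁻¹ : e ↦ p e f` -/
theorem ie : EQ c (κ⁻¹ * e * κ⁻¹⁻¹) (p * e * f) := by
  have h1 : EQ c (κ⁻¹ * (f * b * e) * κ⁻¹⁻¹) f := by rw [inv_inv]; exact K.kf.back K.kc
  -- `κ⁻¹ (f b) κ = (e b) (b p) = e p`
  have h2 := EQ.conj3 (c := c) (EQ.mulc L.bc L.pc) (K.if_ L) (K.ib L)
  have h3 : e * b * (b * p) = e * p := by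
    calc e * b * (b * p) = e * (b * b) * p := by group
      _ = _ := by rw [L.bb, mul_one]
  rw [h3] at h2
  -- inverse of `f b`: `b f`
  have h4 := EQ.conj3 (c := c) (EQ.mulc L.ec L.bc) (K.ib L) (K.if_ L)
  have h5 := EQ.mul (c := c) L.fc h4 h1
  have h6 : κ⁻¹ * (b * f) * κ⁻¹⁻¹ * (κ⁻¹ * (f * b * e) * κ⁻¹⁻¹) = κ⁻¹ * e * κ⁻¹⁻¹ := by
    calc κ⁻¹ * (b * f) * κ⁻¹⁻¹ * (κ⁻¹ * (f * b * e) * κ⁻¹⁻¹) = κ⁻¹ * (b * (f * f) * b * e) * κ⁻¹⁻¹ := by group
      _ = κ⁻¹ * ((b * b) * e) * κ⁻¹⁻¹ := by rw [L.ff]; group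
      _ = _ := by rw [L.bb, one_mul]
  rw [h6] at h5
  have h7 : b * p * (e * b) = p * e := by
    calc b * p * (e * b) = b * p * (b * e) := by rw [L.be]
      _ = b * (p * b) * e := by group
      _ = b * (b * p) * e := by rw [L.bp]
      _ = (b * b) * (p * e) := by group
      _ = _ := by rw [L.bb, one_mul]
  rwa [h7] at h5

/-- **(10.4)**: `δ = κ n κ⁻¹ n κ⁻¹` -/
theorem delta {n : G} (nc : n * c * n⁻¹ = c ∨ n * c * n⁻¹ = z * c) (nf : n * f * n⁻¹ = f) (np : n * p * n⁻¹ = p)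
    (nb : EQ c (n * b * n⁻¹) (b * (f * p))) (ne : EQ c (n * e * n⁻¹) (e * f)) :
    EQ c (κ * (n * (κ⁻¹ * (n * (κ⁻¹ * p * κ⁻¹⁻¹) * n⁻¹) * κ⁻¹⁻¹) * n⁻¹) * κ⁻¹) f ∧
    EQ c (κ * (n * (κ⁻¹ * (n * (κ⁻¹ * f * κ⁻¹⁻¹) * n⁻¹) * κ⁻¹⁻¹) * n⁻¹) * κ⁻¹) (p * f) := by
  have hn := L.cpow_of nc
  have hk : κ * c * κ⁻¹ ∈ zpowers c := by rw [K.kcc]; exact mem_zpowers c
  have hk' : κ⁻¹ * c * κ⁻¹⁻¹ ∈ zpowers c := by rw [K.kcc']; exact mem_zpowers c
  have nf' : EQ c (n * f * n⁻¹) f := EQ.of_eq nf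
  have np' : EQ c (n * p * n⁻¹) p := EQ.of_eq np
  constructor
  · -- `p → b → b f p → (b p)(e b)(b) ...`
    have s1 := K.ip
    have s2 := (s1.conj hn).trans nb
    have s3 := s2.conj hk'
    have t1 := EQ.conj3 (c := c) L.bc (K.if_ L) K.ip
    have t2 := EQ.conj3 (c := c) (EQ.mulc (EQ.mulc L.ec L.bc) L.bc) (K.ib L) t1
    have e1 : b * p * (e * b * b) = b * (p * e) := by
      rw [mul_assoc e, L.bb, mul_one, mul_assoc]
    rw [e1] at t2
    have s4 := s3.trans t2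
    have s5 := s4.conj hn
    have t3 := EQ.conj3 (c := c) (EQ.mulc L.ec L.fc) np' ne
    have t4 := EQ.conj3 (c := c) (EQ.mulc L.pc (EQ.mulc L.ec L.fc)) nb t3
    -- `b f p p e f`
    have e2 : b * (f * p) * (p * (e * f)) = b * e := by
      calc b * (f * p) * (p * (e * f)) = b * f * (p * p) * (e * f) := by group
        _ = b * f * (f * e) := by rw [L.pp, mul_one, L.ef]
        _ = b * (f * f) * e := by group
        _ = _ := by rw [L.ff, mul_one]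
    rw [e2] at t4
    have s6 := (s5.trans t4).conj hk
    have t5 := EQ.conj3 (c := c) (EQ.mulc L.fc L.pc) K.kb K.ke
    have e3 : p * (f * p) = f := by
      calc p * (f * p) = (p * f) * p := by group
        _ = f * (p * p) := by rw [← L.fp]; group
        _ = f := by rw [L.pp, mul_one]
    rw [e3] at t5
    exact s6.trans t5
  · have s1 := K.if_ L
    have s2 := s1.conj hn
    have t1 := EQ.conj3 (c := c) (EQ.mulc L.bc (EQ.mulc L.fc L.pc)) ne nb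
    -- `e f b f p`
    have e1 : e * f * (b * (f * p)) = e * b * p * z := by
      calc e * f * (b * (f * p)) = e * f * (b * f) * p := by group
        _ = e * f * (f * b * z) * p := by rw [L.bf]
        _ = e * (f * f) * b * (z * p) := by group
        _ = _ := by rw [L.ff, ← L.pz]; group
    rw [e1] at t1
    have s3 := (s2.trans (t1.trans (L.absorb _))).conj hk'
    have t2 := EQ.conj3 (c := c) L.bc (EQ.conj3 (c := c) (EQ.mulc L.bc L.pc) (K.ie L) (K.ib L)) K.ip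
    -- `p e f b p b`
    have e2 : p * e * f * (b * p) * b = p * (e * (f * p)) := by
      calc p * e * f * (b * p) * b = p * e * f * (p * b) * b := by rw [L.bp]
        _ = p * e * (f * p) * (b * b) := by group
        _ = _ := by rw [L.bb]; group
    rw [e2] at t2
    have e3 : p * (e * (f * p)) = e * f * z := by
      have e4 : p * e = e * p * z := by
        rw [L.ep, mul_assoc, L.zz, mul_one]
      calc p * (e * (f * p)) = (p * e) * (f * p) := by group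
        _ = e * p * (z * (f * p)) := by rw [e4]; group
        _ = e * p * (f * (p * z)) := by
          have : z * (f * p) = f * (p * z) := by
            rw [← mul_assoc, ← L.fz, mul_assoc, ← L.pz]
          rw [this]
        _ = e * (p * f) * (p * z) := by group
        _ = e * (f * p) * (p * z) := by rw [L.fp]
        _ = e * f * (p * p) * z := by group
        _ = _ := by rw [L.pp, mul_one]
    rw [e3] at t2
    have s4 := (s3.trans (t2.trans (L.absorb _))).conj hn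
    have t3 := EQ.conj3 (c := c) L.fc ne nf'
    have e5 : e * f * f = e := by rw [mul_assoc, L.ff, mul_one]
    rw [e5] at t3
    have s5 := (s4.trans t3).conj hk
    have s6 := s5.trans K.ke
    rwa [L.fp] at s6

/-- **(10.5)**: `γ = κ n κ` -/
theorem gamma {n : G} (nc : n * c * n⁻¹ = c ∨ n * c * n⁻¹ = z * c) (nf : n * f * n⁻¹ = f) (np : n * p * n⁻¹ = p)
    (nb : EQ c (n * b * n⁻¹) (b * f)) (ne : EQ c (n * e * n⁻¹) e) :
    EQ c (κ * (n * (κ * f * κ⁻¹) * n⁻¹) * κ⁻¹) f ∧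
    EQ c (κ * (n * (κ * p * κ⁻¹) * n⁻¹) * κ⁻¹) (f * e) ∧
    EQ c (κ * (n * (κ * e * κ⁻¹) * n⁻¹) * κ⁻¹) (f * p * e) := by
  have hn := L.cpow_of nc
  have hk : κ * c * κ⁻¹ ∈ zpowers c := by rw [K.kcc]; exact mem_zpowers c
  have nf' : EQ c (n * f * n⁻¹) f := EQ.of_eq nf
  have np' : EQ c (n * p * n⁻¹) p := EQ.of_eq np
  refine ⟨?_, ?_, ?_⟩
  · have s1 := K.kf.conj hn
    have t1 := EQ.conj3 (c := c) L.ec (EQ.conj3 (c := c) (EQ.mulc L.bc L.fc) nf' nb) ne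
    -- `f b f e`
    have e1 : f * (b * f) * e = b * e * z := by
      calc f * (b * f) * e = f * (f * b * z) * e := by rw [L.bf]
        _ = (f * f) * b * (z * e) := by group
        _ = _ := by rw [L.ff, one_mul, ← L.ez]; group
    rw [e1] at t1
    have s2 := (s1.trans (t1.trans (L.absorb _))).conj hk
    have t2 := EQ.conj3 (c := c) (EQ.mulc L.fc L.pc) K.kb K.ke
    have e2 : p * (f * p) = f := by
      calc p * (f * p) = (p * f) * p := by group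
        _ = f * (p * p) := by rw [← L.fp]; group
        _ = f := by rw [L.pp, mul_one]
    rw [e2] at t2
    exact s2.trans t2
  · have s1 := K.kp.conj hn
    have t1 := EQ.conj3 (c := c) (EQ.mulc L.bc L.fc) np' nb
    have s2 := (s1.trans t1).conj hk
    have t2 := EQ.conj3 (c := c) (EQ.mulc L.pc (EQ.mulc (EQ.mulc L.fc L.bc) L.ec)) K.kp
      (EQ.conj3 (c := c) (EQ.mulc (EQ.mulc L.fc L.bc) L.ec) K.kb K.kf)
    -- `p b p f b e`
    have e1 : p * b * (p * (f * b * e)) = f * e * z := by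
      calc p * b * (p * (f * b * e)) = p * (b * p) * (f * b * e) := by group
        _ = (p * p) * b * (f * b * e) := by rw [L.bp]; group
        _ = (b * f) * b * e := by rw [L.pp]; group
        _ = f * b * (z * b) * e := by rw [L.bf]; group
        _ = f * b * (b * z) * e := by rw [L.bz]
        _ = f * (b * b) * (z * e) := by group
        _ = _ := by rw [L.bb, ← L.ez]; group
    rw [e1] at t2
    exact s2.trans (t2.trans (L.absorb _))
  · have s1 := K.ke.conj hn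
    have t1 := EQ.conj3 (c := c) L.pc nf' np'
    have s2 := (s1.trans t1).conj hk
    have t2 := EQ.conj3 (c := c) (EQ.mulc L.pc L.bc) K.kf K.kp
    -- `f b e p b`
    have e1 : f * b * e * (p * b) = f * p * e * z := by
      calc f * b * e * (p * b) = f * b * (e * p) * b := by group
        _ = f * b * (p * e * z) * b := by rw [L.ep]
        _ = f * (b * p) * e * (z * b) := by group
        _ = f * (p * b) * e * (b * z) := by rw [L.bp, L.bz]
        _ = f * p * b * (e * b) * z := by group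
        _ = f * p * b * (b * e) * z := by rw [L.be]
        _ = f * p * (b * b) * e * z := by group
        _ = _ := by rw [L.bb, mul_one]
    rw [e1] at t2
    exact s2.trans (t2.trans (L.absorb _))

end KapE

namespace NT

variable {S : Sylow 2 G} {A U Y : Subgroup G} {z p2 p3 f x e t t2 t3 b : G}
  (h : NT S A U Y z p2 p3 f x e t t2 t3 b)

include h

theorem pU {p : G} (hp : p = p2 ∨ p = p3) : p ∈ U := by
  rcases hp with rfl | rfl
  exacts [h.p2U, h.p3U]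

theorem ep {p : G} (hp : p = p2 ∨ p = p3) : e * p * e⁻¹ = z * p := by
  rcases hp with rfl | rfl
  · rw [h.ep2, h.zp2]
  · rw [h.ep3, ← h.zp2, ← mul_assoc, h.sqA h.fr.zA, one_mul]

theorem pne {p : G} (hp : p = p2 ∨ p = p3) : p ≠ 1 ∧ p ≠ z := by
  rcases hp with rfl | rfl
  exacts [⟨h.p2ne, h.p2z⟩, ⟨h.p3ne, h.p3z⟩]

/-- the relations of `X ∘ Z₄` -/
theorem letp [Finite G] {p : G} (hp : p = p2 ∨ p = p3) : LetE z f p b e (t * f) := by
  have hpU := h.pU hp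
  have hpA := h.fr.UA hpU
  have hzS := h.fr.zc
  obtain ⟨-, hb, he⟩ := mem_CC.1 h.tf_CC
  have tfY := Y.mul_mem h.tY h.fY
  exact
    { ff := h.sqA h.fr.fA
      pp := h.sqA hpA
      bb := h.bb
      ee := h.ee
      cc := h.tf_sq
      zz := h.sqA h.fr.zA
      fz := h.fr.commA h.fr.fA h.fr.zA
      pz := h.fr.commA hpA h.fr.zA
      bz := hzS b h.bQ.1
      ez := hzS e h.fr.sS
      fc := h.comm f h.fY _ tfY
      pc := h.comm p (h.AY hpA) _ tfY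
      bc := conj_comm.1 hb
      ec := conj_comm.1 he
      fp := h.fr.commA h.fr.fA hpA
      bf := by
        have h1 := mul_inv_eq_iff_eq_mul.1 h.bf
        rw [h1, mul_assoc, mul_assoc, hzS b h.bQ.1]
      bp := h.fr.Q_comm h.bQ hpU
      ef := conj_comm.1 (Eone.s_f h.fr)
      ep := by
        have h1 := mul_inv_eq_iff_eq_mul.1 (h.ep hp)
        rw [h1, mul_assoc, mul_assoc, hzS e h.fr.sS, ← mul_assoc, ← mul_assoc, h.fr.commA h.fr.zA hpA]
      be := h.be }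

/-- `C_A(e) = ⟨z, f⟩` -/
theorem fix_eA [Finite G] {a : G} (ha : a ∈ A) (he : e * a * e⁻¹ = a) : a = 1 ∨ a = z ∨ a = f ∨ a = f * z := by
  rcases h.fr.mem_A ha with h1 | h1
  · rcases Eone.fix_s h.fr h1 he with h2 | h2
    · exact Or.inl h2
    · exact Or.inr (Or.inl h2)
  · have h2 : e * (f * a) * e⁻¹ = f * a := by
      have h3 : e * (f * a) * e⁻¹ = (e * f * e⁻¹) * (e * a * e⁻¹) := by group
      rw [h3, he, Eone.s_f h.fr]
    have h4 : a = f * (f * a) := by rw [← mul_assoc, h.sqA h.fr.fA, one_mul]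
    rcases Eone.fix_s h.fr h1 h2 with h3 | h3
    · right; right; left
      rw [h4, h3, mul_one]
    · right; right; right
      rw [h4, h3]

theorem sqY_A {y : G} (hy : y ∈ Y) : y * y ∈ A := by
  rcases h.sq_cases hy with e | e | e | e <;> rw [e]
  exacts [A.one_mem, h.fr.zA, h.fr.UA h.p2U, h.fr.UA h.p3U]

theorem Y_sq_one [Finite G] {y : G} (hy : y ∈ Y) (h1 : y * y = 1) : y ∈ A := h.fr.mem_A_of_sq (h.YT hy) h1

/-- `y ∈ Y₀` fixed by `e` modulo `A` lies in `⟨t⟩A` -/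
theorem sq_of_fix {y : G} (hy : y ∈ Y) {a : G} (ha : a ∈ A) (h1 : e * y * e⁻¹ = a * y) :
    y * y = 1 ∨ y * y = z := by
  apply h.sq_of_mul_e hy
  rw [h1]
  have h2 : y * (a * y) = a * (y * y) := by
    rw [← mul_assoc, h.comm y hy a (h.AY ha), mul_assoc]
  rw [h2]
  exact A.mul_mem ha (h.sqY_A hy)

/-- (10.1), first part -/
theorem first [Finite G] {n : G} (hn : n ∈ h.Gd) (hne : n * e * n⁻¹ * e⁻¹ ∈ Y) :
    ∃ m ∈ h.Gd, (∃ y ∈ Y, m = n * y) ∧ e * m * e⁻¹ * m⁻¹ ∈ A := by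
  have ei : e⁻¹ = e := inv_eq_of_mul_eq_one_left h.ee
  obtain ⟨w, hw⟩ : ∃ w, w = e * n * e⁻¹ * n⁻¹ := ⟨_, rfl⟩
  have hwY : w ∈ Y := by
    have h1 : w = (n * e * n⁻¹ * e⁻¹)⁻¹ := by rw [hw]; group
    rw [h1]; exact Y.inv_mem hne
  have hew : e * w * e⁻¹ = w⁻¹ := by
    have h1 : w⁻¹ = n * e * n⁻¹ * e⁻¹ := by rw [hw]; group
    rw [h1, hw]
    calc e * (e * n * e⁻¹ * n⁻¹) * e⁻¹ = (e * e) * n * e⁻¹ * n⁻¹ * e⁻¹ := by group
      _ = _ := by rw [h.ee, one_mul, ei]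
  have hww := h.sq_of_mul_e hwY (by rw [hew, mul_inv_cancel]; exact A.one_mem)
  rcases hww with h1 | h1
  · exact ⟨n, hn, ⟨1, Y.one_mem, by rw [mul_one]⟩, by rw [← hw]; exact h.Y_sq_one hwY h1⟩
  · refine ⟨n * t2, mul_mem hn (h.Y_le_Gd h.t2Y), ⟨t2, h.t2Y, rfl⟩, ?_⟩
    have h2 : e * (n * t2) * e⁻¹ * (n * t2)⁻¹ = w * (n * (t3 * t2⁻¹) * n⁻¹) := by
      rw [hw, ← h.et2]; group
    have h3 : t3 * t2⁻¹ ∈ Y := Y.mul_mem h.t3Y (Y.inv_mem h.t2Y)
    have h4 : n * (t3 * t2⁻¹) * n⁻¹ ∈ Y := mem_norm (h.nT hn.1) h3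
    rw [h2]
    apply h.Y_sq_one (Y.mul_mem hwY h4)
    rw [h.sqK hwY h4, h1]
    have h5 : n * (t3 * t2⁻¹) * n⁻¹ * (n * (t3 * t2⁻¹) * n⁻¹) = n * ((t3 * t2⁻¹) * (t3 * t2⁻¹)) * n⁻¹ := by
      group
    have h6 : (t3 * t2⁻¹) * (t3 * t2⁻¹) = z := by
      rw [h.sqK h.t3Y (Y.inv_mem h.t2Y), h.tt3]
      have : t2⁻¹ * t2⁻¹ = (t2 * t2)⁻¹ := by group
      rw [this, h.tt2, h.fr.invA (h.fr.UA h.p2U), h.p3p2]
    rw [h5, h6, Tc hn.1 h.fr.zA, mul_inv_cancel_right]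
    exact h.sqA h.fr.zA

theorem zpow_cases {d : G} (hd : d ∈ zpowers (t * f)) (h1 : d * d = 1) : d = 1 ∨ d = z := by
  have hc := h.tf_sq
  have hz := h.sqA h.fr.zA
  obtain ⟨i, rfl⟩ := mem_zpowers_iff.1 hd
  have h2 : ∀ k : ℤ, (t * f) ^ (2 * k) = 1 ∨ (t * f) ^ (2 * k) = z := by
    intro k
    rw [zpow_mul, zpow_two, hc]
    have h3 : z ^ k ∈ zpowers z := zpow_mem (mem_zpowers z) k
    exact zpowers_cases hz _ h3
  obtain ⟨k, hk | hk⟩ := Int.even_or_odd' i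
  · rw [hk]; exact h2 k
  · exfalso
    rw [hk, zpow_add, zpow_one] at h1
    have h3 : (t * f) ^ (2 * k) * (t * f) * ((t * f) ^ (2 * k) * (t * f)) =
      ((t * f) ^ (2 * k) * (t * f) ^ (2 * k)) * ((t * f) * (t * f)) := by
      have h4 := ((Commute.refl (t * f)).zpow_right (2 * k)).eq
      generalize (t * f) ^ (2 * k) = q at *
      calc q * (t * f) * (q * (t * f)) = q * ((t * f) * q) * (t * f) := by group
        _ = _ := by rw [h4]; group
    rw [h3, hc] at h1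
    rcases h2 k with h5 | h5 <;> rw [h5] at h1
    · rw [one_mul, one_mul] at h1
      exact h.fr.z1 h1
    · rw [hz, one_mul] at h1
      exact h.fr.z1 h1

/-- **(10.4)** -/
theorem false_of_one [Finite G] {p κ n : G} (hp : p = p2 ∨ p = p3) (K : KapE z f p b e (t * f) κ)
    (hn : n ∈ TT S A) (nc : n * (t * f) * n⁻¹ = t * f ∨ n * (t * f) * n⁻¹ = z * (t * f))
    (nb : EQ (t * f) (n * b * n⁻¹) (b * (f * p))) (ne : EQ (t * f) (n * e * n⁻¹) (e * f)) : False := by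
  have L := h.letp hp
  have hpU := h.pU hp
  have hpA := h.fr.UA hpU
  have tfY := Y.mul_mem h.tY h.fY
  have hcY : zpowers (t * f) ≤ Y := by rw [zpowers_le]; exact tfY
  have nf : n * f * n⁻¹ = f := by rw [Tc hn h.fr.fA]; group
  have np : n * p * n⁻¹ = p := by rw [Tc hn hpA]; group
  obtain ⟨h1, h2⟩ := K.delta L nc nf np nb ne
  obtain ⟨δ, hδ⟩ : ∃ δ, δ = κ * n * κ⁻¹ * n * κ⁻¹ := ⟨_, rfl⟩
  have e1 : ∀ a : G, κ * (n * (κ⁻¹ * (n * (κ⁻¹ * a * κ⁻¹⁻¹) * n⁻¹) * κ⁻¹⁻¹) * n⁻¹) * κ⁻¹ = δ * a * δ⁻¹ := by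
    intro a; rw [hδ]; group
  rw [e1] at h1 h2
  have hδz : δ * z * δ⁻¹ = z := by
    have h3 : κ * z * κ⁻¹ = z := conj_comm.2 K.kz
    have h4 : κ⁻¹ * z * κ⁻¹⁻¹ = z := by
      rw [inv_inv]
      nth_rewrite 1 [← h3]; group
    have h5 : n * z * n⁻¹ = z := by rw [Tc hn h.fr.zA]; group
    rw [← e1, h4, h5, h4, h5, h3]
  -- `δ` normalises `A`
  have hδY : ∀ a ∈ A, δ * a * δ⁻¹ ∈ Y := by
    have hfY : δ * f * δ⁻¹ ∈ Y := by
      obtain ⟨d, hd, h3⟩ := h2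
      rw [h3]; exact Y.mul_mem (Y.mul_mem (h.AY hpA) h.fY) (hcY hd)
    have hpY : δ * p * δ⁻¹ ∈ Y := by
      obtain ⟨d, hd, h3⟩ := h1
      rw [h3]; exact Y.mul_mem h.fY (hcY hd)
    have hzY : δ * z * δ⁻¹ ∈ Y := by rw [hδz]; exact h.zY
    have hmul : ∀ a a' : G, δ * a * δ⁻¹ ∈ Y → δ * a' * δ⁻¹ ∈ Y → δ * (a * a') * δ⁻¹ ∈ Y := by
      intro a a' ha ha'
      have h3 : δ * (a * a') * δ⁻¹ = (δ * a * δ⁻¹) * (δ * a' * δ⁻¹) := by group
      rw [h3]; exact Y.mul_mem ha ha'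
    have hUY : ∀ u ∈ U, δ * u * δ⁻¹ ∈ Y := by
      intro u hu
      rcases h.fr.U_cases' hpU (h.pne hp).1 (h.pne hp).2 u hu with rfl | rfl | rfl | rfl
      · simp
      · exact hzY
      · exact hpY
      · exact hmul _ _ hzY hpY
    intro a ha
    rcases h.fr.mem_A ha with h3 | h3
    · exact hUY a h3
    · have h4 : a = f * (f * a) := by rw [← mul_assoc, h.sqA h.fr.fA, one_mul]
      rw [h4]
      exact hmul _ _ hfY (hUY _ h3)
  have hδA : δ ∈ normalizer (A : Set G) := by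
    refine mem_norm_of_conj fun a ha => h.Y_sq_one (hδY a ha) ?_
    have h3 : δ * a * δ⁻¹ * (δ * a * δ⁻¹) = δ * (a * a) * δ⁻¹ := by group
    rw [h3, h.sqA ha]; group
  have hδU := mem_norm (h.fr.nU hδA) hpU
  obtain ⟨d, hd, h3⟩ := h1
  rw [h3] at hδU
  have hdA : d ∈ A := by
    have h4 : d = f⁻¹ * (f * d) := by group
    rw [h4]; exact A.mul_mem (A.inv_mem h.fr.fA) (h.fr.UA hδU)
  have hdU : d ∈ U := by
    rcases h.zpow_cases hd (h.sqA hdA) with h4 | h4 <;> rw [h4]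
    exacts [U.one_mem, h.fr.zU]
  apply h.fr.fU
  have h4 : f = f * d * d⁻¹ := by group
  rw [h4]; exact U.mul_mem hδU (U.inv_mem hdU)

/-- **(10.1)-(10.4)**: the n-trick, or `n` acts as `b ↦ b f`, `e ↦ e` modulo `⟨t f⟩`. -/
theorem ntrick_or [Finite G] {p κ n : G} (hp : p = p2 ∨ p = p3) (K : KapE z f p b e (t * f) κ)
    (hW : ∀ g ∈ TT S A, (g * b * g⁻¹ = b ∨ g * b * g⁻¹ = z * b) →
      ∃ a ∈ A, g * a ∈ (TT S A ⊓ centralizer ({b, e} : Set G) : Subgroup G))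
    (hn : n ∈ h.Gd) (hne : n * e * n⁻¹ * e⁻¹ ∈ Y) :
    (∃ y ∈ Y, n * y ∈ (TT S A ⊓ centralizer ({b, e} : Set G) : Subgroup G)) ∨
    ∃ m ∈ h.Gd, (∃ y ∈ Y, m = n * y) ∧
      (m * (t * f) * m⁻¹ = t * f ∨ m * (t * f) * m⁻¹ = z * (t * f)) ∧
      (m * e * m⁻¹ = e ∨ m * e * m⁻¹ = z * e) ∧
      (∃ d ∈ zpowers (t * f), m * b * m⁻¹ = b * f * d) ∧
      (∀ a ∈ A, m * b * m⁻¹ ≠ a * b) ∧
      (m * m * (m * m) = 1 ∨ m * m * (m * m) = z) ∧
      (∀ c ∈ (TT S A ⊓ centralizer ({b, e} : Set G) : Subgroup G), m * c * m⁻¹ * c⁻¹ ∈ Y ∧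
        ((m * c * m⁻¹ * c⁻¹) * (m * c * m⁻¹ * c⁻¹) = 1 ∨ (m * c * m⁻¹ * c⁻¹) * (m * c * m⁻¹ * c⁻¹) = z)) := by
  have L := h.letp hp
  have hpU := h.pU hp
  have hpA := h.fr.UA hpU
  have zz := h.sqA h.fr.zA
  have ei : e⁻¹ = e := inv_eq_of_mul_eq_one_left h.ee
  have tfY := Y.mul_mem h.tY h.fY
  have tfi : (t * f) * (t * f) = z := h.tf_sq
  obtain ⟨m, hm, hmn, hwA⟩ := h.first hn hne
  have hmT := hm.1
  obtain ⟨w, hw⟩ : ∃ w, w = e * m * e⁻¹ * m⁻¹ := ⟨_, rfl⟩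
  rw [← hw] at hwA
  have hem : e * m * e⁻¹ = w * m := by rw [hw]; group
  have hwi : w⁻¹ = w := h.fr.invA hwA
  have hmw : m * w = w * m := Tc hmT hwA
  have hme : m * e * m⁻¹ = w * e := by
    have h1 : w⁻¹ * e = m * e * m⁻¹ := by rw [hw]; group
    rw [← h1, hwi]
  have hew : e * w * e⁻¹ = w := by
    have h1 : e * w * e⁻¹ = w⁻¹ := by
      have h1 : w⁻¹ = m * e * m⁻¹ * e⁻¹ := by rw [hw]; group
      rw [h1, hw]
      calc e * (e * m * e⁻¹ * m⁻¹) * e⁻¹ = (e * e) * m * e⁻¹ * m⁻¹ * e⁻¹ := by group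
        _ = _ := by rw [h.ee, one_mul, ei]
    rw [h1, hwi]
  have hwc := h.fix_eA hwA hew
  -- squares
  have hm2 : m * m * (m * m) = 1 ∨ m * m * (m * m) = z := by
    refine h.sq_of_fix hm.2.1 A.one_mem ?_
    have h1 : e * (m * m) * e⁻¹ = (e * m * e⁻¹) * (e * m * e⁻¹) := by group
    rw [h1, hem, one_mul]
    calc w * m * (w * m) = w * (m * w) * m := by group
      _ = (w * w) * (m * m) := by rw [hmw]; group
      _ = _ := by rw [h.sqA hwA, one_mul]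
  have hmc : ∀ c ∈ (TT S A ⊓ centralizer ({b, e} : Set G) : Subgroup G), m * c * m⁻¹ * c⁻¹ ∈ Y ∧
      ((m * c * m⁻¹ * c⁻¹) * (m * c * m⁻¹ * c⁻¹) = 1 ∨ (m * c * m⁻¹ * c⁻¹) * (m * c * m⁻¹ * c⁻¹) = z) := by
    intro c hc
    obtain ⟨hcT, -, hce⟩ := mem_CC.1 hc
    have hY := hm.2.2 c (h.TQ hcT)
    refine ⟨hY, h.sq_of_fix hY A.one_mem ?_⟩
    have h1 : e * (m * c * m⁻¹ * c⁻¹) * e⁻¹ =
        (e * m * e⁻¹) * (e * c * e⁻¹) * (e * m * e⁻¹)⁻¹ * (e * c * e⁻¹)⁻¹ := by group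
    rw [h1, hem, hce, one_mul]
    have h2 : c⁻¹ * w⁻¹ = w⁻¹ * c⁻¹ := Tc (inv_mem hcT) (A.inv_mem hwA)
    have h3 := h.comm w (h.AY hwA) _ hY
    calc w * m * c * (w * m)⁻¹ * c⁻¹ = w * (m * c * m⁻¹) * (w⁻¹ * c⁻¹) := by group
      _ = w * (m * c * m⁻¹ * c⁻¹) * w⁻¹ := by rw [← h2]; group
      _ = _ := by rw [h3]; group
  -- `v = [m, b]`
  obtain ⟨v, hv⟩ : ∃ v, v = m * b * m⁻¹ * b⁻¹ := ⟨_, rfl⟩
  have hvY : v ∈ Y := by rw [hv]; exact hm.2.2 b h.bQ
  have hmb : m * b * m⁻¹ = v * b := by rw [hv]; group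
  have hbm : b * m * b⁻¹ = v⁻¹ * m := by
    have h1 : v⁻¹ * m = b * m * b⁻¹ := by rw [hv]; group
    rw [h1]
  have hvv : v * v = 1 ∨ v * v = z := by
    have hbw : b * w⁻¹ * b⁻¹ * w⁻¹⁻¹ = 1 ∨ b * w⁻¹ * b⁻¹ * w⁻¹⁻¹ = z := h.bA (A.inv_mem hwA)
    refine h.sq_of_fix hvY (a := b * w⁻¹ * b⁻¹ * w⁻¹⁻¹) ?_ ?_
    · rcases hbw with h1 | h1 <;> rw [h1]
      exacts [A.one_mem, h.fr.zA]
    · have hbe : e * b * e⁻¹ = b := by rw [← h.be]; group
      have h1 : e * v * e⁻¹ = (e * m * e⁻¹) * (e * b * e⁻¹) * (e * m * e⁻¹)⁻¹ * (e * b * e⁻¹)⁻¹ := by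
        rw [hv]; group
      rw [h1, hem, hbe]
      have h2 : w * m * b * (w * m)⁻¹ * b⁻¹ = w * v * (b * w⁻¹ * b⁻¹) := by rw [hv]; group
      rw [h2]
      have h3 := h.comm w (h.AY hwA) v hvY
      have h4 : b * w⁻¹ * b⁻¹ ∈ A := mem_norm (h.fr.hyp.norm h.bQ.1) (A.inv_mem hwA)
      have h5 := h.comm v hvY _ (h.AY h4)
      calc w * v * (b * w⁻¹ * b⁻¹) = w * (v * (b * w⁻¹ * b⁻¹)) := by group
        _ = w * (b * w⁻¹ * b⁻¹) * v := by rw [h5]; group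
        _ = (b * w⁻¹ * b⁻¹) * w * v := by rw [h.fr.commA hwA h4]
        _ = _ := by group
  have hvb : v * (b * v * b⁻¹) = 1 := by
    have h1 : (m * b * m⁻¹) * (m * b * m⁻¹) = 1 := by
      have : (m * b * m⁻¹) * (m * b * m⁻¹) = m * (b * b) * m⁻¹ := by group
      rw [this, h.bb]; group
    rw [hmb] at h1
    calc v * (b * v * b⁻¹) = v * b * (v * b) * (b * b)⁻¹ := by group
      _ = 1 := by rw [h1, h.bb]; group
  have hbU := mem_cent_iff.1 h.bQ.2
  rcases hvv with hvv | hvv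
  · -- (10.2)
    left
    have hvA : v ∈ A := h.Y_sq_one hvY hvv
    have hvU : v ∈ U := by
      refine Eone.fix_b h.fr hbU h.bf hvA ?_
      have h1 := eq_inv_of_mul_eq_one_right hvb
      rw [h1, h.fr.invA hvA]
    obtain ⟨y, hy, rfl⟩ := hmn
    have fin : ∀ g, (∃ y' ∈ Y, g = n * y * y') → g ∈ TT S A → (g * b * g⁻¹ = b ∨ g * b * g⁻¹ = z * b) →
        ∃ y ∈ Y, n * y ∈ (TT S A ⊓ centralizer ({b, e} : Set G) : Subgroup G) := by
      rintro g ⟨y', hy', rfl⟩ hgT hg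
      obtain ⟨a, ha, hc⟩ := hW _ hgT hg
      refine ⟨y * y' * a, Y.mul_mem (Y.mul_mem hy hy') (h.AY ha), ?_⟩
      have h1 : n * (y * y' * a) = n * y * y' * a := by group
      rw [h1]; exact hc
    have hv4 := h.fr.U_cases' h.p2U h.p2ne h.p2z v hvU
    have two : (v = p2 ∨ v = p3) → ∃ y ∈ Y, n * y ∈ (TT S A ⊓ centralizer ({b, e} : Set G) : Subgroup G) := by
      intro hv2
      refine fin (n * y * t2) ⟨t2, h.t2Y, rfl⟩ (mul_mem hmT (h.YT h.t2Y)) ?_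
      obtain ⟨β, hβ, hβ2⟩ : ∃ β, (β = p2 ∨ β = p3) ∧ t2 * b * t2⁻¹ = β * b := by
        have h1 : t2 * b * t2⁻¹ = (b * t2 * b⁻¹ * t2⁻¹)⁻¹ * b := by group
        rcases h.bt2 with h2 | h2
        · exact ⟨p2, Or.inl rfl, by rw [h1, h2, h.fr.invA (h.fr.UA h.p2U)]⟩
        · exact ⟨p3, Or.inr rfl, by rw [h1, h2, h.fr.invA (h.fr.UA h.p3U)]⟩
      have hβU : β ∈ U := h.pU hβ
      have h1 : n * y * t2 * b * (n * y * t2)⁻¹ = (β * v) * b := by
        calc n * y * t2 * b * (n * y * t2)⁻¹ = (n * y) * (t2 * b * t2⁻¹) * (n * y)⁻¹ := by group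
          _ = ((n * y) * β) * b * (n * y)⁻¹ := by rw [hβ2]; group
          _ = β * ((n * y) * b * (n * y)⁻¹) := by rw [Tc hmT (h.fr.UA hβU)]; group
          _ = _ := by rw [hmb]; group
      rw [h1]
      rcases hβ with rfl | rfl <;> rcases hv2 with rfl | rfl
      · left; rw [h.sqA (h.fr.UA h.p2U), one_mul]
      · right; rw [h.p2p3]
      · right; rw [h.p3p2]
      · left; rw [h.sqA (h.fr.UA h.p3U), one_mul]
    rcases hv4 with h1 | h1 | h1 | h1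
    · exact fin (n * y) ⟨1, Y.one_mem, by group⟩ hmT (Or.inl (by rw [hmb, h1, one_mul]))
    · exact fin (n * y) ⟨1, Y.one_mem, by group⟩ hmT (Or.inr (by rw [hmb, h1]))
    · exact two (Or.inl h1)
    · exact two (Or.inr (by rw [h1, h.zp2]))
  · -- (10.3)
    right
    obtain ⟨c, hc⟩ : ∃ c, c = t * f := ⟨_, rfl⟩
    have hcY : c ∈ Y := by rw [hc]; exact tfY
    have hcc : c * c = z := by rw [hc]; exact tfi
    have hcb : b * c * b⁻¹ = c := by rw [hc]; exact (mem_CC.1 h.tf_CC).2.1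
    have hce : e * c * e⁻¹ = c := by rw [hc]; exact (mem_CC.1 h.tf_CC).2.2
    -- `a = c v`
    obtain ⟨a, ha⟩ : ∃ a, a = c * v := ⟨_, rfl⟩
    have haA : a ∈ A := by
      refine h.Y_sq_one (by rw [ha]; exact Y.mul_mem hcY hvY) ?_
      rw [ha, h.sqK hcY hvY, hcc, hvv, zz]
    have hva : v = c⁻¹ * a := by rw [ha]; group
    have hci : c⁻¹ = z * c := by
      rw [inv_eq_iff_mul_eq_one, ← mul_assoc, h.comm c hcY z h.zY, mul_assoc, hcc, zz]
    have hba : b * a * b⁻¹ = z * a := by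
      have h1 : b * v * b⁻¹ = c⁻¹ * (b * a * b⁻¹) := by
        have h2 : b * v * b⁻¹ = (b * c * b⁻¹)⁻¹ * (b * a * b⁻¹) := by rw [hva]; group
        rw [h2, hcb]
      rw [h1, hva] at hvb
      have h2 : b * a * b⁻¹ ∈ A := mem_norm (h.fr.hyp.norm h.bQ.1) haA
      have h3 := h.comm a (h.AY haA) _ (Y.inv_mem hcY)
      have h4 : c⁻¹ * a * (c⁻¹ * (b * a * b⁻¹)) = (c * c)⁻¹ * (a * (b * a * b⁻¹)) := by
        calc c⁻¹ * a * (c⁻¹ * (b * a * b⁻¹)) = c⁻¹ * (a * c⁻¹) * (b * a * b⁻¹) := by group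
          _ = _ := by rw [h3]; group
      rw [h4, hcc, h.fr.zi] at hvb
      -- `z a (b a b⁻¹) = 1`
      have h5 : b * a * b⁻¹ = (z * a)⁻¹ := by
        rw [← mul_assoc] at hvb
        exact eq_inv_of_mul_eq_one_right hvb
      rw [h5, h.fr.invA (A.mul_mem h.fr.zA haA)]
    have hfa : f * a ∈ U := by
      rcases h.fr.mem_A haA with h1 | h1
      · exfalso
        rw [hbU a h1, mul_inv_cancel_right] at hba
        exact h.fr.z1 (mul_eq_right.1 hba.symm)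
      · exact h1
    obtain ⟨u, hu⟩ : ∃ u, u = f * a := ⟨_, rfl⟩
    rw [← hu] at hfa
    have hau : a = f * u := by rw [hu, ← mul_assoc, h.sqA h.fr.fA, one_mul]
    have hmb' : m * b * m⁻¹ = c⁻¹ * (f * u) * b := by rw [hmb, hva, hau]
    -- `[m, c] ∈ ⟨z⟩`
    have nc : m * c * m⁻¹ = c ∨ m * c * m⁻¹ = z * c := by
      have h1 : m * c * m⁻¹ * c⁻¹ ∈ A := h.QY m (h.TQ hmT) c hcY
      have h2 : b * (m * c * m⁻¹ * c⁻¹) * b⁻¹ = m * c * m⁻¹ * c⁻¹ := by
        have h3 : b * (m * c * m⁻¹ * c⁻¹) * b⁻¹ =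
            (b * m * b⁻¹) * (b * c * b⁻¹) * (b * m * b⁻¹)⁻¹ * (b * c * b⁻¹)⁻¹ := by group
        rw [h3, hbm, hcb]
        have h4 : m * c * m⁻¹ ∈ Y := mem_norm (h.nT hmT) hcY
        have h5 := h.comm _ (Y.inv_mem hvY) _ h4
        calc v⁻¹ * m * c * (v⁻¹ * m)⁻¹ * c⁻¹ = (v⁻¹ * (m * c * m⁻¹)) * v * c⁻¹ := by group
          _ = _ := by rw [h5]; group
      have h3 : e * (m * c * m⁻¹ * c⁻¹) * e⁻¹ = m * c * m⁻¹ * c⁻¹ := by
        have h3 : e * (m * c * m⁻¹ * c⁻¹) * e⁻¹ =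
            (e * m * e⁻¹) * (e * c * e⁻¹) * (e * m * e⁻¹)⁻¹ * (e * c * e⁻¹)⁻¹ := by group
        rw [h3, hem, hce]
        have h4 : m * c * m⁻¹ ∈ Y := mem_norm (h.nT hmT) hcY
        have h5 := h.comm _ (h.AY hwA) _ h4
        calc w * m * c * (w * m)⁻¹ * c⁻¹ = (w * (m * c * m⁻¹)) * w⁻¹ * c⁻¹ := by group
          _ = _ := by rw [h5]; group
      rcases h.cA h1 h2 h3 with h4 | h4
      · left; exact mul_inv_eq_one.1 h4
      · right; exact mul_inv_eq_iff_eq_mul.1 h4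
    have hbc : b * c = c * b := conj_comm.1 hcb
    have huc : u * c = c * u := h.comm u (h.UY hfa) c hcY
    have hfc : f * c = c * f := h.comm f h.fY c hcY
    have hform : c⁻¹ * (f * u) * b = (f * u * b) * c⁻¹ := by
      have h1 : (f * u * b) * c = c * (f * u * b) := EQ.mulc (EQ.mulc hfc huc) hbc
      have h2 : (f * u * b) * c⁻¹ = c⁻¹ * (f * u * b) := by
        rw [eq_inv_mul_iff_mul_eq, ← mul_assoc, ← h1]; group
      rw [h2]; group
    have hfz : f * z = z * f := h.fr.commA h.fr.fA h.fr.zA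
    -- `f u b = b f u z`
    have hfub : f * u * b = b * f * u * z := by
      have h1 : b * (f * u) * b⁻¹ = z * (f * u) := by rw [← hau]; exact hba
      have h2 : b * (f * u) = z * (f * u) * b := mul_inv_eq_iff_eq_mul.1 h1
      have h3 : f * u * b = z * (b * (f * u)) := by
        rw [h2]
        calc f * u * b = (z * z) * (f * u * b) := by rw [zz, one_mul]
          _ = _ := by group
      have h4 : z * (b * (f * u)) = b * f * u * z := by
        have h5 : b * z = z * b := h.fr.zc b h.bQ.1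
        calc z * (b * (f * u)) = (z * b) * (f * u) := by group
          _ = b * (z * (f * u)) := by rw [← h5]; group
          _ = b * ((f * u) * z) := by rw [h.fr.commA h.fr.zA (A.mul_mem h.fr.fA (h.fr.UA hfa))]
          _ = _ := by group
      rw [h3, h4]
    have hEb : ∀ r s : G, (s = 1 ∨ s = z) → u = r * s → EQ (t * f) (m * b * m⁻¹) (b * f * r) := by
      intro r s' hs hur
      refine ⟨s' * z * c⁻¹, ?_, ?_⟩
      · have h1 : z ∈ zpowers (t * f) := L.zmem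
        have h2 : c⁻¹ ∈ zpowers (t * f) := by rw [hc]; exact inv_mem (mem_zpowers _)
        refine mul_mem (mul_mem ?_ h1) h2
        rcases hs with rfl | rfl
        exacts [one_mem _, h1]
      · rw [hmb', hform, hfub, hur]; group
    have hEb' := hEb
    have ucase : (u = 1 ∨ u = z) ∨ (u = p ∨ u = z * p) := by
      rcases h.fr.U_cases' hpU (h.pne hp).1 (h.pne hp).2 u hfa with h1 | h1 | h1 | h1
      exacts [Or.inl (Or.inl h1), Or.inl (Or.inr h1), Or.inr (Or.inl h1), Or.inr (Or.inr h1)]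
    -- the relation `[b^n, e^n] = 1`
    have hrel : (v * b) * (w * e) = (w * e) * (v * b) := by
      rw [← hmb, ← hme]
      calc m * b * m⁻¹ * (m * e * m⁻¹) = m * (b * e) * m⁻¹ := by group
        _ = m * (e * b) * m⁻¹ := by rw [h.be]
        _ = _ := by group
    have heve : e * v * e⁻¹ = c⁻¹ * (f * (e * u * e⁻¹)) := by
      have h1 : e * v * e⁻¹ = (e * c * e⁻¹)⁻¹ * ((e * f * e⁻¹) * (e * u * e⁻¹)) := by
        rw [hva, hau]; group
      rw [h1, hce, Eone.s_f h.fr]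
    have hrel2 : v * (b * w * b⁻¹) = w * (e * v * e⁻¹) := by
      have h1 : v * (b * w * b⁻¹) * (b * e) = (v * b) * (w * e) := by group
      have h2 : w * (e * v * e⁻¹) * (e * b) = (w * e) * (v * b) := by group
      have h3 : v * (b * w * b⁻¹) * (b * e) = w * (e * v * e⁻¹) * (b * e) := by
        rw [h1, hrel, ← h2, h.be]
      exact mul_right_cancel h3
    have hrel3 : v * (b * w * b⁻¹ * w⁻¹) = e * v * e⁻¹ := by
      have h1 : e * v * e⁻¹ ∈ Y := mem_norm (h.nS h.fr.sS) hvY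
      rw [h.comm w (h.AY hwA) _ h1] at hrel2
      calc v * (b * w * b⁻¹ * w⁻¹) = v * (b * w * b⁻¹) * w⁻¹ := by group
        _ = _ := by rw [hrel2]; group
    rw [heve, hva, hau] at hrel3
    have hrel4 : u * (b * w * b⁻¹ * w⁻¹) = e * u * e⁻¹ := by
      have h1 : c⁻¹ * (f * u) * (b * w * b⁻¹ * w⁻¹) = c⁻¹ * (f * (u * (b * w * b⁻¹ * w⁻¹))) := by group
      rw [h1] at hrel3
      exact mul_left_cancel (mul_left_cancel hrel3)
    have hezz : e * z * e⁻¹ = z := h.fr.zSc h.fr.sS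
    have hbzz : b * z * b⁻¹ = z := h.fr.zSc h.bQ.1
    -- the value of `[b, w]`
    have hw1 : w = 1 ∨ w = z → b * w * b⁻¹ * w⁻¹ = 1 := by
      rintro (rfl | rfl)
      · group
      · rw [hbzz]; group
    have hw2 : w = f ∨ w = f * z → b * w * b⁻¹ * w⁻¹ = z := by
      rintro (rfl | rfl)
      · rw [h.bf, hfz]; group
      · have h1 : b * (f * z) * b⁻¹ = (b * f * b⁻¹) * (b * z * b⁻¹) := by group
        rw [h1, h.bf, hbzz]
        calc f * z * z * (f * z)⁻¹ = f * (z * z) * z⁻¹ * f⁻¹ := by group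
          _ = (f * z) * f⁻¹ := by rw [zz, h.fr.zi]; group
          _ = z := by rw [hfz]; group
    have hu1 : u = 1 ∨ u = z → e * u * e⁻¹ = u := by
      rintro (rfl | rfl)
      · group
      · exact hezz
    have hu2 : u = p ∨ u = z * p → e * u * e⁻¹ = z * u := by
      rintro (rfl | rfl)
      · exact h.ep hp
      · have h1 : e * (z * p) * e⁻¹ = (e * z * e⁻¹) * (e * p * e⁻¹) := by group
        rw [h1, hezz, h.ep hp]
    have hwcase : (w = 1 ∨ w = z) ∨ (w = f ∨ w = f * z) := by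
      rcases hwc with h1 | h1 | h1 | h1
      exacts [Or.inl (Or.inl h1), Or.inl (Or.inr h1), Or.inr (Or.inl h1), Or.inr (Or.inr h1)]
    rw [hc] at nc
    rcases hwcase with hw0 | hw0 <;> rcases ucase with hu0 | hu0
    · -- `eps = 0`
      refine ⟨m, hm, hmn, nc, ?_, ?_, ?_, hm2, hmc⟩
      · rcases hw0 with h1 | h1 <;> rw [hme, h1]
        · left; rw [one_mul]
        · right; rfl
      · have h1 : EQ (t * f) (m * b * m⁻¹) (b * f * 1) := hEb 1 u hu0 (by rw [one_mul])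
        obtain ⟨d, hd, h2⟩ := h1
        exact ⟨d, hd, by rw [h2, mul_one]⟩
      · intro a' ha' h1
        rw [hmb] at h1
        have h2 : v = a' := mul_right_cancel h1
        have h3 := h.sqA ha'
        rw [← h2, hvv] at h3
        exact h.fr.z1 h3
    · exfalso
      rw [hw1 hw0, mul_one, hu2 hu0] at hrel4
      exact h.fr.z1 (mul_eq_right.1 hrel4.symm)
    · exfalso
      rw [hw2 hw0, hu1 hu0] at hrel4
      exact h.fr.z1 (mul_eq_left.1 hrel4)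
    · exfalso
      refine h.false_of_one hp K hmT nc ?_ ?_
      · have hzp : z * p = p * z := h.fr.commA h.fr.zA hpA
        have h1 : EQ (t * f) (m * b * m⁻¹) (b * f * p) := by
          rcases hu0 with h1 | h1
          · exact hEb p 1 (Or.inl rfl) (by rw [h1, mul_one])
          · exact hEb p z (Or.inr rfl) (by rw [h1, hzp])
        rwa [mul_assoc b f p] at h1
      · rw [hme]
        have hez : e * z = z * e := h.fr.zc e h.fr.sS
        rcases hw0 with h1 | h1 <;> rw [h1]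
        · exact EQ.of_eq L.ef.symm
        · have h2 : f * z * e = e * f * z := by
            rw [L.ef, mul_assoc, ← hez, ← mul_assoc]
          rw [h2]
          exact L.absorb _

end NT

namespace Kap

variable {S : Sylow 2 G} {A U : Subgroup G} {z f x e : G} {Y : Subgroup G} {t b : G} {P W : Subgroup G}
  {κ : G} (K : Kap S A U z f x e Y t b P W κ)

include K

/-- the elements `g ∈ T` with `[g, b] ∈ ⟨z⟩` lie in `A C` -/
theorem hW [Finite G] (hPS : P ≤ (S : Subgroup G)) (cardW : Nat.card W = 8) (UW : U ≤ W)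
    (F1 : ∀ g ∈ (S : Subgroup G), (∀ w ∈ W, g * w * g⁻¹ = w ∨ g * w * g⁻¹ = z * w) → g ∈ P) :
    ∀ g ∈ TT S A, (g * b * g⁻¹ = b ∨ g * b * g⁻¹ = z * b) →
      ∃ a ∈ A, g * a ∈ (TT S A ⊓ centralizer ({b, e} : Set G) : Subgroup G) := by
  intro g hg hgb
  have hF := K.ci.yz.fr
  have hbf := K.ci.bf
  have hbQ := K.ci.bQ
  have hgU : ∀ u ∈ U, g * u * g⁻¹ = u := fun u hu => by rw [NT.Tc hg (hF.UA hu)]; group
  have hbA : b ∉ A := by
    intro h1
    have h2 : b * f * b⁻¹ = f := by rw [hF.commA h1 hF.fA]; group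
    rw [hbf] at h2
    exact hF.z1 (mul_eq_left.1 h2)
  have hbT : b ∉ TT S A := by
    intro h1
    have h2 : b * f * b⁻¹ = f := by rw [NT.Tc h1 hF.fA]; group
    rw [hbf] at h2
    exact hF.z1 (mul_eq_left.1 h2)
  have hgP : g ∈ P := by
    refine F1 g hg.1 fun w hw => ?_
    by_cases hwU : w ∈ U
    · exact Or.inl (hgU w hwU)
    · have h1 : b * w ∈ U := mul_mem_of_index_two UW (by rw [cardW, hF.cardU]) K.bW hw
        (fun h2 => hbA (hF.UA h2)) hwU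
      have h2 : w = b * (b * w) := by rw [← mul_assoc, K.ci.bb, one_mul]
      have h3 : g * w * g⁻¹ = (g * b * g⁻¹) * (g * (b * w) * g⁻¹) := by
        nth_rewrite 1 [h2]; group
      rw [h3, hgU _ h1]
      rcases hgb with h4 | h4 <;> rw [h4]
      · left; exact h2.symm
      · right
        rw [mul_assoc, ← h2]
  -- `A^κ`
  have hO : Oct (cj κ⁻¹ A) := RankThreeFus.Oct.cj hF.hyp.oct κ⁻¹
  have heF : e ∈ cj κ⁻¹ A := by
    classical
    have h1 : ((cj κ⁻¹ A : Subgroup G) : Set G) ⊆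
        (({1, z, b, z * b, e, z * e, b * e, z * (b * e)} : Finset G) : Set G) := by
      intro y hy
      obtain ⟨i, hi, h2⟩ := K.Ac y hy
      simp only [Finset.coe_insert, Finset.coe_singleton, Set.mem_insert_iff, Set.mem_singleton_iff]
      rcases hi with rfl | rfl <;> rcases h2 with rfl | rfl | rfl | rfl <;> simp
    have h2 : ((cj κ⁻¹ A : Subgroup G) : Set G).ncard = 8 := by
      rw [← Nat.card_coe_set_eq]; exact hO.card
    have h3 : ((({1, z, b, z * b, e, z * e, b * e, z * (b * e)} : Finset G) : Set G)).ncard ≤ 8 := by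
      rw [Set.ncard_coe_finset]
      refine (Finset.card_insert_le _ _).trans (Nat.succ_le_succ ?_)
      refine (Finset.card_insert_le _ _).trans (Nat.succ_le_succ ?_)
      refine (Finset.card_insert_le _ _).trans (Nat.succ_le_succ ?_)
      refine (Finset.card_insert_le _ _).trans (Nat.succ_le_succ ?_)
      exact Finset.card_le_four
    have h4 := Set.eq_of_subset_of_ncard_le h1 (by rw [h2]; exact h3) (Set.toFinite _)
    have h5 : e ∈ ((cj κ⁻¹ A : Subgroup G) : Set G) := by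
      rw [h4]
      simp
    exact h5
  have hκ' : κ⁻¹ ∈ normalizer (P : Set G) := inv_mem K.κP
  have hge : g * e * g⁻¹ ∈ cj κ⁻¹ A := Fr.norm_cj hκ' (hPS.trans hF.hyp.norm) hgP heF
  have heS : e ∈ (S : Subgroup G) := hF.sS
  have hgeT : g * e * g⁻¹ * e⁻¹ ∈ TT S A := by
    have h1 : g * e * g⁻¹ * e⁻¹ = g * (e * g⁻¹ * e⁻¹) := by group
    rw [h1]
    exact mul_mem hg (mem_norm (hF.SnT heS) (inv_mem hg))
  have heQ : e ∉ QQ S U := fun h1 => hF.sU h1.2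
  have hTQ := hF.T_le_Q
  have hgecase : g * e * g⁻¹ = e ∨ g * e * g⁻¹ = z * e := by
    obtain ⟨i, hi, h2⟩ := K.Ac _ hge
    have hiT : i ∈ TT S A := by
      rcases hi with rfl | rfl
      exacts [one_mem _, hF.A_le_T hF.zA]
    rcases h2 with h2 | h2 | h2 | h2
    · exfalso
      apply heQ
      rw [h2] at hgeT
      have h3 : e = (i * e⁻¹)⁻¹ * i := by group
      rw [h3]
      exact mul_mem (inv_mem (hTQ hgeT)) (hTQ hiT)
    · exfalso
      apply heQ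
      rw [h2] at hgeT
      have h3 : e = (i * b * e⁻¹)⁻¹ * (i * b) := by group
      rw [h3]
      exact mul_mem (inv_mem (hTQ hgeT)) (mul_mem (hTQ hiT) hbQ)
    · rcases hi with rfl | rfl
      · left; rw [h2, one_mul]
      · right; exact h2
    · exfalso
      apply hbT
      rw [h2] at hgeT
      have h3 : b = i⁻¹ * (i * (b * e) * e⁻¹) := by group
      rw [h3]
      exact mul_mem (inv_mem hiT) hgeT
  obtain ⟨a, ha, h1, h2⟩ := K.ci.exists_comm hg hgb hgecase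
  exact ⟨a, ha, NT.mem_CC.2 ⟨mul_mem hg (hF.A_le_T ha), NT.conj_comm.2 h1.symm, NT.conj_comm.2 h2.symm⟩⟩

/-- **(10.1)-(10.5), the element `m` and `γ = κ m κ`.** -/
theorem exists_m [Finite G] (hPS : P ≤ (S : Subgroup G)) (cardW : Nat.card W = 8) (UW : U ≤ W)
    (F1 : ∀ g ∈ (S : Subgroup G), (∀ w ∈ W, g * w * g⁻¹ = w ∨ g * w * g⁻¹ = z * w) → g ∈ P) :
    ∃ m ∈ TT S A, m * m ∈ Y ∧ (∀ q ∈ QQ S U, m * q * m⁻¹ * q⁻¹ ∈ Y) ∧
      (m * (t * f) * m⁻¹ = t * f ∨ m * (t * f) * m⁻¹ = z * (t * f)) ∧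
      (m * e * m⁻¹ = e ∨ m * e * m⁻¹ = z * e) ∧
      (∃ d ∈ zpowers (t * f), m * b * m⁻¹ = b * f * d) ∧
      (∀ a ∈ A, m * b * m⁻¹ ≠ a * b) ∧
      (m * m * (m * m) = 1 ∨ m * m * (m * m) = z) ∧
      (∀ c ∈ (TT S A ⊓ centralizer ({b, e} : Set G) : Subgroup G), m * c * m⁻¹ * c⁻¹ ∈ Y ∧
        ((m * c * m⁻¹ * c⁻¹) * (m * c * m⁻¹ * c⁻¹) = 1 ∨ (m * c * m⁻¹ * c⁻¹) * (m * c * m⁻¹ * c⁻¹) = z)) ∧
      (κ * m * κ * z = z * (κ * m * κ)) ∧
      (κ * m * κ * (t * f) * (κ * m * κ)⁻¹ = t * f ∨ κ * m * κ * (t * f) * (κ * m * κ)⁻¹ = z * (t * f)) ∧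
      Emod (t * f) (κ * m * κ * f * (κ * m * κ)⁻¹) f ∧
      Emod (t * f) (κ * m * κ * (x * z * x⁻¹) * (κ * m * κ)⁻¹) (f * e) ∧
      Emod (t * f) (κ * m * κ * e * (κ * m * κ)⁻¹) (f * (x * z * x⁻¹) * e) := by
  have hF := K.ci.yz.fr
  obtain ⟨hz1, hz2⟩ := K.ci.zprime
  have N := K.ci.nt hz1 hz2
  have L := N.letp (Or.inl rfl)
  have KE : KapE z f (x * z * x⁻¹) b e (t * f) κ :=
    { kc := K.κt
      kz := K.κz
      kf := K.κf
      kp := K.κp
      kb := K.κb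
      ke := K.κe }
  have hW := K.hW hPS cardW UW F1
  by_contra hcon
  refine N.false_of_ntrick fun n hn hne => ?_
  rcases N.ntrick_or (Or.inl rfl) KE hW hn hne with h1 | ⟨m, hm, -, h1, h2, h3, h4, h5, h6⟩
  · exact h1
  · exfalso
    apply hcon
    have nf : m * f * m⁻¹ = f := by rw [NT.Tc hm.1 hF.fA]; group
    have np : m * (x * z * x⁻¹) * m⁻¹ = x * z * x⁻¹ := by rw [NT.Tc hm.1 (hF.UA hF.z2_mem)]; group
    have mz : m * z = z * m := NT.Tc hm.1 hF.zA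
    have ne' : EQ (t * f) (m * e * m⁻¹) e := by
      rcases h2 with h7 | h7 <;> rw [h7]
      · exact EQ.refl e
      · rw [← hF.zc e hF.sS]
        exact L.absorb e
    obtain ⟨g1, g2, g3⟩ := KE.gamma L h1 nf np h3 ne'
    have e1 : ∀ a : G, κ * (m * (κ * a * κ⁻¹) * m⁻¹) * κ⁻¹ = κ * m * κ * a * (κ * m * κ)⁻¹ := by
      intro a; group
    rw [e1] at g1 g2 g3
    refine ⟨m, hm.1, hm.2.1, hm.2.2, h1, h2, h3, h4, h5, h6, ?_, ?_, g1, g2, g3⟩
    · calc κ * m * κ * z = κ * m * (κ * z) := by group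
        _ = κ * (m * z) * κ := by rw [K.κz]; group
        _ = (κ * z) * m * κ := by rw [mz]; group
        _ = _ := by rw [K.κz]; group
    · have hk : κ * (t * f) * κ⁻¹ = t * f := KE.kcc
      have hkz : κ * z * κ⁻¹ = z := NT.conj_comm.2 K.κz
      rw [← e1, hk]
      rcases h1 with h7 | h7 <;> rw [h7]
      · left; exact hk
      · right
        have h8 : κ * (z * (t * f)) * κ⁻¹ = (κ * z * κ⁻¹) * (κ * (t * f) * κ⁻¹) := by group
        rw [h8, hk, hkz]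

end Kap

end Cfsg.Agent.RankThreeFus
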