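import Cfsg.Agent.RankThreeFus.PTSsmall
import Cfsg.Agent.RankThreeFus.PTSn

/-!
# S1730, branch (B), (B8*), CASE I, `PT = S`: glue

`Kap.exists_small`: a maximal choice which is not small yields a small maximal choice.
-/

set_option autoImplicit false
set_option linter.style.haveILetI false
set_option linter.unusedSectionVars false
set_option linter.unusedVariables false

namespace Cfsg.Agent.RankThreeFus

open Subgroup Cfsg.Agent.Lib.GoldschmidtFusion Cfsg.Agent.StdL2.G23Aut Cfsg.Agent.Lib.EssentialFusion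

variable {G : Type*} [Group G]

namespace Fr

variable {S : Sylow 2 G} {A U : Subgroup G} {z f x s : G} (h : Fr S A U z f x s)

include h

/-- `[A, g] ≤ ⟨z⟩` as soon as `[f, g] ∈ ⟨z⟩` -/
theorem RR_A [Finite G] {g : G} (hg : g ∈ (S : Subgroup G)) (hf : RR z g f) {a : G} (ha : a ∈ A) : RR z g a := by
  have hgz := h.zc g hg
  have hA : ∀ c ∈ A, RR z g c → c ∈ ZE z g h.z2 := fun c hc h1 =>
    ⟨h.zc c (h.AS hc), RR.symm h.z2 hgz (h.zc c (h.AS hc)) h1⟩
  have hU : ∀ u ∈ U, u ∈ ZE z g h.z2 := fun u hu => hA u (h.UA hu) (h.U_or hu hg)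
  have h1 : a ∈ ZE z g h.z2 := by
    rcases h.mem_A ha with h2 | h2
    · exact hU a h2
    · have e1 : a = f * (f * a) := by rw [← mul_assoc, h.f2, one_mul]
      rw [e1]
      exact mul_mem (hA f h.fA hf) (hU _ h2)
  exact RR.symm h.z2 (h.zc a (h.AS ha)) hgz h1.2

/-- `{g ∈ S : [A, g] ≤ ⟨z⟩}` has index at most 2 -/
theorem RR_mul [Finite G] {g g' : G} (hg : g ∈ (S : Subgroup G)) (hg' : g' ∈ (S : Subgroup G))
    (h1 : ¬ RR z g f) (h2 : ¬ RR z g' f) : RR z (g * g') f := by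
  have hff := h.f2
  have key : ∀ y ∈ (S : Subgroup G), ∃ u ∈ U, y * f * y⁻¹ = f * u := by
    intro y hy
    have h3 := mem_norm (h.hyp.norm hy) h.fA
    rcases h.mem_A h3 with h4 | h4
    · exfalso
      apply h.fU
      have h5 := mem_norm' (h.SnU hy) h4
      have e1 : y⁻¹ * (y * f * y⁻¹) * y = f := by group
      rwa [e1] at h5
    · refine ⟨_, h4, ?_⟩
      rw [← mul_assoc, hff, one_mul]
  obtain ⟨u, hu, hgu⟩ := key g hg
  obtain ⟨u', hu', hgu'⟩ := key g' hg'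
  have hzf := h.zfc
  have ne : ∀ y u : G, y * f * y⁻¹ = f * u → ¬ RR z y f → u ≠ 1 ∧ u ≠ z := by
    intro y u h3 h4
    refine ⟨fun h5 => h4 (Or.inl ?_), fun h5 => h4 (Or.inr ?_)⟩
    · rw [h3, h5, mul_one]
    · rw [h3, h5, hzf]
  obtain ⟨hu1, huz⟩ := ne g u hgu h1
  obtain ⟨hu1', huz'⟩ := ne g' u' hgu' h2
  have huu : u * u = 1 := h.sqA (h.UA hu)
  have hzu := h.commA h.zA (h.UA hu)
  have h3 : u * u' = 1 ∨ u * u' = z := by
    rcases h.U_cases' hu hu1 huz u' hu' with h4 | h4 | h4 | h4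
    · exact absurd h4 hu1'
    · exact absurd h4 huz'
    · left; rw [h4, huu]
    · right; rw [h4, ← mul_assoc, ← hzu, mul_assoc, huu, mul_one]
  have e1 : g * g' * f * (g * g')⁻¹ = (g * f * g⁻¹) * (g * u' * g⁻¹) := by
    calc g * g' * f * (g * g')⁻¹ = g * (g' * f * g'⁻¹) * g⁻¹ := by group
      _ = g * (f * u') * g⁻¹ := by rw [hgu']
      _ = _ := by group
  unfold RR
  rw [e1, hgu]
  rcases h.U_or hu' hg with h4 | h4 <;> rw [h4]
  · rcases h3 with h5 | h5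
    · left; rw [mul_assoc, h5, mul_one]
    · right; rw [mul_assoc, h5, hzf]
  · have e2 : f * u * (z * u') = f * (z * (u * u')) := by
      calc f * u * (z * u') = f * (u * z) * u' := by group
        _ = _ := by rw [← hzu]; group
    rw [e2]
    rcases h3 with h5 | h5 <;> rw [h5]
    · right; rw [mul_one, hzf]
    · left; rw [h.z2, mul_one]

end Fr

/-- `P₀ = {g ∈ P : [A, g] ≤ ⟨z⟩}` -/
def PO (A P : Subgroup G) (z : G) (hzz : z * z = 1) : Subgroup G := P ⊓ ⨅ a : A, ZE z (a : G) hzz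

theorem mem_PO {A P : Subgroup G} {z : G} {hzz : z * z = 1} {g : G} :
    g ∈ PO A P z hzz ↔ g ∈ P ∧ ∀ a ∈ A, g ∈ ZE z a hzz := by
  unfold PO
  rw [mem_inf, mem_iInf]
  simp only [Subtype.forall]

theorem Fr.mem_PO_iff [Finite G] {S : Sylow 2 G} {A U P : Subgroup G} {z f x s : G} (h : Fr S A U z f x s)
    (hPS : P ≤ (S : Subgroup G)) {g : G} (hg : g ∈ P) : g ∈ PO A P z h.z2 ↔ RR z g f := by
  rw [mem_PO]
  constructor
  · intro h1
    exact (h1.2 f h.fA).2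
  · intro h1
    exact ⟨hg, fun a ha => ⟨h.zc g (hPS hg), h.RR_A (hPS hg) h1 ha⟩⟩

/-- `|P| = 2 |P₀|` if `P` is not small -/
theorem Fr.card_PO [Finite G] {S : Sylow 2 G} {A U P : Subgroup G} {z f x s : G} (h : Fr S A U z f x s)
    (hPS : P ≤ (S : Subgroup G))
    (hns : ¬ ∀ g ∈ P, ∀ a ∈ A, g * a * g⁻¹ = a ∨ g * a * g⁻¹ = z * a) :
    Nat.card P = 2 * Nat.card (PO A P z h.z2) := by
  have hle : PO A P z h.z2 ≤ P := inf_le_left
  have h1 : (PO A P z h.z2).relIndex P = 2 := by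
    rw [relIndex_eq_two_iff_exists_notMem_and]
    push Not at hns
    obtain ⟨g, hg, a, ha, h2, h3⟩ := hns
    have hgn : g ∉ PO A P z h.z2 := by
      intro h4
      rcases ((mem_PO.1 h4).2 a ha).2 with h5 | h5
      · exact h2 h5
      · exact h3 h5
    refine ⟨g, hg, hgn, fun y hy => ?_⟩
    by_cases h4 : y ∈ PO A P z h.z2
    · exact Or.inr h4
    · left
      rw [h.mem_PO_iff hPS hg] at hgn
      rw [h.mem_PO_iff hPS hy] at h4
      rw [h.mem_PO_iff hPS (mul_mem hy hg)]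
      exact h.RR_mul (hPS hy) (hPS hg) h4 hgn
  have h2 := relIndex_mul_relIndex (⊥ : Subgroup G) (PO A P z h.z2) P bot_le hle
  rw [relIndex_bot_left, relIndex_bot_left, h1] at h2
  rw [← h2, mul_comm]

/-- `P₀ = C A ⟨b, e⟩` -/
theorem Pz.dec [Finite G] {S : Sylow 2 G} {A U : Subgroup G} {z f x e : G} {Y : Subgroup G} {t b : G}
    {P0 : Subgroup G} (h : Pz S A U z f x e Y t b P0) {g : G} (hg : g ∈ P0) :
    ∃ c ∈ P0, c ∈ TT S A ∧ c * b = b * c ∧ c * e = e * c ∧ ∃ a ∈ A, ∃ y,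
      (y = 1 ∨ y = b ∨ y = e ∨ y = b * e) ∧ g = c * a * y := by
  have hF := h.fr
  have hci := h.ci
  obtain ⟨y, hy, hT⟩ := h.exists_T hg
  have hyP : y ∈ P0 := by
    rcases hy with rfl | rfl | rfl | rfl
    · exact one_mem _
    · exact h.bP
    · exact h.eP
    · exact mul_mem h.bP h.eP
  have hyy : y * y = 1 := by
    rcases hy with rfl | rfl | rfl | rfl
    · simp
    · exact hci.bb
    · exact hci.ee
    · calc b * e * (b * e) = b * (e * b) * e := by group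
        _ = b * (b * e) * e := by rw [hci.be]
        _ = (b * b) * (e * e) := by group
        _ = 1 := by rw [hci.bb, hci.ee, one_mul]
  have hgy := mul_mem hg hyP
  obtain ⟨a, ha, h1, h2⟩ := hci.exists_comm hT (h.Pb _ hgy) (h.Pe _ hgy)
  refine ⟨g * y * a, mul_mem hgy (h.AP ha), mul_mem hT (hF.A_le_T ha), h1, h2, a, ha, y, hy, ?_⟩
  calc g = g * (y * y) := by rw [hyy, mul_one]
    _ = g * y * (a * a) * y := by rw [hF.sqA ha]; group
    _ = _ := by group

namespace Kap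

variable {S : Sylow 2 G} {A U : Subgroup G} {z f x e : G} {Y : Subgroup G} {t b : G} {P W : Subgroup G}
  {κ : G} (K : Kap S A U z f x e Y t b P W κ)

include K

theorem fr : Fr S A U z f x e := K.ci.yz.fr

/-- `A^κ = ⟨z, b, e⟩` -/
theorem be_mem [Finite G] : b ∈ cj κ⁻¹ A ∧ e ∈ cj κ⁻¹ A := by
  classical
  have hF := K.ci.yz.fr
  have hO : Oct (cj κ⁻¹ A) := RankThreeFus.Oct.cj hF.hyp.oct κ⁻¹
  have h1 : ((cj κ⁻¹ A : Subgroup G) : Set G) ⊆
      (({1, z, b, z * b, e, z * e, b * e, z * (b * e)} : Finset G) : Set G) := by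
    intro y hy
    obtain ⟨i, hi, h2⟩ := K.Ac y hy
    simp only [Finset.coe_insert, Finset.coe_singleton, Set.mem_insert_iff, Set.mem_singleton_iff]
    rcases hi with rfl | rfl <;> rcases h2 with rfl | rfl | rfl | rfl <;> simp
  have h2 : ((cj κ⁻¹ A : Subgroup G) : Set G).ncard = 8 := by
    rw [← Nat.card_coe_set_eq]; exact hO.card
  have h3 : ((({1, z, b, z * b, e, z * e, b * e, z * (b * e)} : Finset G) : Set G)).ncard ≤ 8 := by
    rw [Set.ncard_coe_finset]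
    refine (Finset.card_insert_le _ _).trans (Nat.succ_le_succ ?_)
    refine (Finset.card_insert_le _ _).trans (Nat.succ_le_succ ?_)
    refine (Finset.card_insert_le _ _).trans (Nat.succ_le_succ ?_)
    refine (Finset.card_insert_le _ _).trans (Nat.succ_le_succ ?_)
    exact Finset.card_le_four
  have h4 := Set.eq_of_subset_of_ncard_le h1 (by rw [h2]; exact h3) (Set.toFinite _)
  have h5 : b ∈ ((cj κ⁻¹ A : Subgroup G) : Set G) ∧ e ∈ ((cj κ⁻¹ A : Subgroup G) : Set G) := by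
    rw [h4]
    simp
  exact h5

theorem hzt [Finite G] : b * t * b⁻¹ * t⁻¹ = z := K.ci.zprime.1

/-- the data of section 10 -/
theorem pz [Finite G] (hPS : P ≤ (S : Subgroup G)) (hAP : A ≤ P)
    (P0n : ∀ l ∈ normalizer (P : Set G), ∀ g ∈ P, (∀ a ∈ A, g * a * g⁻¹ = a ∨ g * a * g⁻¹ = z * a) →
      ∀ a ∈ A, (l * g * l⁻¹) * a * (l * g * l⁻¹)⁻¹ = a ∨ (l * g * l⁻¹) * a * (l * g * l⁻¹)⁻¹ = z * a) :
    Pz S A U z f x e Y t b (PO A P z K.fr.z2) := by
  have hF := K.fr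
  have hci := K.ci
  obtain ⟨hb, he⟩ := K.be_mem
  have htP : t ∈ P := by
    have h1 := mul_mem K.tfP (inv_mem (hAP hF.fA))
    rwa [mul_inv_cancel_right] at h1
  have key : ∀ g ∈ PO A P z K.fr.z2, ∀ y ∈ cj κ⁻¹ A, g * y * g⁻¹ = y ∨ g * y * g⁻¹ = z * y := by
    intro g hg y hy
    rw [mem_cj, inv_inv] at hy
    obtain ⟨hgP, hgA⟩ := mem_PO.1 hg
    have h1 := P0n κ K.κP g hgP (fun a ha => (hgA a ha).2) _ hy
    have e1 : g * y * g⁻¹ = κ⁻¹ * ((κ * g * κ⁻¹) * (κ * y * κ⁻¹) * (κ * g * κ⁻¹)⁻¹) * κ := by group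
    rw [e1]
    rcases h1 with h1 | h1 <;> rw [h1]
    · left; group
    · right
      have hκz := K.κz
      calc κ⁻¹ * (z * (κ * y * κ⁻¹)) * κ = κ⁻¹ * (z * κ) * y := by group
        _ = κ⁻¹ * (κ * z) * y := by rw [hκz]
        _ = z * y := by group
  exact
    { ci := hci
      zt := K.hzt
      PS := inf_le_left.trans hPS
      AP := fun a ha => (hF.mem_PO_iff hPS (hAP ha)).2 (Or.inl (conj_eq_iff.2 (hF.commA ha hF.fA)))
      tP := (hF.mem_PO_iff hPS htP).2 (Or.inl (conj_eq_iff.2 (hF.T_comm hci.tT hF.fA)))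
      bP := (hF.mem_PO_iff hPS K.bP).2 (Or.inr (by rw [hci.bf, hF.zfc]))
      eP := (hF.mem_PO_iff hPS K.eP).2 (Or.inl (conj_eq_iff.2 hci.ef))
      PA := fun g hg a ha => ((mem_PO.1 hg).2 a ha).2
      Pb := fun g hg => key g hg b hb
      Pe := fun g hg => key g hg e he }

/-- elements of `Y₀` with fourth power 1 and square in `⟨z⟩` -/
theorem mem_tA [Finite G] {y : G} (hy : y ∈ Y) (h1 : y * y = 1 ∨ y * y = z) : ∃ a ∈ A, y = a ∨ y = a * t := by
  have hF := K.fr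
  have hci := K.ci
  obtain ⟨a, ha, h2⟩ := hci.yz.mem y hy
  have hrr := hci.rr
  have hrY := hci.rY
  obtain ⟨r, hr⟩ : ∃ r, r = x * t * x⁻¹ := ⟨_, rfl⟩
  have hp1 := hF.z2_ne_one
  have hpz := hF.xz
  rw [← hr] at h2 hrr hrY
  have sq : ∀ y y' : G, y ∈ Y → y' ∈ Y → (y * y') * (y * y') = (y * y) * (y' * y') := by
    intro y y' hy hy'
    calc (y * y') * (y * y') = y * (y' * y) * y' := by group
      _ = y * (y * y') * y' := by rw [hci.yz.comm y' hy' y hy]
      _ = _ := by group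
  rcases h2 with h2 | h2 | h2 | h2
  · exact ⟨a, ha, Or.inl h2⟩
  · exact ⟨a, ha, Or.inr h2⟩
  · exfalso
    rw [h2, sq a r (hci.yz.AY ha) hrY, hF.sqA ha, one_mul, hrr] at h1
    rcases h1 with h1 | h1
    exacts [hp1 h1, hpz h1]
  · exfalso
    rw [h2, sq a _ (hci.yz.AY ha) (mul_mem hci.yz.tY hrY), sq t r hci.yz.tY hrY, hF.sqA ha, one_mul, hrr,
      hci.yz.tt] at h1
    have hpA := hF.UA hF.z2_mem
    rcases h1 with h1 | h1
    · apply hpz
      have e1 : x * z * x⁻¹ = z⁻¹ * (z * (x * z * x⁻¹)) := by group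
      rw [e1, h1, mul_one, hF.zi]
    · apply hp1
      exact mul_eq_left.1 h1

/-- **CASE I, `PT = S`**: a maximal choice which is not small yields a small maximal choice. -/
theorem exists_small [Finite G] (hM : Choice.Max S U P) (hAP : A ≤ P)
    (hns : ¬ ∀ g ∈ P, ∀ a ∈ A, g * a * g⁻¹ = a ∨ g * a * g⁻¹ = z * a)
    (cardW : Nat.card W = 8) (UW : U ≤ W)
    (F1 : ∀ g ∈ (S : Subgroup G), (∀ w ∈ W, g * w * g⁻¹ = w ∨ g * w * g⁻¹ = z * w) → g ∈ P)
    (P0n : ∀ l ∈ normalizer (P : Set G), ∀ g ∈ P, (∀ a ∈ A, g * a * g⁻¹ = a ∨ g * a * g⁻¹ = z * a) →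
      ∀ a ∈ A, (l * g * l⁻¹) * a * (l * g * l⁻¹)⁻¹ = a ∨ (l * g * l⁻¹) * a * (l * g * l⁻¹)⁻¹ = z * a) :
    ∃ P' : Subgroup G, Choice.Max S U P' ∧
      ∀ g ∈ P', ∀ a ∈ A, g * a * g⁻¹ = a ∨ g * a * g⁻¹ = z * a := by
  have hF := K.fr
  have hci := K.ci
  have hPS : P ≤ (S : Subgroup G) := hM.ess.lt.le
  have hpz := K.pz hPS hAP P0n
  obtain ⟨m, hmT, hmY, hmQ, hmk, hme, ⟨d, hd, hmb⟩, -, hm4, hmC, -⟩ := K.exists_m hPS cardW UW F1
  have hkP0 := hpz.kP0
  have hk' : zpowers (t * f) ≤ PO A P z K.fr.z2 := by rw [zpowers_le]; exact hkP0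
  have hY1 : ∀ y ∈ Y, (y * y = 1 ∨ y * y = z) → y ∈ PO A P z K.fr.z2 := by
    intro y hy h1
    obtain ⟨a, ha, rfl | rfl⟩ := K.mem_tA hy h1
    · exact hpz.AP ha
    · exact mul_mem (hpz.AP ha) hpz.tP
  have hzP0 := hpz.AP hF.zA
  have hG : Gm S A U z f x e Y t b (PO A P z K.fr.z2) m κ (x * z * x⁻¹) :=
    { pz := hpz
      nT := hmT
      nn := hY1 _ hmY hm4
      nN := by
        refine mem_norm_of_conj fun g hg => ?_
        obtain ⟨c, hc, hcT, hcb, hce, a, ha, y, hy, rfl⟩ := hpz.dec hg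
        have e1 : m * (c * a * y) * m⁻¹ = ((m * c * m⁻¹ * c⁻¹) * c) * (m * a * m⁻¹) * (m * y * m⁻¹) := by group
        have h1 : m * c * m⁻¹ * c⁻¹ ∈ PO A P z K.fr.z2 := by
          obtain ⟨h2, h3⟩ := hmC c (NT.mem_CC.2 ⟨hcT, NT.conj_comm.2 hcb.symm, NT.conj_comm.2 hce.symm⟩)
          exact hY1 _ h2 h3
        have h2 : m * a * m⁻¹ ∈ PO A P z K.fr.z2 := by
          rw [conj_eq_iff.2 (hF.T_comm hmT ha)]; exact hpz.AP ha
        have hb' : m * b * m⁻¹ ∈ PO A P z K.fr.z2 := by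
          rw [hmb]
          exact mul_mem (mul_mem hpz.bP (hpz.AP hF.fA)) (hk' hd)
        have he' : m * e * m⁻¹ ∈ PO A P z K.fr.z2 := by
          rcases hme with h3 | h3 <;> rw [h3]
          · exact hpz.eP
          · exact mul_mem hzP0 hpz.eP
        have h3 : m * y * m⁻¹ ∈ PO A P z K.fr.z2 := by
          rcases hy with rfl | rfl | rfl | rfl
          · rw [mul_one, mul_inv_cancel]; exact one_mem _
          · exact hb'
          · exact he'
          · have e2 : m * (b * e) * m⁻¹ = (m * b * m⁻¹) * (m * e * m⁻¹) := by group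
            rw [e2]; exact mul_mem hb' he'
        rw [e1]
        exact mul_mem (mul_mem (mul_mem h1 hc) h2) h3
      nb := by
        rw [hmb]
        have e1 : (b * f * d)⁻¹ * (b * f) = d⁻¹ := by group
        rw [e1]; exact inv_mem hd
      ne := hme
      nt := hmk
      pU := hF.z2_mem
      p1 := hF.z2_ne_one
      pz' := hF.xz
      κk := K.κt
      κf := by
        obtain ⟨c, hc, h1⟩ := K.κf
        rw [h1]
        have e1 : (f * b * e * c)⁻¹ * (f * b * e) = c⁻¹ := by group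
        rw [e1]; exact inv_mem hc
      κp := by
        obtain ⟨c, hc, h1⟩ := K.κp
        rw [h1]
        have e1 : ((x * z * x⁻¹) * b * c)⁻¹ * ((x * z * x⁻¹) * b) = c⁻¹ := by group
        rw [e1]; exact inv_mem hc
      κb := by
        obtain ⟨c, hc, h1⟩ := K.κb
        rw [h1]
        have e1 : ((x * z * x⁻¹) * c)⁻¹ * (x * z * x⁻¹) = c⁻¹ := by group
        rw [e1]; exact inv_mem hc
      κe := by
        obtain ⟨c, hc, h1⟩ := K.κe
        rw [h1]
        have e1 : (f * (x * z * x⁻¹) * c)⁻¹ * (f * (x * z * x⁻¹)) = c⁻¹ := by group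
        rw [e1]; exact inv_mem hc }
  exact hG.exists_small hM (hF.card_PO hPS hns)

end Kap

/-- **The glue for `PT = S`.** -/
theorem Pts.exists_small [Finite G] {S : Sylow 2 G} {A U : Subgroup G} {z f x s : G} {Y : Subgroup G} {t : G}
    {P W : Subgroup G} (h : Pts S A U z f x s Y t P W) (hM : Choice.Max S U P)
    (hns : ¬ ∀ g ∈ P, ∀ a ∈ A, g * a * g⁻¹ = a ∨ g * a * g⁻¹ = z * a)
    {f' x' e t' b κ : G} (K : Kap S A U z f' x' e Y t' b P W κ) :
    ∃ P' : Subgroup G, Choice.Max S U P' ∧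
      ∀ g ∈ P', ∀ a ∈ A, g * a * g⁻¹ = a ∨ g * a * g⁻¹ = z * a :=
  K.exists_small hM h.AP hns h.cardW h.UW h.F1 h.P0n

end Cfsg.Agent.RankThreeFus
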