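import Cfsg.Agent.RankThreeFus.CaseIBase
import Cfsg.Agent.RankThreeFus.EoneY

/-!
# S1730, branch (B), last case (B8*), CASE I: `T = Y₀`

helper455's sections 5 and 6: if every `n ∈ T` which centralises `Q`, `e` modulo `Y₀` and has `n² ∈ Y₀` lies
in `C Y₀`, where `C` is the centraliser of the involutions `b ∈ Q - T`, `e ∈ S - Q` in `T`, then `T = Y₀`.
-/

set_option autoImplicit false

namespace Cfsg.Agent.RankThreeFus

open Subgroup Cfsg.Agent.Lib.GoldschmidtFusion Cfsg.Agent.StdL2.G23Aut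

variable {G : Type*} [Group G]

/-- The working frame of sections 5 and 6. -/
structure NT (S : Sylow 2 G) (A U Y : Subgroup G) (z p2 p3 f x e t t2 t3 b : G) : Prop where
  fr : Fr S A U z f x e
  AY : A ≤ Y
  YT : Y ≤ TT S A
  comm : ∀ y ∈ Y, ∀ y' ∈ Y, y * y' = y' * y
  nS : (S : Subgroup G) ≤ normalizer (Y : Set G)
  nx : x ∈ normalizer (Y : Set G)
  QY : ∀ q ∈ QQ S U, ∀ y ∈ Y, q * y * q⁻¹ * y⁻¹ ∈ A
  tY : t ∈ Y
  t2Y : t2 ∈ Y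
  t3Y : t3 ∈ Y
  mem : ∀ y ∈ Y, ∃ a ∈ A, y = a ∨ y = a * t ∨ y = a * t2 ∨ y = a * (t * t2)
  tt : t * t = z
  tt2 : t2 * t2 = p2
  tt3 : t3 * t3 = p3
  prod : t * t2 * t3 = 1
  xt : x * t * x⁻¹ = t2
  xt2 : x * t2 * x⁻¹ = t3
  xt3 : x * t3 * x⁻¹ = t
  xz : x * z * x⁻¹ = p2
  xp2 : x * p2 * x⁻¹ = p3
  xp3 : x * p3 * x⁻¹ = z
  p2U : p2 ∈ U
  p3U : p3 ∈ U
  zp2 : z * p2 = p3
  p2ne : p2 ≠ 1
  p2z : p2 ≠ z
  p3ne : p3 ≠ 1
  p3z : p3 ≠ z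
  p23 : p2 ≠ p3
  bQ : b ∈ QQ S U
  bb : b * b = 1
  bf : b * f * b⁻¹ = f * z
  be : b * e = e * b
  ee : e * e = 1
  et : e * t * e⁻¹ = t
  et2 : e * t2 * e⁻¹ = t3
  et3 : e * t3 * e⁻¹ = t2
  ep2 : e * p2 * e⁻¹ = p3
  ep3 : e * p3 * e⁻¹ = p2
  bt : b * t * b⁻¹ * t⁻¹ = z
  bt2 : b * t2 * b⁻¹ * t2⁻¹ = p2 ∨ b * t2 * b⁻¹ * t2⁻¹ = p3

namespace NT

variable {S : Sylow 2 G} {A U Y : Subgroup G} {z p2 p3 f x e t t2 t3 b : G}
  (h : NT S A U Y z p2 p3 f x e t t2 t3 b)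

include h

theorem sqA {a : G} (ha : a ∈ A) : a * a = 1 := h.fr.sqA ha

theorem zY : z ∈ Y := h.AY h.fr.zA

theorem UY : U ≤ Y := h.fr.UA.trans h.AY

theorem fY : f ∈ Y := h.AY h.fr.fA

theorem TQ {n : G} (hn : n ∈ TT S A) : n ∈ QQ S U := h.fr.T_le_Q hn

theorem nT {n : G} (hn : n ∈ TT S A) : n ∈ normalizer (Y : Set G) := h.nS hn.1

/-- elements of `A` commuting with `b` and `e` -/
theorem cA [Finite G] {c : G} (hc : c ∈ A) (hb : b * c * b⁻¹ = c) (he : e * c * e⁻¹ = c) : c = 1 ∨ c = z :=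
  Eone.fix_s h.fr (Eone.fix_b h.fr (mem_cent_iff.1 h.bQ.2) h.bf hc hb) he

theorem mulK {q y y' : G} (hq : q ∈ QQ S U) (hy : y ∈ Y) (hy' : y' ∈ Y) :
    q * (y * y') * q⁻¹ * (y * y')⁻¹ = (q * y * q⁻¹ * y⁻¹) * (q * y' * q⁻¹ * y'⁻¹) := by
  have h1 := h.QY q hq y' hy'
  have h2 := h.comm y hy _ (h.AY h1)
  calc q * (y * y') * q⁻¹ * (y * y')⁻¹ = (q * y * q⁻¹ * y⁻¹) * (y * (q * y' * q⁻¹ * y'⁻¹)) * y⁻¹ := by group
    _ = _ := by rw [h2]; group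

theorem sqK {y y' : G} (hy : y ∈ Y) (hy' : y' ∈ Y) : (y * y') * (y * y') = (y * y) * (y' * y') := by
  calc (y * y') * (y * y') = y * (y' * y) * y' := by group
    _ = y * (y * y') * y' := by rw [h.comm y' hy' y hy]
    _ = _ := by group

theorem bA {a : G} [Finite G] (ha : a ∈ A) : b * a * b⁻¹ * a⁻¹ = 1 ∨ b * a * b⁻¹ * a⁻¹ = z := by
  have hbU := mem_cent_iff.1 h.bQ.2
  rcases h.fr.mem_A ha with h1 | h1
  · left
    rw [hbU a h1]; group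
  · right
    have h2 : a = f * (f * a) := by rw [← mul_assoc, h.sqA h.fr.fA, one_mul]
    have h3 := h.mulK h.bQ h.fY (h.UY h1)
    rw [← h2] at h3
    rw [h3, hbU _ h1, h.bf, h.fr.commA h.fr.fA h.fr.zA]
    group

theorem bYU [Finite G] {y : G} (hy : y ∈ Y) : b * y * b⁻¹ * y⁻¹ ∈ U := by
  have hbA : ∀ a ∈ A, b * a * b⁻¹ * a⁻¹ ∈ U := by
    intro a ha
    rcases h.bA ha with h1 | h1 <;> rw [h1]
    · exact U.one_mem
    · exact h.fr.zU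
  have h2 : b * t2 * b⁻¹ * t2⁻¹ ∈ U := by
    rcases h.bt2 with h1 | h1 <;> rw [h1]
    exacts [h.p2U, h.p3U]
  have h3 : b * t * b⁻¹ * t⁻¹ ∈ U := by rw [h.bt]; exact h.fr.zU
  obtain ⟨a, ha, rfl | rfl | rfl | rfl⟩ := h.mem y hy
  · exact hbA _ ha
  · rw [h.mulK h.bQ (h.AY ha) h.tY]
    exact U.mul_mem (hbA _ ha) h3
  · rw [h.mulK h.bQ (h.AY ha) h.t2Y]
    exact U.mul_mem (hbA _ ha) h2
  · rw [h.mulK h.bQ (h.AY ha) (Y.mul_mem h.tY h.t2Y), h.mulK h.bQ h.tY h.t2Y]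
    exact U.mul_mem (hbA _ ha) (U.mul_mem h3 h2)

theorem kU [Finite G] {n y : G} (hn : n ∈ TT S A) (hb : b * n * b⁻¹ = n) (hy : y ∈ Y) :
    n * y * n⁻¹ * y⁻¹ ∈ U := by
  have hkA := h.QY n (h.TQ hn) y hy
  refine Eone.fix_b h.fr (mem_cent_iff.1 h.bQ.2) h.bf hkA ?_
  have hu := h.bYU hy
  obtain ⟨u, hud⟩ : ∃ u, u = b * y * b⁻¹ * y⁻¹ := ⟨_, rfl⟩
  rw [← hud] at hu
  have h1 : b * y * b⁻¹ = u * y := by rw [hud]; group
  have h2 : b * (n * y * n⁻¹ * y⁻¹) * b⁻¹ =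
      (b * n * b⁻¹) * (b * y * b⁻¹) * (b * n * b⁻¹)⁻¹ * (b * y * b⁻¹)⁻¹ := by group
  rw [h2, hb, h1]
  have h3 : n * u = u * n := (Eone.commT (h.fr.UA hu) hn).symm
  have h4 := h.fr.commA (h.fr.UA hu) hkA
  calc n * (u * y) * n⁻¹ * (u * y)⁻¹ = (n * u) * y * n⁻¹ * y⁻¹ * u⁻¹ := by group
    _ = u * (n * y * n⁻¹ * y⁻¹) * u⁻¹ := by rw [h3]; group
    _ = _ := by rw [h4]; group

omit h in
theorem conj_comm {g c : G} : g * c * g⁻¹ = c ↔ g * c = c * g := mul_inv_eq_iff_eq_mul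

omit h in
/-- `C` -/
theorem mem_CC {c : G} : c ∈ (TT S A ⊓ centralizer ({b, e} : Set G) : Subgroup G) ↔
    c ∈ TT S A ∧ b * c * b⁻¹ = c ∧ e * c * e⁻¹ = c := by
  rw [mem_inf, mem_centralizer_iff, conj_comm, conj_comm]
  simp

theorem tf_comm : t * f = f * t := h.comm t h.tY f h.fY

theorem tf_sq : (t * f) * (t * f) = z := by
  rw [h.sqK h.tY h.fY, h.tt, h.sqA h.fr.fA, mul_one]

theorem tf_CC [Finite G] : t * f ∈ (TT S A ⊓ centralizer ({b, e} : Set G) : Subgroup G) := by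
  refine mem_CC.2 ⟨h.YT (Y.mul_mem h.tY h.fY), ?_, ?_⟩
  · have h1 := h.mulK h.bQ h.tY h.fY
    have h2 : b * f * b⁻¹ * f⁻¹ = z := by
      rw [h.bf, h.fr.commA h.fr.fA h.fr.zA]; group
    rw [h.bt, h2, h.sqA h.fr.zA, mul_inv_eq_one] at h1
    exact h1
  · have h1 : e * (t * f) * e⁻¹ = (e * t * e⁻¹) * (e * f * e⁻¹) := by group
    rw [h1, h.et, Eone.s_f h.fr]

/-- `Y₀ ∩ C = ⟨t f⟩` -/
theorem YC [Finite G] {y : G} (hy : y ∈ Y)
    (hc : y ∈ (TT S A ⊓ centralizer ({b, e} : Set G) : Subgroup G)) :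
    y = 1 ∨ y = z ∨ y = t * f ∨ y = z * (t * f) := by
  obtain ⟨-, hb, he⟩ := mem_CC.1 hc
  have hsqA : y * y ∈ A := by
    obtain ⟨a, ha, rfl | rfl | rfl | rfl⟩ := h.mem y hy
    · rw [h.sqA ha]; exact A.one_mem
    · rw [h.sqK (h.AY ha) h.tY, h.sqA ha, h.tt, one_mul]; exact h.fr.zA
    · rw [h.sqK (h.AY ha) h.t2Y, h.sqA ha, h.tt2, one_mul]; exact h.fr.UA h.p2U
    · rw [h.sqK (h.AY ha) (Y.mul_mem h.tY h.t2Y), h.sqA ha, h.sqK h.tY h.t2Y, h.tt, h.tt2, one_mul]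
      exact A.mul_mem h.fr.zA (h.fr.UA h.p2U)
  have hsq : y * y = 1 ∨ y * y = z := by
    refine h.cA hsqA ?_ ?_
    · have : b * (y * y) * b⁻¹ = (b * y * b⁻¹) * (b * y * b⁻¹) := by group
      rw [this, hb]
    · have : e * (y * y) * e⁻¹ = (e * y * e⁻¹) * (e * y * e⁻¹) := by group
      rw [this, he]
  obtain ⟨a, ha, hya⟩ := h.mem y hy
  rcases hya with hya | hya | hya | hya
  · rw [hya] at hb he ⊢
    rcases h.cA ha hb he with h1 | h1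
    · exact Or.inl h1
    · exact Or.inr (Or.inl h1)
  · -- `y (t f)⁻¹ ∈ A`
    have h1 : y * (t * f)⁻¹ ∈ (TT S A ⊓ centralizer ({b, e} : Set G) : Subgroup G) :=
      mul_mem hc (inv_mem h.tf_CC)
    have h2 : y * (t * f)⁻¹ ∈ A := by
      have : y * (t * f)⁻¹ = a * f⁻¹ := by rw [hya, h.tf_comm]; group
      rw [this]; exact A.mul_mem ha (A.inv_mem h.fr.fA)
    obtain ⟨-, h3, h4⟩ := mem_CC.1 h1
    rcases h.cA h2 h3 h4 with h5 | h5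
    · right; right; left
      exact mul_inv_eq_one.1 h5
    · right; right; right
      rw [← h5]; group
  · exfalso
    rw [hya, h.sqK (h.AY ha) h.t2Y, h.sqA ha, h.tt2, one_mul] at hsq
    rcases hsq with h1 | h1
    exacts [h.p2ne h1, h.p2z h1]
  · exfalso
    rw [hya, h.sqK (h.AY ha) (Y.mul_mem h.tY h.t2Y), h.sqA ha, h.sqK h.tY h.t2Y, h.tt, h.tt2, one_mul,
      h.zp2] at hsq
    rcases hsq with h1 | h1
    exacts [h.p3ne h1, h.p3z h1]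

/-- the good elements -/
def Gd : Subgroup G where
  carrier := {n | n ∈ TT S A ∧ n * n ∈ Y ∧ ∀ q ∈ QQ S U, n * q * n⁻¹ * q⁻¹ ∈ Y}
  one_mem' := ⟨one_mem _, by simp, fun q _ => by simp⟩
  mul_mem' := by
    rintro n m ⟨hn, hn2, hnq⟩ ⟨hm, hm2, hmq⟩
    refine ⟨mul_mem hn hm, ?_, fun q hq => ?_⟩
    · have e1 : n * m * (n * m) = n * (m * n * m⁻¹ * n⁻¹) * n⁻¹ * (n * n) * (m * m) := by group
      rw [e1]
      exact mul_mem (mul_mem (mem_norm (h.nT hn) (hmq n (h.TQ hn))) hn2) hm2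
    · have e1 : n * m * q * (n * m)⁻¹ * q⁻¹ = n * (m * q * m⁻¹ * q⁻¹) * n⁻¹ * (n * q * n⁻¹ * q⁻¹) := by group
      rw [e1]
      exact mul_mem (mem_norm (h.nT hn) (hmq q hq)) (hnq q hq)
  inv_mem' := by
    rintro n ⟨hn, hn2, hnq⟩
    refine ⟨inv_mem hn, ?_, fun q hq => ?_⟩
    · have e1 : n⁻¹ * n⁻¹ = (n * n)⁻¹ := by group
      rw [e1]; exact inv_mem hn2
    · have e1 : n⁻¹ * q * n⁻¹⁻¹ * q⁻¹ = n⁻¹ * (n * q * n⁻¹ * q⁻¹)⁻¹ * n := by group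
      rw [e1]
      exact mem_norm' (h.nT hn) (inv_mem (hnq q hq))

theorem mem_Gd {n : G} : n ∈ h.Gd ↔ n ∈ TT S A ∧ n * n ∈ Y ∧ ∀ q ∈ QQ S U, n * q * n⁻¹ * q⁻¹ ∈ Y := Iff.rfl

theorem Y_le_Gd : Y ≤ h.Gd := fun y hy => ⟨h.YT hy, Y.mul_mem hy hy, fun q hq => by
  have h1 := h.AY (h.QY q hq y hy)
  have e1 : y * q * y⁻¹ * q⁻¹ = (q * y * q⁻¹ * y⁻¹)⁻¹ := by group
  rw [e1]; exact Y.inv_mem h1⟩

theorem Gd_conj {g n : G} (hgT : g ∈ normalizer (TT S A : Set G)) (hgQ : g ∈ normalizer (QQ S U : Set G))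
    (hgY : g ∈ normalizer (Y : Set G)) (hn : n ∈ h.Gd) : g * n * g⁻¹ ∈ h.Gd := by
  refine ⟨mem_norm hgT hn.1, ?_, fun q hq => ?_⟩
  · have e1 : g * n * g⁻¹ * (g * n * g⁻¹) = g * (n * n) * g⁻¹ := by group
    rw [e1]; exact mem_norm hgY hn.2.1
  · have h1 := mem_norm hgY (hn.2.2 _ (mem_norm' hgQ hq))
    have e1 : g * n * g⁻¹ * q * (g * n * g⁻¹)⁻¹ * q⁻¹ =
        g * (n * (g⁻¹ * q * g) * n⁻¹ * (g⁻¹ * q * g)⁻¹) * g⁻¹ := by group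
    rw [e1]; exact h1

theorem Gd_x {n : G} (hn : n ∈ h.Gd) : x * n * x⁻¹ ∈ h.Gd := h.Gd_conj h.fr.xT h.fr.xQ h.nx hn

theorem Gd_xi {n : G} (hn : n ∈ h.Gd) : x⁻¹ * n * x ∈ h.Gd := by
  have h1 := h.Gd_conj (inv_mem h.fr.xT) (inv_mem h.fr.xQ) (inv_mem h.nx) hn
  rwa [inv_inv] at h1

/-- A starting element. -/
theorem start [Finite G] {B : Subgroup G} (hBT : B ≤ TT S A)
    (hBS : (S : Subgroup G) ≤ normalizer (B : Set G)) (hne : ¬ B ≤ Y) :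
    ∃ n ∈ B, n ∉ Y ∧ n ∈ h.Gd ∧ n * e * n⁻¹ * e⁻¹ ∈ Y := by
  have : Fact (Nat.Prime 2) := ⟨Nat.prime_two⟩
  have : Group.IsNilpotent (S : Subgroup G) := S.2.isNilpotent
  have hYS : Y ≤ (S : Subgroup G) := h.YT.trans inf_le_left
  have hBS' : B ≤ (S : Subgroup G) := hBT.trans inf_le_left
  have hA : (Y.subgroupOf (S : Subgroup G)).Normal := ⟨fun a ha g => by
    rw [mem_subgroupOf] at ha ⊢
    exact mem_norm (h.nS g.2) ha⟩
  have hT : (B.subgroupOf (S : Subgroup G)).Normal := ⟨fun a ha g => by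
    rw [mem_subgroupOf] at ha ⊢
    exact mem_norm (hBS g.2) ha⟩
  obtain ⟨n, hnB, hnY, hng⟩ := Cfsg.Agent.Lib.NormalAbelian.exists_mem_not_mem_central_mod hA hT
    (fun hle => hne (fun r hr => mem_subgroupOf.1 (hle (show (⟨r, hBS' hr⟩ : (S : Subgroup G)) ∈ _ from
      mem_subgroupOf.2 hr))))
  rw [mem_subgroupOf] at hnB hnY
  have hng' : ∀ q ∈ (S : Subgroup G), (n : G) * q * (n : G)⁻¹ * q⁻¹ ∈ Y := fun q hq =>
    mem_subgroupOf.1 (hng ⟨q, hq⟩)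
  -- a suitable 2-power
  have key : ∀ k : ℕ, ∀ n : G, n ∈ B → n ∉ Y → (∀ q ∈ (S : Subgroup G), n * q * n⁻¹ * q⁻¹ ∈ Y) →
      n ^ 2 ^ k = 1 → ∃ n ∈ B, n ∉ Y ∧ n ∈ h.Gd ∧ n * e * n⁻¹ * e⁻¹ ∈ Y := by
    intro k
    induction k with
    | zero =>
      intro n _ hnY _ h1
      exact absurd (by rw [pow_zero, pow_one] at h1; rw [h1]; exact one_mem _) hnY
    | succ k ih =>
      intro n hnB hnY hnq h1
      by_cases h2 : n * n ∈ Y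
      · exact ⟨n, hnB, hnY, ⟨hBT hnB, h2, fun q hq => hnq q hq.1⟩, hnq e h.fr.sS⟩
      · refine ih (n * n) (mul_mem hnB hnB) h2 (fun q hq => ?_) ?_
        · have e1 : n * n * q * (n * n)⁻¹ * q⁻¹ = n * (n * q * n⁻¹ * q⁻¹) * n⁻¹ * (n * q * n⁻¹ * q⁻¹) := by
            group
          rw [e1]
          exact mul_mem (mem_norm (h.nT (hBT hnB)) (hnq q hq)) (hnq q hq)
        · rw [← pow_two, ← pow_mul, ← pow_succ']
          exact h1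
  obtain ⟨k, hk⟩ := S.2 n
  exact key k n hnB hnY hng' (congrArg Subtype.val hk)

/-- A starting element in `C`. -/
theorem startC [Finite G]
    (hn : ∀ n ∈ h.Gd, n * e * n⁻¹ * e⁻¹ ∈ Y →
      ∃ y ∈ Y, n * y ∈ (TT S A ⊓ centralizer ({b, e} : Set G) : Subgroup G))
    {B : Subgroup G} (hBT : B ≤ TT S A) (hYB : Y ≤ B)
    (hBS : (S : Subgroup G) ≤ normalizer (B : Set G)) (hne : ¬ B ≤ Y) :
    ∃ n ∈ B, n ∉ Y ∧ n ∈ h.Gd ∧ b * n * b⁻¹ = n ∧ e * n * e⁻¹ = n := by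
  obtain ⟨n, hnB, hnY, hnG, hne'⟩ := h.start hBT hBS hne
  obtain ⟨y, hy, hc⟩ := hn n hnG hne'
  obtain ⟨-, h1, h2⟩ := mem_CC.1 hc
  refine ⟨n * y, B.mul_mem hnB (hYB hy), ?_, mul_mem hnG (h.Y_le_Gd hy), h1, h2⟩
  intro h3
  apply hnY
  have : n = n * y * y⁻¹ := by group
  rw [this]
  exact Y.mul_mem h3 (Y.inv_mem hy)

/-- the product `n⁺ n⁻` -/
theorem m_cond {n : G} (hn : n ∈ h.Gd) (he : e * n * e⁻¹ = n) :
    (x * n * x⁻¹) * (x⁻¹ * n * x) ∈ h.Gd ∧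
    ((x * n * x⁻¹) * (x⁻¹ * n * x)) * e * ((x * n * x⁻¹) * (x⁻¹ * n * x))⁻¹ * e⁻¹ ∈ Y := by
  have h1 := h.Gd_x hn
  have h2 := h.Gd_xi hn
  refine ⟨mul_mem h1 h2, ?_⟩
  have h3 : e * (x * n * x⁻¹) * e⁻¹ = x⁻¹ * n * x := by
    rw [Eone.s_conj_x h.fr, he]
  have h4 : e * (x⁻¹ * n * x) * e⁻¹ = x * n * x⁻¹ := by
    have h5 : e * (x⁻¹ * n * x) * e⁻¹ = (e * x * e⁻¹)⁻¹ * (e * n * e⁻¹) * (e * x * e⁻¹) := by group
    rw [h5, h.fr.sx, he, inv_inv]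
  generalize x⁻¹ * n * x = m2 at *
  generalize x * n * x⁻¹ = m1 at *
  have h5 := h1.2.2 m2 (h.TQ h2.1)
  have h6 : m1 * m2 * e * (m1 * m2)⁻¹ * e⁻¹ = m1 * m2 * (e * m2 * e⁻¹)⁻¹ * (e * m1 * e⁻¹)⁻¹ := by group
  rw [h6, h3, h4]
  exact h5

omit h in
theorem Tc {n a : G} (hn : n ∈ TT S A) (ha : a ∈ A) : n * a = a * n := (Eone.commT ha hn).symm

theorem p2p3 : p2 * p3 = z := by
  rw [← h.zp2, ← mul_assoc, h.fr.commA (h.fr.UA h.p2U) h.fr.zA, mul_assoc, h.sqA (h.fr.UA h.p2U), mul_one]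

theorem p3p2 : p3 * p2 = z := by
  rw [h.fr.commA (h.fr.UA h.p3U) (h.fr.UA h.p2U), h.p2p3]

theorem sq_cases {y : G} (hy : y ∈ Y) : y * y = 1 ∨ y * y = z ∨ y * y = p2 ∨ y * y = p3 := by
  obtain ⟨a, ha, rfl | rfl | rfl | rfl⟩ := h.mem y hy
  · exact Or.inl (h.sqA ha)
  · right; left
    rw [h.sqK (h.AY ha) h.tY, h.sqA ha, h.tt, one_mul]
  · right; right; left
    rw [h.sqK (h.AY ha) h.t2Y, h.sqA ha, h.tt2, one_mul]
  · right; right; right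
    rw [h.sqK (h.AY ha) (Y.mul_mem h.tY h.t2Y), h.sqA ha, h.sqK h.tY h.t2Y, h.tt, h.tt2, one_mul, h.zp2]

theorem sq_of_mul_e {d : G} (hd : d ∈ Y) (h1 : d * (e * d * e⁻¹) ∈ A) : d * d = 1 ∨ d * d = z := by
  have hdY : e * d * e⁻¹ ∈ Y := mem_norm (h.nS h.fr.sS) hd
  have h2 := h.sqA h1
  rw [h.sqK hd hdY] at h2
  have h3 : e * d * e⁻¹ * (e * d * e⁻¹) = e * (d * d) * e⁻¹ := by group
  rw [h3] at h2
  rcases h.sq_cases hd with h4 | h4 | h4 | h4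
  · exact Or.inl h4
  · exact Or.inr h4
  · rw [h4, h.ep2, h.p2p3] at h2
    exact absurd h2 h.fr.z1
  · rw [h4, h.ep3, h.p3p2] at h2
    exact absurd h2 h.fr.z1

theorem ne_of_sq {w : G} (hw : w * w = z) : w ≠ 1 ∧ w ≠ z := by
  constructor
  · rintro rfl
    exact h.fr.z1 (by rw [← hw, mul_one])
  · rintro rfl
    rw [h.sqA h.fr.zA] at hw
    exact h.fr.z1 hw.symm

theorem ztf_sq : z * (t * f) * (z * (t * f)) = z := by
  rw [h.sqK h.zY (Y.mul_mem h.tY h.fY), h.sqA h.fr.zA, one_mul, h.tf_sq]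

/-- good elements of `C` centralising `Y₀` -/
theorem good_C [Finite G] {c : G} (hc : c ∈ (TT S A ⊓ centralizer ({b, e} : Set G) : Subgroup G))
    (hG : c ∈ h.Gd) (hY : ∀ y ∈ Y, c * y = y * c) :
    c ∈ Y ∨ c * c = t * f ∨ c * c = z * (t * f) := by
  rcases h.YC hG.2.1 (mul_mem hc hc) with h1 | h1 | h1 | h1
  · exact Or.inl (h.AY (h.fr.mem_A_of_sq hG.1 h1))
  · left
    have h2 : (c * (t * f)) * (c * (t * f)) = 1 := by
      have h3 := hY _ (Y.mul_mem h.tY h.fY)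
      calc (c * (t * f)) * (c * (t * f)) = c * ((t * f) * c) * (t * f) := by group
        _ = (c * c) * ((t * f) * (t * f)) := by rw [← h3]; group
        _ = 1 := by rw [h1, h.tf_sq, h.sqA h.fr.zA]
    have h4 := h.AY (h.fr.mem_A_of_sq (mul_mem hG.1 (h.YT (Y.mul_mem h.tY h.fY))) h2)
    have h5 : c = c * (t * f) * (t * f)⁻¹ := by group
    rw [h5]
    exact Y.mul_mem h4 (Y.inv_mem (Y.mul_mem h.tY h.fY))
  · exact Or.inr (Or.inl h1)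
  · exact Or.inr (Or.inr h1)

theorem good_mul [Finite G] {c c' : G}
    (hc : c ∈ (TT S A ⊓ centralizer ({b, e} : Set G) : Subgroup G))
    (hG : c ∈ h.Gd) (hY : ∀ y ∈ Y, c * y = y * c) (hcY : c ∉ Y)
    (hc' : c' ∈ (TT S A ⊓ centralizer ({b, e} : Set G) : Subgroup G))
    (hG' : c' ∈ h.Gd) (hY' : ∀ y ∈ Y, c' * y = y * c') (hcY' : c' ∉ Y) : c * c' ∈ Y := by
  obtain ⟨k, hk⟩ : ∃ k, k = c' * c * c'⁻¹ * c⁻¹ := ⟨_, rfl⟩
  have hkY : k ∈ Y := by rw [hk]; exact hG'.2.2 c (h.TQ hG.1)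
  have hkC : k ∈ (TT S A ⊓ centralizer ({b, e} : Set G) : Subgroup G) := by
    rw [hk]; exact mul_mem (mul_mem (mul_mem hc' hc) (inv_mem hc')) (inv_mem hc)
  have h1 : c' * c * c'⁻¹ = k * c := by rw [hk]; group
  have h2 : (k * c) * (k * c) = c * c := by
    rw [← h1]
    have h3 := hY' _ hG.2.1
    calc c' * c * c'⁻¹ * (c' * c * c'⁻¹) = (c' * (c * c)) * c'⁻¹ := by group
      _ = _ := by rw [h3]; group
  have h3 : (k * c) * (k * c) = (k * k) * (c * c) := by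
    calc (k * c) * (k * c) = k * (c * k) * c := by group
      _ = _ := by rw [hY k hkY]; group
  rw [h3] at h2
  have hkk : k * k = 1 := mul_eq_right.1 h2
  have hk1 : k = 1 ∨ k = z := by
    rcases h.YC hkY hkC with h4 | h4 | h4 | h4
    · exact Or.inl h4
    · exact Or.inr h4
    · rw [h4, h.tf_sq] at hkk
      exact absurd hkk h.fr.z1
    · rw [h4, h.ztf_sq] at hkk
      exact absurd hkk h.fr.z1
  have h4 : (c * c') * (c * c') = k * ((c * c) * (c' * c')) := by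
    calc (c * c') * (c * c') = c * (c' * c * c'⁻¹) * (c' * c') := by group
      _ = (c * k) * c * (c' * c') := by rw [h1]; group
      _ = _ := by rw [hY k hkY]; group
  have hz2 := h.sqA h.fr.zA
  have hzt := h.comm z h.zY _ (Y.mul_mem h.tY h.fY)
  have h5 : (c * c) * (c' * c') = 1 ∨ (c * c) * (c' * c') = z := by
    rcases (h.good_C hc hG hY).resolve_left hcY with e1 | e1 <;>
      rcases (h.good_C hc' hG' hY').resolve_left hcY' with e2 | e2 <;> rw [e1, e2]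
    · right; exact h.tf_sq
    · left
      rw [← mul_assoc, ← hzt, mul_assoc, h.tf_sq, hz2]
    · left
      rw [mul_assoc, h.tf_sq, hz2]
    · right; exact h.ztf_sq
  have h6 : (c * c') * (c * c') = 1 ∨ (c * c') * (c * c') = z := by
    rw [h4]
    rcases hk1 with e1 | e1 <;> rcases h5 with e2 | e2 <;> rw [e1, e2]
    · left; rw [mul_one]
    · right; rw [one_mul]
    · right; rw [mul_one]
    · left; exact hz2
  rcases h.good_C (mul_mem hc hc') (mul_mem hG hG') (fun y hy => by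
    rw [mul_assoc, hY' y hy, ← mul_assoc, hY y hy, mul_assoc]) with h7 | h7 | h7
  · exact h7
  · exfalso
    rw [h7] at h6
    obtain ⟨e1, e2⟩ := h.ne_of_sq h.tf_sq
    rcases h6 with h6 | h6
    exacts [e1 h6, e2 h6]
  · exfalso
    rw [h7] at h6
    obtain ⟨e1, e2⟩ := h.ne_of_sq h.ztf_sq
    rcases h6 with h6 | h6
    exacts [e1 h6, e2 h6]

/-- **Section 5**: `C_T(Y₀) = Y₀`. -/
theorem cent_le [Finite G]
    (hn : ∀ n ∈ h.Gd, n * e * n⁻¹ * e⁻¹ ∈ Y →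
      ∃ y ∈ Y, n * y ∈ (TT S A ⊓ centralizer ({b, e} : Set G) : Subgroup G)) :
    ∀ n ∈ TT S A, (∀ y ∈ Y, n * y = y * n) → n ∈ Y := by
  have hYc : Y ≤ TT S A ⊓ centralizer (Y : Set G) :=
    le_inf h.YT (fun y hy => mem_cent_iff.2 fun y' hy' => h.comm y hy y' hy')
  by_contra hcon
  push Not at hcon
  obtain ⟨n0, hn0, hn0c, hn0Y⟩ := hcon
  have hS : (S : Subgroup G) ≤ normalizer ((TT S A ⊓ centralizer (Y : Set G) : Subgroup G) : Set G) := by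
    intro g hg
    refine mem_norm_of_conj ?_
    rintro c ⟨hc1, hc2⟩
    exact ⟨mem_norm (h.fr.SnT hg) hc1, conj_mem_cent (h.nS hg) hc2⟩
  obtain ⟨n, ⟨hnT, hnc⟩, hnY, hnG, hnb, hne⟩ := h.startC hn (B := TT S A ⊓ centralizer (Y : Set G)) inf_le_left
    hYc hS (fun hle => hn0Y (hle ⟨hn0, mem_cent_iff.2 hn0c⟩))
  have hnc : ∀ y ∈ Y, n * y = y * n := mem_cent_iff.1 hnc
  have hnC : n ∈ (TT S A ⊓ centralizer ({b, e} : Set G) : Subgroup G) := mem_CC.2 ⟨hnT, hnb, hne⟩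
  obtain ⟨hmG, hme⟩ := h.m_cond hnG hne
  obtain ⟨y0, hy0, hcC⟩ := hn _ hmG hme
  have hn1G := h.Gd_x hnG
  have hn2G := h.Gd_xi hnG
  have hn1c : ∀ y ∈ Y, (x * n * x⁻¹) * y = y * (x * n * x⁻¹) := by
    intro y hy
    have h1 := hnc _ (mem_norm' h.nx hy)
    calc (x * n * x⁻¹) * y = x * (n * (x⁻¹ * y * x)) * x⁻¹ := by group
      _ = _ := by rw [h1]; group
  have hn2c : ∀ y ∈ Y, (x⁻¹ * n * x) * y = y * (x⁻¹ * n * x) := by
    intro y hy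
    have h1 := hnc _ (mem_norm h.nx hy)
    calc (x⁻¹ * n * x) * y = x⁻¹ * (n * (x * y * x⁻¹)) * x := by group
      _ = _ := by rw [h1]; group
  have hen1 : e * (x * n * x⁻¹) * e⁻¹ = x⁻¹ * n * x := by
    rw [Eone.s_conj_x h.fr, hne]
  have hn1sq : (x * n * x⁻¹) * (x * n * x⁻¹) = x * (n * n) * x⁻¹ := by group
  have hnn := (h.good_C hnC hnG hnc).resolve_left hnY
  generalize x⁻¹ * n * x = n2 at *
  generalize x * n * x⁻¹ = n1 at *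
  have hmc : ∀ y ∈ Y, n1 * n2 * y = y * (n1 * n2) := fun y hy => by
    rw [mul_assoc, hn2c y hy, ← mul_assoc, hn1c y hy, mul_assoc]
  -- `[b, m] ∈ U`
  have hbm : b * (n1 * n2) * b⁻¹ * (n1 * n2)⁻¹ ∈ U := by
    by_cases hcY : n1 * n2 * y0 ∈ Y
    · have h1 : n1 * n2 ∈ Y := by
        have : n1 * n2 = n1 * n2 * y0 * y0⁻¹ := by group
        rw [this]; exact Y.mul_mem hcY (Y.inv_mem hy0)
      exact h.bYU h1
    · have h1 := h.good_mul hnC hnG hnc hnY hcC (mul_mem hmG (h.Y_le_Gd hy0)) (fun y hy => by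
        rw [mul_assoc (n1 * n2), h.comm y0 hy0 y hy, ← mul_assoc, hmc y hy, mul_assoc]) hcY
      obtain ⟨w, hw⟩ : ∃ w, w = n * (n1 * n2 * y0) * y0⁻¹ := ⟨_, rfl⟩
      have hwY : w ∈ Y := by rw [hw]; exact Y.mul_mem h1 (Y.inv_mem hy0)
      have h2 : n1 * n2 = n⁻¹ * w := by rw [hw]; group
      have h3 := h.bYU hwY
      have h4 : b * (n⁻¹ * w) * b⁻¹ * (n⁻¹ * w)⁻¹ =
          (b * n * b⁻¹)⁻¹ * (b * w * b⁻¹ * w⁻¹) * n := by group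
      rw [h2, h4, hnb, mul_assoc, ← hnc _ (h.UY h3)]
      have h5 : n⁻¹ * (n * (b * w * b⁻¹ * w⁻¹)) = b * w * b⁻¹ * w⁻¹ := by group
      rw [h5]; exact h3
  -- `δ = [b, n⁺]`
  obtain ⟨d, hd⟩ : ∃ d, d = b * n1 * b⁻¹ * n1⁻¹ := ⟨_, rfl⟩
  have hdY : d ∈ Y := by
    have h1 := Y.inv_mem (hn1G.2.2 b h.bQ)
    have h2 : (n1 * b * n1⁻¹ * b⁻¹)⁻¹ = b * n1 * b⁻¹ * n1⁻¹ := by group
    rw [hd, ← h2]; exact h1
  have hed : e * d * e⁻¹ = b * n2 * b⁻¹ * n2⁻¹ := by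
    have hbe : e * b * e⁻¹ = b := by rw [← h.be]; group
    have h1 : e * d * e⁻¹ = (e * b * e⁻¹) * (e * n1 * e⁻¹) * (e * b * e⁻¹)⁻¹ * (e * n1 * e⁻¹)⁻¹ := by
      rw [hd]; group
    rw [h1, hbe, hen1]
  have hedY : e * d * e⁻¹ ∈ Y := mem_norm (h.nS h.fr.sS) hdY
  have h1 : b * (n1 * n2) * b⁻¹ * (n1 * n2)⁻¹ = d * (e * d * e⁻¹) := by
    have h2 := hn1c _ hedY
    calc b * (n1 * n2) * b⁻¹ * (n1 * n2)⁻¹ = d * (n1 * (b * n2 * b⁻¹ * n2⁻¹)) * n1⁻¹ := by rw [hd]; group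
      _ = d * ((e * d * e⁻¹) * n1) * n1⁻¹ := by rw [← hed, h2]
      _ = _ := by group
  rw [h1] at hbm
  have hdd := h.sq_of_mul_e hdY (h.fr.UA hbm)
  have h2 : b * (n1 * n1) * b⁻¹ * (n1 * n1)⁻¹ = d * d := by
    have h3 := hn1c d hdY
    calc b * (n1 * n1) * b⁻¹ * (n1 * n1)⁻¹ = (b * n1 * b⁻¹ * n1⁻¹) * (n1 * (b * n1 * b⁻¹ * n1⁻¹)) * n1⁻¹ := by
          group
      _ = d * (d * n1) * n1⁻¹ := by rw [← hd, h3]
      _ = _ := by group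
  -- `[b, t₂ f]`
  have hbf' : b * f * b⁻¹ * f⁻¹ = z := by
    rw [h.bf, h.fr.commA h.fr.fA h.fr.zA]; group
  have hbp : b * p2 * b⁻¹ * p2⁻¹ = 1 := by
    rw [mem_cent_iff.1 h.bQ.2 p2 h.p2U]; group
  have ht2f : b * (t2 * f) * b⁻¹ * (t2 * f)⁻¹ = p2 ∨ b * (t2 * f) * b⁻¹ * (t2 * f)⁻¹ = p3 := by
    rw [h.mulK h.bQ h.t2Y h.fY, hbf']
    rcases h.bt2 with h3 | h3 <;> rw [h3]
    · right
      rw [h.fr.commA (h.fr.UA h.p2U) h.fr.zA, h.zp2]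
    · left
      rw [← h.p3p2, ← mul_assoc, h.sqA (h.fr.UA h.p3U), one_mul]
  have hxtf : x * (t * f) * x⁻¹ = t2 * f := by
    have h3 : x * (t * f) * x⁻¹ = (x * t * x⁻¹) * (x * f * x⁻¹) := by group
    rw [h3, h.xt, h.fr.xfc]
  have h3 : d * d = p2 ∨ d * d = p3 := by
    rw [← h2, hn1sq]
    rcases hnn with h4 | h4 <;> rw [h4]
    · rw [hxtf]; exact ht2f
    · have h5 : x * (z * (t * f)) * x⁻¹ = p2 * (t2 * f) := by
        have h6 : x * (z * (t * f)) * x⁻¹ = (x * z * x⁻¹) * (x * (t * f) * x⁻¹) := by group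
        rw [h6, h.xz, hxtf]
      rw [h5, h.mulK h.bQ (h.UY h.p2U) (Y.mul_mem h.t2Y h.fY), hbp, one_mul]
      exact ht2f
  rcases hdd with h4 | h4 <;> rcases h3 with h5 | h5
  · exact h.p2ne (h5.symm.trans h4)
  · exact h.p3ne (h5.symm.trans h4)
  · exact h.p2z (h5.symm.trans h4)
  · exact h.p3z (h5.symm.trans h4)

/-! ### Section 6 -/

theorem sqz [Finite G] {c : G} (hc : c ∈ (TT S A ⊓ centralizer ({b, e} : Set G) : Subgroup G))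
    (hG : c ∈ h.Gd) (hk : c * t * c⁻¹ * t⁻¹ = z) : c * c = z := by
  have hct : c * t * c⁻¹ = z * t := by rw [← hk]; group
  have hcf : c * f * c⁻¹ = f := by rw [Tc hG.1 h.fr.fA]; group
  have hcz : c * z * c⁻¹ = z := by rw [Tc hG.1 h.fr.zA]; group
  have h1 : c * (t * f) * c⁻¹ = z * (t * f) := by
    have h2 : c * (t * f) * c⁻¹ = (c * t * c⁻¹) * (c * f * c⁻¹) := by group
    rw [h2, hct, hcf, mul_assoc]
  have h2 : c * (z * (t * f)) * c⁻¹ = z * (z * (t * f)) := by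
    have h2 : c * (z * (t * f)) * c⁻¹ = (c * z * c⁻¹) * (c * (t * f) * c⁻¹) := by group
    rw [h2, hcz, h1]
  have h3 : c * (c * c) * c⁻¹ = c * c := by group
  rcases h.YC hG.2.1 (mul_mem hc hc) with h4 | h4 | h4 | h4
  · exfalso
    have h5 := h.fr.mem_A_of_sq hG.1 h4
    rw [h.comm c (h.AY h5) t h.tY] at hk
    apply h.fr.z1
    rw [← hk]; group
  · exact h4
  · exfalso
    rw [h4, h1] at h3
    exact h.fr.z1 (mul_eq_right.1 h3)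
  · exfalso
    rw [h4, h2] at h3
    exact h.fr.z1 (mul_eq_right.1 h3)

theorem false_of_pair [Finite G] {c : G} (hc : c ∈ (TT S A ⊓ centralizer ({b, e} : Set G) : Subgroup G))
    (hG : c ∈ h.Gd) (hk : c * t * c⁻¹ * t⁻¹ = z) (hk2 : c * t2 * c⁻¹ * t2⁻¹ = p3) : False := by
  have hcc := h.sqz hc hG hk
  have h1 : c * t2 * c⁻¹ = p3 * t2 := by rw [← hk2]; group
  have h2 : (c * t2) * (c * t2) = 1 := by
    have h3 := h.comm t2 h.t2Y z h.zY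
    calc (c * t2) * (c * t2) = (c * t2 * c⁻¹) * (c * c) * t2 := by group
      _ = p3 * (t2 * z) * t2 := by rw [h1, hcc]; group
      _ = p3 * z * (t2 * t2) := by rw [h3]; group
      _ = p3 * (z * p2) := by rw [h.tt2]; group
      _ = 1 := by rw [h.zp2, h.sqA (h.fr.UA h.p3U)]
  have h3 := h.AY (h.fr.mem_A_of_sq (mul_mem hG.1 (h.YT h.t2Y)) h2)
  have h4 : c ∈ Y := by
    have : c = c * t2 * t2⁻¹ := by group
    rw [this]; exact Y.mul_mem h3 (Y.inv_mem h.t2Y)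
  rw [h.comm c h4 t h.tY] at hk
  apply h.fr.z1
  rw [← hk]; group

omit h in
theorem A_kappa {n a : G} (hn : n ∈ TT S A) (ha : a ∈ A) : n * a * n⁻¹ * a⁻¹ = 1 := by
  rw [Tc hn ha]; group

/-- an element of `T` inverting `t`, `t₂` -/
theorem kappa_sq {n : G} (hn : n ∈ TT S A) (h1 : n * t * n⁻¹ * t⁻¹ = z) (h2 : n * t2 * n⁻¹ * t2⁻¹ = p2)
    {y : G} (hy : y ∈ Y) : n * y * n⁻¹ * y⁻¹ = y * y := by
  obtain ⟨a, ha, rfl | rfl | rfl | rfl⟩ := h.mem y hy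
  · rw [A_kappa hn ha, h.sqA ha]
  · rw [h.mulK (h.TQ hn) (h.AY ha) h.tY, A_kappa hn ha, h1, h.sqK (h.AY ha) h.tY, h.sqA ha, h.tt]
  · rw [h.mulK (h.TQ hn) (h.AY ha) h.t2Y, A_kappa hn ha, h2, h.sqK (h.AY ha) h.t2Y, h.sqA ha, h.tt2]
  · rw [h.mulK (h.TQ hn) (h.AY ha) (Y.mul_mem h.tY h.t2Y), A_kappa hn ha, h.mulK (h.TQ hn) h.tY h.t2Y, h1, h2,
      h.sqK (h.AY ha) (Y.mul_mem h.tY h.t2Y), h.sqA ha, h.sqK h.tY h.t2Y, h.tt, h.tt2]

theorem cent_of {n : G} (hn : n ∈ TT S A) (h1 : n * t * n⁻¹ * t⁻¹ = 1) (h2 : n * t2 * n⁻¹ * t2⁻¹ = 1) :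
    ∀ y ∈ Y, n * y = y * n := by
  intro y hy
  have h3 : n * y * n⁻¹ * y⁻¹ = 1 := by
    obtain ⟨a, ha, rfl | rfl | rfl | rfl⟩ := h.mem y hy
    · exact A_kappa hn ha
    · rw [h.mulK (h.TQ hn) (h.AY ha) h.tY, A_kappa hn ha, h1, one_mul]
    · rw [h.mulK (h.TQ hn) (h.AY ha) h.t2Y, A_kappa hn ha, h2, one_mul]
    · rw [h.mulK (h.TQ hn) (h.AY ha) (Y.mul_mem h.tY h.t2Y), A_kappa hn ha, h.mulK (h.TQ hn) h.tY h.t2Y, h1, h2,
        one_mul, one_mul]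
  rw [mul_inv_eq_one, mul_inv_eq_iff_eq_mul] at h3
  exact h3

/-- **Section 6**: `T = Y₀`. -/
theorem T_le [Finite G]
    (hn : ∀ n ∈ h.Gd, n * e * n⁻¹ * e⁻¹ ∈ Y →
      ∃ y ∈ Y, n * y ∈ (TT S A ⊓ centralizer ({b, e} : Set G) : Subgroup G)) :
    TT S A ≤ Y := by
  by_contra hcon
  obtain ⟨n, hnT, hnY, hnG, hnb, hne⟩ := h.startC hn (B := TT S A) le_rfl h.YT h.fr.SnT hcon
  have hnC : n ∈ (TT S A ⊓ centralizer ({b, e} : Set G) : Subgroup G) := mem_CC.2 ⟨hnT, hnb, hne⟩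
  have hcl := h.cent_le hn
  have zU := h.fr.zU
  have pA := h.fr.UA h.p2U
  have hz2 := h.sqA h.fr.zA
  -- the values
  have k1 : n * t * n⁻¹ * t⁻¹ = 1 ∨ n * t * n⁻¹ * t⁻¹ = z := by
    have h1 := h.kU hnT hnb h.tY
    refine Eone.fix_s h.fr h1 ?_
    have h2 : e * (n * t * n⁻¹ * t⁻¹) * e⁻¹ =
        (e * n * e⁻¹) * (e * t * e⁻¹) * (e * n * e⁻¹)⁻¹ * (e * t * e⁻¹)⁻¹ := by group
    rw [h2, hne, h.et]
  have k3 : n * t3 * n⁻¹ * t3⁻¹ = e * (n * t2 * n⁻¹ * t2⁻¹) * e⁻¹ := by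
    have h2 : e * (n * t2 * n⁻¹ * t2⁻¹) * e⁻¹ =
        (e * n * e⁻¹) * (e * t2 * e⁻¹) * (e * n * e⁻¹)⁻¹ * (e * t2 * e⁻¹)⁻¹ := by group
    rw [h2, hne, h.et2]
  have kp : (n * t * n⁻¹ * t⁻¹) * (n * t2 * n⁻¹ * t2⁻¹) * (n * t3 * n⁻¹ * t3⁻¹) = 1 := by
    rw [← h.mulK (h.TQ hnT) h.tY h.t2Y, ← h.mulK (h.TQ hnT) (Y.mul_mem h.tY h.t2Y) h.t3Y, h.prod]
    group
  have ezz : e * z * e⁻¹ = z := h.fr.zSc h.fr.sS
  -- conjugates
  have xit : x⁻¹ * t * x = t3 := by rw [← h.xt3]; group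
  have xit2 : x⁻¹ * t2 * x = t := by rw [← h.xt]; group
  have xiz : x⁻¹ * z * x = p3 := by rw [← h.xp3]; group
  have xip2 : x⁻¹ * p2 * x = z := by rw [← h.xz]; group
  have xip3 : x⁻¹ * p3 * x = p2 := by rw [← h.xp2]; group
  have kx : ∀ y : G, (x * n * x⁻¹) * y * (x * n * x⁻¹)⁻¹ * y⁻¹ =
      x * (n * (x⁻¹ * y * x) * n⁻¹ * (x⁻¹ * y * x)⁻¹) * x⁻¹ := by intro y; group
  have ky : ∀ y : G, (x⁻¹ * n * x) * y * (x⁻¹ * n * x)⁻¹ * y⁻¹ =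
      x⁻¹ * (n * (x * y * x⁻¹) * n⁻¹ * (x * y * x⁻¹)⁻¹) * x := by intro y; group
  have kxt := kx t
  have kxt2 := kx t2
  have kyt := ky t
  have kyt2 := ky t2
  rw [xit] at kxt
  rw [xit2] at kxt2
  rw [h.xt] at kyt
  rw [h.xt2] at kyt2
  obtain ⟨hmG, hme⟩ := h.m_cond hnG hne
  have hn1G := h.Gd_x hnG
  have hn2G := h.Gd_xi hnG
  -- the value of `κ` on a product
  have kmul : ∀ n1 ∈ TT S A, ∀ n2 ∈ TT S A, ∀ y ∈ Y, (n1 * n2) * y * (n1 * n2)⁻¹ * y⁻¹ =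
      (n2 * y * n2⁻¹ * y⁻¹) * (n1 * y * n1⁻¹ * y⁻¹) := by
    intro n1 hn1 n2 hn2 y hy
    have h1 := h.QY n2 (h.TQ hn2) y hy
    have h2 := Tc hn1 h1
    calc (n1 * n2) * y * (n1 * n2)⁻¹ * y⁻¹ = (n1 * (n2 * y * n2⁻¹ * y⁻¹)) * y * n1⁻¹ * y⁻¹ := by group
      _ = _ := by rw [h2]; group
  have k2 := Eone.mem_U h.fr (h.kU hnT hnb h.t2Y)
  rw [h.xz, h.zp2] at k2
  rcases k2 with k2 | k2 | k2 | k2
  · -- `n` centralises `Y`
    have k3' : n * t3 * n⁻¹ * t3⁻¹ = 1 := by rw [k3, k2]; group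
    rw [k2, k3', mul_one, mul_one] at kp
    exact hnY (hcl n hnT (h.cent_of hnT kp k2))
  · -- case (A)
    have k3' : n * t3 * n⁻¹ * t3⁻¹ = z := by rw [k3, k2, ezz]
    rw [k2, k3', mul_assoc, hz2, mul_one] at kp
    rw [k3', h.xz] at kxt
    rw [kp] at kxt2
    rw [k2, xiz] at kyt
    rw [k3', xiz] at kyt2
    obtain ⟨y0, hy0, hcC⟩ := hn _ hmG hme
    generalize x⁻¹ * n * x = n2 at *
    generalize x * n * x⁻¹ = n1 at *
    have e1 := kmul n1 hn1G.1 n2 hn2G.1 t h.tY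
    have e2 := kmul n1 hn1G.1 n2 hn2G.1 t2 h.t2Y
    rw [kxt, kyt, h.p3p2] at e1
    rw [kxt2, kyt2] at e2
    have e3 := kmul _ hmG.1 y0 (h.YT hy0) t h.tY
    have e4 := kmul _ hmG.1 y0 (h.YT hy0) t2 h.t2Y
    have e5 : ∀ y ∈ Y, y0 * y * y0⁻¹ * y⁻¹ = 1 := by
      intro y hy
      rw [h.comm y0 hy0 y hy]; group
    rw [e1, e5 t h.tY, one_mul] at e3
    rw [e2, e5 t2 h.t2Y, one_mul] at e4
    refine h.false_of_pair hcC (mul_mem hmG (h.Y_le_Gd hy0)) e3 ?_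
    rw [e4]; group
  · -- case (B), `n` inverts `H`
    have k3' : n * t3 * n⁻¹ * t3⁻¹ = p3 := by rw [k3, k2, h.ep2]
    rw [k2, k3', mul_assoc, h.p2p3] at kp
    have kp' : n * t * n⁻¹ * t⁻¹ = z := by
      rw [eq_inv_of_mul_eq_one_left kp, h.fr.zi]
    have hnn := h.sqz hnC hnG kp'
    rw [k3', h.xp3] at kxt
    rw [kp', h.xz] at kxt2
    rw [k2, xip2] at kyt
    rw [k3', xip3] at kyt2
    have s1 : (x * n * x⁻¹) * (x * n * x⁻¹) = p2 := by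
      have : (x * n * x⁻¹) * (x * n * x⁻¹) = x * (n * n) * x⁻¹ := by group
      rw [this, hnn, h.xz]
    have s2 : (x⁻¹ * n * x) * (x⁻¹ * n * x) = p3 := by
      have : (x⁻¹ * n * x) * (x⁻¹ * n * x) = x⁻¹ * (n * n) * x := by group
      rw [this, hnn, xiz]
    generalize x⁻¹ * n * x = n2 at *
    generalize x * n * x⁻¹ = n1 at *
    have e1 := kmul n1 hn1G.1 n2 hn2G.1 t h.tY
    have e2 := kmul n1 hn1G.1 n2 hn2G.1 t2 h.t2Y
    rw [kxt, kyt, hz2] at e1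
    rw [kxt2, kyt2, h.sqA pA] at e2
    have hmY := hcl _ hmG.1 (h.cent_of hmG.1 e1 e2)
    have e3 := h.kappa_sq hn1G.1 kxt kxt2 hmY
    obtain ⟨m, hm⟩ : ∃ m, m = n1 * n2 := ⟨_, rfl⟩
    rw [← hm] at e3 hmY
    have hmm := h.sqA (show m * m ∈ A from by
      rcases h.sq_cases hmY with e | e | e | e <;> rw [e]
      exacts [A.one_mem, h.fr.zA, pA, h.fr.UA h.p3U])
    have e4 : n1 * m * n1⁻¹ * m = 1 := by
      have : n1 * m * n1⁻¹ * m = (n1 * m * n1⁻¹ * m⁻¹) * (m * m) := by group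
      rw [this, e3, hmm]
    have e5 : n2 * n2 = (n1 * n1)⁻¹ * (n1 * m * n1⁻¹ * m) := by
      have : n2 = n1⁻¹ * m := by rw [hm]; group
      rw [this]; group
    rw [s2, s1, e4, mul_one, h.fr.invA pA] at e5
    exact h.p23 e5.symm
  · -- case (B), `κ(t₂) = p₃`
    have k3' : n * t3 * n⁻¹ * t3⁻¹ = p2 := by rw [k3, k2, h.ep3]
    rw [k2, k3', mul_assoc, h.p3p2] at kp
    have kp' : n * t * n⁻¹ * t⁻¹ = z := by
      rw [eq_inv_of_mul_eq_one_left kp, h.fr.zi]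
    exact h.false_of_pair hnC hnG kp' k2

/-- The end of CASE I: sections 5, 6 and 7. -/
theorem false_of_ntrick [Finite G]
    (hn : ∀ n ∈ h.Gd, n * e * n⁻¹ * e⁻¹ ∈ Y →
      ∃ y ∈ Y, n * y ∈ (TT S A ⊓ centralizer ({b, e} : Set G) : Subgroup G)) : False := by
  have hT := h.T_le hn
  have R : Eone.Root S A U z x e t :=
    { mem := h.YT h.tY
      sq := h.tt
      Q := fun g hg => h.QY g hg t h.tY
      s := by rw [h.et, mul_inv_cancel]; exact A.one_mem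
      prod := by rw [h.xt, h.xt2]; exact h.prod
      cube := by rw [h.xt, h.xt2]; exact h.xt3
      comm := by rw [h.xt]; exact h.comm t h.tY t2 h.t2Y }
  refine Eone.false_of_T_mem h.fr R ?_ h.bQ h.bb ?_
  · intro y hy
    rw [h.xt]
    exact h.mem y (hT hy)
  · intro hbT
    have h1 : b * f * b⁻¹ = f := by rw [Tc hbT h.fr.fA]; group
    rw [h.bf] at h1
    exact h.fr.z1 (mul_eq_left.1 h1)

end NT

namespace Ci

variable {S : Sylow 2 G} {A U Y : Subgroup G} {z f x e t b : G} (h : Ci S A U z f x e Y t b)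

include h

theorem nt [Finite G] (hz1 : b * t * b⁻¹ * t⁻¹ = z)
    (hz2 : b * (x * t * x⁻¹) * b⁻¹ * (x * t * x⁻¹)⁻¹ = x * z * x⁻¹ ∨
      b * (x * t * x⁻¹) * b⁻¹ * (x * t * x⁻¹)⁻¹ = x⁻¹ * z * x) :
    NT S A U Y z (x * z * x⁻¹) (x⁻¹ * z * x) f x e t (x * t * x⁻¹) (x⁻¹ * t * x) b := by
  have hf := h.yz.fr
  have et' : e * t * e⁻¹ = t := by rw [h.et]; group
  have c3 : x * (x * z * x⁻¹) * x⁻¹ = x⁻¹ * z * x := by
    have h1 := Eone.p3_conj hf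
    calc x * (x * z * x⁻¹) * x⁻¹ = x⁻¹ * (x * (x * (x * z * x⁻¹) * x⁻¹) * x⁻¹) * x := by group
      _ = _ := by rw [h1]
  have d3 : x * (x * t * x⁻¹) * x⁻¹ = x⁻¹ * t * x := by
    have h1 := h.yz.x3 t h.yz.tY
    have h2 : x * (x * (x * t * x⁻¹) * x⁻¹) * x⁻¹ = t := by
      rw [Eone.conj_odd3, h1]; group
    calc x * (x * t * x⁻¹) * x⁻¹ = x⁻¹ * (x * (x * (x * t * x⁻¹) * x⁻¹) * x⁻¹) * x := by group
      _ = _ := by rw [h2]
  have e3 := Eone.p3_eq hf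
  rw [c3] at e3
  have p3U' := Eone.p3U hf
  rw [c3] at p3U'
  have ep2' := Eone.s_conj_p2 hf
  rw [c3] at ep2'
  have ei : e⁻¹ = e := inv_eq_of_mul_eq_one_left h.ee
  have p3ne : x⁻¹ * z * x ≠ 1 := by
    intro h1
    apply hf.z1
    have : z = x * (x⁻¹ * z * x) * x⁻¹ := by group
    rw [this, h1]; group
  have p3z : x⁻¹ * z * x ≠ z := by
    rw [← c3]; exact Eone.p3_ne_z hf
  have d2 : e * (x * t * x⁻¹) * e⁻¹ = x⁻¹ * t * x := by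
    rw [Eone.s_conj_x hf, et']
  have prod := h.yz.tr
  rw [d3] at prod
  exact
    { fr := hf
      AY := h.yz.AY
      YT := h.yz.YT
      comm := h.yz.comm
      nS := h.yz.nS
      nx := h.yz.nx
      QY := h.yz.QY
      tY := h.yz.tY
      t2Y := mem_norm h.yz.nx h.yz.tY
      t3Y := mem_norm' h.yz.nx h.yz.tY
      mem := h.yz.mem
      tt := h.yz.tt
      tt2 := by rw [← h.yz.tt]; group
      tt3 := by
        have : x⁻¹ * t * x * (x⁻¹ * t * x) = x⁻¹ * (t * t) * x := by group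
        rw [this, h.yz.tt]
      prod := prod
      xt := rfl
      xt2 := d3
      xt3 := by group
      xz := rfl
      xp2 := c3
      xp3 := by group
      p2U := Eone.p2U hf
      p3U := p3U'
      zp2 := e3.symm
      p2ne := Eone.p2_ne hf
      p2z := hf.xz
      p3ne := p3ne
      p3z := p3z
      p23 := by
        rw [e3]
        intro h1
        exact hf.z1 (mul_eq_right.1 h1.symm)
      bQ := h.bQ
      bb := h.bb
      bf := h.bf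
      be := h.be
      ee := h.ee
      et := et'
      et2 := d2
      et3 := by
        rw [← d2]
        have : e * (e * (x * t * x⁻¹) * e⁻¹) * e⁻¹ = (e * e) * (x * t * x⁻¹) * (e * e)⁻¹ := by group
        rw [this, h.ee]; group
      ep2 := ep2'
      ep3 := by
        rw [← ep2']
        have : e * (e * (x * z * x⁻¹) * e⁻¹) * e⁻¹ = (e * e) * (x * z * x⁻¹) * (e * e)⁻¹ := by group
        rw [this, h.ee]; group
      bt := hz1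
      bt2 := hz2 }

/-- **The end of CASE I** (sections 5, 6, 7): the n-trick is impossible. -/
theorem false_of_ntrick_of [Finite G]
    (hz : b * t * b⁻¹ * t⁻¹ = z ∧ (b * (x * t * x⁻¹) * b⁻¹ * (x * t * x⁻¹)⁻¹ = x * z * x⁻¹ ∨
      b * (x * t * x⁻¹) * b⁻¹ * (x * t * x⁻¹)⁻¹ = x⁻¹ * z * x))
    (hn : ∀ n ∈ TT S A, n * n ∈ Y → (∀ q ∈ QQ S U, n * q * n⁻¹ * q⁻¹ ∈ Y) → n * e * n⁻¹ * e⁻¹ ∈ Y →
      ∃ y ∈ Y, (n * y) * b = b * (n * y) ∧ (n * y) * e = e * (n * y)) : False := by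
  have N := h.nt hz.1 hz.2
  refine N.false_of_ntrick ?_
  rintro n ⟨hn1, hn2, hn3⟩ hn4
  obtain ⟨y, hy, h1, h2⟩ := hn n hn1 hn2 hn3 hn4
  exact ⟨y, hy, NT.mem_CC.2 ⟨mul_mem hn1 (N.YT hy), NT.conj_comm.2 h1.symm, NT.conj_comm.2 h2.symm⟩⟩

end Ci

end Cfsg.Agent.RankThreeFus
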