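import Cfsg.Agent.RankThreeFus.SecFour
import Cfsg.Agent.RankThreeFus.NTrick
import Cfsg.Agent.RankThreeFus.SecOne

/-!
# S1730, branch (B), (B8*), CASE I, `PT ≠ S`: the end
-/

set_option autoImplicit false
set_option linter.unusedSectionVars false
set_option linter.unusedVariables false

namespace Cfsg.Agent.RankThreeFus

open Subgroup Cfsg.Agent.Lib.GoldschmidtFusion Cfsg.Agent.StdL2.G23Aut Cfsg.Agent.Lib.EssentialFusion

variable {G : Type*} [Group G]

/-- CASE I with `PT ≠ S` is impossible (given LEMMA Z'). -/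
theorem Pd.false_of_zprime [Finite G] {S : Sylow 2 G} {A U : Subgroup G} {z f x e : G} {Y : Subgroup G}
    {t b : G} {P : Subgroup G} (h : Pd S A U z f x e Y t b P)
    (hz : b * t * b⁻¹ * t⁻¹ = z ∧ (b * (x * t * x⁻¹) * b⁻¹ * (x * t * x⁻¹)⁻¹ = x * z * x⁻¹ ∨
      b * (x * t * x⁻¹) * b⁻¹ * (x * t * x⁻¹)⁻¹ = x⁻¹ * z * x)) : False := by
  have h5 : x⁻¹ * z * x = z * (x * z * x⁻¹) := by
    have h5 := h.fr.xz3
    calc x⁻¹ * z * x = x⁻¹ * (x * (z * (x * z * x⁻¹)) * x⁻¹) * x := by rw [h5]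
      _ = _ := by group
  refine h.ci.false_of_ntrick_of hz (h.ntrick hz.1 ?_)
  rw [← h5]
  exact hz.2

/-- **CASE I with `[A, P] ≤ ⟨z⟩` is impossible.** -/
theorem Pd.false [Finite G] {S : Sylow 2 G} {A U : Subgroup G} {z f x e : G} {Y : Subgroup G}
    {t b : G} {P : Subgroup G} (h : Pd S A U z f x e Y t b P) : False :=
  h.false_of_zprime h.ci.zprime

/-- **CASE I with `[A, P] ≤ ⟨z⟩` is impossible.** -/
theorem Fr.small_false [Finite G] {S : Sylow 2 G} {A U : Subgroup G} {z f x s : G} {P : Subgroup G}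
    (h : Fr S A U z f x s) (hE : Ess S P) (hAP : A ≤ P) (hz : ∀ l ∈ normalizer (P : Set G), l * z = z * l)
    (hs : ∀ g ∈ P, ∀ a ∈ A, g * a * g⁻¹ = a ∨ g * a * g⁻¹ = z * a) {l : G}
    (hl : l ∈ normalizer (P : Set G)) (hal : ∀ a ∈ A, a ∈ cj l A → a = 1 ∨ a = z) : False := by
  have hAl : A ⊓ cj l A = zpowers z := by
    apply le_antisymm
    · rintro a ⟨ha, ha'⟩
      rcases hal a ha ha' with rfl | rfl
      · exact one_mem _
      · exact mem_zpowers _
    · rw [zpowers_le]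
      refine ⟨h.zA, mem_cj.2 ?_⟩
      have h1 := hz l hl
      have h2 : l⁻¹ * z * l = z := by
        rw [mul_assoc, ← h1]; group
      rw [h2]
      exact h.zA
  obtain ⟨f', x', e, Y, t, b, hPd, -⟩ := h.exists_pd hE hAP hz hl hAl hs
  exact hPd.false

end Cfsg.Agent.RankThreeFus
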