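import Cfsg.Agent.RankThreeFus.Choice
import Cfsg.Agent.RankThreeFus.LastTools

/-!
# S1730 (B8*): the Frattini argument for the maximal choice

`Choice.max_conj`: a subgroup of maximal order is `N(U)`-conjugate to a maximal choice.
`Choice.Max.frattini`: if `K ⊴ Γ`, `K ≤ N(U)`, `Γ ≰ N(U)`, `U ≤ K ⊓ S` and `|Γ ⊓ S| > |P|` then
`|K ⊓ S| ≤ |P|`, and in case of equality `K ⊓ S` is `N(U)`-conjugate to a maximal choice.
-/

set_option autoImplicit false
set_option linter.style.haveILetI false

namespace Cfsg.Agent.RankThreeFus.Choice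

open Subgroup Cfsg.Agent.Lib.GoldschmidtFusion Cfsg.Agent.Lib.EssentialFusion

variable {G : Type*} [Group G] [Finite G] {p : ℕ} [hp : Fact p.Prime]

/-- A subgroup of maximal order is `N(U)`-conjugate to a maximal choice. -/
theorem max_conj (S : Sylow p G) {U X : Subgroup G} (hXne : X < (S : Subgroup G)) (hUX : U ≤ X)
    (hNX : ¬ normalizer (X : Set G) ≤ normalizer (U : Set G))
    (max : ∀ R : Subgroup G, R ≤ S → U ≤ R → Nat.card X < Nat.card R →
      normalizer (R : Set G) ≤ normalizer (U : Set G)) :
    ∃ k ∈ normalizer (U : Set G), Max S U (X.map (MulAut.conj k).toMonoidHom) := by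
  have hXS : X ≤ S := hXne.le
  -- make it fully normalised
  obtain ⟨R, hSR, hRN, hR, hRi⟩ := exists_sylow_in (p := p)
    (N := normalizer (X : Set G)) (D := (S : Subgroup G) ⊓ normalizer (X : Set G)) inf_le_right
    (S.isPGroup'.to_le inf_le_left)
  obtain ⟨k, -, hk⟩ := exists_conj_le_in (p := p) (N := ⊤) (R := (S : Subgroup G)) (D := R) S.isPGroup'
    (by rw [relIndex_top_right]; exact S.not_dvd_index) le_top hR
  have hlt : X < (S : Subgroup G) ⊓ normalizer (X : Set G) := lt_inf_normalizer S.isPGroup' hXne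
  have hkU : k ∈ normalizer (U : Set G) := by
    refine control (S := S) max (A := (S : Subgroup G) ⊓ normalizer (X : Set G)) inf_le_left
      ((map_conj_mono hSR k).trans hk) (hUX.trans hlt.le) ?_
    exact Set.Finite.card_lt_card (Set.toFinite _) hlt
  set P : Subgroup G := X.map (MulAut.conj k).toMonoidHom with hP
  have hcard : Nat.card P = Nat.card X := card_map_conj _ _
  have hPS : P ≤ S := (map_conj_mono (hlt.le.trans hSR) k).trans hk
  have hUP : U ≤ P := by
    have := map_conj_mono hUX k
    rwa [mem_normalizer_iff_map_conj.1 hkU] at this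
  have hNP : normalizer (P : Set G) = (normalizer (X : Set G)).map (MulAut.conj k).toMonoidHom := by
    ext g
    rw [mem_map_conj, mem_normalizer_iff_map_conj, mem_normalizer_iff_map_conj, hP, map_conj_map_conj]
    constructor
    · intro h
      have h2 := congrArg (fun Z : Subgroup G => Z.map (MulAut.conj k⁻¹).toMonoidHom) h
      simp only [map_conj_map_conj, inv_mul_cancel, map_conj_one] at h2
      rw [← h2]
      congr 1
      congr 1
      group
    · intro h
      have h2 := congrArg (fun Z : Subgroup G => Z.map (MulAut.conj k).toMonoidHom) h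
      simp only [map_conj_map_conj] at h2
      rw [← h2]
      congr 1
      congr 1
      group
  have hnot : ¬ normalizer (P : Set G) ≤ normalizer (U : Set G) := by
    intro h
    apply hNX
    intro g hg
    have h1 : k * g * k⁻¹ ∈ normalizer (P : Set G) := by
      rw [hNP, mem_map_conj]
      have : k⁻¹ * (k * g * k⁻¹) * k = g := by group
      rwa [this]
    have h2 := mul_mem (mul_mem (inv_mem hkU) (h h1)) hkU
    have : k⁻¹ * (k * g * k⁻¹) * k = g := by group
    rwa [this] at h2
  have hPlt : P < (S : Subgroup G) := by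
    refine lt_of_le_of_ne hPS ?_
    intro h
    have h1 : Nat.card X < Nat.card (S : Subgroup G) := Set.Finite.card_lt_card (Set.toFinite _) hXne
    rw [← hcard, h] at h1
    exact lt_irrefl _ h1
  have maxP : ∀ R : Subgroup G, R ≤ S → U ≤ R → Nat.card P < Nat.card R →
      normalizer (R : Set G) ≤ normalizer (U : Set G) := by
    rw [hcard]; exact max
  have hfull : ¬ p ∣ ((S : Subgroup G) ⊓ normalizer (P : Set G)).relIndex (normalizer (P : Set G)) := by
    have hle : R.map (MulAut.conj k).toMonoidHom ≤ (S : Subgroup G) ⊓ normalizer (P : Set G) := by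
      refine le_inf hk ?_
      rw [hNP]
      exact map_conj_mono hRN k
    have h1 : (R.map (MulAut.conj k).toMonoidHom).relIndex (normalizer (P : Set G)) =
        R.relIndex (normalizer (X : Set G)) := by
      rw [hNP]
      exact relIndex_map_map_of_injective _ _ (MulAut.conj k).injective
    intro h
    apply hRi
    rw [← h1]
    exact h.trans (relIndex_dvd_of_le_left _ hle)
  -- centric
  have hcen : centralizer (P : Set G) ⊓ S ≤ P := by
    by_contra hne
    apply hnot
    set C : Subgroup G := centralizer (P : Set G) with hC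
    set N : Subgroup G := normalizer (P : Set G) with hN
    have hCN : C ≤ N := centralizer_le_normalizer _
    -- `S ∩ C` is Sylow in `C`
    have hSC : ¬ p ∣ (C ⊓ S).relIndex C := by
      obtain ⟨R', hR'1, hR'2, hR'3, hR'4⟩ := exists_sylow_in (p := p) (N := C) (D := C ⊓ (S : Subgroup G))
        inf_le_left (S.isPGroup'.to_le inf_le_right)
      obtain ⟨m, hm, hm'⟩ := exists_conj_le_in (p := p) (N := N) (R := (S : Subgroup G) ⊓ N) (D := R')
        (S.isPGroup'.to_le inf_le_left) hfull (hR'2.trans hCN) hR'3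
      have hCm : C.map (MulAut.conj m).toMonoidHom = C := by
        ext x
        rw [mem_map_conj, hC, ← mem_centralizer_map_conj, mem_normalizer_iff_map_conj.1 hm]
      have hle : R'.map (MulAut.conj m).toMonoidHom ≤ C ⊓ S := by
        refine le_inf ?_ (hm'.trans inf_le_left)
        have := map_conj_mono hR'2 m
        rwa [hCm] at this
      have hcards : Nat.card (C ⊓ (S : Subgroup G) : Subgroup G) = Nat.card R' :=
        le_antisymm (card_le_card hR'1) (by
          have := card_le_card hle
          rwa [card_map_conj] at this)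
      have heq : C ⊓ (S : Subgroup G) = R' :=
        Subgroup.eq_of_le_of_card_ge hR'1 (by rw [hcards])
      rw [heq]; exact hR'4
    set R' : Subgroup G := P ⊔ (C ⊓ S) with hR'
    have hR'S : R' ≤ S := sup_le hPS inf_le_right
    have hPR' : P < R' := by
      refine lt_of_le_of_ne le_sup_left ?_
      intro h
      apply hne
      rw [h]
      exact le_sup_right
    intro g hg
    -- Frattini
    have hCg : (C ⊓ (S : Subgroup G)).map (MulAut.conj g).toMonoidHom ≤ C := by
      have hCm : C.map (MulAut.conj g).toMonoidHom = C := by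
        ext x
        rw [mem_map_conj, hC, ← mem_centralizer_map_conj, mem_normalizer_iff_map_conj.1 hg]
      have := map_conj_mono (inf_le_left : C ⊓ (S : Subgroup G) ≤ C) g
      rwa [hCm] at this
    obtain ⟨c, hc, hc'⟩ := exists_conj_le_in (p := p) (N := C) (R := C ⊓ (S : Subgroup G))
      (S.isPGroup'.to_le inf_le_right) hSC hCg ((S.isPGroup'.to_le inf_le_right).map _)
    rw [map_conj_map_conj] at hc'
    have hcg : c * g ∈ normalizer (R' : Set G) := by
      rw [mem_normalizer_iff_map_conj, hR', Subgroup.map_sup]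
      have h1 : P.map (MulAut.conj (c * g)).toMonoidHom = P :=
        mem_normalizer_iff_map_conj.1 (mul_mem (hCN hc) hg)
      have h2 : (C ⊓ (S : Subgroup G)).map (MulAut.conj (c * g)).toMonoidHom = C ⊓ S :=
        Subgroup.eq_of_le_of_card_ge hc' (by rw [card_map_conj])
      rw [h1, h2]
    have h3 : c * g ∈ normalizer (U : Set G) :=
      maxP R' hR'S (hUP.trans hPR'.le) (Set.Finite.card_lt_card (Set.toFinite _) hPR') hcg
    have h4 : c ∈ normalizer (U : Set G) :=
      centralizer_le_normalizer _ (centralizer_le (by exact_mod_cast hUP) hc)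
    have : g = c⁻¹ * (c * g) := by group
    rw [this]
    exact mul_mem (inv_mem h4) h3
  refine ⟨k, hkU, ess_of_moved_ne S hPlt hfull hcen ?_, hUP, hnot, maxP⟩
  intro h
  apply hnot
  rw [← h]
  refine sup_le ?_ ?_
  · exact (centralizer_le (by exact_mod_cast hUP)).trans (centralizer_le_normalizer _)
  · rw [closure_le]
    rintro n ⟨-, R₁, hR₁, hR₁S, hR₁n⟩
    exact control (S := S) maxP hR₁S hR₁n (hUP.trans hR₁.le) (Set.Finite.card_lt_card (Set.toFinite _) hR₁)

/-- **The Frattini argument.** -/
theorem Max.frattini {S : Sylow 2 G} {U P : Subgroup G} (hM : Max S U P) {Γ K : Subgroup G} (hKΓ : K ≤ Γ)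
    (hΓK : Γ ≤ normalizer (K : Set G)) (hKU : K ≤ normalizer (U : Set G)) (hU : U ≤ K ⊓ (S : Subgroup G))
    (hlt : Nat.card P < Nat.card (Γ ⊓ (S : Subgroup G) : Subgroup G))
    (hΓU : ¬ Γ ≤ normalizer (U : Set G)) :
    Nat.card (K ⊓ (S : Subgroup G) : Subgroup G) ≤ Nat.card P ∧
      (Nat.card (K ⊓ (S : Subgroup G) : Subgroup G) = Nat.card P →
        ∃ m ∈ normalizer (U : Set G), Max S U ((K ⊓ (S : Subgroup G)).map (MulAut.conj m).toMonoidHom)) := by
  haveI : Fact (Nat.Prime 2) := ⟨Nat.prime_two⟩
  obtain ⟨R, hDR, hRΓ, hR, hRi⟩ := exists_sylow_in (p := 2) (N := Γ) (D := Γ ⊓ (S : Subgroup G)) inf_le_left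
    (S.isPGroup'.to_le inf_le_right)
  obtain ⟨k, -, hk⟩ := exists_conj_le_in (p := 2) (N := ⊤) (R := (S : Subgroup G)) (D := R) S.isPGroup'
    (by rw [relIndex_top_right]; exact S.not_dvd_index) le_top hR
  have hkU : k ∈ normalizer (U : Set G) := by
    refine control (S := S) hM.max (A := Γ ⊓ (S : Subgroup G)) inf_le_right
      ((map_conj_mono hDR k).trans hk) ?_ hlt
    exact le_inf ((hU.trans inf_le_left).trans hKΓ) (hU.trans inf_le_right)
  -- `Σ = R ∩ K` is Sylow in `K`
  set T : Subgroup G := R ⊓ K with hT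
  have hTi : ¬ 2 ∣ T.relIndex K := by
    haveI : (K.subgroupOf Γ).Normal := (normal_subgroupOf_iff_le_normalizer hKΓ).2 hΓK
    have hp : IsPGroup 2 (R.subgroupOf Γ) := hR.comap_subtype
    have h2 := Cfsg.Agent.Lib.SylowNormalInf.not_dvd_relIndex (hp.toSylow hRi) (K.subgroupOf Γ)
    intro h3
    apply h2
    have e1 : ((hp.toSylow hRi : Sylow 2 Γ) : Subgroup Γ) = R.subgroupOf Γ := rfl
    rw [e1]
    have h5 := Subgroup.relIndex_subgroupOf (H := R ⊓ K) (K := K) hKΓ
    have h6 : (R ⊓ K).subgroupOf Γ = R.subgroupOf Γ ⊓ K.subgroupOf Γ := comap_inf _ _ _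
    rw [← inf_relIndex_right, ← h6, h5]
    exact h3
  have hTp : IsPGroup 2 T := hR.to_le inf_le_left
  have hKT : K ⊓ (S : Subgroup G) ≤ T := le_inf ((inf_le_inf_right _ hKΓ).trans hDR) inf_le_left
  have hUT : U ≤ T := hU.trans hKT
  -- Frattini
  have hNT : ¬ normalizer (T : Set G) ≤ normalizer (U : Set G) := by
    intro hle
    apply hΓU
    intro y hy
    obtain ⟨c, hc, hcy⟩ := frattini_rel hΓK (inf_le_right : T ≤ K) hTp hTi hy
    have h1 := mul_mem (inv_mem (hKU hc)) (hle hcy)
    rwa [inv_mul_cancel_left] at h1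
  have hNT' : ¬ normalizer ((T.map (MulAut.conj k).toMonoidHom : Subgroup G) : Set G) ≤
      normalizer (U : Set G) := by
    intro hle
    apply hNT
    intro y hy
    have h1 : k * y * k⁻¹ ∈ normalizer ((T.map (MulAut.conj k).toMonoidHom : Subgroup G) : Set G) := by
      have h2 := cj_eq_iff.2 hy
      rw [← cj_eq_iff]
      change cj (k * y * k⁻¹) (cj k T) = cj k T
      rw [cj_cj, inv_mul_cancel_right, ← cj_cj, h2]
    have h2 := mul_mem (mul_mem (inv_mem hkU) (hle h1)) hkU
    have : k⁻¹ * (k * y * k⁻¹) * k = y := by group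
    rwa [this] at h2
  have hUT' : U ≤ T.map (MulAut.conj k).toMonoidHom := by
    have := map_conj_mono hUT k
    rwa [mem_normalizer_iff_map_conj.1 hkU] at this
  have hTS : T.map (MulAut.conj k).toMonoidHom ≤ (S : Subgroup G) := (map_conj_mono inf_le_left k).trans hk
  have hcT : Nat.card T ≤ Nat.card P := by
    by_contra hcon
    push Not at hcon
    apply hNT'
    refine hM.max _ hTS hUT' ?_
    rwa [card_map_conj]
  have hcK : Nat.card (K ⊓ (S : Subgroup G) : Subgroup G) ≤ Nat.card T := card_le_card hKT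
  refine ⟨hcK.trans hcT, fun he => ?_⟩
  have hTK : K ⊓ (S : Subgroup G) = T := Subgroup.eq_of_le_of_card_ge hKT (by rw [he]; exact hcT)
  rw [hTK]
  have hTS0 : T < (S : Subgroup G) := by
    refine lt_of_le_of_ne (by rw [← hTK]; exact inf_le_right) ?_
    intro e
    have h1 : Nat.card P < Nat.card (S : Subgroup G) := Set.Finite.card_lt_card (Set.toFinite _) hM.ess.lt
    rw [e] at hcT
    omega
  refine max_conj S hTS0 hUT hNT ?_
  intro R' hR' hUR' hc
  refine hM.max R' hR' hUR' ?_
  rw [← hTK, he] at hc
  exact hc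

end Cfsg.Agent.RankThreeFus.Choice
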