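import Cfsg.Agent.RankThreeFus.CaseIBase
import Cfsg.Agent.RankThreeFus.Eone
import Cfsg.Agent.RankThreeFus.NoZ

/-!
# S1730, branch (B), (B8*), CASE I: Lemma Z'

In the data `Ci` of CASE I: `[b, t] = z` and `[b, t^x]` is not in `⟨z⟩`.
-/

set_option autoImplicit false
set_option linter.style.haveILetI false
set_option linter.unusedSectionVars false
set_option linter.unusedVariables false

namespace Cfsg.Agent.RankThreeFus

open Subgroup Cfsg.Agent.Lib.GoldschmidtFusion Cfsg.Agent.StdL2.G23Aut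

variable {G : Type*} [Group G]

namespace Yz

variable {S : Sylow 2 G} {A U : Subgroup G} {z f x s : G} {Y : Subgroup G} {t : G}
  (h : Yz S A U z f x s Y t)

include h

theorem rY : x * t * x⁻¹ ∈ Y := mem_norm h.nx h.tY

theorem rr : (x * t * x⁻¹) * (x * t * x⁻¹) = x * z * x⁻¹ := by
  rw [← h.tt]; group

theorem UY {u : G} (hu : u ∈ U) : u ∈ Y := h.AY (h.fr.UA hu)

/-- every element of `U` is a square in `Y` -/
theorem exists_sq [Finite G] {u : G} (hu : u ∈ U) : ∃ y ∈ Y, y * y = u := by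
  rcases Eone.mem_U h.fr hu with rfl | rfl | rfl | rfl
  · exact ⟨1, one_mem _, by group⟩
  · exact ⟨t, h.tY, h.tt⟩
  · exact ⟨_, h.rY, h.rr⟩
  · refine ⟨t * (x * t * x⁻¹), mul_mem h.tY h.rY, ?_⟩
    have h1 := h.comm t h.tY _ h.rY
    calc t * (x * t * x⁻¹) * (t * (x * t * x⁻¹)) = t * ((x * t * x⁻¹) * t) * (x * t * x⁻¹) := by group
      _ = t * (t * (x * t * x⁻¹)) * (x * t * x⁻¹) := by rw [h1]
      _ = (t * t) * ((x * t * x⁻¹) * (x * t * x⁻¹)) := by group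
      _ = _ := by rw [h.tt, h.rr]

/-- two involutions of `Q` acting on `Y` with commutators in different subgroups of order two of `U` -/
theorem pow_four [Finite G] {c d u v : G} (hc : c ∈ QQ S U) (hd : d ∈ QQ S U) (hcc : c * c = 1)
    (hdd : d * d = 1) (hcf : c * f ≠ f * c) (hu : u ∈ U) (hv : v ∈ U) (huv : u ≠ v)
    (hcY : ∀ y ∈ Y, c * y * c⁻¹ * y⁻¹ = 1 ∨ c * y * c⁻¹ * y⁻¹ = u)
    (hdY : ∀ y ∈ Y, d * y * d⁻¹ * y⁻¹ = 1 ∨ d * y * d⁻¹ * y⁻¹ = v) : (c * d) ^ 4 = 1 := by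
  haveI : Fact (Nat.Prime 2) := ⟨Nat.prime_two⟩
  have hF := h.fr
  by_contra h4
  have hmS : c * d ∈ (S : Subgroup G) := mul_mem hc.1 hd.1
  obtain ⟨k, hk⟩ : ∃ k, orderOf (c * d) = 2 ^ k := by
    obtain ⟨k, hk⟩ := S.2 ⟨c * d, hmS⟩
    have h1 : (c * d) ^ 2 ^ k = 1 := by simpa using congrArg Subtype.val hk
    obtain ⟨j, -, hj⟩ := (Nat.dvd_prime_pow Nat.prime_two).1 (orderOf_dvd_of_pow_eq_one h1)
    exact ⟨j, hj⟩
  have hk3 : 3 ≤ k := by
    by_contra hk3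
    apply h4
    rw [← orderOf_dvd_iff_pow_eq_one, hk]
    have : k ≤ 2 := by omega
    exact (pow_dvd_pow 2 this)
  obtain ⟨j, rfl⟩ : ∃ j, k = j + 3 := ⟨k - 3, by omega⟩
  obtain ⟨w, hw⟩ : ∃ w, w = ((c * d) * (c * d)) ^ 2 ^ j := ⟨_, rfl⟩
  have hw2 : w = (c * d) ^ 2 ^ (j + 1) := by
    rw [hw, ← pow_two, ← pow_mul, ← pow_succ']
  have hww : (w * w) * (w * w) = 1 := by
    have e : (w * w) * (w * w) = (c * d) ^ 2 ^ (j + 3) := by
      rw [hw2, ← pow_add, ← pow_add, ← two_mul, ← two_mul, ← pow_succ', ← pow_succ']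
    rw [e, ← hk, pow_orderOf_eq_one]
  have hw1 : w * w ≠ 1 := by
    intro h1
    have e : w * w = (c * d) ^ 2 ^ (j + 2) := by
      rw [hw2, ← pow_add, ← two_mul, ← pow_succ']
    rw [e, ← orderOf_dvd_iff_pow_eq_one, hk] at h1
    have := Nat.pow_dvd_pow_iff_le_right (x := 2) (by norm_num) |>.1 h1
    omega
  have hci : c⁻¹ = c := inv_eq_of_mul_eq_one_right hcc
  have hdi : d⁻¹ = d := inv_eq_of_mul_eq_one_right hdd
  have hwc : c * w * c⁻¹ = w⁻¹ := by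
    have e : c * (c * d) * c⁻¹ = (c * d)⁻¹ := by
      rw [mul_inv_rev, hci, hdi, ← mul_assoc, hcc, one_mul]
    rw [hw2, ← conj_pow, e, inv_pow]
  have hwd : d * w * d⁻¹ = w⁻¹ := by
    have e : d * (c * d) * d⁻¹ = (c * d)⁻¹ := by
      rw [mul_inv_rev, hci, hdi, mul_assoc, mul_assoc, hdd, mul_one]
    rw [hw2, ← conj_pow, e, inv_pow]
  have hUc : ∀ q ∈ QQ S U, ∀ a ∈ U, q * a * q⁻¹ = a := fun q hq a ha => conj_eq_iff.2 (hF.Q_comm hq ha)
  have hcY' : ∀ y ∈ Y, c * y * c⁻¹ * y⁻¹ ∈ U := fun y hy => by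
    rcases hcY y hy with h1 | h1
    · rw [h1]; exact one_mem _
    · rw [h1]; exact hu
  have hdY' : ∀ y ∈ Y, d * y * d⁻¹ * y⁻¹ ∈ U := fun y hy => by
    rcases hdY y hy with h1 | h1
    · rw [h1]; exact one_mem _
    · rw [h1]; exact hv
  -- `(c d)²` centralises `Y`
  have hdY2 : ∀ y ∈ Y, (c * d) * (c * d) * y = y * ((c * d) * (c * d)) := by
    intro y hy
    obtain ⟨a, ha⟩ : ∃ a, a = c * y * c⁻¹ * y⁻¹ := ⟨_, rfl⟩
    obtain ⟨a', ha'⟩ : ∃ a', a' = d * y * d⁻¹ * y⁻¹ := ⟨_, rfl⟩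
    have h1 : c * y * c⁻¹ = a * y := by rw [ha]; group
    have h2 : d * y * d⁻¹ = a' * y := by rw [ha']; group
    have haU : a ∈ U := by rw [ha]; exact hcY' y hy
    have haU' : a' ∈ U := by rw [ha']; exact hdY' y hy
    have h3 : (c * d) * y * (c * d)⁻¹ = (a' * a) * y := by
      have e : (c * d) * y * (c * d)⁻¹ = c * (d * y * d⁻¹) * c⁻¹ := by group
      rw [e, h2]
      have e : c * (a' * y) * c⁻¹ = (c * a' * c⁻¹) * (c * y * c⁻¹) := by group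
      rw [e, hUc c hc a' haU', h1, mul_assoc]
    rw [← conj_eq_iff]
    have e : (c * d) * (c * d) * y * ((c * d) * (c * d))⁻¹ =
        (c * d) * ((c * d) * y * (c * d)⁻¹) * (c * d)⁻¹ := by group
    rw [e, h3]
    have e : (c * d) * (a' * a * y) * (c * d)⁻¹ = ((c * d) * (a' * a) * (c * d)⁻¹) *
        ((c * d) * y * (c * d)⁻¹) := by group
    rw [e, h3, hUc _ (mul_mem hc hd) _ (mul_mem haU' haU), ← mul_assoc,
      hF.sqA (hF.UA (mul_mem haU' haU)), one_mul]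
  have hwY : ∀ y ∈ Y, w * y = y * w := by
    intro y hy
    have h1 : Commute ((c * d) * (c * d)) y := hdY2 y hy
    rw [hw]
    exact (h1.pow_left _).eq
  have hwT : w ∈ TT S A := by
    rw [hw]
    exact pow_mem (hF.sq_mem_T (mul_mem hc hd)) _
  have hw2A : w * w ∈ A := hF.mem_A_of_sq (mul_mem hwT hwT) hww
  have hcw2 : c * (w * w) * c⁻¹ = w * w := by
    have e : c * (w * w) * c⁻¹ = (c * w * c⁻¹) * (c * w * c⁻¹) := by group
    rw [e, hwc, ← mul_inv_rev]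
    exact inv_eq_of_mul_eq_one_right hww
  have hw2U : w * w ∈ U := by
    rcases hF.mem_A hw2A with h1 | h1
    · exact h1
    · exfalso
      apply hcf
      have h2 := hUc c hc _ h1
      have e : c * (f * (w * w)) * c⁻¹ = (c * f * c⁻¹) * (c * (w * w) * c⁻¹) := by group
      rw [e, hcw2] at h2
      exact conj_eq_iff.1 (mul_right_cancel h2)
  obtain ⟨y, hy, hyy⟩ := h.exists_sq hw2U
  have hwy : w * y ∈ A := by
    refine hF.mem_A_of_sq (mul_mem hwT (h.YT hy)) ?_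
    calc w * y * (w * y) = w * (y * w) * y := by group
      _ = w * (w * y) * y := by rw [hwY y hy]
      _ = (w * w) * (y * y) := by group
      _ = 1 := by rw [hyy, hww]
  have hwYm : w ∈ Y := by
    have e : w = (w * y) * y⁻¹ := by group
    rw [e]
    exact mul_mem (h.AY hwy) (inv_mem hy)
  have e2 : w⁻¹ * w⁻¹ = w * w := by
    rw [← mul_inv_rev]
    exact inv_eq_of_mul_eq_one_right hww
  have h1 := hcY w hwYm
  have h2 := hdY w hwYm
  rw [hwc, e2] at h1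
  rw [hwd, e2] at h2
  rcases h1 with h1 | h1
  · exact hw1 h1
  · rcases h2 with h2 | h2
    · exact hw1 h2
    · exact huv (h1.symm.trans h2)

/-- the square of a product of order four of two involutions of `Q` is in `U` -/
theorem sq_mem_U [Finite G] {c d : G} (hc : c ∈ QQ S U) (hd : d ∈ QQ S U) (hcc : c * c = 1)
    (hdd : d * d = 1) (hcf : c * f ≠ f * c) (h4 : (c * d) ^ 4 = 1) : (c * d) * (c * d) ∈ U := by
  have hF := h.fr
  have hci : c⁻¹ = c := inv_eq_of_mul_eq_one_right hcc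
  have hdi : d⁻¹ = d := inv_eq_of_mul_eq_one_right hdd
  have h5 : ((c * d) * (c * d)) * ((c * d) * (c * d)) = 1 := by
    have e : (c * d) ^ 4 = ((c * d) * (c * d)) * ((c * d) * (c * d)) := by
      rw [pow_succ, pow_succ, pow_succ, pow_one]; group
    rw [← e, h4]
  have hA : (c * d) * (c * d) ∈ A := hF.mem_A_of_sq (hF.sq_mem_T (mul_mem hc hd)) h5
  rcases hF.mem_A hA with h1 | h1
  · exact h1
  · exfalso
    apply hcf
    have h2 : c * (f * ((c * d) * (c * d))) * c⁻¹ = f * ((c * d) * (c * d)) := conj_eq_iff.2 (hF.Q_comm hc h1)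
    have h3 : c * ((c * d) * (c * d)) * c⁻¹ = (c * d) * (c * d) := by
      have e1 : c * ((c * d) * (c * d)) * c⁻¹ = ((c * d) * (c * d))⁻¹ := by
        have e2 : ((c * d) * (c * d))⁻¹ = d⁻¹ * c⁻¹ * d⁻¹ * c⁻¹ := by group
        rw [e2, hci, hdi]
        calc c * (c * d * (c * d)) * c = (c * c) * d * c * d * c := by group
          _ = _ := by rw [hcc, one_mul]
      rw [e1]
      exact inv_eq_of_mul_eq_one_right h5
    have e : c * (f * ((c * d) * (c * d))) * c⁻¹ = (c * f * c⁻¹) * (c * ((c * d) * (c * d)) * c⁻¹) := by group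
    rw [e, h3] at h2
    exact conj_eq_iff.1 (mul_right_cancel h2)

end Yz

namespace Ci

variable {S : Sylow 2 G} {A U : Subgroup G} {z f x e : G} {Y : Subgroup G} {t b : G}
  (h : Ci S A U z f x e Y t b)

include h

theorem fr' : Fr S A U z f x e := h.yz.fr

theorem bU {u : G} (hu : u ∈ U) : b * u * b⁻¹ = u := conj_eq_iff.2 (h.yz.fr.Q_comm h.bQ hu)

theorem fix_b [Finite G] {a : G} (ha : a ∈ A) (hb : b * a * b⁻¹ = a) : a ∈ U := by
  have hF := h.yz.fr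
  rcases hF.mem_A ha with h1 | h1
  · exact h1
  · exfalso
    have h2 := h.bU h1
    have e1 : b * (f * a) * b⁻¹ = (b * f * b⁻¹) * (b * a * b⁻¹) := by group
    rw [e1, hb, h.bf, mul_assoc] at h2
    have h3 := mul_left_cancel h2
    exact hF.z1 (mul_eq_right.1 h3)

/-- `[b, Y] ≤ U` -/
theorem bY [Finite G] {y : G} (hy : y ∈ Y) : b * y * b⁻¹ * y⁻¹ ∈ U := by
  have hF := h.yz.fr
  obtain ⟨a, ha⟩ : ∃ a, a = b * y * b⁻¹ * y⁻¹ := ⟨_, rfl⟩
  have haA : a ∈ A := by rw [ha]; exact h.yz.QY b h.bQ y hy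
  rw [← ha]
  have h1 : b * y * b⁻¹ = a * y := by rw [ha]; group
  have hbi : b⁻¹ = b := inv_eq_of_mul_eq_one_right h.bb
  have h2 : b * (a * y) * b⁻¹ = y := by
    rw [← h1]
    calc b * (b * y * b⁻¹) * b⁻¹ = (b * b) * y * (b⁻¹ * b⁻¹) := by group
      _ = y := by rw [hbi, h.bb]; group
  have h3 : b * (a * y) * b⁻¹ = (b * a * b⁻¹) * (a * y) := by
    have e1 : b * (a * y) * b⁻¹ = (b * a * b⁻¹) * (b * y * b⁻¹) := by group
    rw [e1, h1]
  rw [h3, ← mul_assoc] at h2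
  have h4 := mul_eq_right.1 h2
  refine h.fix_b haA ?_
  rw [← inv_eq_of_mul_eq_one_left h4]
  exact hF.invA haA

/-- the map `y ↦ [b, y]` is multiplicative on `Y` -/
theorem bmul [Finite G] {y y' : G} (hy : y ∈ Y) (hy' : y' ∈ Y) :
    b * (y * y') * b⁻¹ * (y * y')⁻¹ = (b * y * b⁻¹ * y⁻¹) * (b * y' * b⁻¹ * y'⁻¹) := by
  have h1 := h.bY hy'
  obtain ⟨a, ha⟩ : ∃ a, a = b * y' * b⁻¹ * y'⁻¹ := ⟨_, rfl⟩
  rw [← ha] at h1 ⊢
  have h2 := h.yz.comm y hy a (h.yz.UY h1)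
  calc b * (y * y') * b⁻¹ * (y * y')⁻¹ = (b * y * b⁻¹) * (b * y' * b⁻¹ * y'⁻¹) * y⁻¹ := by group
    _ = (b * y * b⁻¹) * a * y⁻¹ := by rw [← ha]
    _ = (b * y * b⁻¹ * y⁻¹) * (y * a) * y⁻¹ := by group
    _ = (b * y * b⁻¹ * y⁻¹) * (a * y) * y⁻¹ := by rw [h2]
    _ = _ := by group

theorem ei : e⁻¹ = e := inv_eq_of_mul_eq_one_right h.ee

theorem bi : b⁻¹ = b := inv_eq_of_mul_eq_one_right h.bb

theorem ex : e * x * e = x⁻¹ := by
  have := h.yz.fr.sx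
  rwa [h.ei] at this

/-- `r = t^x`, `e r e = r^x` -/
theorem er [Finite G] : e * (x * t * x⁻¹) * e⁻¹ = x * (x * t * x⁻¹) * x⁻¹ := by
  have h1 := h.yz.trace_comm h.yz.tY
  have h2 : e * t * e⁻¹ = t := conj_eq_iff.2 h.et
  calc e * (x * t * x⁻¹) * e⁻¹ = (e * x * e⁻¹) * (e * t * e⁻¹) * (e * x * e⁻¹)⁻¹ := by group
    _ = x⁻¹ * t * x := by rw [h2, h.yz.fr.sx]; group
    _ = x⁻¹ * (x * (x * (x * t * x⁻¹) * x⁻¹) * x⁻¹) * x := by rw [h1]
    _ = _ := by group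

theorem eb : e * b * e⁻¹ = b := conj_eq_iff.2 h.be.symm

theorem ez : e * z * e⁻¹ = z := conj_eq_iff.2 (h.yz.fr.zc e h.yz.fr.sS)

theorem ep [Finite G] : e * (x * z * x⁻¹) * e⁻¹ = z * (x * z * x⁻¹) := by
  have hF := h.yz.fr
  have h5 := hF.xz3
  calc e * (x * z * x⁻¹) * e⁻¹ = (e * x * e⁻¹) * (e * z * e⁻¹) * (e * x * e⁻¹)⁻¹ := by group
    _ = x⁻¹ * z * x := by rw [hF.sx, h.ez, inv_inv]
    _ = x⁻¹ * (x * (z * (x * z * x⁻¹)) * x⁻¹) * x := by rw [h5]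
    _ = _ := by group

/-- `[b, t] ∈ ⟨z⟩` -/
theorem bt_mem [Finite G] : b * t * b⁻¹ * t⁻¹ = 1 ∨ b * t * b⁻¹ * t⁻¹ = z := by
  have hF := h.yz.fr
  refine hF.fix_s (h.bY h.yz.tY) ?_
  rw [← conj_eq_iff]
  have h2 : e * t * e⁻¹ = t := conj_eq_iff.2 h.et
  calc e * (b * t * b⁻¹ * t⁻¹) * e⁻¹ = (e * b * e⁻¹) * (e * t * e⁻¹) * (e * b * e⁻¹)⁻¹ * (e * t * e⁻¹)⁻¹ := by
        group
    _ = _ := by rw [h.eb, h2]

/-- `[b, r^x] = [b, r]^e` -/
theorem br3 [Finite G] : b * (x * (x * t * x⁻¹) * x⁻¹) * b⁻¹ * (x * (x * t * x⁻¹) * x⁻¹)⁻¹ =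
    e * (b * (x * t * x⁻¹) * b⁻¹ * (x * t * x⁻¹)⁻¹) * e⁻¹ := by
  have h1 := h.er
  calc b * (x * (x * t * x⁻¹) * x⁻¹) * b⁻¹ * (x * (x * t * x⁻¹) * x⁻¹)⁻¹
      = (e * b * e⁻¹) * (e * (x * t * x⁻¹) * e⁻¹) * (e * b * e⁻¹)⁻¹ * (e * (x * t * x⁻¹) * e⁻¹)⁻¹ := by
        rw [h.eb, h1]
    _ = _ := by group

/-- `[b, t] = [b, r] [b, r]^e` -/
theorem bt_eq [Finite G] : b * t * b⁻¹ * t⁻¹ = (b * (x * t * x⁻¹) * b⁻¹ * (x * t * x⁻¹)⁻¹) *
    (e * (b * (x * t * x⁻¹) * b⁻¹ * (x * t * x⁻¹)⁻¹) * e⁻¹) := by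
  have hF := h.yz.fr
  have hr := h.yz.rY
  have hr3 := mem_norm h.yz.nx hr
  have h1 := h.bmul (mul_mem h.yz.tY hr) hr3
  have h2 := h.bmul h.yz.tY hr
  rw [h2, h.yz.tr] at h1
  have h3 : b * 1 * b⁻¹ * (1 : G)⁻¹ = 1 := by group
  rw [h3, h.br3] at h1
  obtain ⟨c, hc⟩ : ∃ c, c = b * (x * t * x⁻¹) * b⁻¹ * (x * t * x⁻¹)⁻¹ := ⟨_, rfl⟩
  have hcU : c ∈ U := by rw [hc]; exact h.bY hr
  rw [← hc] at h1 ⊢
  have hecU : e * c * e⁻¹ ∈ U := mem_norm (hF.SnU hF.sS) hcU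
  rw [mul_assoc] at h1
  have h4 := eq_inv_of_mul_eq_one_left h1.symm
  rw [h4]
  exact hF.invA (hF.UA (mul_mem hcU hecU))

/-- the bad case: `[b, r] ∈ ⟨z⟩` -/
theorem bad [Finite G] (hbr : b * (x * t * x⁻¹) * b⁻¹ * (x * t * x⁻¹)⁻¹ = 1 ∨
    b * (x * t * x⁻¹) * b⁻¹ * (x * t * x⁻¹)⁻¹ = z) : False := by
  have hF := h.yz.fr
  have hz := hF.sqA hF.zA
  have hpU := hF.z2_mem
  obtain ⟨p, hp⟩ : ∃ p, p = x * z * x⁻¹ := ⟨_, rfl⟩
  have hpU' : p ∈ U := by rw [hp]; exact hpU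
  have hpp : p * p = 1 := hF.sqA (hF.UA hpU')
  have hzp : z * p = p * z := hF.commA hF.zA (hF.UA hpU')
  have hxp : x * p * x⁻¹ = z * p := by rw [hp]; exact hF.z3_eq
  have hxzp : x * (z * p) * x⁻¹ = z := by rw [hp]; exact hF.xz3
  have hep : e * p * e⁻¹ = z * p := by rw [hp]; exact h.ep
  have hzpne : z ≠ p := fun h1 => hF.xz (by rw [← hp, ← h1])
  have hp1 : p ≠ 1 := by rw [hp]; exact hF.z2_ne_one
  -- the three conjugates
  obtain ⟨b1, hb1⟩ : ∃ b1, b1 = x * b * x⁻¹ := ⟨_, rfl⟩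
  obtain ⟨b2, hb2⟩ : ∃ b2, b2 = x⁻¹ * b * x := ⟨_, rfl⟩
  have hb1Q : b1 ∈ QQ S U := by rw [hb1]; exact mem_norm hF.xQ h.bQ
  have hb2Q : b2 ∈ QQ S U := by rw [hb2]; exact mem_norm' hF.xQ h.bQ
  have hb1b : b1 * b1 = 1 := by
    rw [hb1]
    calc x * b * x⁻¹ * (x * b * x⁻¹) = x * (b * b) * x⁻¹ := by group
      _ = 1 := by rw [h.bb]; group
  have hb2b : b2 * b2 = 1 := by
    rw [hb2]
    calc x⁻¹ * b * x * (x⁻¹ * b * x) = x⁻¹ * (b * b) * x := by group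
      _ = 1 := by rw [h.bb]; group
  have hxf : x * f * x⁻¹ = f := conj_eq_iff.2 hF.xf
  have hxf' : x⁻¹ * f * x = f := by
    calc x⁻¹ * f * x = x⁻¹ * (x * f * x⁻¹) * x := by rw [hxf]
      _ = f := by group
  have hxz' : x⁻¹ * z * x = z * p := by
    calc x⁻¹ * z * x = x⁻¹ * (x * (z * p) * x⁻¹) * x := by rw [hxzp]
      _ = _ := by group
  have hb1f : b1 * f * b1⁻¹ = f * p := by
    rw [hb1]
    calc x * b * x⁻¹ * f * (x * b * x⁻¹)⁻¹ = x * (b * (x⁻¹ * f * x) * b⁻¹) * x⁻¹ := by group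
      _ = (x * f * x⁻¹) * (x * z * x⁻¹) := by rw [hxf', h.bf]; group
      _ = f * p := by rw [hxf, ← hp]
  have hb2f : b2 * f * b2⁻¹ = f * (z * p) := by
    rw [hb2]
    calc x⁻¹ * b * x * f * (x⁻¹ * b * x)⁻¹ = x⁻¹ * (b * (x * f * x⁻¹) * b⁻¹) * x := by group
      _ = (x⁻¹ * f * x) * (x⁻¹ * z * x) := by rw [hxf, h.bf]; group
      _ = _ := by rw [hxf', hxz']
  have hbU : ∀ q ∈ QQ S U, ∀ a ∈ U, q * a * q⁻¹ = a := fun q hq a ha => conj_eq_iff.2 (hF.Q_comm hq ha)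
  have hbf' : b * f ≠ f * b := by
    intro h1
    have h2 := h.bf
    rw [conj_eq_iff.2 h1] at h2
    exact hF.z1 (mul_eq_left.1 h2.symm)
  have hb1f' : b1 * f ≠ f * b1 := by
    intro h1
    rw [conj_eq_iff.2 h1] at hb1f
    exact hp1 (mul_eq_left.1 hb1f.symm)
  -- the action on `Y`
  have hbt := h.bt_mem
  have hDf : b * f * b⁻¹ * f⁻¹ = z := by
    rw [h.bf, hF.commA hF.fA hF.zA]; group
  have hbY : ∀ y ∈ Y, b * y * b⁻¹ * y⁻¹ = 1 ∨ b * y * b⁻¹ * y⁻¹ = z := by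
    have hmul : ∀ y ∈ Y, ∀ y' ∈ Y, (b * y * b⁻¹ * y⁻¹ = 1 ∨ b * y * b⁻¹ * y⁻¹ = z) →
        (b * y' * b⁻¹ * y'⁻¹ = 1 ∨ b * y' * b⁻¹ * y'⁻¹ = z) →
        (b * (y * y') * b⁻¹ * (y * y')⁻¹ = 1 ∨ b * (y * y') * b⁻¹ * (y * y')⁻¹ = z) := by
      intro y hy y' hy' h1 h2
      rw [h.bmul hy hy']
      rcases h1 with h1 | h1 <;> rcases h2 with h2 | h2 <;> rw [h1, h2]
      · left; rw [one_mul]
      · right; rw [one_mul]
      · right; rw [mul_one]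
      · left; exact hz
    have hA : ∀ a ∈ A, b * a * b⁻¹ * a⁻¹ = 1 ∨ b * a * b⁻¹ * a⁻¹ = z := by
      intro a ha
      rcases hF.mem_A ha with h1 | h1
      · left
        rw [h.bU h1, mul_inv_cancel]
      · right
        have e1 : a = f * (f * a) := by rw [← mul_assoc, hF.sqA hF.fA, one_mul]
        rw [e1, h.bmul (h.yz.AY hF.fA) (h.yz.UY h1), hDf, h.bU h1, mul_inv_cancel, mul_one]
    intro y hy
    obtain ⟨a, ha, h1⟩ := h.yz.mem y hy
    rcases h1 with rfl | rfl | rfl | rfl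
    · exact hA y ha
    · exact hmul a (h.yz.AY ha) t h.yz.tY (hA a ha) hbt
    · exact hmul a (h.yz.AY ha) _ h.yz.rY (hA a ha) hbr
    · exact hmul a (h.yz.AY ha) _ (mul_mem h.yz.tY h.yz.rY) (hA a ha) (hmul t h.yz.tY _ h.yz.rY hbt hbr)
  have hb1Y : ∀ y ∈ Y, b1 * y * b1⁻¹ * y⁻¹ = 1 ∨ b1 * y * b1⁻¹ * y⁻¹ = p := by
    intro y hy
    have h1 := hbY _ (mem_norm' h.yz.nx hy)
    have e1 : b1 * y * b1⁻¹ * y⁻¹ = x * (b * (x⁻¹ * y * x) * b⁻¹ * (x⁻¹ * y * x)⁻¹) * x⁻¹ := by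
      rw [hb1]; group
    rw [e1]
    rcases h1 with h1 | h1 <;> rw [h1]
    · left; group
    · right; exact hp.symm
  have hb2Y : ∀ y ∈ Y, b2 * y * b2⁻¹ * y⁻¹ = 1 ∨ b2 * y * b2⁻¹ * y⁻¹ = z * p := by
    intro y hy
    have h1 := hbY _ (mem_norm h.yz.nx hy)
    have e1 : b2 * y * b2⁻¹ * y⁻¹ = x⁻¹ * (b * (x * y * x⁻¹) * b⁻¹ * (x * y * x⁻¹)⁻¹) * x := by
      rw [hb2]; group
    rw [e1]
    rcases h1 with h1 | h1 <;> rw [h1]
    · left; group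
    · right; exact hxz'
  have hzpU : z * p ∈ U := mul_mem hF.zU hpU'
  have hzpz : z ≠ z * p := fun h1 => hp1 (mul_eq_left.1 h1.symm)
  have hpzp : p ≠ z * p := fun h1 => hF.z1 (mul_eq_right.1 h1.symm)
  have q1 := h.yz.pow_four h.bQ hb1Q h.bb hb1b hbf' hF.zU hpU' hzpne hbY hb1Y
  have q2 := h.yz.pow_four hb1Q hb2Q hb1b hb2b hb1f' hpU' hzpU hpzp hb1Y hb2Y
  have q3 := h.yz.pow_four h.bQ hb2Q h.bb hb2b hbf' hF.zU hzpU hzpz hbY hb2Y
  have m1 := h.yz.sq_mem_U h.bQ hb1Q h.bb hb1b hbf' q1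
  have m2 := h.yz.sq_mem_U hb1Q hb2Q hb1b hb2b hb1f' q2
  have m3 := h.yz.sq_mem_U h.bQ hb2Q h.bb hb2b hbf' q3
  -- they do not commute
  have hbi := h.bi
  have hb1i : b1⁻¹ = b1 := inv_eq_of_mul_eq_one_right hb1b
  have hb2i : b2⁻¹ = b2 := inv_eq_of_mul_eq_one_right hb2b
  have comm_of : ∀ {c d : G}, c * c = 1 → d * d = 1 → (c * d) * (c * d) = 1 → c * d = d * c := by
    intro c d hc hd hcd
    have hci : c⁻¹ = c := inv_eq_of_mul_eq_one_right hc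
    have hdi : d⁻¹ = d := inv_eq_of_mul_eq_one_right hd
    have := inv_eq_of_mul_eq_one_right hcd
    rw [mul_inv_rev, hci, hdi] at this
    exact this.symm
  have hcU : ∀ q ∈ QQ S U, ∀ a ∈ U, q * a = a * q := fun q hq a ha => hF.Q_comm hq ha
  have n1 : (b * b1) * (b * b1) ≠ 1 := by
    intro h1
    have h2 := comm_of h.bb hb1b h1
    exact Eone.false_of_comm hF (hcU b h.bQ) (hcU b1 hb1Q) h.bb hb1b h2 h.bf (by rw [hb1f, hp])
  have n2 : (b1 * b2) * (b1 * b2) ≠ 1 := by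
    intro h1
    have h2 := comm_of hb1b hb2b h1
    refine Eone.false_of_comm hF (a := b1 * b2) (b := b1) (hcU _ (mul_mem hb1Q hb2Q)) (hcU b1 hb1Q) h1 hb1b ?_ ?_
      (by rw [hb1f, hp])
    · rw [mul_assoc, ← h2]
    · have e1 : b1 * b2 * f * (b1 * b2)⁻¹ = b1 * (b2 * f * b2⁻¹) * b1⁻¹ := by group
      have e2 : b1 * (f * (z * p)) * b1⁻¹ = (b1 * f * b1⁻¹) * (b1 * (z * p) * b1⁻¹) := by group
      rw [e1, hb2f, e2, hb1f, hbU b1 hb1Q _ hzpU, hzp]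
      calc f * p * (p * z) = f * (p * p) * z := by group
        _ = f * z := by rw [hpp, mul_one]
  -- the squares
  have heb1 : e * b1 * e⁻¹ = b2 := by
    rw [hb1, hb2]
    calc e * (x * b * x⁻¹) * e⁻¹ = (e * x * e⁻¹) * (e * b * e⁻¹) * (e * x * e⁻¹)⁻¹ := by group
      _ = _ := by rw [hF.sx, h.eb]; group
  have heb2 : e * b2 * e⁻¹ = b1 := by
    rw [← heb1]
    calc e * (e * b1 * e⁻¹) * e⁻¹ = (e * e) * b1 * (e⁻¹ * e⁻¹) := by group
      _ = b1 := by rw [h.ei, h.ee]; group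
  obtain ⟨w1, hw1⟩ : ∃ w1, w1 = (b * b1) * (b * b1) := ⟨_, rfl⟩
  obtain ⟨w2, hw2⟩ : ∃ w2, w2 = (b1 * b2) * (b1 * b2) := ⟨_, rfl⟩
  obtain ⟨w3, hw3⟩ : ∃ w3, w3 = (b * b2) * (b * b2) := ⟨_, rfl⟩
  rw [← hw1] at m1 n1
  rw [← hw2] at m2 n2
  rw [← hw3] at m3
  have inv_sq : ∀ {c d : G}, c * c = 1 → d * d = 1 → (d * c) * (d * c) = ((c * d) * (c * d))⁻¹ := by
    intro c d hc hd
    have hci : c⁻¹ = c := inv_eq_of_mul_eq_one_right hc
    have hdi : d⁻¹ = d := inv_eq_of_mul_eq_one_right hd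
    have e1 : ((c * d) * (c * d))⁻¹ = (d⁻¹ * c⁻¹) * (d⁻¹ * c⁻¹) := by group
    rw [e1, hci, hdi]
  have s1 : e * w1 * e⁻¹ = w3 := by
    rw [hw1, hw3]
    have e1 : e * ((b * b1) * (b * b1)) * e⁻¹ =
        ((e * b * e⁻¹) * (e * b1 * e⁻¹)) * ((e * b * e⁻¹) * (e * b1 * e⁻¹)) := by group
    rw [e1, h.eb, heb1]
  have s3 : x * w3 * x⁻¹ = w1 := by
    have e1 : x * w3 * x⁻¹ = (b1 * b) * (b1 * b) := by
      rw [hw3, hb1, hb2]; group
    rw [e1, inv_sq h.bb hb1b, ← hw1]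
    exact hF.invA (hF.UA m1)
  have s2 : e * w2 = w2 * e := by
    rw [← conj_eq_iff]
    have e1 : e * w2 * e⁻¹ = (b2 * b1) * (b2 * b1) := by
      rw [hw2]
      have : e * ((b1 * b2) * (b1 * b2)) * e⁻¹ =
        ((e * b1 * e⁻¹) * (e * b2 * e⁻¹)) * ((e * b1 * e⁻¹) * (e * b2 * e⁻¹)) := by group
      rw [this, heb1, heb2]
    rw [e1, inv_sq hb1b hb2b, ← hw2]
    exact hF.invA (hF.UA m2)
  have v2 : w2 = z := (hF.fix_s m2 s2).resolve_left n2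
  have v13 : w1 = z * p ∧ w3 = p := by
    have hm := Eone.mem_U hF m1
    rw [← hp] at hm
    rcases hm with h1 | h1 | h1 | h1
    · exact absurd h1 n1
    · exfalso
      rw [h1, h.ez] at s1
      rw [← s1, h1, ← hp] at s3
      exact hzpne s3.symm
    · exfalso
      rw [h1, hep] at s1
      rw [← s1, h1, hxzp] at s3
      exact hzpne s3
    · refine ⟨h1, ?_⟩
      rw [← s1, h1]
      have e1 : e * (z * p) * e⁻¹ = (e * z * e⁻¹) * (e * p * e⁻¹) := by group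
      rw [e1, h.ez, hep, ← mul_assoc, hz, one_mul]
  obtain ⟨v1, v3⟩ := v13
  -- commutation rules
  have flip : ∀ {c d w : G}, c * c = 1 → d * d = 1 → w = (c * d) * (c * d) → c * w = w * c → w * w = 1 →
      d * c = w * (c * d) := by
    intro c d w hc hd hw hcw hww
    have hci : c⁻¹ = c := inv_eq_of_mul_eq_one_right hc
    have hdi : d⁻¹ = d := inv_eq_of_mul_eq_one_right hd
    have h1 : (c * d)⁻¹ = d * c := by rw [mul_inv_rev, hci, hdi]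
    have h2 : (c * d) * (c * d) = w := hw.symm
    have h3 : w⁻¹ = w := inv_eq_of_mul_eq_one_right hww
    calc d * c = (c * d)⁻¹ := h1.symm
      _ = w⁻¹ * (c * d) := by rw [hw]; group
      _ = w * (c * d) := by rw [h3]
  have f1 : b1 * b = (z * p) * (b * b1) := by
    have := flip h.bb hb1b hw1 (by rw [v1]; exact hcU b h.bQ _ hzpU) (by rw [v1]; exact hF.sqA (hF.UA hzpU))
    rwa [v1] at this
  have f2 : b2 * b1 = z * (b1 * b2) := by
    have := flip hb1b hb2b hw2 (by rw [v2]; exact hcU b1 hb1Q _ hF.zU) (by rw [v2]; exact hz)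
    rwa [v2] at this
  have f3 : b2 * b = p * (b * b2) := by
    have := flip h.bb hb2b hw3 (by rw [v3]; exact hcU b h.bQ _ hpU') (by rw [v3]; exact hpp)
    rwa [v3] at this
  -- the product of the three
  have hpz : p * z = z * p := hzp.symm
  have cz : z * b = b * z := (hcU b h.bQ z hF.zU).symm
  have cp : p * b = b * p := (hcU b h.bQ p hpU').symm
  have cp1 : p * b1 = b1 * p := (hcU b1 hb1Q p hpU').symm
  have cz1 : z * b1 = b1 * z := (hcU b1 hb1Q z hF.zU).symm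
  obtain ⟨w, hw⟩ : ∃ w, w = b * b1 * b2 := ⟨_, rfl⟩
  have hwQ : w ∈ QQ S U := by rw [hw]; exact mul_mem (mul_mem h.bQ hb1Q) hb2Q
  have hww : w * w = 1 := by
    calc w * w = b * b1 * (b2 * b) * b1 * b2 := by rw [hw]; group
      _ = b * b1 * (p * (b * b2)) * b1 * b2 := by rw [f3]
      _ = b * (b1 * p) * b * (b2 * b1) * b2 := by group
      _ = b * (p * b1) * b * (z * (b1 * b2)) * b2 := by rw [f2, cp1]
      _ = (b * p) * b1 * b * z * b1 * (b2 * b2) := by group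
      _ = (p * b) * b1 * (b * z) * b1 := by rw [hb2b, cp]; group
      _ = (p * b) * b1 * (z * b) * b1 := by rw [cz]
      _ = p * b * (b1 * z) * b * b1 := by group
      _ = p * b * (z * b1) * b * b1 := by rw [cz1]
      _ = p * (b * z) * b1 * b * b1 := by group
      _ = p * (z * b) * b1 * b * b1 := by rw [cz]
      _ = (p * z) * ((b * b1) * (b * b1)) := by group
      _ = (z * p) * (z * p) := by rw [← hw1, v1, hpz]
      _ = 1 := hF.sqA (hF.UA hzpU)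
  have hwf : w * f * w⁻¹ = f := by
    have e1 : w * f * w⁻¹ = b * (b1 * (b2 * f * b2⁻¹) * b1⁻¹) * b⁻¹ := by rw [hw]; group
    have e2 : b1 * (f * (z * p)) * b1⁻¹ = (b1 * f * b1⁻¹) * (b1 * (z * p) * b1⁻¹) := by group
    have e3 : b * (f * p * (z * p)) * b⁻¹ = (b * f * b⁻¹) * (b * (p * (z * p)) * b⁻¹) := by group
    rw [e1, hb2f, e2, hb1f, hbU b1 hb1Q _ hzpU, e3, h.bf, hbU b h.bQ _ (mul_mem hpU' hzpU)]
    calc f * z * (p * (z * p)) = f * (z * p) * (z * p) := by group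
      _ = f := by rw [mul_assoc, hF.sqA (hF.UA hzpU), mul_one]
  have hwT : w ∈ TT S A := hF.mem_T_of_fix hwQ hwf
  have hwA : w ∈ A := hF.mem_A_of_sq hwT hww
  have hwt : w * t * w⁻¹ = t := conj_eq_iff.2 (h.yz.comm w (h.yz.AY hwA) t h.yz.tY)
  have hx3 : x⁻¹ * t * x = x * (x * t * x⁻¹) * x⁻¹ := by
    have h1 := h.yz.trace_comm h.yz.tY
    calc x⁻¹ * t * x = x⁻¹ * (x * (x * (x * t * x⁻¹) * x⁻¹) * x⁻¹) * x := by rw [h1]
      _ = _ := by group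
  have key : b * (x * t * x⁻¹) * b⁻¹ * (x * t * x⁻¹)⁻¹ = 1 := by
    refine hbr.resolve_right fun hbz => ?_
    have d1 := h.bt_eq
    rw [hbz, h.ez, hz] at d1
    have d2 := h.br3
    rw [hbz, h.ez] at d2
    have d3 : b * t * b⁻¹ = t := by
      calc b * t * b⁻¹ = (b * t * b⁻¹ * t⁻¹) * t := by group
        _ = t := by rw [d1, one_mul]
    have d4 : b1 * t * b1⁻¹ = p * t := by
      have e1 : b1 * t * b1⁻¹ = x * (b * (x⁻¹ * t * x) * b⁻¹ * (x⁻¹ * t * x)⁻¹) * x⁻¹ * t := by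
        rw [hb1]; group
      rw [e1, hx3, d2, hp]
    have d5 : b2 * t * b2⁻¹ = (z * p) * t := by
      have e1 : b2 * t * b2⁻¹ = x⁻¹ * (b * (x * t * x⁻¹) * b⁻¹ * (x * t * x⁻¹)⁻¹) * x * t := by
        rw [hb2]; group
      rw [e1, hbz, hxz']
    have e1 : w * t * w⁻¹ = b * (b1 * (b2 * t * b2⁻¹) * b1⁻¹) * b⁻¹ := by rw [hw]; group
    have e2 : b1 * ((z * p) * t) * b1⁻¹ = (b1 * (z * p) * b1⁻¹) * (b1 * t * b1⁻¹) := by group
    have e3 : b * ((z * p) * (p * t)) * b⁻¹ = (b * ((z * p) * p) * b⁻¹) * (b * t * b⁻¹) := by group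
    rw [e1, d5, e2, hbU b1 hb1Q _ hzpU, d4, e3, hbU b h.bQ _ (mul_mem hzpU hpU'), d3, mul_assoc z, hpp,
      mul_one] at hwt
    exact hF.z1 (mul_eq_right.1 hwt)
  -- `b, b1, b2` centralise `t, r`
  have d1 := h.bt_eq
  rw [key] at d1
  have d1' : b * t * b⁻¹ * t⁻¹ = 1 := by rw [d1]; group
  have d2 := h.br3
  rw [key] at d2
  have d2' : b * (x * (x * t * x⁻¹) * x⁻¹) * b⁻¹ * (x * (x * t * x⁻¹) * x⁻¹)⁻¹ = 1 := by rw [d2]; group
  obtain ⟨r, hr⟩ : ∃ r, r = x * t * x⁻¹ := ⟨_, rfl⟩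
  have hx3' : x⁻¹ * r * x = t := by rw [hr]; group
  rw [← hr] at key d2' hx3
  have toC : ∀ {c y : G}, c * y * c⁻¹ * y⁻¹ = 1 → c * y = y * c := by
    intro c y h1
    rw [← conj_eq_iff]
    exact mul_inv_eq_one.1 h1
  have k1 : b * t = t * b := toC d1'
  have k2 : b * r = r * b := toC key
  have k3 : b1 * t = t * b1 := by
    apply toC
    have e1 : b1 * t * b1⁻¹ * t⁻¹ = x * (b * (x⁻¹ * t * x) * b⁻¹ * (x⁻¹ * t * x)⁻¹) * x⁻¹ := by
      rw [hb1]; group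
    rw [e1, hx3, d2']; group
  have k4 : b1 * r = r * b1 := by
    apply toC
    have e1 : b1 * r * b1⁻¹ * r⁻¹ = x * (b * (x⁻¹ * r * x) * b⁻¹ * (x⁻¹ * r * x)⁻¹) * x⁻¹ := by
      rw [hb1]; group
    rw [e1, hx3', d1']; group
  have k5 : b2 * r = r * b2 := by
    apply toC
    have e1 : b2 * r * b2⁻¹ * r⁻¹ = x⁻¹ * (b * (x * r * x⁻¹) * b⁻¹ * (x * r * x⁻¹)⁻¹) * x := by
      rw [hb2]; group
    rw [e1, d2']; group
  have k6 : b2 * t = t * b2 := by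
    apply toC
    have e1 : b2 * t * b2⁻¹ * t⁻¹ = x⁻¹ * (b * (x * t * x⁻¹) * b⁻¹ * (x * t * x⁻¹)⁻¹) * x := by
      rw [hb2]; group
    rw [e1, ← hr, key]; group
  have hrY : r ∈ Y := by rw [hr]; exact h.yz.rY
  have hrr : r * r = p := by rw [hr, hp]; exact h.yz.rr
  have htr : t * r = r * t := h.yz.comm t h.yz.tY r hrY
  have htrU : ∀ y ∈ Y, ∀ a ∈ U, y * a = a * y := fun y hy a ha => h.yz.comm y hy a (h.yz.UY ha)
  have htrsq : (t * r) * (t * r) = z * p := by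
    calc (t * r) * (t * r) = t * (r * t) * r := by group
      _ = t * (t * r) * r := by rw [← htr]
      _ = (t * t) * (r * r) := by group
      _ = z * p := by rw [h.yz.tt, hrr]
  have hTf : ∀ y ∈ Y, y * f * y⁻¹ = f := fun y hy => conj_eq_iff.2 (h.yz.comm y hy f (h.yz.AY hF.fA))
  -- the two involutions
  have C1 : Commute (b * b1) (t * r) := by
    have a1 : Commute b t := k1
    have a2 : Commute b r := k2
    have a3 : Commute b1 t := k3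
    have a4 : Commute b1 r := k4
    exact (a1.mul_left a3).mul_right (a2.mul_left a4)
  have C2 : Commute (b * b2) r := by
    have a1 : Commute b r := k2
    have a2 : Commute b2 r := k5
    exact a1.mul_left a2
  have C3 : Commute (b * b2) (t * r) := by
    have a1 : Commute b t := k1
    have a2 : Commute b2 t := k6
    exact (a1.mul_left a2).mul_right C2
  have C4 : Commute (b * b1) r := by
    have a2 : Commute b r := k2
    have a4 : Commute b1 r := k4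
    exact a2.mul_left a4
  have C5 : Commute (t * r) r := by
    have a1 : Commute t r := htr
    exact a1.mul_left (Commute.refl r)
  obtain ⟨c1, hc1⟩ : ∃ c1, c1 = b * b1 * (t * r) := ⟨_, rfl⟩
  obtain ⟨c2, hc2⟩ : ∃ c2, c2 = b * b2 * r := ⟨_, rfl⟩
  have i1 : c1 * c1 = 1 := by
    calc c1 * c1 = (b * b1) * ((t * r) * (b * b1)) * (t * r) := by rw [hc1]; group
      _ = (b * b1) * ((b * b1) * (t * r)) * (t * r) := by rw [C1.eq]
      _ = ((b * b1) * (b * b1)) * ((t * r) * (t * r)) := by group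
      _ = 1 := by rw [← hw1, v1, htrsq]; exact hF.sqA (hF.UA hzpU)
  have i2 : c2 * c2 = 1 := by
    calc c2 * c2 = (b * b2) * (r * (b * b2)) * r := by rw [hc2]; group
      _ = (b * b2) * ((b * b2) * r) * r := by rw [C2.eq]
      _ = ((b * b2) * (b * b2)) * (r * r) := by group
      _ = 1 := by rw [← hw3, v3, hrr, hpp]
  have e12 : (b * b1) * (b * b2) = (b * b2) * (b * b1) := by
    have a1 : (b * b1) * (b * b2) = (z * p) * (b1 * b2) := by
      calc (b * b1) * (b * b2) = b * (b1 * b) * b2 := by group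
        _ = b * ((z * p) * (b * b1)) * b2 := by rw [f1]
        _ = (b * (z * p)) * b * b1 * b2 := by group
        _ = ((z * p) * b) * b * b1 * b2 := by rw [hcU b h.bQ _ hzpU]
        _ = (z * p) * (b * b) * (b1 * b2) := by group
        _ = _ := by rw [h.bb, mul_one]
    have a2 : (b * b2) * (b * b1) = (z * p) * (b1 * b2) := by
      calc (b * b2) * (b * b1) = b * (b2 * b) * b1 := by group
        _ = b * (p * (b * b2)) * b1 := by rw [f3]
        _ = (b * p) * b * (b2 * b1) := by group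
        _ = (p * b) * b * (z * (b1 * b2)) := by rw [cp, f2]
        _ = p * (b * b) * z * (b1 * b2) := by group
        _ = _ := by rw [h.bb, mul_one, hpz]
    rw [a1, a2]
  have C6 : Commute (b * b1) (b * b2) := e12
  have i3 : c1 * c2 = c2 * c1 := by
    have : Commute c1 c2 := by
      rw [hc1, hc2]
      exact ((C6.mul_right C4).mul_left (C3.symm.mul_right C5))
    exact this.eq
  have hc1Q : c1 ∈ QQ S U := by
    rw [hc1]
    exact mul_mem (mul_mem h.bQ hb1Q) (hF.T_le_Q (h.yz.YT (mul_mem h.yz.tY hrY)))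
  have hc2Q : c2 ∈ QQ S U := by
    rw [hc2]
    exact mul_mem (mul_mem h.bQ hb2Q) (hF.T_le_Q (h.yz.YT hrY))
  have g1 : c1 * f * c1⁻¹ = f * (z * p) := by
    have e1 : c1 * f * c1⁻¹ = b * (b1 * ((t * r) * f * (t * r)⁻¹) * b1⁻¹) * b⁻¹ := by rw [hc1]; group
    have e2 : b * (f * p) * b⁻¹ = (b * f * b⁻¹) * (b * p * b⁻¹) := by group
    rw [e1, hTf _ (mul_mem h.yz.tY hrY), hb1f, e2, h.bf, hbU b h.bQ _ hpU', mul_assoc]
  have g2 : c2 * f * c2⁻¹ = f * p := by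
    have e1 : c2 * f * c2⁻¹ = b * (b2 * (r * f * r⁻¹) * b2⁻¹) * b⁻¹ := by rw [hc2]; group
    have e2 : b * (f * (z * p)) * b⁻¹ = (b * f * b⁻¹) * (b * (z * p) * b⁻¹) := by group
    rw [e1, hTf _ hrY, hb2f, e2, h.bf, hbU b h.bQ _ hzpU]
    calc f * z * (z * p) = f * (z * z) * p := by group
      _ = f * p := by rw [hz, mul_one]
  refine Eone.false_of_comm hF (a := c1 * c2) (b := c2) (hcU _ (mul_mem hc1Q hc2Q)) (hcU c2 hc2Q) ?_ i2 ?_ ?_
    (by rw [g2, hp])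
  · calc c1 * c2 * (c1 * c2) = c1 * (c2 * c1) * c2 := by group
      _ = c1 * (c1 * c2) * c2 := by rw [i3]
      _ = (c1 * c1) * (c2 * c2) := by group
      _ = 1 := by rw [i1, i2, one_mul]
  · rw [mul_assoc, i2, ← mul_assoc, ← i3, mul_assoc, i2]
  · have e1 : c1 * c2 * f * (c1 * c2)⁻¹ = c1 * (c2 * f * c2⁻¹) * c1⁻¹ := by group
    have e2 : c1 * (f * p) * c1⁻¹ = (c1 * f * c1⁻¹) * (c1 * p * c1⁻¹) := by group
    rw [e1, g2, e2, g1, hbU c1 hc1Q _ hpU']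
    calc f * (z * p) * p = f * z * (p * p) := by group
      _ = f * z := by rw [hpp, mul_one]

/-- **Lemma Z'.** -/
theorem zprime [Finite G] : b * t * b⁻¹ * t⁻¹ = z ∧ (b * (x * t * x⁻¹) * b⁻¹ * (x * t * x⁻¹)⁻¹ = x * z * x⁻¹ ∨
    b * (x * t * x⁻¹) * b⁻¹ * (x * t * x⁻¹)⁻¹ = x⁻¹ * z * x) := by
  have hF := h.yz.fr
  have hz := hF.sqA hF.zA
  have hpU := hF.z2_mem
  have hxz' : x⁻¹ * z * x = z * (x * z * x⁻¹) := by
    calc x⁻¹ * z * x = x⁻¹ * (x * (z * (x * z * x⁻¹)) * x⁻¹) * x := by rw [hF.xz3]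
      _ = _ := by group
  have h1 := h.bY h.yz.rY
  have h2 := h.bt_eq
  have hep := h.ep
  have hpp := hF.sqA (hF.UA hpU)
  rcases Eone.mem_U hF h1 with h3 | h3 | h3 | h3
  · exact (h.bad (Or.inl h3)).elim
  · exact (h.bad (Or.inr h3)).elim
  · refine ⟨?_, Or.inl h3⟩
    rw [h2, h3, hep, ← mul_assoc, hF.commA (hF.UA hpU) hF.zA, mul_assoc, hpp, mul_one]
  · refine ⟨?_, Or.inr (by rw [h3, hxz'])⟩
    have e1 : e * (z * (x * z * x⁻¹)) * e⁻¹ = (e * z * e⁻¹) * (e * (x * z * x⁻¹) * e⁻¹) := by group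
    rw [h2, h3, e1, h.ez, hep, ← mul_assoc z z, hz, one_mul, mul_assoc, hpp, mul_one]

end Ci

end Cfsg.Agent.RankThreeFus
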