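import Cfsg.Agent.RankThreeFus.PtsW
import Cfsg.Agent.RankThreeFus.PtsBase
import Cfsg.Agent.RankThreeFus.FrattiniMax
import Cfsg.Agent.RankThreeFus.ZPrime

/-!
# S1730, branch (B), (B8*), CASE I, non-small maximal choice (`PT = S`): section 8

`exists_pts`: the structure `Pts` exists.
-/

set_option autoImplicit false
set_option linter.style.haveILetI false
set_option linter.unusedSectionVars false
set_option linter.unusedVariables false

namespace Cfsg.Agent.RankThreeFus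

open Subgroup Cfsg.Agent.Lib.GoldschmidtFusion Cfsg.Agent.Lib.EssentialFusion Cfsg.Agent.StdL2.G23Aut

variable {G : Type*} [Group G]

namespace Bg

variable {S : Sylow 2 G} {A U : Subgroup G} {z f x s : G} {P : Subgroup G} {l : G}
  (h : Bg S A U z f x s P l)

include h

theorem exists_mov [Finite G] : ∃ m ∈ normalizer (P : Set G), cj m U ≠ U := by
  by_contra hcon
  push Not at hcon
  apply h.max.not
  intro m hm
  exact cj_eq_iff.1 (hcon m hm)

theorem exists_notMem [Finite G] {m : G} (hU : cj m U ≠ U) : ∃ v ∈ cj m U, v ∉ U := by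
  by_contra hcon
  push Not at hcon
  apply hU
  exact Subgroup.eq_of_le_of_card_ge hcon (by rw [card_cj])

theorem cjU_le {m : G} (hm : m ∈ normalizer (P : Set G)) : cj m U ≤ WW P U := by
  intro v hv
  have h1 := h.conj_mem_WW hm (mem_cj.1 hv)
  have e1 : m * (m⁻¹ * v * m) * m⁻¹ = v := by group
  rwa [e1] at h1

theorem zcj {m : G} (hm : m ∈ normalizer (P : Set G)) : z ∈ cj m A := by
  rw [mem_cj]
  have h1 := h.Lz m hm
  have e1 : m⁻¹ * z * m = z := by
    rw [mul_assoc, ← h1, ← mul_assoc, inv_mul_cancel, one_mul]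
  rw [e1]
  exact h.fr.zA

/-- (8.3) -/
theorem cas [Finite G] {m : G} (hm : m ∈ normalizer (P : Set G)) (hU : cj m U ≠ U) :
    A ⊓ cj m A = zpowers z := by
  have hF := h.fr
  obtain ⟨v, hv, hvU⟩ := h.exists_notMem hU
  have hUA' : cj m U ≤ cj m A := map_mono hF.UA
  refine le_antisymm ?_ ?_
  · rintro a ⟨ha, ham⟩
    by_contra haz
    have ha1 : a ≠ 1 := fun h1 => haz (h1 ▸ one_mem _)
    have haz' : a ≠ z := fun h1 => haz (h1 ▸ mem_zpowers z)
    by_cases haU : a ∈ U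
    · -- `U ≤ A^m`, so `W = A^m`
      have h1 : U ≤ cj m A := by
        intro u hu
        rcases hF.U_cases haU ha1 haz' hu with h2 | h2 | h2 | h2
        · rw [h2]; exact one_mem _
        · rw [h2]; exact h.zcj hm
        · rw [h2]; exact ham
        · rw [h2]; exact mul_mem (h.zcj hm) ham
      have h2 : WW P U ≤ cj m A := by
        intro w hw
        by_cases hwU : w ∈ U
        · exact h1 hwU
        · have h3 : v * w ∈ U := mul_mem_of_index_two h.U_le_WW (by rw [h.WW_oct.card, hF.cardU])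
            (h.cjU_le hm hv) hw hvU hwU
          have e1 : w = v⁻¹ * (v * w) := by group
          rw [e1]
          exact mul_mem (inv_mem (hUA' hv)) (h1 h3)
      have h3 := RankThreeFus.Oct.eq_of_le h.WW_oct (RankThreeFus.Oct.cj hF.hyp.oct m) h2
      apply h.not_A_le
      have h4 := h.WW_norm hm
      rw [← cj_eq_iff] at h4
      have h5 : cj m⁻¹ (cj m A) = A := by rw [cj_cj, inv_mul_cancel, cj_one]
      have h6 : cj m⁻¹ (WW P U) = WW P U := cj_inv_eq h4
      rw [← h3, h6] at h5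
      rw [h5]
    · have ham' := mem_cj.1 ham
      by_cases haU' : m⁻¹ * a * m ∈ U
      · exact haU (h.WA (h.cjU_le hm (mem_cj.2 haU')) ha)
      · -- `A` and `A^m` commute
        have hO := RankThreeFus.Oct.cj hF.hyp.oct m
        have h1 : ∀ c ∈ A, ∃ i ∈ zpowers a, ∃ u ∈ U, c = i * u := by
          intro c hc
          by_cases hcU : c ∈ U
          · exact ⟨1, one_mem _, c, hcU, by rw [one_mul]⟩
          · refine ⟨a⁻¹, inv_mem (mem_zpowers a), a * c, mul_mem_of_index_two hF.UA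
              (by rw [hF.hyp.oct.card, hF.cardU]) ha hc haU hcU, by group⟩
        have h2 : ∀ c ∈ cj m A, ∃ i ∈ zpowers a, ∃ u ∈ cj m U, c = i * u := by
          intro c hc
          by_cases hcU : c ∈ cj m U
          · exact ⟨1, one_mem _, c, hcU, by rw [one_mul]⟩
          · refine ⟨a⁻¹, inv_mem (mem_zpowers a), a * c, mul_mem_of_index_two hUA'
              (by rw [card_cj, card_cj, hF.hyp.oct.card, hF.cardU]) ham hc (fun h3 => haU' (mem_cj.1 h3)) hcU,
              by group⟩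
        have h3 : A = cj m A := by
          refine RankThreeFus.Oct.eq_of_comm hF.hyp.rank hF.hyp.oct hO ?_
          intro c hc d hd
          obtain ⟨i, hi, u, hu, rfl⟩ := h1 c hc
          obtain ⟨j, hj, w, hw, rfl⟩ := h2 d hd
          have hiA : i ∈ A := (zpowers_le.2 ha) hi
          have hiA' : i ∈ cj m A := (zpowers_le.2 ham) hi
          have hjA : j ∈ A := (zpowers_le.2 ha) hj
          have hjA' : j ∈ cj m A := (zpowers_le.2 ham) hj
          have c1 : Commute i j := hF.commA hiA hjA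
          have c2 : Commute i w := hO.comm hiA' (hUA' hw)
          have c3 : Commute u j := hF.commA (hF.UA hu) hjA
          have c4 : Commute u w := h.WW_comm u (h.U_le_WW hu) w (h.cjU_le hm hw)
          exact ((c1.mul_right c2).mul_left (c3.mul_right c4)).eq
        exact hU (cj_eq_iff.2 (hF.nU (cj_eq_iff.1 h3.symm)))
  · rw [zpowers_le]
    exact ⟨hF.zA, h.zcj hm⟩

/-- `Γ = N(W) ∩ C(z)` -/
def Gam (P U : Subgroup G) (z : G) : Subgroup G := normalizer (WW P U : Set G) ⊓ centralizer ({z} : Set G)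

omit h in
theorem mem_Gam {g : G} : g ∈ Gam P U z ↔ g ∈ normalizer (WW P U : Set G) ∧ g * z = z * g := by
  unfold Gam
  rw [mem_inf, mem_centralizer_singleton_iff]

/-- the elements of `Γ` acting trivially on `W/⟨z⟩` -/
def KK' : Subgroup G where
  carrier := {g | g ∈ Gam P U z ∧ ∀ w ∈ WW P U, g * w * g⁻¹ = w ∨ g * w * g⁻¹ = z * w}
  one_mem' := ⟨one_mem _, fun w _ => by simp⟩
  mul_mem' := by
    rintro g k ⟨hg, hg'⟩ ⟨hk, hk'⟩
    refine ⟨mul_mem hg hk, fun w hw => ?_⟩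
    have e1 : g * k * w * (g * k)⁻¹ = g * (k * w * k⁻¹) * g⁻¹ := by group
    have hgz := conj_eq_iff.2 (mem_Gam.1 hg).2
    rw [e1]
    rcases hk' w hw with h1 | h1 <;> rw [h1]
    · exact hg' w hw
    · have e2 : g * (z * w) * g⁻¹ = (g * z * g⁻¹) * (g * w * g⁻¹) := by group
      rw [e2, hgz]
      rcases hg' w hw with h2 | h2 <;> rw [h2]
      · right; rfl
      · left; rw [← mul_assoc, h.zz, one_mul]
  inv_mem' := by
    rintro g ⟨hg, hg'⟩
    refine ⟨inv_mem hg, fun w hw => ?_⟩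
    have h1 := mem_norm' (mem_Gam.1 hg).1 hw
    have hgz := (mem_Gam.1 hg).2
    rw [inv_inv]
    have e2 : g * (g⁻¹ * w * g) * g⁻¹ = w := by group
    rcases hg' _ h1 with h2 | h2
    · left
      rw [e2] at h2
      exact h2.symm
    · right
      rw [e2] at h2
      calc g⁻¹ * w * g = (z * z) * (g⁻¹ * w * g) := by rw [h.zz, one_mul]
        _ = z * (z * (g⁻¹ * w * g)) := by group
        _ = z * w := by rw [← h2]

theorem mem_KK' {g : G} : g ∈ h.KK' ↔ g ∈ Gam P U z ∧ ∀ w ∈ WW P U, g * w * g⁻¹ = w ∨ g * w * g⁻¹ = z * w :=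
  Iff.rfl

theorem NP_le_Gam [Finite G] : normalizer (P : Set G) ≤ Gam P U z := fun m hm =>
  mem_Gam.2 ⟨h.WW_norm hm, h.Lz m hm⟩

theorem norm_of_cond [Finite G] {g : G} (hg : ∀ w ∈ WW P U, g * w * g⁻¹ = w ∨ g * w * g⁻¹ = z * w) :
    g ∈ normalizer (WW P U : Set G) := by
  refine mem_norm_of_conj fun w hw => ?_
  rcases hg w hw with h1 | h1 <;> rw [h1]
  · exact hw
  · exact mul_mem (h.U_le_WW h.fr.zU) hw

/-- (8.4) -/
theorem F1 [Finite G] {g : G} (hg : g ∈ (S : Subgroup G))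
    (hw : ∀ w ∈ WW P U, g * w * g⁻¹ = w ∨ g * w * g⁻¹ = z * w) : g ∈ P := by
  haveI : Fact (Nat.Prime 2) := ⟨Nat.prime_two⟩
  have hF := h.fr
  have hKG : h.KK' ≤ Gam P U z := fun k hk => hk.1
  have hGK : Gam P U z ≤ normalizer (h.KK' : Set G) := by
    intro m hm
    refine mem_norm_of_conj ?_
    rintro k ⟨hk, hk'⟩
    refine ⟨mul_mem (mul_mem hm hk) (inv_mem hm), fun w hw => ?_⟩
    have h1 := hk' _ (mem_norm' (mem_Gam.1 hm).1 hw)
    have hmz := conj_eq_iff.2 (mem_Gam.1 hm).2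
    have e1 : m * k * m⁻¹ * w * (m * k * m⁻¹)⁻¹ = m * (k * (m⁻¹ * w * m) * k⁻¹) * m⁻¹ := by group
    rw [e1]
    rcases h1 with h1 | h1 <;> rw [h1]
    · left; group
    · right
      have e2 : m * (z * (m⁻¹ * w * m)) * m⁻¹ = (m * z * m⁻¹) * w := by group
      rw [e2, hmz]
  have hKU : h.KK' ≤ normalizer (U : Set G) := by
    rintro k ⟨hk, hk'⟩
    refine mem_norm_of_conj fun u hu => ?_
    rcases hk' u (h.U_le_WW hu) with h1 | h1 <;> rw [h1]
    · exact hu
    · exact mul_mem hF.zU hu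
  have hPK : P ≤ h.KK' := fun k hk => ⟨h.NP_le_Gam (le_normalizer hk), fun w hw => h.PW hk hw⟩
  have hUK : U ≤ h.KK' ⊓ (S : Subgroup G) := fun u hu => ⟨hPK (h.UP hu), h.PS (h.UP hu)⟩
  have hlt : Nat.card P < Nat.card (Gam P U z ⊓ (S : Subgroup G) : Subgroup G) := by
    have h1 : P < (S : Subgroup G) ⊓ normalizer (P : Set G) := lt_inf_normalizer S.isPGroup' h.max.ess.lt
    have h2 : (S : Subgroup G) ⊓ normalizer (P : Set G) ≤ Gam P U z ⊓ (S : Subgroup G) :=
      le_inf (inf_le_right.trans h.NP_le_Gam) inf_le_left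
    exact lt_of_lt_of_le (Set.Finite.card_lt_card (Set.toFinite _) h1) (card_le_card h2)
  have hGU : ¬ Gam P U z ≤ normalizer (U : Set G) := fun h1 => h.max.not (h.NP_le_Gam.trans h1)
  have h1 := (h.max.frattini hKG hGK hKU hUK hlt hGU).1
  have h2 : P = h.KK' ⊓ (S : Subgroup G) :=
    Subgroup.eq_of_le_of_card_ge (le_inf hPK h.PS) h1
  rw [h2]
  exact ⟨⟨mem_Gam.2 ⟨h.norm_of_cond hw, h.zS hg⟩, hw⟩, hg⟩

/-- `P₀`: the small elements of `P` -/
def Pzero [Finite G] : Subgroup G where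
  carrier := {g | g ∈ P ∧ ∀ a ∈ A, g * a * g⁻¹ = a ∨ g * a * g⁻¹ = z * a}
  one_mem' := ⟨one_mem _, fun w _ => by simp⟩
  mul_mem' := by
    rintro g k ⟨hg, hg'⟩ ⟨hk, hk'⟩
    exact ⟨mul_mem hg hk, h.small_mul hk hg hg' hk'⟩
  inv_mem' := by
    rintro g ⟨hg, hg'⟩
    refine ⟨inv_mem hg, fun w hw => ?_⟩
    have h1 := mem_norm' (h.fr.hyp.norm (h.PS hg)) hw
    rw [inv_inv]
    have e2 : g * (g⁻¹ * w * g) * g⁻¹ = w := by group
    rcases hg' _ h1 with h2 | h2
    · left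
      rw [e2] at h2
      exact h2.symm
    · right
      rw [e2] at h2
      calc g⁻¹ * w * g = (z * z) * (g⁻¹ * w * g) := by rw [h.zz, one_mul]
        _ = z * (z * (g⁻¹ * w * g)) := by group
        _ = z * w := by rw [← h2]

theorem mem_Pzero [Finite G] {g : G} : g ∈ h.Pzero ↔ g ∈ P ∧ ∀ a ∈ A, g * a * g⁻¹ = a ∨ g * a * g⁻¹ = z * a :=
  Iff.rfl

/-- `T ∩ P` acts trivially on `A^m` modulo `z` -/
theorem T_small [Finite G] {m g : G} (hm : m ∈ normalizer (P : Set G)) (hmA : A ⊓ cj m A = zpowers z)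
    (hgP : g ∈ P) (hgT : g ∈ TT S A) {y : G} (hy : y ∈ cj m A) : g * y * g⁻¹ = y ∨ g * y * g⁻¹ = z * y := by
  have hF := h.fr
  have hPN : P ≤ normalizer (A : Set G) := h.PS.trans hF.hyp.norm
  have h1 : g * y * g⁻¹ * y⁻¹ ∈ cj m A := mul_mem (Fr.norm_cj hm hPN hgP hy) (inv_mem hy)
  have hyS : y ∈ (S : Subgroup G) := h.PS (Fr.cj_le_of_norm hm h.AP hy)
  have h2 : g * y * g⁻¹ * y⁻¹ ∈ TT S A := by
    have e1 : g * y * g⁻¹ * y⁻¹ = g * (y * g⁻¹ * y⁻¹) := by group
    rw [e1]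
    exact mul_mem hgT (mem_norm (hF.SnT hyS) (inv_mem hgT))
  have h3 := hF.mem_A_of_sq h2 ((RankThreeFus.Oct.cj hF.hyp.oct m).sq _ h1)
  have h4 : g * y * g⁻¹ * y⁻¹ ∈ zpowers z := by rw [← hmA]; exact ⟨h3, h1⟩
  rcases zpowers_cases h.zz _ h4 with h5 | h5
  · left; exact mul_inv_eq_one.1 h5
  · right; exact mul_inv_eq_iff_eq_mul.1 h5

/-- (8.5) for `m` moving `U` -/
theorem Pzero_step [Finite G] {m : G} (hm : m ∈ normalizer (P : Set G)) (hU : cj m U ≠ U) :
    m ∈ normalizer (h.Pzero : Set G) := by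
  have hF := h.fr
  have hmA := h.cas hm hU
  obtain ⟨b, hb, e, he, hbQ, hbT, hbf, heS, heU, hbb, hee, hbe, -⟩ := hF.exists_be h.PS h.AP hm hmA
  have hO := RankThreeFus.Oct.cj hF.hyp.oct m
  have hbP : b ∈ P := Fr.cj_le_of_norm hm h.AP hb
  have heP : e ∈ P := Fr.cj_le_of_norm hm h.AP he
  -- every small element is in `A^m T`
  have key : ∀ g ∈ h.Pzero, ∃ y ∈ cj m A, y * g ∈ TT S A := by
    have keyQ : ∀ g ∈ h.Pzero, g ∈ QQ S U → ∃ y ∈ cj m A, y * g ∈ TT S A := by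
      rintro g ⟨hgP, hgs⟩ hgQ
      rcases hgs f hF.fA with h1 | h1
      · exact ⟨1, one_mem _, by rw [one_mul]; exact hF.mem_T_of_fix hgQ h1⟩
      · refine ⟨b, hb, hF.mem_T_of_fix (mul_mem hbQ hgQ) ?_⟩
        have e1 : b * g * f * (b * g)⁻¹ = b * (g * f * g⁻¹) * b⁻¹ := by group
        have e2 : b * (z * f) * b⁻¹ = (b * z * b⁻¹) * (b * f * b⁻¹) := by group
        rw [e1, h1, e2, hbf, conj_eq_iff.2 (hF.zc b hbQ.1)]
        calc z * (f * z) = z * (z * f) := by rw [hF.zfc]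
          _ = f := by rw [← mul_assoc, h.zz, one_mul]
    intro g hg
    by_cases hgQ : g ∈ QQ S U
    · exact keyQ g hg hgQ
    · have heg : e * g ∈ QQ S U := hF.mul_mem_Q heS (h.PS hg.1) (fun h1 => heU h1.2) hgQ
      have hes : e ∈ h.Pzero := ⟨heP, fun a ha => hF.comm_cases h.PS h.AP hm hmA ha he⟩
      obtain ⟨y, hy, hyT⟩ := keyQ _ (mul_mem hes hg) heg
      exact ⟨y * e, mul_mem hy he, by rw [mul_assoc]; exact hyT⟩
  have h1 : m⁻¹ ∈ normalizer (h.Pzero : Set G) := by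
    refine mem_norm_of_conj fun g hg => ?_
    rw [inv_inv]
    refine ⟨mem_norm' hm hg.1, fun a ha => ?_⟩
    obtain ⟨y, hy, hyT⟩ := key g hg
    have hyP : y ∈ P := Fr.cj_le_of_norm hm h.AP hy
    have h2 := h.T_small hm hmA (mul_mem hyP hg.1) hyT (conj_mem_cj ha m)
    have h3 : g * (m * a * m⁻¹) * g⁻¹ = m * a * m⁻¹ ∨ g * (m * a * m⁻¹) * g⁻¹ = z * (m * a * m⁻¹) := by
      obtain ⟨w, hw⟩ : ∃ w, w = m * a * m⁻¹ := ⟨_, rfl⟩
      rw [← hw] at h2 ⊢
      have hwA : w ∈ cj m A := by rw [hw]; exact conj_mem_cj ha m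
      have c1 : y⁻¹ * w * y = w := by
        have := hO.comm (inv_mem hy) hwA
        rw [this]; group
      have c2 : y⁻¹ * (z * w) * y = z * w := by
        have hzw : z * w ∈ cj m A := mul_mem (h.zcj hm) hwA
        have := hO.comm (inv_mem hy) hzw
        rw [this]; group
      have e1 : g * w * g⁻¹ = y⁻¹ * ((y * g) * w * (y * g)⁻¹) * y := by group
      rw [e1]
      rcases h2 with h2 | h2 <;> rw [h2]
      · left; exact c1
      · right; exact c2
    have hmz := h.Lz m hm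
    have hmz' : m⁻¹ * z * m = z := by
      rw [mul_assoc, ← hmz, ← mul_assoc, inv_mul_cancel, one_mul]
    have e2 : m⁻¹ * g * m * a * (m⁻¹ * g * m)⁻¹ = m⁻¹ * (g * (m * a * m⁻¹) * g⁻¹) * m := by group
    rw [e2]
    rcases h3 with h3 | h3 <;> rw [h3]
    · left; group
    · right
      calc m⁻¹ * (z * (m * a * m⁻¹)) * m = (m⁻¹ * z * m) * a := by group
        _ = z * a := by rw [hmz']
  have h2 := inv_mem h1
  rwa [inv_inv] at h2

/-- (8.5) -/
theorem Pzero_norm [Finite G] : normalizer (P : Set G) ≤ normalizer (h.Pzero : Set G) := by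
  intro m hm
  by_cases hU : cj m U = U
  · obtain ⟨k, hk, hkU⟩ := h.exists_mov
    have h1 := h.Pzero_step hk hkU
    have h2 : cj (m * k) U ≠ U := by
      intro h3
      apply hkU
      rw [← cj_cj] at h3
      have h4 := cj_inv_eq h3
      rw [← h4]
      exact cj_inv_eq hU
    have h3 := h.Pzero_step (mul_mem hm hk) h2
    have e1 : m = (m * k) * k⁻¹ := by group
    rw [e1]
    exact mul_mem h3 (inv_mem h1)
  · exact h.Pzero_step hm hU

end Bg

/-- **Section 8.** -/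
theorem exists_pts [Finite G] {S : Sylow 2 G} {A U : Subgroup G} {z f x s : G} {Y : Subgroup G} {t : G}
    {P : Subgroup G} (hY : Yz S A U z f x s Y t) (hM : Choice.Max S U P) (hAP : A ≤ P)
    (hLz : ∀ l ∈ normalizer (P : Set G), l * z = z * l)
    (hns : ¬ ∀ g ∈ P, ∀ a ∈ A, g * a * g⁻¹ = a ∨ g * a * g⁻¹ = z * a) {l : G}
    (hl : l ∈ normalizer (P : Set G)) (hlA : ∀ a ∈ A, a ∈ cj l A → a = 1 ∨ a = z) :
    ∃ f' x' s' t' W, Pts S A U z f' x' s' Y t' P W := by
  have hF := hY.fr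
  have hzl : z ∈ cj l A := by
    rw [mem_cj]
    have h1 := hLz l hl
    have e1 : l⁻¹ * z * l = z := by
      rw [mul_assoc, ← h1, ← mul_assoc, inv_mul_cancel, one_mul]
    rw [e1]; exact hF.zA
  have hlA' : A ⊓ cj l A = zpowers z := by
    refine le_antisymm ?_ ?_
    · rintro a ⟨ha, ha'⟩
      rcases hlA a ha ha' with h1 | h1
      · rw [h1]; exact one_mem _
      · rw [h1]; exact mem_zpowers z
    · rw [zpowers_le]; exact ⟨hF.zA, hzl⟩
  have h : Bg S A U z f x s P l := ⟨hF, hM, hAP, hLz, hns, hl, hlA'⟩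
  obtain ⟨m, hm, hmU⟩ := h.exists_mov
  have hmA := h.cas hm hmU
  obtain ⟨b, hb, e, he, hbQ, hbT, hbf, heS, heU, hbb, hee, hbe, hall⟩ := hF.exists_be h.PS h.AP hm hmA
  obtain ⟨f', x', t', hci, hff⟩ := hY.exists_ci heS heU hee hbQ hbb hbf hbe
  have hF' := hci.yz.fr
  -- `b ∈ W`
  have hbW : b ∈ WW P U := by
    obtain ⟨v, hv, hvU⟩ := h.exists_notMem hmU
    have hvQ : v ∈ QQ S U := h.WW_le_Q (h.cjU_le hm hv)
    obtain ⟨i, hi, hvi⟩ := hall v (map_mono hF.UA hv)
    have hiU : i ∈ U := by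
      rcases hi with rfl | rfl
      · exact one_mem _
      · exact hF.zU
    have hiW := h.U_le_WW hiU
    have hiQ := h.WW_le_Q hiW
    rcases hvi with h1 | h1 | h1 | h1
    · exact absurd (h1 ▸ hiU) hvU
    · have e1 : b = i⁻¹ * v := by rw [h1]; group
      rw [e1]; exact mul_mem (inv_mem hiW) (h.cjU_le hm hv)
    · exfalso
      apply heU
      have e1 : e = i⁻¹ * v := by rw [h1]; group
      rw [e1]; exact (mul_mem (inv_mem hiQ) hvQ).2
    · exfalso
      apply heU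
      have e1 : e = b⁻¹ * (i⁻¹ * v) := by rw [h1]; group
      rw [e1]; exact (mul_mem (inv_mem hbQ) (mul_mem (inv_mem hiQ) hvQ)).2
  have hbU : b ∉ U := fun h1 => hbT (hF.A_le_T (hF.UA h1))
  obtain ⟨r, hr⟩ : ∃ r, r = x' * t' * x'⁻¹ := ⟨_, rfl⟩
  have hrY : r ∈ Y := by rw [hr]; exact hci.yz.rY
  have hrT : r ∈ TT S A := hci.yz.YT hrY
  obtain ⟨β, hβ⟩ : ∃ β, β = b * r * b⁻¹ * r⁻¹ := ⟨_, rfl⟩
  have hβ' : β = x' * z * x'⁻¹ ∨ β = z * (x' * z * x'⁻¹) := by
    have h1 := hci.zprime.2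
    rw [← hr, ← hβ] at h1
    rcases h1 with h1 | h1
    · exact Or.inl h1
    · right
      rw [h1]
      calc x'⁻¹ * z * x' = x'⁻¹ * (x' * (z * (x' * z * x'⁻¹)) * x'⁻¹) * x' := by rw [hF'.xz3]
        _ = _ := by group
  have hβU : β ∈ U := by
    rcases hβ' with h1 | h1 <;> rw [h1]
    · exact hF'.z2_mem
    · exact mul_mem hF.zU hF'.z2_mem
  have hβ1 : β ≠ 1 := by
    rcases hβ' with h1 | h1 <;> rw [h1]
    · exact hF'.z2_ne_one
    · intro h2
      apply hF'.xz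
      rw [← inv_eq_of_mul_eq_one_right h2]
      exact hF.zi
  have hβz : β ≠ z := by
    rcases hβ' with h1 | h1 <;> rw [h1]
    · exact hF'.xz
    · intro h2
      exact hF'.z2_ne_one (mul_eq_left.1 h2)
  have hbi : b⁻¹ = b := inv_eq_of_mul_eq_one_right hbb
  have hrb : r * b * r⁻¹ = β * b := by
    have h1 : b * r * b * r⁻¹ = β := by
      rw [hβ, hbi]
    have h2 : r * b * r⁻¹ = b * β := by
      rw [← h1]
      calc r * b * r⁻¹ = (b * b) * (r * b * r⁻¹) := by rw [hbb, one_mul]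
        _ = _ := by group
    rw [h2, hF.Q_comm hbQ hβU]
  have hrW : ∀ w ∈ WW P U, w ∉ U → ∃ u ∈ U, u ≠ 1 ∧ u ≠ z ∧ r * w * r⁻¹ = u * w := by
    intro w hw hwU
    refine ⟨β, hβU, hβ1, hβz, ?_⟩
    have h1 : w * b ∈ U := mul_mem_of_index_two h.U_le_WW (by rw [h.WW_oct.card, hF.cardU]) hw hbW hwU hbU
    have h2 : r * (w * b) * r⁻¹ = w * b := conj_eq_iff.2 (hF.T_comm hrT (hF.UA h1))
    have e1 : r * w * r⁻¹ = (r * (w * b) * r⁻¹) * (r * b * r⁻¹)⁻¹ := by group
    rw [e1, h2, hrb, mul_inv_rev, hbi, hF.invA (hF.UA hβU)]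
    calc w * b * (b * β) = w * (b * b) * β := by group
      _ = w * β := by rw [hbb, mul_one]
      _ = β * w := h.WW_comm w hw β (h.U_le_WW hβU)
  have hrN : r ∈ normalizer (WW P U : Set G) := by
    refine mem_norm_of_conj fun w hw => ?_
    by_cases hwU : w ∈ U
    · rw [conj_eq_iff.2 (hF.T_comm hrT (hF.UA hwU))]; exact hw
    · obtain ⟨u, hu, -, -, h1⟩ := hrW w hw hwU
      rw [h1]
      exact mul_mem (h.U_le_WW hu) hw
  have hrz : r * z = z * r := hF.zc r hrT.1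
  have hrP : r ∈ normalizer (P : Set G) := by
    refine mem_norm_of_conj fun g hg => ?_
    refine h.F1 (mul_mem (mul_mem hrT.1 (h.PS hg)) (inv_mem hrT.1)) fun w hw => ?_
    have h1 := h.PW hg (mem_norm' hrN hw)
    have e1 : r * g * r⁻¹ * w * (r * g * r⁻¹)⁻¹ = r * (g * (r⁻¹ * w * r) * g⁻¹) * r⁻¹ := by group
    rw [e1]
    rcases h1 with h1 | h1 <;> rw [h1]
    · left; group
    · right
      have e2 : r * (z * (r⁻¹ * w * r)) * r⁻¹ = (r * z * r⁻¹) * w := by group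
      rw [e2, conj_eq_iff.2 hrz]
  refine ⟨f', x', e, t', WW P U, ?_⟩
  exact { yz := hci.yz, ess := hM.ess, AP := hAP, Lz := hLz, mov := h.exists_mov, cardW := h.WW_oct.card
          sqW := h.WW_sq, UW := h.U_le_WW, WQ := h.WW_le_Q, WT := fun w hw hT => h.WT hw hT
          LW := h.WW_norm, PW := fun g hg w hw => h.PW hg hw, F1 := fun g hg hw => h.F1 hg hw
          P0n := fun m hm g hg hs => (mem_norm (h.Pzero_norm hm) (⟨hg, hs⟩ : g ∈ h.Pzero)).2
          cas := fun m hm hU => h.cas hm hU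
          rP := by rw [← hr]; exact hrP
          rW := by rw [← hr]; exact hrW }

end Cfsg.Agent.RankThreeFus
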