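import Cfsg.Agent.RankThreeFus.FinalGlue
import Cfsg.Agent.RankThreeFus.PTne
import Cfsg.Agent.RankThreeFus.PtsInst
import Cfsg.Agent.RankThreeFus.PTSglue
import Cfsg.Agent.RankThreeFus.KapMake

/-!
# S1730, branch (B), (B8*): the end of CASE I
-/

set_option autoImplicit false

namespace Cfsg.Agent.RankThreeFus

universe u

/-- CASE I, PART 1. -/
theorem smallOne (G : Type u) [Group G] [Finite G] : SmallOne G :=
  fun _ _ _ _ _ _ _ _ _ _ hY hm hAP hz hs _ hl hal => hY.fr.small_false hm.ess hAP hz hs hl hal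

/-- CASE I, PART 2. -/
theorem bigOne (G : Type u) [Group G] [Finite G] : BigOne G := by
  intro S A U z f x s Y t P hY hM hAP hLz hns l hl hal
  obtain ⟨f', x', s', t', W, hP⟩ := exists_pts hY hM hAP hLz hns hl hal
  obtain ⟨f'', x'', e, t'', b, κ, hK, -⟩ := hP.exists_kap
  exact hP.exists_small hM hns hK

/-- **`PropB`** from Goldschmidt's theorem. -/
theorem propB_of_gold
    (hGold : ∀ (G : Type u) [Group G] [Finite G] [IsSimpleGroup G], ¬ IsMulCommutative G →
      Cfsg.Agent.RankThreeON.Seven.Gold G) :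
    Cfsg.Agent.RankThree.Assemble.PropB.{u} :=
  propB_of hGold (fun G _ _ => smallOne G) (fun G _ _ => bigOne G)

end Cfsg.Agent.RankThreeFus
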