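import Mathlib

/-!
# S1730, branch (B), (II.3): the quadratic form argument

`Quad V W P`: `V`, `W` are finite elementary abelian 2-groups (written additively), `#W = 4`,
`q : V → W` is a quadratic map with polar form `b`; distinct nonzero singular vectors are never orthogonal;
the 3-group `P` acts on everything, without fixed points on `W`. If there is a singular vector then the fixed
points of `P` on `V` are `{0, x₀}` with `x₀` singular.
-/

set_option autoImplicit false
set_option linter.unusedSectionVars false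

namespace Cfsg.Agent.RankThreeFus.Claim

/-- A 3-group has a short orbit on a set whose order is not divisible by 9. -/
theorem exists_short {P X : Type*} [Group P] [MulAction P X]
    [Finite X] [Finite P] (hP : IsPGroup 3 P) (h : ¬ 9 ∣ Nat.card X) :
    ∃ x : X, (MulAction.orbit P x).ncard ≤ 3 := by
  by_contra hno
  push Not at hno
  apply h
  have := Fintype.ofFinite (MulAction.orbitRel.Quotient P X)
  rw [Nat.card_congr (MulAction.selfEquivSigmaOrbits' P X), Nat.card_sigma]
  refine Finset.dvd_sum fun ω _ => ?_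
  induction ω using Quotient.inductionOn' with
  | h x =>
    have h1 : Nat.card (MulAction.orbitRel.Quotient.orbit (Quotient.mk'' x : MulAction.orbitRel.Quotient P X)) =
        (MulAction.orbit P x).ncard := by
      rw [MulAction.orbitRel.Quotient.orbit_mk, Nat.card_coe_set_eq]
    rw [h1]
    have : Fact (Nat.Prime 3) := ⟨by norm_num⟩
    obtain ⟨n, hn⟩ := hP.card_orbit x
    rw [Nat.card_coe_set_eq] at hn
    have h2 := hno x
    rw [hn] at h2 ⊢
    match n with
    | 0 => norm_num at h2
    | 1 => norm_num at h2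
    | n + 2 => exact ⟨3 ^ n, by ring⟩

/-- A quadratic map with values in a four-group, with the action of a 3-group. -/
structure Quad (V W P : Type*) [AddCommGroup V] [AddCommGroup W] [Group P] [DistribMulAction P V]
    [DistribMulAction P W] (q : V → W) (b : V → V → W) : Prop where
  two : ∀ x : V, x + x = 0
  two' : ∀ w : W, w + w = 0
  card : Nat.card W = 4
  add : ∀ x y, q (x + y) = q x + q y + b x y
  ladd : ∀ x y z, b (x + y) z = b x z + b y z
  sing : ∀ x y, x ≠ 0 → y ≠ 0 → x ≠ y → q x = 0 → q y = 0 → b x y ≠ 0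
  equiv : ∀ (g : P) x, q (g • x) = g • q x
  isP : IsPGroup 3 P
  nt : ∃ (g : P) (w : W), g • w ≠ w

namespace Quad

variable {V W P : Type*} [AddCommGroup V] [AddCommGroup W] [Group P] [DistribMulAction P V]
  [DistribMulAction P W] {q : V → W} {b : V → V → W} [Finite V] [Finite P] (h : Quad V W P q b)

include h

theorem q_zero : q 0 = 0 := by
  have h1 := h.add 0 0
  rw [add_zero] at h1
  have h2 : b 0 0 = 0 := by
    have := h.ladd 0 0 0
    rw [add_zero] at this
    exact left_eq_add.1 this
  rw [h2, add_zero] at h1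
  exact left_eq_add.1 h1

theorem symm (x y : V) : b x y = b y x := by
  have h1 := h.add x y
  have h2 := h.add y x
  rw [add_comm y x, h1, add_comm (q y)] at h2
  exact add_left_cancel h2

theorem radd (x y z : V) : b x (y + z) = b x y + b x z := by
  rw [h.symm, h.ladd, h.symm y, h.symm z]

theorem self (x : V) : b x x = 0 := by
  have h1 := h.add x x
  rw [h.two, h.q_zero, h.two', zero_add] at h1
  exact h1.symm

theorem b_zero (x : V) : b x 0 = 0 := by
  have := h.radd x 0 0
  rw [add_zero] at this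
  exact left_eq_add.1 this

theorem neg_eq (x : V) : -x = x := neg_eq_of_add_eq_zero_left (h.two x)

theorem eq_of_add_eq_zero {x y : V} (hxy : x + y = 0) : x = y := by
  rw [← h.neg_eq y]; exact eq_neg_of_add_eq_zero_left hxy

theorem eq_of_add_eq_zero' {x y : W} (hxy : x + y = 0) : x = y := by
  have : -y = y := neg_eq_of_add_eq_zero_left (h.two' y)
  rw [← this]; exact eq_neg_of_add_eq_zero_left hxy

/-- No line is totally singular. -/
theorem no_line {x y : V} (hx : x ≠ 0) (hy : y ≠ 0) (hxy : x ≠ y) (h1 : q x = 0) (h2 : q y = 0)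
    (h3 : q (x + y) = 0) : False := by
  have h4 := h.add x y
  rw [h1, h2, h3, add_zero, zero_add] at h4
  exact h.sing x y hx hy hxy h1 h2 h4.symm

theorem finW : Finite W := Nat.finite_of_card_ne_zero (by rw [h.card]; norm_num)

/-- `P` has no fixed points on `W`. -/
theorem no_fix {w : W} (hw : ∀ g : P, g • w = w) : w = 0 := by
  by_contra h0
  have := h.finW
  obtain ⟨g, v, hv⟩ := h.nt
  have : Fact (Nat.Prime 3) := ⟨by norm_num⟩
  have h1 := h.isP.card_modEq_card_fixedPoints W
  rw [h.card] at h1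
  have h2 : Nat.card (MulAction.fixedPoints P W) < 4 := by
    rw [← h.card, Nat.card_coe_set_eq, ← Set.ncard_univ]
    exact Set.ncard_lt_ncard (Set.ssubset_univ_iff.2 fun h3 => hv (by
      have : v ∈ MulAction.fixedPoints P W := by rw [h3]; trivial
      exact this g)) (Set.toFinite _)
  have h3 : 2 ≤ Nat.card (MulAction.fixedPoints P W) := by
    rw [Nat.card_coe_set_eq, ← Set.ncard_pair (Ne.symm h0)]
    refine Set.ncard_le_ncard ?_ (Set.toFinite _)
    rintro y (rfl | rfl)
    · intro g
      exact smul_zero g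
    · exact hw
  generalize Nat.card (MulAction.fixedPoints P W) = n at h1 h2 h3
  unfold Nat.ModEq at h1
  omega

/-- The fixed points of `P` on `V` are singular. -/
theorem fix_sing {x : V} (hx : ∀ g : P, g • x = x) : q x = 0 := by
  apply h.no_fix
  intro g
  rw [← h.equiv, hx]

/-- At most one nonzero fixed point. -/
theorem fix_unique {x y : V} (hx : ∀ g : P, g • x = x) (hy : ∀ g : P, g • y = y) (hx0 : x ≠ 0)
    (hy0 : y ≠ 0) : x = y := by
  by_contra hxy
  exact h.no_line hx0 hy0 hxy (h.fix_sing hx) (h.fix_sing hy)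
    (h.fix_sing fun g => by rw [smul_add, hx, hy])

/-- Restriction to a cyclic subgroup moving something of `W`. -/
theorem restr (τ : P) {w : W} (hτ : τ • w ≠ w) : Quad V W (Subgroup.zpowers τ) q b where
  two := h.two
  two' := h.two'
  card := h.card
  add := h.add
  ladd := h.ladd
  sing := h.sing
  equiv := fun g x => h.equiv g x
  isP := h.isP.to_subgroup _
  nt := ⟨⟨τ, Subgroup.mem_zpowers τ⟩, w, hτ⟩

omit h in
theorem fix_zpowers {X : Type*} [MulAction P X] {τ : P} {x : X} (hx : τ • x = x) (g : Subgroup.zpowers τ) :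
    g • x = x := by
  have h1 : Subgroup.zpowers τ ≤ MulAction.stabilizer P x := by
    rw [Subgroup.zpowers_le]
    exact hx
  exact h1 g.2

/-- Step (a). -/
theorem step_a {τ : P} (h3 : ∀ x : V, τ • τ • τ • x = x) (hc : ∀ (g : P) (x : V), τ • g • x = g • τ • x)
    {w : W} (hτ : τ • w ≠ w) {x : V} (hx0 : x ≠ 0) (hx : q x = 0) :
    ∃ y : V, y ≠ 0 ∧ ∀ g : P, g • y = y := by
  have hr := h.restr τ hτ
  have hy : τ • (x + τ • x + τ • τ • x) = x + τ • x + τ • τ • x := by
    rw [smul_add, smul_add, h3]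
    abel
  by_cases hy0 : x + τ • x + τ • τ • x = 0
  · exfalso
    have h4 : τ • τ • x = x + τ • x := (h.eq_of_add_eq_zero hy0).symm
    have h5 : q (τ • x) = 0 := by rw [h.equiv, hx, smul_zero]
    have h6 : q (τ • τ • x) = 0 := by rw [h.equiv, h5, smul_zero]
    refine h.no_line hx0 (y := τ • x) ?_ ?_ hx h5 (by rw [← h4]; exact h6)
    · intro h7
      exact hx0 (smul_eq_zero_iff_eq τ |>.1 h7)
    · intro h7
      rw [← h7, ← h7, h.two, zero_add] at hy0
      exact hx0 hy0
  · refine ⟨_, hy0, ?_⟩
    intro g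
    refine hr.fix_unique (fix_zpowers ?_) (fix_zpowers hy) ?_ hy0
    · rw [hc, hy]
    · intro h7
      exact hy0 (smul_eq_zero_iff_eq g |>.1 h7)

/-- In a four-group: two elements outside `{0, u}` have their sum in it. -/
theorem four {u a c : W} (hu : u ≠ 0) (ha : a ≠ 0) (hau : a ≠ u) (hc : c ≠ 0) (hcu : c ≠ u) :
    a + c = 0 ∨ a + c = u := by
  have := h.finW
  have h1 : ({0, u, a, a + u} : Set W) = Set.univ := by
    apply Set.eq_of_subset_of_ncard_le (Set.subset_univ _) _ (Set.toFinite _)
    rw [Set.ncard_univ, h.card]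
    have e1 : (a : W) ≠ a + u := by
      intro h2
      exact hu (left_eq_add.1 h2)
    have e2 : u ≠ a + u := fun h2 => ha (right_eq_add.1 h2)
    have e3 : (0 : W) ≠ a + u := fun h2 => hau (h.eq_of_add_eq_zero' h2.symm)
    rw [Set.ncard_insert_of_notMem (by
      simp only [Set.mem_insert_iff, Set.mem_singleton_iff, not_or]
      exact ⟨hu.symm, ha.symm, e3⟩), Set.ncard_insert_of_notMem (by
      simp only [Set.mem_insert_iff, Set.mem_singleton_iff, not_or]
      exact ⟨hau.symm, e2⟩), Set.ncard_pair e1]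
  have h2 : c ∈ ({0, u, a, a + u} : Set W) := by rw [h1]; trivial
  rcases h2 with rfl | rfl | rfl | rfl
  · exact absurd rfl hc
  · exact absurd rfl hcu
  · exact Or.inl (h.two' _)
  · right
    rw [← add_assoc, h.two', zero_add]

/-- An anisotropic subspace has order at most 32. -/
theorem card_aniso (D : AddSubgroup V) (hD : ∀ d ∈ D, d ≠ 0 → q d ≠ 0) : Nat.card D ≤ 32 := by
  by_cases h0 : ∃ w ∈ D, w ≠ 0
  swap
  · push Not at h0
    have : D = ⊥ := by
      rw [AddSubgroup.eq_bot_iff_forall]
      exact h0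
    rw [this, AddSubgroup.card_bot]
    norm_num
  obtain ⟨w, hw, hw0⟩ := h0
  have := h.finW
  let f : D →+ W := AddMonoidHom.mk' (fun y => b w y) (by
    intro x y
    exact h.radd _ _ _)
  have hu : q w ≠ 0 := hD w hw hw0
  -- the kernel has order at most 8
  have hker : Nat.card f.ker ≤ 8 := by
    by_contra hgt
    push Not at hgt
    -- the elements of the kernel
    have key : ∀ y ∈ D, b w y = 0 → y ≠ 0 → y ≠ w → q y ≠ 0 ∧ q y ≠ q w := by
      intro y hy hb hy0 hyw
      refine ⟨hD y hy hy0, ?_⟩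
      intro h1
      have h2 := h.add w y
      rw [h1, hb, add_zero, h.two'] at h2
      exact hD _ (D.add_mem hw hy) (fun h3 => hyw (h.eq_of_add_eq_zero h3).symm) h2
    have key2 : ∀ y ∈ D, ∀ z ∈ D, b w y = 0 → b w z = 0 → y ≠ 0 → y ≠ w → z ≠ 0 → z ≠ w → y + z ≠ 0 →
        y + z ≠ w → b y z ≠ 0 ∧ b y z ≠ q w := by
      intro y hy z hz hby hbz hy0 hyw hz0 hzw hyz0 hyzw
      obtain ⟨a1, a2⟩ := key y hy hby hy0 hyw
      obtain ⟨c1, c2⟩ := key z hz hbz hz0 hzw
      obtain ⟨d1, d2⟩ := key (y + z) (D.add_mem hy hz) (by rw [h.radd, hby, hbz, add_zero]) hyz0 hyzw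
      have h1 := h.add y z
      rcases h.four hu a1 a2 c1 c2 with h2 | h2
      · rw [h2, zero_add] at h1
        rw [← h1]
        exact ⟨d1, d2⟩
      · rw [h2] at h1
        constructor
        · intro h3
          rw [h3, add_zero] at h1
          exact d2 h1
        · intro h3
          rw [h3, h.two'] at h1
          exact d1 h1
    -- choose three independent elements
    have choose : ∀ s : Set V, s.ncard ≤ 8 → ∃ y ∈ D, b w y = 0 ∧ y ∉ s := by
      intro s hs
      by_contra hno
      push Not at hno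
      have h1 : (Subtype.val ∘ Subtype.val : f.ker → V) '' Set.univ ⊆ s := by
        rintro _ ⟨y, -, rfl⟩
        exact hno y.1.1 y.1.2 y.2
      have h2 := Set.ncard_le_ncard h1 (Set.toFinite _)
      rw [Set.ncard_image_of_injective _ (Subtype.val_injective.comp Subtype.val_injective),
        Set.ncard_univ] at h2
      omega
    obtain ⟨y, hy, hby, hy1⟩ := choose {0, w} (by
      exact (Set.ncard_insert_le _ _).trans (by rw [Set.ncard_singleton]; norm_num))
    obtain ⟨z, hz, hbz, hz1⟩ := choose {0, w, y, y + w} (by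
      have e1 := Set.ncard_insert_le (0 : V) {w, y, y + w}
      have e2 := Set.ncard_insert_le w {y, y + w}
      have e3 := Set.ncard_insert_le y {y + w}
      rw [Set.ncard_singleton] at e3
      omega)
    obtain ⟨v, hv, hbv, hv1⟩ := choose {0, w, y, y + w, z, z + w, y + z, y + z + w} (by
      have e1 := Set.ncard_insert_le (0 : V) {w, y, y + w, z, z + w, y + z, y + z + w}
      have e2 := Set.ncard_insert_le w {y, y + w, z, z + w, y + z, y + z + w}
      have e3 := Set.ncard_insert_le y {y + w, z, z + w, y + z, y + z + w}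
      have e4 := Set.ncard_insert_le (y + w) {z, z + w, y + z, y + z + w}
      have e5 := Set.ncard_insert_le z {z + w, y + z, y + z + w}
      have e6 := Set.ncard_insert_le (z + w) {y + z, y + z + w}
      have e7 := Set.ncard_insert_le (y + z) {y + z + w}
      rw [Set.ncard_singleton] at e7
      omega)
    simp only [Set.mem_insert_iff, Set.mem_singleton_iff, not_or] at hy1 hz1 hv1
    have tr : ∀ {r s t : V}, r + s = t → r = s + t := by
      intro r s t hrst
      rw [← hrst, add_comm r s, ← add_assoc, h.two, zero_add]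
    obtain ⟨a1, a2⟩ := key2 y hy z hz hby hbz hy1.1 hy1.2 hz1.1 hz1.2.1
      (fun h1 => hz1.2.2.1 (h.eq_of_add_eq_zero h1).symm)
      (fun h1 => hz1.2.2.2 (by rw [add_comm] at h1; exact tr h1))
    obtain ⟨c1, c2⟩ := key2 y hy v hv hby hbv hy1.1 hy1.2 hv1.1 hv1.2.1
      (fun h1 => hv1.2.2.1 (h.eq_of_add_eq_zero h1).symm)
      (fun h1 => hv1.2.2.2.1 (by rw [add_comm] at h1; exact tr h1))
    have hzv : b w (z + v) = 0 := by rw [h.radd, hbz, hbv, add_zero]
    obtain ⟨d1, d2⟩ := key2 y hy (z + v) (D.add_mem hz hv) hby hzv hy1.1 hy1.2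
      (fun h1 => hv1.2.2.2.2.1 (h.eq_of_add_eq_zero h1).symm)
      (fun h1 => hv1.2.2.2.2.2.1 (by rw [add_comm] at h1; exact tr h1))
      (fun h1 => hv1.2.2.2.2.2.2.1 (by
        rw [← add_assoc] at h1
        exact (h.eq_of_add_eq_zero h1).symm))
      (fun h1 => hv1.2.2.2.2.2.2.2 (by
        rw [← add_assoc, add_comm] at h1
        exact tr h1))
    rw [h.radd] at d1 d2
    rcases h.four hu a1 a2 c1 c2 with h1 | h1
    · exact d1 h1
    · exact d2 h1
  have h1 := f.ker.card_mul_index
  rw [AddSubgroup.index_ker] at h1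
  have h2 : Nat.card f.range ≤ 4 := by
    rw [← h.card]
    exact Nat.card_le_card_of_injective _ Subtype.val_injective
  calc Nat.card D = Nat.card f.ker * Nat.card f.range := h1.symm
    _ ≤ 8 * 4 := Nat.mul_le_mul hker h2
    _ = 32 := by norm_num

/-- Step (b). -/
theorem step_b {τ : P} (h3 : ∀ x : V, τ • τ • τ • x = x) (hc : ∀ (g : P) (x : V), τ • g • x = g • τ • x)
    (hτ : ∀ w : W, τ • w = w) {m : V} (hm : τ • m ≠ m) : False := by
  let D : AddSubgroup V :=
    { carrier := {d | d + τ • d + τ • τ • d = 0}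
      zero_mem' := by simp
      add_mem' := by
        intro x y hx hy
        change x + y + τ • (x + y) + τ • τ • (x + y) = 0
        have hx' : x + τ • x + τ • τ • x = 0 := hx
        have hy' : y + τ • y + τ • τ • y = 0 := hy
        rw [smul_add, smul_add]
        calc x + y + (τ • x + τ • y) + (τ • τ • x + τ • τ • y) =
            (x + τ • x + τ • τ • x) + (y + τ • y + τ • τ • y) := by abel
          _ = 0 := by rw [hx', hy', add_zero]
      neg_mem' := by
        intro x hx
        rw [h.neg_eq x]; exact hx }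
  have memD : ∀ d : V, d ∈ D ↔ d + τ • d + τ • τ • d = 0 := fun d => Iff.rfl
  have hne : ∀ d ∈ D, d ≠ 0 → τ • d ≠ d := by
    intro d hd hd0 h1
    rw [memD, h1, h1, h.two, zero_add] at hd
    exact hd0 hd
  have hsm0 : ∀ (g : P) (d : V), d ≠ 0 → g • d ≠ 0 := fun g d hd h1 => hd ((smul_eq_zero_iff_eq g).1 h1)
  have hD : ∀ d ∈ D, d ≠ 0 → q d ≠ 0 := by
    intro d hd hd0 hq
    have h1 : q (τ • d) = 0 := by rw [h.equiv, hq, smul_zero]
    have h2 : q (τ • τ • d) = 0 := by rw [h.equiv, h1, smul_zero]
    have h4 : τ • τ • d = d + τ • d := (h.eq_of_add_eq_zero ((memD d).1 hd)).symm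
    exact h.no_line hd0 (hsm0 τ d hd0) (hne d hd hd0).symm hq h1 (by rw [← h4]; exact h2)
  have hinv : ∀ (g : P), ∀ d ∈ D, g • d ∈ D := by
    intro g d hd
    rw [memD] at hd ⊢
    rw [hc, hc, ← smul_add, ← smul_add, hd, smul_zero]
  have hcard := h.card_aniso D hD
  -- a power of 2
  obtain ⟨n, hn⟩ : ∃ n, Nat.card D = 2 ^ n := by
    have : Fact (Nat.Prime 2) := ⟨Nat.prime_two⟩
    have h1 : IsPGroup 2 (Multiplicative D) := by
      intro x
      refine ⟨1, ?_⟩
      rw [pow_one, pow_two]
      exact congrArg Multiplicative.ofAdd (Subtype.ext (h.two (x.toAdd : V)))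
    obtain ⟨n, hn⟩ := IsPGroup.iff_card.1 h1
    exact ⟨n, hn⟩
  -- the nonzero vectors
  let X : SubMulAction P V :=
    { carrier := {d | d ∈ D ∧ d ≠ 0}
      smul_mem' := fun g d hd => ⟨hinv g d hd.1, hsm0 g d hd.2⟩ }
  have hX : Nat.card X + 1 = Nat.card D := by
    have h1 : ({d | d ∈ D ∧ d ≠ 0} : Set V).ncard + 1 = (D : Set V).ncard := by
      have h2 : (D : Set V) = insert 0 {d | d ∈ D ∧ d ≠ 0} := by
        ext d
        simp only [SetLike.mem_coe, Set.mem_insert_iff, Set.mem_ofPred_eq]
        constructor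
        · intro hd
          by_cases h0 : d = 0
          · exact Or.inl h0
          · exact Or.inr ⟨hd, h0⟩
        · rintro (rfl | hd)
          · exact D.zero_mem
          · exact hd.1
      rw [h2, Set.ncard_insert_of_notMem (by simp)]
    rw [← Nat.card_coe_set_eq, ← Nat.card_coe_set_eq] at h1
    exact h1
  have hmod : Nat.card X ≡ 0 [MOD 3] := by
    have : Fact (Nat.Prime 3) := ⟨by norm_num⟩
    have h1 := h.isP.card_modEq_card_fixedPoints X
    have h2 : IsEmpty (MulAction.fixedPoints P X) := by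
      constructor
      rintro ⟨⟨x, hx⟩, hfix⟩
      exact hne x hx.1 hx.2 (congrArg Subtype.val (hfix τ))
    rw [Nat.card_of_isEmpty (α := MulAction.fixedPoints P X)] at h1
    exact h1
  have hpos : 0 < Nat.card X := by
    have h1 : m + τ • m ∈ D := by
      rw [memD, smul_add, smul_add, h3]
      calc m + τ • m + (τ • m + τ • τ • m) + (τ • τ • m + m) =
          (m + m) + (τ • m + τ • m) + (τ • τ • m + τ • τ • m) := by abel
        _ = 0 := by rw [h.two m, h.two (τ • m), h.two (τ • τ • m), add_zero, add_zero]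
    have h2 : m + τ • m ≠ 0 := fun h4 => hm (h.eq_of_add_eq_zero h4).symm
    have : Nonempty X := ⟨⟨m + τ • m, h1, h2⟩⟩
    exact Nat.card_pos
  have h9 : ¬ 9 ∣ Nat.card X := by
    have h1 : n ≤ 5 := by
      by_contra hlt
      push Not at hlt
      have : 2 ^ 6 ≤ 2 ^ n := Nat.pow_le_pow_right (by norm_num) hlt
      rw [← hn] at this
      omega
    unfold Nat.ModEq at hmod
    interval_cases n <;> omega
  obtain ⟨⟨x, hx⟩, hsh⟩ := exists_short h.isP h9
  -- the orbit is `{x, τ x, τ² x}`
  have hxD := hx.1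
  have hx0 := hx.2
  have hd1 : x ≠ τ • x := (hne x hxD hx0).symm
  have hd2 : τ • x ≠ τ • τ • x := (hne (τ • x) (hinv τ x hxD) (hsm0 τ x hx0)).symm
  have hd3 : x ≠ τ • τ • x := by
    intro h1
    have h2 := congrArg (fun y => τ • y) h1
    simp only [h3] at h2
    exact hd1 h2.symm
  have horb : ∀ g : P, g • x = x ∨ g • x = τ • x ∨ g • x = τ • τ • x := by
    let x' : X := ⟨x, hx⟩
    have h1 : ({x', τ • x', τ • τ • x'} : Set X) = MulAction.orbit P x' := by
      apply Set.eq_of_subset_of_ncard_le _ _ (Set.toFinite _)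
      · rintro y (rfl | rfl | rfl)
        · exact MulAction.mem_orbit_self _
        · exact MulAction.mem_orbit _ _
        · exact ⟨τ * τ, mul_smul _ _ _⟩
      · refine hsh.trans ?_
        rw [Set.ncard_insert_of_notMem, Set.ncard_pair]
        · intro h2
          exact hd2 (congrArg Subtype.val h2)
        · simp only [Set.mem_insert_iff, Set.mem_singleton_iff, not_or]
          exact ⟨fun h2 => hd1 (congrArg Subtype.val h2), fun h2 => hd3 (congrArg Subtype.val h2)⟩
    intro g
    have h2 : g • x' ∈ ({x', τ • x', τ • τ • x'} : Set X) := by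
      rw [h1]; exact MulAction.mem_orbit _ _
    rcases h2 with h2 | h2 | h2
    · exact Or.inl (congrArg Subtype.val h2)
    · exact Or.inr (Or.inl (congrArg Subtype.val h2))
    · exact Or.inr (Or.inr (congrArg Subtype.val h2))
  apply hD x hxD hx0
  apply h.no_fix
  intro g
  rw [← h.equiv]
  rcases horb g with h1 | h1 | h1
  · rw [h1]
  · rw [h1, h.equiv, hτ]
  · rw [h1, h.equiv, h.equiv, hτ, hτ]

/-- **The claim of (II.3).** -/
theorem exists_fix {x : V} (hx0 : x ≠ 0) (hx : q x = 0) : ∃ y : V, y ≠ 0 ∧ q y = 0 ∧ ∀ g : P, g • y = y := by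
  have : Fact (Nat.Prime 3) := ⟨by norm_num⟩
  suffices hs : ∃ y : V, y ≠ 0 ∧ ∀ g : P, g • y = y by
    obtain ⟨y, hy0, hy⟩ := hs
    exact ⟨y, hy0, h.fix_sing hy, hy⟩
  by_contra hno
  -- the action of `P` on `V`
  let ρ : P →* Equiv.Perm V := MulAction.toPermHom P V
  have hρ : ∀ (g : P) (y : V), ρ g y = g • y := fun g y => rfl
  have hR : IsPGroup 3 ρ.range := IsPGroup.of_surjective h.isP ρ.rangeRestrict ρ.rangeRestrict_surjective
  have hnt : Nontrivial ρ.range := by
    by_contra hn
    rw [not_nontrivial_iff_subsingleton] at hn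
    apply hno
    refine ⟨x, hx0, ?_⟩
    intro g
    have h1 : (⟨ρ g, g, rfl⟩ : ρ.range) = 1 := Subsingleton.elim _ _
    have h2 : ρ g = 1 := congrArg Subtype.val h1
    rw [← hρ, h2]
    rfl
  have hfin : Finite ρ.range := inferInstance
  have hZ := hR.center_nontrivial
  have h3Z : 3 ∣ Nat.card (Subgroup.center ρ.range) := by
    have h1 : IsPGroup 3 (Subgroup.center ρ.range) := hR.to_subgroup _
    obtain ⟨n, hn⟩ := IsPGroup.iff_card.1 h1
    have h2 : 1 < Nat.card (Subgroup.center ρ.range) := Finite.one_lt_card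
    rw [hn] at h2 ⊢
    exact dvd_pow_self 3 (by rintro rfl; simp at h2)
  obtain ⟨⟨⟨α, τ, hτ⟩, hα⟩, hord⟩ := exists_prime_orderOf_dvd_card' 3 h3Z
  have hα3 : ρ τ ^ 3 = 1 := by
    have h1 : (⟨⟨α, τ, hτ⟩, hα⟩ : Subgroup.center ρ.range) ^ 3 = 1 := by
      rw [← hord]; exact pow_orderOf_eq_one _
    have h2 := congrArg (fun z : Subgroup.center ρ.range => ((z : ρ.range) : Equiv.Perm V)) h1
    rw [hτ]
    exact h2
  have hα1 : ρ τ ≠ 1 := by
    intro h1
    have h2 : (⟨⟨α, τ, hτ⟩, hα⟩ : Subgroup.center ρ.range) = 1 := by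
      apply Subtype.ext
      apply Subtype.ext
      exact hτ.symm.trans h1
    rw [h2, orderOf_one] at hord
    norm_num at hord
  have h3' : ∀ y : V, τ • τ • τ • y = y := by
    intro y
    have h1 : ρ τ ^ 3 = 1 := hα3
    rw [pow_succ, pow_two] at h1
    have h2 := congrArg (fun f : Equiv.Perm V => f y) h1
    exact h2
  have hcc : ∀ (g : P) (y : V), τ • g • y = g • τ • y := by
    intro g y
    have h1 := Subgroup.mem_center_iff.1 hα ⟨ρ g, g, rfl⟩
    have h2 := congrArg (fun z : ρ.range => (z : Equiv.Perm V) y) h1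
    simp only [Subgroup.coe_mul, Equiv.Perm.mul_apply] at h2
    rw [← hτ] at h2
    exact h2.symm
  obtain ⟨m, hm⟩ : ∃ m : V, τ • m ≠ m := by
    by_contra hn
    push Not at hn
    exact hα1 (Equiv.ext hn)
  by_cases hw : ∃ w : W, τ • w ≠ w
  · obtain ⟨w, hw⟩ := hw
    exact hno (h.step_a h3' hcc hw hx0 hx)
  · push Not at hw
    exact h.step_b h3' hcc hw hm

end Quad

end Cfsg.Agent.RankThreeFus.Claim
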