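import Cfsg.Agent.RankThreeFus.CycSet
import Cfsg.Agent.RankThreeFus.Star
import Cfsg.Agent.RankThreeFus.Eone

/-!
# S1730, type (a5): factorisation by centralisers of involutions

`Fv.decomp` : `M = C_M(v) C_M(v₁)` with `v₁ = x v x⁻¹`, for every `⟨x, v⟩`-invariant subgroup `M` of `Q`.
-/

set_option autoImplicit false
set_option linter.style.haveILetI false

namespace Cfsg.Agent.RankThreeFus

open Subgroup Cfsg.Agent.Lib.GoldschmidtFusion Cfsg.Agent.StdL2.G23Aut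

variable {G : Type*} [Group G]

/-- Two involutions whose product is `x ^ 2` modulo `M` invert a common `M`-conjugate of `x`. -/
theorem exists_inverted_pair [Finite G] {M : Subgroup G} (hM : IsPGroup 2 M) {x v w : G} {k : ℕ}
    (hx : x ^ 3 ^ k = 1) (hxM : x ∈ normalizer (M : Set G))
    (hv : v * v = 1) (hw : w * w = 1) (hvw : w * v * (x ^ 2)⁻¹ ∈ M) :
    ∃ m ∈ M, v * (m * x * m⁻¹) * v⁻¹ = (m * x * m⁻¹)⁻¹ ∧ w * (m * x * m⁻¹) * w⁻¹ = (m * x * m⁻¹)⁻¹ := by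
  have hvi : v⁻¹ = v := inv_eq_of_mul_eq_one_left hv
  have hwi : w⁻¹ = w := inv_eq_of_mul_eq_one_left hw
  set u : G := w * v with hu
  have huv : v * u * v⁻¹ = u⁻¹ := by
    rw [hu, mul_inv_rev, hvi, hwi, ← mul_assoc, mul_assoc (v * w), hv, mul_one]
  have huw : w * u * w⁻¹ = u⁻¹ := by
    rw [hu, mul_inv_rev, hvi, hwi, ← mul_assoc, hw, one_mul]
  have hx2n : x ^ 2 ∈ normalizer (M : Set G) := pow_mem hxM 2
  have hwM : u ^ 3 ^ k ∈ M := by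
    have h1 := pow_mem_coset hx2n hvw (3 ^ k)
    have h2 : (x ^ 2) ^ 3 ^ k = 1 := by
      rw [← pow_mul, mul_comm, pow_mul, hx, one_pow]
    rw [h2, inv_one, mul_one] at h1
    exact h1
  obtain ⟨j, hj⟩ := hM ⟨u ^ 3 ^ k, hwM⟩
  have hj' : (u ^ 3 ^ k) ^ 2 ^ j = 1 := by simpa using congrArg Subtype.val hj
  obtain ⟨e', he'⟩ : ∃ e' : ℕ, 2 * (2 ^ j * e') ≡ 1 [MOD 3 ^ k] := by
    have hco : Nat.Coprime (2 ^ (j + 1)) (3 ^ k) := Nat.Coprime.pow _ _ (by norm_num)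
    obtain ⟨c, hc0, hc1⟩ := Nat.chineseRemainder hco 0 1
    have h1 : 2 ^ (j + 1) ∣ c := Nat.modEq_zero_iff_dvd.1 hc0
    obtain ⟨e', rfl⟩ := h1
    refine ⟨e', ?_⟩
    have h2 : 2 * (2 ^ j * e') = 2 ^ (j + 1) * e' := by ring
    rw [h2]; exact hc1
  set e : ℕ := 2 ^ j * e' with he
  set y : G := u ^ e with hy
  have hyN : y ^ 3 ^ k = 1 := by
    rw [hy, he, ← pow_mul]
    have h1 : 2 ^ j * e' * 3 ^ k = 3 ^ k * 2 ^ j * e' := by ring
    rw [h1, pow_mul, pow_mul, hj', one_pow]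
  have hyx : y * x⁻¹ ∈ M := by
    have h1 := pow_mem_coset hx2n hvw e
    have h2 : (x ^ 2) ^ e = x := by
      rw [← pow_mul]
      have h3 : 2 * e ≡ 1 [MOD orderOf x] :=
        he'.of_dvd (orderOf_dvd_of_pow_eq_one hx)
      have h4 := pow_eq_pow_iff_modEq.2 h3
      rw [pow_one] at h4
      exact h4
    rw [h2] at h1
    exact h1
  have hyv : v * y * v⁻¹ = y⁻¹ := by rw [hy, ← conj_pow, huv, inv_pow]
  have hyw : w * y * w⁻¹ = y⁻¹ := by rw [hy, ← conj_pow, huw, inv_pow]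
  obtain ⟨m, hm, hmx⟩ := conj_of_same_coset hM hx hxM hyN hyx
  exact ⟨m, hm, by rw [hmx]; exact hyv, by rw [hmx]; exact hyw⟩

namespace Fv

variable {S : Sylow 2 G} {A U : Subgroup G} {z f x v g : G} (h : Fv S A U z f x v g)

include h

theorem vxv : v * x * v = x⁻¹ := by
  have h1 := h.sx
  rwa [h.vi] at h1

theorem vxiv : v * x⁻¹ * v = x := by
  have h1 := h.sxi
  rwa [h.vi] at h1

theorem v1v : x * v * x⁻¹ * v = x ^ 2 := by
  have h1 := h.vxiv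
  calc x * v * x⁻¹ * v = x * (v * x⁻¹ * v) := by group
    _ = _ := by rw [h1, pow_two]

/-- An involution of `Q v` inverting `x` is `v`, provided it is `Q`-conjugate to `v`. -/
theorem eq_v [Finite G] {m : G} (hm : m ∈ QQ S U) (hx : (m * v * m⁻¹) * x * (m * v * m⁻¹)⁻¹ = x⁻¹) :
    m * v = v * m := by
  set w : G := m * v * m⁻¹ * v⁻¹ with hw
  have hwv : w * v = m * v * m⁻¹ := by rw [hw]; group
  have hwQ : w ∈ QQ S U := by
    have h4 : w = m * (v * m⁻¹ * v⁻¹) := by rw [hw]; group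
    rw [h4]
    exact mul_mem hm (mem_norm (h.SnQ h.vS) (inv_mem hm))
  have hwx : x * w = w * x := by
    have h6 : w * x⁻¹ * w⁻¹ = x⁻¹ := by
      rw [← hwv] at hx
      have h7 : (w * v) * x * (w * v)⁻¹ = w * (v * x * v⁻¹) * w⁻¹ := by group
      rw [h7, h.sx] at hx
      exact hx
    have h8 : Commute w x⁻¹ := conj_eq_iff.1 h6
    exact (Commute.inv_right_iff.1 h8).symm.eq
  have hw2 : (w * v) * (w * v) = 1 := by
    rw [hwv]
    calc m * v * m⁻¹ * (m * v * m⁻¹) = m * (v * v) * m⁻¹ := by group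
      _ = 1 := by rw [h.v2]; group
  rcases h.fix_inv hwQ hwx hw2 with h9 | h9
  · rw [h9, one_mul] at hwv
    exact conj_eq_iff.1 hwv.symm
  · exfalso
    rw [h9] at hwv
    exact h.not_conj_fv hm hwv.symm

/-- **(3')** `M = C_M(v) C_M(v₁)`. -/
theorem decomp [Finite G] {M : Subgroup G} (hMQ : M ≤ QQ S U) (hxM : x ∈ normalizer (M : Set G))
    (hvM : v ∈ normalizer (M : Set G)) {n : G} (hn : n ∈ M) :
    ∃ a ∈ M, ∃ b ∈ M, a * v = v * a ∧ b * (x * v * x⁻¹) = (x * v * x⁻¹) * b ∧ n = a * b := by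
  obtain ⟨k, hk⟩ := h.x_pow
  have hM2 : IsPGroup 2 M := S.2.to_le (hMQ.trans inf_le_left)
  have hv1M : x * v * x⁻¹ ∈ normalizer (M : Set G) := mul_mem (mul_mem hxM hvM) (inv_mem hxM)
  set v₁ : G := x * v * x⁻¹ with hv₁
  have hv₁2 : v₁ * v₁ = 1 := by
    rw [hv₁]
    calc x * v * x⁻¹ * (x * v * x⁻¹) = x * (v * v) * x⁻¹ := by group
      _ = 1 := by rw [h.v2]; group
  have hv₁i : v₁⁻¹ = v₁ := inv_eq_of_mul_eq_one_left hv₁2
  set w : G := n * v₁ * n⁻¹ with hw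
  have hw2 : w * w = 1 := by
    rw [hw]
    calc n * v₁ * n⁻¹ * (n * v₁ * n⁻¹) = n * (v₁ * v₁) * n⁻¹ := by group
      _ = 1 := by rw [hv₁2]; group
  have h1 : w * v * (x ^ 2)⁻¹ ∈ M := by
    have h2 : v₁ * v = x ^ 2 := h.v1v
    have h3 : w * v * (x ^ 2)⁻¹ = n * (v₁ * n⁻¹ * v₁⁻¹) * (v₁ * v * (x ^ 2)⁻¹) := by rw [hw]; group
    rw [h3, h2, mul_inv_cancel, mul_one]
    exact mul_mem hn (mem_norm hv1M (inv_mem hn))
  obtain ⟨m, hm, hmv, hmw⟩ := exists_inverted_pair hM2 hk hxM h.v2 hw2 h1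
  have h4 : m⁻¹ * v = v * m⁻¹ := by
    refine h.eq_v (inv_mem (hMQ hm)) ?_
    have h5 : m⁻¹ * v * m⁻¹⁻¹ * x * (m⁻¹ * v * m⁻¹⁻¹)⁻¹ = m⁻¹ * (v * (m * x * m⁻¹) * v⁻¹) * m := by group
    rw [h5, hmv]; group
  have h6 : m * v = v * m := by
    have h7 : Commute m⁻¹ v := h4
    exact (Commute.inv_left_iff.1 h7).eq
  -- `m⁻¹ n` commutes with `v₁`
  set b : G := m⁻¹ * n with hb
  have hbM : b ∈ M := mul_mem (inv_mem hm) hn
  have h8 : (b * v₁ * b⁻¹) * x * (b * v₁ * b⁻¹)⁻¹ = x⁻¹ := by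
    have h9 : b * v₁ * b⁻¹ * x * (b * v₁ * b⁻¹)⁻¹ = m⁻¹ * (w * (m * x * m⁻¹) * w⁻¹) * m := by
      rw [hb, hw]; group
    rw [h9, hmw]; group
  have h9 : (x⁻¹ * b * x) * v = v * (x⁻¹ * b * x) := by
    refine h.eq_v (mem_norm' h.xQ (hMQ hbM)) ?_
    have h10 : x⁻¹ * b * x * v * (x⁻¹ * b * x)⁻¹ * x * (x⁻¹ * b * x * v * (x⁻¹ * b * x)⁻¹)⁻¹ =
        x⁻¹ * ((b * v₁ * b⁻¹) * x * (b * v₁ * b⁻¹)⁻¹) * x := by
      rw [hv₁]; group
    rw [h10, h8]; group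
  refine ⟨m, hm, b, hbM, h6, ?_, by rw [hb]; group⟩
  rw [hv₁]
  calc b * (x * v * x⁻¹) = x * ((x⁻¹ * b * x) * v) * x⁻¹ := by group
    _ = x * (v * (x⁻¹ * b * x)) * x⁻¹ := by rw [h9]
    _ = _ := by group

end Fv

end Cfsg.Agent.RankThreeFus
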