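import Cfsg.Agent.RankThreeFus.CycCube
import Cfsg.Agent.RankThreeFus.RankEnd

/-!
# S1730, type (a5): the end

Let `N ≤ Q` be normalised by `x`, `v` and suppose that `B₀ = {[v, n] : n ∈ N} = ⟨c₀⟩` is cyclic (`Cyc N v z k`).
Then `B₀` is normal in `N`, `J = ⟨c₀, x c₀ x⁻¹⟩` is abelian and `⟨x, v⟩`-invariant and `N = J C_N(x)`.

* `Fv.cube` (`N = T`): `x ^ 3` centralises `Q`.
* `Fv.final` (`N = Q`): `S` has sectional rank at most four.
-/

set_option autoImplicit false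
set_option linter.style.haveILetI false

namespace Cfsg.Agent.RankThreeFus

open Subgroup Cfsg.Agent.Lib.GoldschmidtFusion Cfsg.Agent.StdL2.G23Aut

variable {G : Type*} [Group G]

/-- odd powers generate the same cyclic group -/
theorem zpowers_odd_pow [Finite G] {N : Subgroup G} (hN : IsPGroup 2 N) {c : G} (hc : c ∈ N) {i : ℕ}
    (hi : Odd i) : zpowers (c ^ i) = zpowers c := by
  have h3 : Nat.Coprime (orderOf c) i := by
    obtain ⟨n₀, hn₀⟩ := hN ⟨c, hc⟩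
    have hn₀' : c ^ 2 ^ n₀ = 1 := by simpa using congrArg Subtype.val hn₀
    have h4 : Nat.Coprime (2 ^ n₀) i := Nat.Coprime.pow_left _ (Nat.coprime_two_left.2 hi)
    exact Nat.Coprime.coprime_dvd_left (orderOf_dvd_of_pow_eq_one hn₀') h4
  apply SetLike.coe_injective
  refine Set.eq_of_subset_of_ncard_le (SetLike.coe_subset_coe.2 ?_) ?_ (Set.toFinite _)
  · rw [zpowers_le]; exact npow_mem_zpowers _ _
  · change Nat.card (zpowers c) ≤ Nat.card (zpowers (c ^ i))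
    rw [Nat.card_zpowers, Nat.card_zpowers, h3.orderOf_pow]

theorem conj_mem_zpowers {a b n : G} (h : a ∈ zpowers b) : n * a * n⁻¹ ∈ zpowers (n * b * n⁻¹) := by
  obtain ⟨i, rfl⟩ := mem_zpowers_iff.1 h
  rw [← conj_zpow]
  exact zpow_mem_zpowers _ _

theorem conj_mem_zpowers' {a b n : G} (h : a ∈ zpowers b) : n⁻¹ * a * n ∈ zpowers (n⁻¹ * b * n) := by
  have h1 := conj_mem_zpowers (n := n⁻¹) h
  rwa [inv_inv] at h1

namespace Cyc

variable {N : Subgroup G} {v z k c₀ : G} (h : Cyc N v z k)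
  (hgen : ∀ c, c ∈ CS N v ↔ c ∈ zpowers c₀)

include h hgen

theorem gen_mem : c₀ ∈ N := CS.mem_N h.v2 h.vN ((hgen c₀).2 (mem_zpowers c₀))

theorem gen_inv : v * c₀ * v = c₀⁻¹ := CS.conj_v h.v2 ((hgen c₀).2 (mem_zpowers c₀))

/-- elements of `N` commuting with `v` normalise `⟨c₀⟩` -/
theorem norm_of_comm {n : G} (hn : n ∈ N) (hnv : n * v = v * n) : n⁻¹ * c₀ * n ∈ zpowers c₀ := by
  have h1 := CS.conj (N.inv_mem hn) ((hgen c₀).2 (mem_zpowers c₀))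
  rw [inv_inv] at h1
  have h2 : n⁻¹ * v * n = v := by rw [mul_assoc, ← hnv]; group
  rw [h2] at h1
  exact (hgen _).1 h1

/-- **`⟨c₀⟩` is normal in `N`.** -/
theorem gen_norm [Finite G] {n : G} (hn : n ∈ N) : n⁻¹ * c₀ * n ∈ zpowers c₀ := by
  have hvi : v⁻¹ = v := inv_eq_of_mul_eq_one_left h.v2
  have hb : v * (n * v * n⁻¹) ∈ zpowers c₀ := (hgen _).1 ⟨n, hn, rfl⟩
  obtain ⟨i, hi⟩ := mem_powers_iff_mem_zpowers.2 hb
  simp only at hi
  rcases Nat.even_or_odd' i with ⟨j, hj | hj⟩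
  · -- `g = c₀ ^ j n` commutes with `v`
    set g : G := c₀ ^ j * n with hg
    have hgN : g ∈ N := N.mul_mem (N.pow_mem (h.gen_mem hgen) j) hn
    have h1 : (c₀ ^ j)⁻¹ * v = v * c₀ ^ j := CS.pow_comm h.v2 (h.gen_inv hgen) j
    have h2 : v * (g * v * g⁻¹) = 1 := by
      have h3 : v * c₀ ^ j = (c₀ ^ j)⁻¹ * v := h1.symm
      calc v * (g * v * g⁻¹) = (v * c₀ ^ j) * (n * v * n⁻¹) * (c₀ ^ j)⁻¹ := by rw [hg]; group
        _ = (c₀ ^ j)⁻¹ * (v * (n * v * n⁻¹)) * (c₀ ^ j)⁻¹ := by rw [h3]; group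
        _ = (c₀ ^ j)⁻¹ * c₀ ^ i * (c₀ ^ j)⁻¹ := by rw [hi]
        _ = 1 := by rw [hj, two_mul, pow_add]; group
    have h3 : g * v = v * g := by
      have h4 : g * v * g⁻¹ = v := by
        have h5 := eq_inv_of_mul_eq_one_right h2
        rw [hvi] at h5
        exact h5
      calc g * v = (g * v * g⁻¹) * g := by group
        _ = v * g := by rw [h4]
    have h4 := h.norm_of_comm hgen hgN h3
    have h5 : n⁻¹ * c₀ * n = g⁻¹ * c₀ * g := by
      have h6 : Commute (c₀ ^ j) c₀ := (Commute.refl c₀).pow_left j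
      have h7 : (c₀ ^ j)⁻¹ * c₀ * c₀ ^ j = c₀ := by
        rw [mul_assoc, ← h6.eq]; group
      calc n⁻¹ * c₀ * n = n⁻¹ * ((c₀ ^ j)⁻¹ * c₀ * c₀ ^ j) * n := by rw [h7]
        _ = g⁻¹ * c₀ * g := by rw [hg]; group
    rw [h5]; exact h4
  · -- `b = [v, n]` generates `⟨c₀⟩`
    have h1 : zpowers (v * (n * v * n⁻¹)) = zpowers c₀ := by
      rw [← hi]
      exact zpowers_odd_pow h.p2 (h.gen_mem hgen) ⟨j, hj⟩
    have h2 := CS.conj (N.inv_mem hn) (CS.inv_mem_conj h.v2 hn)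
    have h3 : n⁻¹ * (n * v * n⁻¹) * n⁻¹⁻¹ = v := by group
    rw [h3] at h2
    have h4 := (hgen _).1 h2
    rw [inv_inv] at h4
    have h5 : c₀ ∈ zpowers (v * (n * v * n⁻¹)) := by rw [h1]; exact mem_zpowers c₀
    have h6 := conj_mem_zpowers' (n := n) h5
    have h7 : zpowers (n⁻¹ * (v * (n * v * n⁻¹)) * n) ≤ zpowers c₀ := by
      rw [zpowers_le]
      have h8 := (zpowers c₀).inv_mem h4
      have h9 : (n⁻¹ * (v * (n * v * n⁻¹))⁻¹ * n)⁻¹ = n⁻¹ * (v * (n * v * n⁻¹)) * n := by group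
      rw [h9] at h8
      exact h8
    exact h7 h6

theorem gen_norm' [Finite G] {n : G} (hn : n ∈ N) : n * c₀ * n⁻¹ ∈ zpowers c₀ := by
  have h1 := h.gen_norm hgen (N.inv_mem hn)
  rwa [inv_inv] at h1

end Cyc

/-- A set of 2-elements closed under powers, in which squaring is two-to-one, is a cyclic group. -/
theorem gen_of_set [Finite G] {P : Set G} {z : G} (one : (1 : G) ∈ P) (hpow : ∀ c ∈ P, ∀ k : ℕ, c ^ k ∈ P)
    (hsq : ∀ c ∈ P, ∀ c' ∈ P, c * c = c' * c' → c' = c ∨ c' = c * z)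
    (hz : ∀ c ∈ P, c ≠ 1 → z ∈ zpowers c) (h2 : ∀ c ∈ P, ∃ n : ℕ, c ^ 2 ^ n = 1) :
    ∃ c₀ ∈ P, ∀ c, c ∈ P ↔ c ∈ zpowers c₀ := by
  obtain ⟨c₀, hc₀, hmax⟩ := Set.exists_max_image P orderOf (Set.toFinite _) ⟨1, one⟩
  refine ⟨c₀, hc₀, fun c => ⟨fun hc => ?_, fun hc => ?_⟩⟩
  · by_cases h0 : c₀ = 1
    · have h1 := hmax c hc
      rw [h0, orderOf_one] at h1
      have h2 : c = 1 := orderOf_eq_one_iff.1 (le_antisymm h1 (orderOf_pos c))
      rw [h2]; exact one_mem _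
    have hz0 : z ∈ zpowers c₀ := hz c₀ hc₀ h0
    obtain ⟨n, hn'⟩ := h2 c hc
    revert c
    induction n with
    | zero =>
      intro c hc hn'
      rw [pow_zero, pow_one] at hn'
      rw [hn']; exact one_mem _
    | succ n ih =>
      intro c hc hn'
      have h1 : c ^ 2 ∈ P := hpow c hc 2
      have h3 : (c ^ 2) ^ 2 ^ n = 1 := by rw [← pow_mul, ← pow_succ']; exact hn'
      obtain ⟨i, hi⟩ := (mem_powers_iff_mem_zpowers.2 (ih (c ^ 2) h1 h3))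
      simp only at hi
      rcases Nat.even_or_odd' i with ⟨j, hj | hj⟩
      · have h3 : c₀ ^ j * c₀ ^ j = c * c := by
          rw [← pow_add, ← two_mul, ← hj, hi, pow_two]
        rcases hsq _ (hpow c₀ hc₀ j) c hc h3 with h4 | h4
        · rw [h4]; exact npow_mem_zpowers _ _
        · rw [h4]; exact mul_mem (npow_mem_zpowers _ _) hz0
      · have h3 : Nat.Coprime (orderOf c₀) i := by
          obtain ⟨n₀, hn₀'⟩ := h2 c₀ hc₀
          have h4 : Nat.Coprime (2 ^ n₀) i := Nat.Coprime.pow_left _ (Nat.coprime_two_left.2 ⟨j, hj⟩)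
          exact Nat.Coprime.coprime_dvd_left (orderOf_dvd_of_pow_eq_one hn₀') h4
        have h4 : zpowers (c ^ 2) = zpowers c₀ := by
          rw [← hi]
          apply SetLike.coe_injective
          have h5 : orderOf (c₀ ^ i) = orderOf c₀ := h3.orderOf_pow
          refine Set.eq_of_subset_of_ncard_le (SetLike.coe_subset_coe.2 ?_) ?_ (Set.toFinite _)
          · rw [zpowers_le]; exact npow_mem_zpowers _ _
          · change Nat.card (zpowers c₀) ≤ Nat.card (zpowers (c₀ ^ i))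
            rw [Nat.card_zpowers, Nat.card_zpowers, h5]
        have h5 : zpowers c₀ ≤ zpowers c := by
          rw [← h4, zpowers_le]; exact npow_mem_zpowers _ _
        have h6 : zpowers c₀ = zpowers c := by
          apply SetLike.coe_injective
          refine Set.eq_of_subset_of_ncard_le (SetLike.coe_subset_coe.2 h5) ?_ (Set.toFinite _)
          change Nat.card (zpowers c) ≤ Nat.card (zpowers c₀)
          rw [Nat.card_zpowers, Nat.card_zpowers]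
          exact hmax c hc
        rw [h6]; exact mem_zpowers c
  · obtain ⟨i, hi⟩ := mem_powers_iff_mem_zpowers.2 hc
    simp only at hi
    rw [← hi]
    exact hpow c₀ hc₀ i

/-- A non-trivial 2-element has an involution among its powers. -/
theorem exists_pow_inv {c : G} {n : ℕ} (hn : c ^ 2 ^ n = 1) (hc1 : c ≠ 1) :
    ∃ m : ℕ, c ^ m ≠ 1 ∧ c ^ m * c ^ m = 1 := by
  obtain ⟨j, -, hj⟩ := (Nat.dvd_prime_pow Nat.prime_two).1 (orderOf_dvd_of_pow_eq_one hn)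
  rcases j with _ | j
  · exact (hc1 (orderOf_eq_one_iff.1 (by simpa using hj))).elim
  refine ⟨2 ^ j, ?_, ?_⟩
  · intro h1
    have h2 := orderOf_dvd_of_pow_eq_one h1
    rw [hj] at h2
    have h3 := (Nat.pow_dvd_pow_iff_le_right (by norm_num)).1 h2
    omega
  · rw [← pow_add, ← two_mul, ← pow_succ', ← hj, pow_orderOf_eq_one]

/-- A commutative 2-group with a unique involution is cyclic. -/
theorem cyclic_of_unique [Finite G] {K : Subgroup G} (h2 : IsPGroup 2 K) (hc : ∀ a ∈ K, ∀ b ∈ K, a * b = b * a)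
    {f : G} (hf : ∀ a ∈ K, a * a = 1 → a = 1 ∨ a = f) : ∃ κ ∈ K, K = zpowers κ := by
  have h2' : ∀ c ∈ (K : Set G), ∃ n : ℕ, c ^ 2 ^ n = 1 := by
    intro c hcK
    obtain ⟨n, hn⟩ := h2 ⟨c, hcK⟩
    exact ⟨n, by simpa using congrArg Subtype.val hn⟩
  have hsq : ∀ c ∈ (K : Set G), ∀ c' ∈ (K : Set G), c * c = c' * c' → c' = c ∨ c' = c * f := by
    intro c hcK c' hcK' hsq
    have h3 : (c⁻¹ * c') * (c⁻¹ * c') = 1 := by
      have h4 : c⁻¹ * c' = c' * c⁻¹ := hc _ (K.inv_mem hcK) _ hcK'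
      calc (c⁻¹ * c') * (c⁻¹ * c') = (c⁻¹ * c') * (c' * c⁻¹) := by rw [← h4]
        _ = c⁻¹ * (c' * c') * c⁻¹ := by group
        _ = 1 := by rw [← hsq]; group
    rcases hf _ (K.mul_mem (K.inv_mem hcK) hcK') h3 with h4 | h4
    · left; exact (inv_mul_eq_one.1 h4).symm
    · right; rw [← h4]; group
  have hz : ∀ c ∈ (K : Set G), c ≠ 1 → f ∈ zpowers c := by
    intro c hcK hc1
    obtain ⟨n, hn⟩ := h2' c hcK
    obtain ⟨m, hm1, hm2⟩ := exists_pow_inv hn hc1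
    rcases hf _ (K.pow_mem hcK m) hm2 with h4 | h4
    · exact (hm1 h4).elim
    · rw [← h4]; exact npow_mem_zpowers _ _
  obtain ⟨κ, hκ, hall⟩ := gen_of_set (P := (K : Set G)) (z := f) K.one_mem
    (fun c hcK k => K.pow_mem hcK k) hsq hz h2'
  exact ⟨κ, hκ, by ext c; exact hall c⟩

/-- normalising a two-generator subgroup -/
theorem norm_closure_pair [Finite G] {n a b : G} {J : Subgroup G} (hJ : J = closure {a, b})
    (ha : n * a * n⁻¹ ∈ J) (hb : n * b * n⁻¹ ∈ J) : n ∈ normalizer (J : Set G) := by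
  apply mem_norm_of_conj
  intro w hw
  have h1 : J ≤ J.comap (MulAut.conj n).toMonoidHom := by
    rw [hJ, closure_le]
    rintro y (rfl | rfl)
    · rw [← hJ]; exact ha
    · rw [← hJ]; exact hb
  exact h1 hw

namespace Fv

variable {S : Sylow 2 G} {A U : Subgroup G} {z f x v g : G} (h : Fv S A U z f x v g)
  {N : Subgroup G} {k c₀ : G} (hN : Cyc N v z k) (hNQ : N ≤ QQ S U) (hxN : x ∈ normalizer (N : Set G))
  (hgen : ∀ c, c ∈ CS N v ↔ c ∈ zpowers c₀)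

include h hN hxN hgen

theorem c0_comm_c1 [Finite G] : c₀ * (x * c₀ * x⁻¹) = (x * c₀ * x⁻¹) * c₀ := by
  have hc₀N := hN.gen_mem hgen
  have hc₁N : x * c₀ * x⁻¹ ∈ N := mem_norm hxN hc₀N
  set c₁ : G := x * c₀ * x⁻¹ with hc₁
  set y : G := c₀ * c₁ * c₀⁻¹ * c₁⁻¹ with hy
  have hy0 : y ∈ zpowers c₀ := by
    have h1 : y = c₀ * (c₁ * c₀ * c₁⁻¹)⁻¹ := by rw [hy]; group
    rw [h1]
    exact mul_mem (mem_zpowers _) (inv_mem (hN.gen_norm' hgen hc₁N))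
  have hy1 : x⁻¹ * y * x ∈ zpowers c₀ := by
    have h1 : x⁻¹ * y * x = ((x⁻¹ * c₀ * x) * c₀ * (x⁻¹ * c₀ * x)⁻¹) * c₀⁻¹ := by
      rw [hy, hc₁]; group
    rw [h1]
    exact mul_mem (hN.gen_norm' hgen (mem_norm' hxN hc₀N)) (inv_mem (mem_zpowers _))
  by_cases hy1' : y = 1
  · rw [hy] at hy1'
    calc c₀ * c₁ = (c₀ * c₁ * c₀⁻¹ * c₁⁻¹) * (c₁ * c₀) := by group
      _ = c₁ * c₀ := by rw [hy1', one_mul]
  exfalso
  have h2 : z ∈ zpowers (x⁻¹ * y * x) := by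
    refine hN.z_mem ((hgen _).2 hy1) ?_
    intro h3
    apply hy1'
    have h4 : y = x * (x⁻¹ * y * x) * x⁻¹ := by group
    rw [h4, h3]; group
  have h3 : x * z * x⁻¹ ∈ zpowers c₀ := by
    have h4 := conj_mem_zpowers (n := x) h2
    have h5 : x * (x⁻¹ * y * x) * x⁻¹ = y := by group
    rw [h5] at h4
    exact (zpowers_le.2 hy0) h4
  have h4 : (x * z * x⁻¹) * (x * z * x⁻¹) = 1 := by
    calc (x * z * x⁻¹) * (x * z * x⁻¹) = x * (z * z) * x⁻¹ := by group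
      _ = 1 := by rw [h.z2]; group
  rcases hN.sq1 _ ((hgen _).2 h3) h4 with h5 | h5
  · exact h.xz1 h5
  · exact h.xz h5

include hNQ

/-- the commutators with `x ^ 2` lie in `J` -/
theorem comm_mem_J [Finite G] {J : Subgroup G} (hJ : J = closure {c₀, x * c₀ * x⁻¹}) {n : G} (hn : n ∈ N) :
    n * x ^ 2 * n⁻¹ * (x ^ 2)⁻¹ ∈ J := by
  have hm : x * n * x⁻¹ ∈ N := mem_norm hxN hn
  have h0 : c₀ ∈ J := by rw [hJ]; exact subset_closure (Or.inl rfl)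
  have h1 : x * c₀ * x⁻¹ ∈ J := by rw [hJ]; exact subset_closure (Or.inr rfl)
  have hb : v * (n * v * n⁻¹) ∈ J := (zpowers_le.2 h0) ((hgen _).1 ⟨n, hn, rfl⟩)
  have hb' : x * (v * ((x * n * x⁻¹) * v * (x * n * x⁻¹)⁻¹)) * x⁻¹ ∈ J :=
    (zpowers_le.2 h1) (conj_mem_zpowers ((hgen _).1 ⟨_, hm, rfl⟩))
  have h2 : n * x ^ 2 * n⁻¹ * (x ^ 2)⁻¹ =
      (v * (n * v * n⁻¹))⁻¹ * (x * (v * ((x * n * x⁻¹) * v * (x * n * x⁻¹)⁻¹)) * x⁻¹) := by
    have h3 : (v * (n * v * n⁻¹))⁻¹ * (x * (v * ((x * n * x⁻¹) * v * (x * n * x⁻¹)⁻¹)) * x⁻¹) =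
        n * v⁻¹ * n⁻¹ * (v⁻¹ * x * v) * x * n * x⁻¹ * v * x * n⁻¹ * x⁻¹ * x⁻¹ := by group
    rw [h3, h.vi, h.vxv]
    have h4 : n * v * n⁻¹ * x⁻¹ * x * n * x⁻¹ * v * x * n⁻¹ * x⁻¹ * x⁻¹ =
        n * (v * x⁻¹ * v) * x * n⁻¹ * x⁻¹ * x⁻¹ := by group
    rw [h4, h.vxiv, pow_two]; group
  rw [h2]
  exact mul_mem (inv_mem hb) hb'

/-- `(x c₀ x⁻¹)⁻¹` is a commutator with `x ^ 2` -/
theorem c1_inv [Finite G] : ∃ a ∈ N, (x * c₀ * x⁻¹)⁻¹ = a * x ^ 2 * a⁻¹ * (x ^ 2)⁻¹ := by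
  obtain ⟨n, hn, hcn⟩ := (hgen c₀).2 (mem_zpowers c₀)
  obtain ⟨a, ha, b, hb, hav, hbv, hab⟩ := h.decomp hNQ hxN hN.vN (mem_norm hxN hn)
  refine ⟨a, ha, ?_⟩
  have h1 : n = x⁻¹ * (a * b) * x := by rw [← hab]; group
  have h2 : x * c₀ * x⁻¹ = (x * v * x⁻¹) * (a * (b * (x * v * x⁻¹)) * b⁻¹ * a⁻¹) := by
    rw [hcn, h1]; group
  rw [h2, hbv]
  have h3 : ((x * v * x⁻¹) * (a * ((x * v * x⁻¹) * b) * b⁻¹ * a⁻¹))⁻¹ =
      a * (x * v⁻¹ * x⁻¹) * a⁻¹ * (x * v⁻¹ * x⁻¹) := by group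
  have h4 : (a⁻¹ : G) = v * a⁻¹ * v := by
    have h5 : Commute a⁻¹ v := (show Commute a v from hav).inv_left
    rw [mul_assoc, h5.eq, ← mul_assoc, h.v2, one_mul]
  rw [h3, h.vi]
  calc a * (x * v * x⁻¹) * a⁻¹ * (x * v * x⁻¹) = a * (x * v * x⁻¹) * (v * a⁻¹ * v) * (x * v * x⁻¹) := by
        rw [← h4]
    _ = a * (x * v * x⁻¹ * v) * a⁻¹ * (v * (x * v * x⁻¹)) := by group
    _ = a * x ^ 2 * a⁻¹ * (x ^ 2)⁻¹ := by
      have h6 : v * (x * v * x⁻¹) = (x ^ 2)⁻¹ := by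
        rw [← h.v1v]
        have h7 : (x * v * x⁻¹ * v)⁻¹ = v⁻¹ * (x * v⁻¹ * x⁻¹) := by group
        rw [h7, h.vi]
      rw [h.v1v, h6]

theorem norm_J [Finite G] {J : Subgroup G} (hJ : J = closure {c₀, x * c₀ * x⁻¹}) :
    J ≤ N ∧ N ≤ normalizer (J : Set G) ∧ x ∈ normalizer (J : Set G) ∧ v ∈ normalizer (J : Set G) := by
  have hc₀N := hN.gen_mem hgen
  have hc₁N : x * c₀ * x⁻¹ ∈ N := mem_norm hxN hc₀N
  have h0 : c₀ ∈ J := by rw [hJ]; exact subset_closure (Or.inl rfl)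
  have h1 : x * c₀ * x⁻¹ ∈ J := by rw [hJ]; exact subset_closure (Or.inr rfl)
  have hx : x ∈ normalizer (J : Set G) := by
    refine norm_closure_pair hJ h1 ?_
    obtain ⟨a, ha, hac⟩ := h.c1_inv hN hNQ hxN hgen
    have h2 := h.comm_mem_J hN hNQ hxN hgen hJ (mem_norm hxN ha)
    have h3 : x * (x * c₀ * x⁻¹) * x⁻¹ = ((x * a * x⁻¹) * x ^ 2 * (x * a * x⁻¹)⁻¹ * (x ^ 2)⁻¹)⁻¹ := by
      have h4 : x * c₀ * x⁻¹ = (a * x ^ 2 * a⁻¹ * (x ^ 2)⁻¹)⁻¹ := by rw [← hac, inv_inv]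
      rw [h4]; group
    rw [h3]; exact inv_mem h2
  refine ⟨?_, ?_, hx, ?_⟩
  · rw [hJ, closure_le]
    rintro y (rfl | rfl)
    · exact hc₀N
    · exact hc₁N
  · intro n hn
    refine norm_closure_pair hJ ((zpowers_le.2 h0) (hN.gen_norm' hgen hn)) ?_
    have h2 := conj_mem_zpowers (n := x) (hN.gen_norm' hgen (mem_norm' hxN hn))
    have h3 : x * ((x⁻¹ * n * x) * c₀ * (x⁻¹ * n * x)⁻¹) * x⁻¹ = n * (x * c₀ * x⁻¹) * n⁻¹ := by group
    rw [h3] at h2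
    exact (zpowers_le.2 h1) h2
  · refine norm_closure_pair hJ ?_ ?_
    · rw [h.vi, hN.gen_inv hgen]; exact inv_mem h0
    · have h2 : v * (x * c₀ * x⁻¹) * v⁻¹ = x⁻¹ * c₀⁻¹ * x := by
        rw [h.vi, ← hN.gen_inv hgen]
        have h3 : v * x = x⁻¹ * v := by
          calc v * x = (v * x * v) * v⁻¹ := by group
            _ = _ := by rw [h.vxv, h.vi]
        have h4 : x⁻¹ * v = v * x := h3.symm
        calc v * (x * c₀ * x⁻¹) * v = (v * x) * c₀ * (x⁻¹ * v) := by group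
          _ = (x⁻¹ * v) * c₀ * (v * x) := by rw [h3]
          _ = _ := by group
      rw [h2]
      exact mem_norm' hx (inv_mem h0)

theorem J_comm [Finite G] {J : Subgroup G} (hJ : J = closure {c₀, x * c₀ * x⁻¹}) {a b : G}
    (ha : a ∈ J) (hb : b ∈ J) : a * b = b * a := by
  have hc := h.c0_comm_c1 hN hxN hgen
  have h6 : IsMulCommutative (closure {c₀, x * c₀ * x⁻¹}) := by
    apply Subgroup.isMulCommutative_closure
    rintro y (rfl | rfl) w (rfl | rfl)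
    · rfl
    · exact hc
    · exact hc.symm
    · rfl
  rw [hJ] at ha hb
  have := h6.is_comm.comm ⟨a, ha⟩ ⟨b, hb⟩
  exact congrArg Subtype.val this

/-- `N = J C_N(x)` -/
theorem exists_comm_x [Finite G] {J : Subgroup G} (hJ : J = closure {c₀, x * c₀ * x⁻¹}) {n : G} (hn : n ∈ N) :
    ∃ j ∈ J, x * (j * n) = (j * n) * x := by
  obtain ⟨hJN, -, hxJ, -⟩ := h.norm_J hN hNQ hxN hgen hJ
  have hJ2 : IsPGroup 2 J := S.2.to_le ((hJN.trans hNQ).trans inf_le_left)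
  obtain ⟨k', hk'⟩ := h.x_pow
  have e1 : (x ^ 2) ^ 3 ^ k' = 1 := by rw [← pow_mul, mul_comm, pow_mul, hk', one_pow]
  have e2 : (n * x ^ 2 * n⁻¹) ^ 3 ^ k' = 1 := by rw [conj_pow, e1]; group
  obtain ⟨m, hm, hmx⟩ := conj_of_same_coset hJ2 e1 (pow_mem hxJ 2) e2
    (h.comm_mem_J hN hNQ hxN hgen hJ hn)
  refine ⟨m⁻¹, inv_mem hm, ?_⟩
  have h1 : x ^ 2 * (m⁻¹ * n) * (x ^ 2)⁻¹ = m⁻¹ * n := by
    have h2 : x ^ 2 = m⁻¹ * (n * x ^ 2 * n⁻¹) * m := by rw [← hmx]; group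
    have h3 : x ^ 2 * (m⁻¹ * n) = (m⁻¹ * n) * x ^ 2 := by
      nth_rewrite 1 [h2]; group
    rw [h3]; group
  exact conj_eq_iff.1 (conj_fix_of_sq h.xodd h1)

end Fv

namespace Fv

variable {S : Sylow 2 G} {A U : Subgroup G} {z f x v g : G} (h : Fv S A U z f x v g)

include h

theorem x3A [Finite G] {a : G} (ha : a ∈ A) : x ^ 3 * a * (x ^ 3)⁻¹ = a := by
  have h1 := Eone.cube_A h.toFr ha
  calc x ^ 3 * a * (x ^ 3)⁻¹ = x * (x * (x * a * x⁻¹) * x⁻¹) * x⁻¹ := by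
        rw [pow_succ, pow_two]; group
    _ = a := h1

theorem x3odd : Odd (orderOf (x ^ 3)) := by
  obtain ⟨k, hk⟩ := h.x_pow
  have h1 : (x ^ 3) ^ 3 ^ k = 1 := by rw [← pow_mul, mul_comm, pow_mul, hk, one_pow]
  obtain ⟨j, -, hj⟩ := (Nat.dvd_prime_pow Nat.prime_three).1 (orderOf_dvd_of_pow_eq_one h1)
  rw [hj]
  exact Odd.pow (by decide)

/-- **(5')** `x ^ 3` centralises `Q`. -/
theorem cube [Finite G] {k : G} (hT : Cyc (TT S A) v z k) {q : G} (hq : q ∈ QQ S U) :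
    x ^ 3 * q = q * x ^ 3 := by
  obtain ⟨c₀, -, hgen⟩ := hT.exists_gen
  set J : Subgroup G := closure {c₀, x * c₀ * x⁻¹} with hJ
  obtain ⟨hJN, -, hxJ, -⟩ := h.norm_J hT h.T_le_Q h.xT hgen hJ
  have hx3J : x ^ 3 ∈ normalizer (J : Set G) := pow_mem hxJ 3
  -- `x ^ 3` centralises `J`
  have hJx : ∀ n : ℕ, ∀ j ∈ J, j ^ 2 ^ n = 1 → x ^ 3 * j = j * x ^ 3 := by
    intro n
    induction n with
    | zero =>
      intro j _ hj1
      rw [pow_zero, pow_one] at hj1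
      rw [hj1, mul_one, one_mul]
    | succ n ih =>
      intro j hj hj1
      have h1 : x ^ 3 * (j ^ 2) = j ^ 2 * x ^ 3 := by
        refine ih _ (pow_mem hj 2) ?_
        rw [← pow_mul, ← pow_succ']; exact hj1
      set a : G := j⁻¹ * (x ^ 3 * j * (x ^ 3)⁻¹) with ha
      have haJ : a ∈ J := mul_mem (inv_mem hj) (mem_norm hx3J hj)
      have h2 : x ^ 3 * j * (x ^ 3)⁻¹ = j * a := by rw [ha]; group
      have hja : j * a = a * j := h.J_comm hT h.T_le_Q h.xT hgen hJ hj haJ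
      have h3 : (j * a) * (j * a) = j * j := by
        rw [← h2]
        have h4 : x ^ 3 * j * (x ^ 3)⁻¹ * (x ^ 3 * j * (x ^ 3)⁻¹) = x ^ 3 * (j ^ 2) * (x ^ 3)⁻¹ := by
          rw [pow_two]; group
        rw [h4, h1, pow_two]; group
      have h4 : a * a = 1 := by
        have h5 : (j * a) * (j * a) = (j * j) * (a * a) := by
          calc (j * a) * (j * a) = j * (a * j) * a := by group
            _ = j * (j * a) * a := by rw [hja]
            _ = _ := by group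
        rw [h5] at h3
        exact mul_eq_left.1 h3
      have h5 : a ∈ A := h.mem_A_of_sq (hJN haJ) h4
      have h6 : a = 1 := Eone.odd_trick h.x3odd h2 (conj_eq_iff.1 (h.x3A h5)) h4
      rw [h6, mul_one] at h2
      exact conj_eq_iff.1 h2
  have hTx : ∀ t ∈ TT S A, x ^ 3 * t = t * x ^ 3 := by
    intro t ht
    obtain ⟨j, hj, hjt⟩ := h.exists_comm_x hT h.T_le_Q h.xT hgen hJ ht
    obtain ⟨n, hn⟩ := hT.p2 ⟨j, hJN hj⟩
    have h1 : Commute (x ^ 3) j := hJx n j hj (by simpa using congrArg Subtype.val hn)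
    have h2 : Commute (x ^ 3) (j * t) := (show Commute x (j * t) from hjt).pow_left 3
    have h3 : t = j⁻¹ * (j * t) := by group
    rw [h3]
    exact (h1.inv_right.mul_right h2).eq
  -- `Q`
  set t : G := q⁻¹ * (x ^ 3 * q * (x ^ 3)⁻¹) with ht
  have hx3Q : x ^ 3 ∈ normalizer (QQ S U : Set G) := pow_mem h.xQ 3
  have htT : t ∈ TT S A := by
    refine h.mem_T_of_fix (mul_mem (inv_mem hq) (mem_norm hx3Q hq)) ?_
    have h1 : (x ^ 3)⁻¹ * f * x ^ 3 = f := by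
      have h2 := h.x3A h.fA
      nth_rewrite 1 [← h2]; group
    have h2 : q * f * q⁻¹ ∈ A := mem_norm (h.hyp.norm hq.1) h.fA
    calc t * f * t⁻¹ = q⁻¹ * (x ^ 3 * (q * ((x ^ 3)⁻¹ * f * x ^ 3) * q⁻¹) * (x ^ 3)⁻¹) * q := by
          rw [ht]; group
      _ = q⁻¹ * (q * f * q⁻¹) * q := by rw [h1, h.x3A h2]
      _ = f := by group
  have h1 : x ^ 3 * q * (x ^ 3)⁻¹ = q * t := by rw [ht]; group
  have h2 := hTx t htT
  have key : ∀ n : ℕ, (x ^ 3) ^ n * q * ((x ^ 3) ^ n)⁻¹ = q * t ^ n := by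
    intro n
    induction n with
    | zero => simp
    | succ n ih =>
      have h3 : x ^ 3 * t ^ n * (x ^ 3)⁻¹ = t ^ n := by
        rw [mul_inv_eq_iff_eq_mul]
        exact ((show Commute (x ^ 3) t from h2).pow_right n).eq
      calc (x ^ 3) ^ (n + 1) * q * ((x ^ 3) ^ (n + 1))⁻¹
          = x ^ 3 * ((x ^ 3) ^ n * q * ((x ^ 3) ^ n)⁻¹) * (x ^ 3)⁻¹ := by
            rw [pow_succ' (x ^ 3)]; group
        _ = (x ^ 3 * q * (x ^ 3)⁻¹) * (x ^ 3 * t ^ n * (x ^ 3)⁻¹) := by rw [ih]; group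
        _ = q * t ^ (n + 1) := by rw [h1, h3, mul_assoc, ← pow_succ']
  obtain ⟨k', hk'⟩ := h.x_pow
  have h3 : (x ^ 3) ^ 3 ^ k' = 1 := by rw [← pow_mul, mul_comm, pow_mul, hk', one_pow]
  have h4 : t ^ 3 ^ k' = 1 := by
    have h5 := key (3 ^ k')
    rw [h3, one_mul, inv_one, mul_one] at h5
    exact (mul_eq_left.1 h5.symm)
  have h5 : t = 1 := eq_one_of_mem_two_three hT.p2 htT h4
  rw [h5, mul_one] at h1
  exact conj_eq_iff.1 h1

/-- `v x z x⁻¹ v⁻¹ = x⁻¹ z x` and the product of `x z x⁻¹` with it is not trivial. -/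
theorem u_vuv [Finite G] : (x * z * x⁻¹) * (v * (x * z * x⁻¹) * v) ≠ 1 := by
  intro h1
  have hu : (x * z * x⁻¹) * (x * z * x⁻¹) = 1 := h.sqA (h.UA h.xzU)
  have h2 : v * (x * z * x⁻¹) * v = x * z * x⁻¹ := by
    rw [eq_inv_of_mul_eq_one_right h1, inv_eq_of_mul_eq_one_left hu]
  have h3 : v * (x * z * x⁻¹) = (x * z * x⁻¹) * v := by
    calc v * (x * z * x⁻¹) = (v * (x * z * x⁻¹) * v) * v⁻¹ := by group
      _ = _ := by rw [h2, h.vi]
  rcases h.cU h.xzU h3 with h4 | h4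
  · exact h.xz1 h4
  · exact h.xz h4

/-- A generator of the cyclic group `{[v, q] : q ∈ Q}` does not commute with `f`. -/
theorem gen_not_comm_f [Finite G] {c₀ : G} (hgen : ∀ c, c ∈ CS (QQ S U) v ↔ c ∈ zpowers c₀) :
    c₀ * f ≠ f * c₀ := by
  intro hc
  obtain ⟨q, hq, hqf⟩ := h.tv (x * z * x⁻¹) h.xzU
  have hb : v * (q * v * q⁻¹) ∈ zpowers c₀ := (hgen _).1 ⟨q, hq, rfl⟩
  obtain ⟨i, hi⟩ := mem_zpowers_iff.1 hb
  have h1 : Commute (v * (q * v * q⁻¹)) f := by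
    rw [← hi]; exact (show Commute c₀ f from hc).zpow_left i
  set u : G := x * z * x⁻¹ with hu
  have huA : u ∈ A := h.UA h.xzU
  have huu : u * u = 1 := h.sqA huA
  have hqu : ∀ a ∈ U, q * a * q⁻¹ = a := fun a ha => conj_eq_iff.2 (mem_cent_iff.1 hq.2 a ha)
  have hqu' : ∀ a ∈ U, q⁻¹ * a * q = a := fun a ha => by
    have := conj_eq_iff.2 (mem_cent_iff.1 (inv_mem hq.2) a ha)
    rwa [inv_inv] at this
  have hvuU : v * u * v ∈ U := by
    have := mem_norm (h.SnU h.vS) h.xzU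
    rwa [h.vi] at this
  have hvf : v * f * v = f := by
    have := conj_eq_iff.2 h.vf
    rwa [h.vi] at this
  -- `q⁻¹ f q = f u`
  have h2 : q⁻¹ * f * q = f * u := by
    have h3 : f = (q⁻¹ * f * q) * u := by
      calc f = q⁻¹ * (q * f * q⁻¹) * q := by group
        _ = q⁻¹ * (f * u) * q := by rw [hqf]
        _ = (q⁻¹ * f * q) * (q⁻¹ * u * q) := by group
        _ = _ := by rw [hqu' u h.xzU]
    calc q⁻¹ * f * q = (q⁻¹ * f * q) * (u * u) := by rw [huu, mul_one]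
      _ = ((q⁻¹ * f * q) * u) * u := by rw [mul_assoc (q⁻¹ * f * q)]
      _ = f * u := by rw [← h3]
  have h4 : (v * (q * v * q⁻¹)) * f * (v * (q * v * q⁻¹))⁻¹ = f * ((v * u * v) * u) := by
    have h5 : (v * (q * v * q⁻¹)) * f * (v * (q * v * q⁻¹))⁻¹ =
        v * (q * (v * (q⁻¹ * f * q) * v⁻¹) * q⁻¹) * v⁻¹ := by group
    rw [h5, h2, h.vi]
    have h6 : v * (f * u) * v = f * (v * u * v) := by
      calc v * (f * u) * v = (v * f * v) * (v⁻¹ * u * v) := by group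
        _ = _ := by rw [hvf, h.vi]
    rw [h6]
    have h7 : q * (f * (v * u * v)) * q⁻¹ = f * u * (v * u * v) := by
      calc q * (f * (v * u * v)) * q⁻¹ = (q * f * q⁻¹) * (q * (v * u * v) * q⁻¹) := by group
        _ = _ := by rw [hqf, hqu _ hvuU]
    rw [h7]
    calc v * (f * u * (v * u * v)) * v = (v * f * v) * (v⁻¹ * u * v) * u * (v * v) := by group
      _ = _ := by rw [hvf, h.vi, h.v2]; group
  have h5 : (v * (q * v * q⁻¹)) * f * (v * (q * v * q⁻¹))⁻¹ = f := conj_eq_iff.2 h1.eq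
  rw [h5] at h4
  have h6 : (v * u * v) * u = 1 := (mul_eq_left.1 h4.symm)
  apply h.u_vuv
  rw [← hu, h.commA huA (h.UA hvuU)]
  exact h6

/-- **(8)** If `{[v, q] : q ∈ Q}` is cyclic then `G` has sectional 2-rank at most four. -/
theorem final [Finite G] {k : G} (hQ : Cyc (QQ S U) v z k) : Cfsg.SectionalPRankLE 2 4 G := by
  obtain ⟨c₀, -, hgen⟩ := hQ.exists_gen
  set J : Subgroup G := closure {c₀, x * c₀ * x⁻¹} with hJ
  obtain ⟨hJQ, hQJ, hxJ, hvJ⟩ := h.norm_J hQ le_rfl h.xQ hgen hJ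
  have h0 : c₀ ∈ J := by rw [hJ]; exact subset_closure (Or.inl rfl)
  have h1 : x * c₀ * x⁻¹ ∈ J := by rw [hJ]; exact subset_closure (Or.inr rfl)
  have hnf := h.gen_not_comm_f hgen
  -- `K = C_Q(x)` is cyclic
  set K : Subgroup G := QQ S U ⊓ centralizer {x} with hK
  have hKQ : K ≤ QQ S U := inf_le_left
  have hKx : ∀ a ∈ K, x * a = a * x := fun a ha => by
    have := mem_centralizer_singleton_iff.1 ha.2
    exact this.symm
  have hKT : ∀ a ∈ K, a ∈ TT S A := fun a ha => h.fix_Q (hKQ ha) (hKx a ha)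
  have hK2 : IsPGroup 2 K := S.2.to_le (hKQ.trans inf_le_left)
  have hKf : ∀ a ∈ K, a * a = 1 → a = 1 ∨ a = f := fun a ha h2 =>
    h.fix_A (h.mem_A_of_sq (hKT a ha) h2) (hKx a ha)
  have hfaith : ∀ a ∈ K, a * c₀ = c₀ * a → a = 1 := by
    intro a ha hac
    by_contra ha1
    obtain ⟨n, hn⟩ := hK2 ⟨a, ha⟩
    have hn' : a ^ 2 ^ n = 1 := by simpa using congrArg Subtype.val hn
    obtain ⟨m, hm1, hm2⟩ := exists_pow_inv hn' ha1
    rcases hKf _ (K.pow_mem ha m) hm2 with h3 | h3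
    · exact hm1 h3
    · apply hnf
      rw [← h3]
      exact ((show Commute a c₀ from hac).pow_left m).symm.eq
  have hKc : ∀ a ∈ K, ∀ b ∈ K, a * b = b * a := by
    intro a ha b hb
    have hab : a * b * a⁻¹ * b⁻¹ = 1 := by
      refine hfaith _ (K.mul_mem (K.mul_mem (K.mul_mem ha hb) (K.inv_mem ha)) (K.inv_mem hb)) ?_
      have e1 : ∀ a ∈ K, ∃ i : ℤ, a * c₀ * a⁻¹ = c₀ ^ i := by
        intro a ha
        obtain ⟨i, hi⟩ := mem_zpowers_iff.1 (hQ.gen_norm' hgen (hKQ ha))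
        exact ⟨i, hi.symm⟩
      obtain ⟨i, hi⟩ := e1 a ha
      obtain ⟨i', hi'⟩ := e1 _ (K.inv_mem ha)
      obtain ⟨j, hj⟩ := e1 b hb
      obtain ⟨j', hj'⟩ := e1 _ (K.inv_mem hb)
      have hab' : ∀ (a b : G) (i j : ℤ), a * c₀ * a⁻¹ = c₀ ^ i → b * c₀ * b⁻¹ = c₀ ^ j →
          (a * b) * c₀ * (a * b)⁻¹ = (b * a) * c₀ * (b * a)⁻¹ := by
        intro a b i j hi hj
        have h3 : (a * b) * c₀ * (a * b)⁻¹ = a * (b * c₀ * b⁻¹) * a⁻¹ := by group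
        have h4 : (b * a) * c₀ * (b * a)⁻¹ = b * (a * c₀ * a⁻¹) * b⁻¹ := by group
        rw [h3, h4, hi, hj, ← conj_zpow, ← conj_zpow, hi, hj, ← zpow_mul, ← zpow_mul, mul_comm]
      have h5 := hab' a b i j hi hj
      have h6 : (b * a)⁻¹ * (a * b) * c₀ * ((b * a)⁻¹ * (a * b))⁻¹ = c₀ := by
        have h7 : (b * a)⁻¹ * (a * b) * c₀ * ((b * a)⁻¹ * (a * b))⁻¹ =
            (b * a)⁻¹ * ((a * b) * c₀ * (a * b)⁻¹) * (b * a) := by group
        rw [h7, h5]; group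
      -- pass to `a b a⁻¹ b⁻¹ = (b a) ((b a)⁻¹ (a b)) (b a)⁻¹`
      have h8 : a * b * a⁻¹ * b⁻¹ = (b * a) * ((b * a)⁻¹ * (a * b)) * (b * a)⁻¹ := by group
      have hbaK : b * a ∈ K := K.mul_mem hb ha
      obtain ⟨l, hl⟩ := e1 _ (K.inv_mem hbaK)
      have h9 : Commute ((b * a)⁻¹ * (a * b)) c₀ := conj_eq_iff.1 h6
      have h10 : Commute ((b * a)⁻¹ * (a * b)) (c₀ ^ l) := h9.zpow_right l
      rw [h8]
      have h11 : c₀ = (b * a) * (c₀ ^ l) * (b * a)⁻¹ := by rw [← hl]; group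
      calc (b * a) * ((b * a)⁻¹ * (a * b)) * (b * a)⁻¹ * c₀
          = (b * a) * ((b * a)⁻¹ * (a * b)) * (b * a)⁻¹ * ((b * a) * (c₀ ^ l) * (b * a)⁻¹) := by rw [← h11]
        _ = (b * a) * (((b * a)⁻¹ * (a * b)) * (c₀ ^ l)) * (b * a)⁻¹ := by group
        _ = (b * a) * ((c₀ ^ l) * ((b * a)⁻¹ * (a * b))) * (b * a)⁻¹ := by rw [h10.eq]
        _ = ((b * a) * (c₀ ^ l) * (b * a)⁻¹) * ((b * a) * ((b * a)⁻¹ * (a * b)) * (b * a)⁻¹) := by group
        _ = _ := by rw [← h11]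
    calc a * b = (a * b * a⁻¹ * b⁻¹) * (b * a) := by group
      _ = b * a := by rw [hab, one_mul]
  obtain ⟨κ, hκ, hκK⟩ := cyclic_of_unique hK2 hKc hKf
  have hJS : J ≤ (S : Subgroup G) := hJQ.trans inf_le_left
  have hκv : κ * v = v * κ := (h.comm_K (hKT κ hκ) (hKx κ hκ)).symm
  have hQgen : QQ S U ≤ J ⊔ closure {κ, v} := by
    intro q hq
    obtain ⟨j, hj, hjq⟩ := h.exists_comm_x hQ le_rfl h.xQ hgen hJ hq
    have h2 : j * q ∈ K := by
      exact ⟨(QQ S U).mul_mem (hJQ hj) hq, mem_centralizer_singleton_iff.2 hjq.symm⟩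
    have h3 : q = j⁻¹ * (j * q) := by group
    rw [h3]
    refine mul_mem (mem_sup_left (inv_mem hj)) (mem_sup_right ?_)
    rw [hκK] at h2
    have h4 : κ ∈ closure {κ, v} := Subgroup.subset_closure (Or.inl rfl)
    exact (zpowers_le.2 h4) h2
  refine RankEnd.main S hJS ?_ (fun a ha b hb => h.J_comm hQ le_rfl h.xQ hgen hJ ha hb) h0 h1 hJ.le
    (k := κ) (v := v) (hKQ hκ).1 h.vS ?_ ?_
  · intro s hs b hb
    by_cases hsQ : s ∈ QQ S U
    · exact mem_norm (hQJ hsQ) hb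
    · have h2 : s * v ∈ QQ S U := h.mul_mem_Q hs h.vS hsQ h.v_notin_Q
      have h3 : s = (s * v) * v := by rw [mul_assoc, h.v2, mul_one]
      rw [h3]
      exact mem_norm (mul_mem (hQJ h2) hvJ) hb
  · intro s hs
    by_cases hsQ : s ∈ QQ S U
    · exact hQgen hsQ
    · have h2 : s * v ∈ QQ S U := h.mul_mem_Q hs h.vS hsQ h.v_notin_Q
      have h3 : s = (s * v) * v := by rw [mul_assoc, h.v2, mul_one]
      rw [h3]
      exact mul_mem (hQgen h2) (mem_sup_right (subset_closure (Or.inr rfl)))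
  · rw [hκv]
    have h2 : v * κ * κ⁻¹ * v⁻¹ = 1 := by group
    rw [h2]
    exact one_mem _

end Fv

end Cfsg.Agent.RankThreeFus
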