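import Cfsg.Agent.RankThreeFus.Invert

/-!
# S1730, type (a5): the set of commutators with an involution is a cyclic group (helper439's lemma)

`CS N v = {[v, n] : n ∈ N}`.  Under the conditions collected in `Cyc N v z k` (the only involution of the set is
`z`, its only elements of order four are `k`, `k⁻¹`, its elements commute with `k`, `N` acts on `⟨k⟩`), the set is a
cyclic group.
-/

set_option autoImplicit false
set_option linter.style.haveILetI false

namespace Cfsg.Agent.RankThreeFus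

open Subgroup

variable {G : Type*} [Group G]

/-- The set `{[v, n] : n ∈ N}` for an involution `v`. -/
def CS (N : Subgroup G) (v : G) : Set G := {c | ∃ n ∈ N, c = v * (n * v * n⁻¹)}

namespace CS

variable {N : Subgroup G} {v : G}

theorem one_mem (hv : v * v = 1) : (1 : G) ∈ CS N v :=
  ⟨1, N.one_mem, by rw [one_mul, inv_one, mul_one, hv]⟩

theorem mem_N (hv : v * v = 1) (hvN : v ∈ normalizer (N : Set G)) {c : G} (hc : c ∈ CS N v) : c ∈ N := by
  obtain ⟨n, hn, rfl⟩ := hc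
  have hvi : v⁻¹ = v := inv_eq_of_mul_eq_one_left hv
  have h1 : v * (n * v * n⁻¹) = (v * n * v⁻¹) * n⁻¹ := by rw [hvi]; group
  rw [h1]
  exact N.mul_mem ((mem_normalizer_iff.1 hvN n).1 hn) (N.inv_mem hn)

theorem conj_v (hv : v * v = 1) {c : G} (hc : c ∈ CS N v) : v * c * v = c⁻¹ := by
  obtain ⟨n, hn, rfl⟩ := hc
  have hvi : v⁻¹ = v := inv_eq_of_mul_eq_one_left hv
  have h1 : (v * (n * v * n⁻¹))⁻¹ = n * v⁻¹ * n⁻¹ * v⁻¹ := by group
  rw [h1, hvi]
  calc v * (v * (n * v * n⁻¹)) * v = (v * v) * (n * v * n⁻¹) * v := by group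
    _ = _ := by rw [hv]; group

/-- `c⁻ⁱ w = w cⁱ` if the involution `w` inverts `c`. -/
theorem pow_comm {w c : G} (hw : w * w = 1) (h : w * c * w = c⁻¹) (i : ℕ) :
    (c ^ i)⁻¹ * w = w * c ^ i := by
  have hwi : w⁻¹ = w := inv_eq_of_mul_eq_one_left hw
  have h1 : w * c ^ i * w⁻¹ = (c ^ i)⁻¹ := by
    rw [← conj_pow, hwi, h, inv_pow]
  rw [← h1]; group

theorem pow_mem (hv : v * v = 1) (hvN : v ∈ normalizer (N : Set G)) {c : G} (hc : c ∈ CS N v) (k : ℕ) :
    c ^ k ∈ CS N v := by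
  have hcN := mem_N hv hvN hc
  have h1 := conj_v hv hc
  obtain ⟨n, hn, hcn⟩ := hc
  set w : G := n * v * n⁻¹ with hw
  have hw2 : w * w = 1 := by
    rw [hw]
    calc n * v * n⁻¹ * (n * v * n⁻¹) = n * (v * v) * n⁻¹ := by group
      _ = 1 := by rw [hv]; group
  have hwc : w * c * w = c⁻¹ := by
    have hvi : v⁻¹ = v := inv_eq_of_mul_eq_one_left hv
    have hwi : w⁻¹ = w := inv_eq_of_mul_eq_one_left hw2
    rw [hcn, mul_inv_rev, hwi, hvi]
    calc w * (v * w) * w = w * v * (w * w) := by group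
      _ = _ := by rw [hw2, mul_one]
  rcases Nat.even_or_odd' k with ⟨i, hi | hi⟩
  · refine ⟨(c ^ i)⁻¹, N.inv_mem (N.pow_mem hcN i), ?_⟩
    rw [inv_inv, pow_comm hv h1 i, hi, mul_assoc v, ← pow_add, ← mul_assoc, hv, one_mul, two_mul]
  · refine ⟨(c ^ i)⁻¹ * n, N.mul_mem (N.inv_mem (N.pow_mem hcN i)) hn, ?_⟩
    have h2 : (c ^ i)⁻¹ * n * v * ((c ^ i)⁻¹ * n)⁻¹ = ((c ^ i)⁻¹ * w) * c ^ i := by rw [hw]; group
    rw [h2, pow_comm hw2 hwc i, hi, mul_assoc w, ← pow_add, ← mul_assoc, ← hcn, ← pow_succ', two_mul]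

theorem conj {a : G} (ha : a ∈ N) {c : G} (hc : c ∈ CS N v) : a * c * a⁻¹ ∈ CS N (a * v * a⁻¹) := by
  obtain ⟨n, hn, rfl⟩ := hc
  refine ⟨a * n * a⁻¹, N.mul_mem (N.mul_mem ha hn) (N.inv_mem ha), ?_⟩
  group

theorem conj_norm {a : G} (ha : a ∈ normalizer (N : Set G)) {c : G} (hc : c ∈ CS N v) :
    a * c * a⁻¹ ∈ CS N (a * v * a⁻¹) := by
  obtain ⟨n, hn, rfl⟩ := hc
  refine ⟨a * n * a⁻¹, (mem_normalizer_iff.1 ha n).1 hn, ?_⟩
  group

/-- The inverse of `v w` is `w v = w (n⁻¹ w n)`. -/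
theorem inv_mem_conj {n : G} (hv : v * v = 1) (hn : n ∈ N) :
    (v * (n * v * n⁻¹))⁻¹ ∈ CS N (n * v * n⁻¹) := by
  have hvi : v⁻¹ = v := inv_eq_of_mul_eq_one_left hv
  refine ⟨n⁻¹, N.inv_mem hn, ?_⟩
  have h1 : (v * (n * v * n⁻¹))⁻¹ = n * v⁻¹ * n⁻¹ * v⁻¹ := by group
  rw [h1, hvi]; group

end CS

/-- The conditions under which `CS N v` is cyclic. -/
structure Cyc (N : Subgroup G) (v z k : G) : Prop where
  p2 : IsPGroup 2 N
  v2 : v * v = 1
  vN : v ∈ normalizer (N : Set G)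
  z1 : z ≠ 1
  z2 : z * z = 1
  kk : k * k = z
  sq1 : ∀ c ∈ CS N v, c * c = 1 → c = 1 ∨ c = z
  sqz : ∀ c ∈ CS N v, c * c = z → c = k ∨ c = k⁻¹
  comm : ∀ c ∈ CS N v, c * k = k * c
  nk : ∀ n ∈ N, n * k * n⁻¹ = k ∨ n * k * n⁻¹ = k⁻¹

/-- An element of a 2-group which is not an involution has a power of order exactly four. -/
theorem exists_pow_four {N : Subgroup G} (hN : IsPGroup 2 N) {d : G} (hd : d ∈ N)
    (h : d * d ≠ 1) : ∃ m : ℕ, d ^ m * d ^ m ≠ 1 ∧ (d ^ m * d ^ m) * (d ^ m * d ^ m) = 1 := by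
  obtain ⟨n, hn⟩ := hN ⟨d, hd⟩
  have hn' : d ^ 2 ^ n = 1 := by simpa using congrArg Subtype.val hn
  obtain ⟨j, -, hj⟩ := (Nat.dvd_prime_pow Nat.prime_two).1 (orderOf_dvd_of_pow_eq_one hn')
  rcases j with _ | _ | j
  · exfalso
    apply h
    have h1 : d = 1 := orderOf_eq_one_iff.1 (by simpa using hj)
    rw [h1, one_mul]
  · exfalso
    apply h
    have h1 : d ^ 2 = 1 := by
      have := pow_orderOf_eq_one d
      rw [hj] at this
      simpa using this
    rw [← pow_two]; exact h1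
  · refine ⟨2 ^ j, ?_, ?_⟩
    · rw [← pow_add, ← two_mul, ← pow_succ']
      intro h1
      have h2 := orderOf_dvd_of_pow_eq_one h1
      rw [hj] at h2
      have h3 := (Nat.pow_dvd_pow_iff_le_right (by norm_num)).1 h2
      omega
    · rw [← pow_add, ← pow_add]
      have h1 : 2 ^ j + 2 ^ j + (2 ^ j + 2 ^ j) = 2 ^ (j + 1 + 1) := by ring
      rw [h1, ← hj, pow_orderOf_eq_one]

namespace Cyc

variable {N : Subgroup G} {v z k : G} (h : Cyc N v z k)

include h

theorem nz {n : G} (hn : n ∈ N) : n * z * n⁻¹ = z := by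
  have h1 : n * z * n⁻¹ = (n * k * n⁻¹) * (n * k * n⁻¹) := by rw [← h.kk]; group
  have hzi : z⁻¹ = z := inv_eq_of_mul_eq_one_left h.z2
  rcases h.nk n hn with h2 | h2
  · rw [h1, h2, h.kk]
  · rw [h1, h2, ← mul_inv_rev, h.kk, hzi]

/-- Two elements of the set with the same square differ by a power of `z`. -/
theorem sq_eq {c c' : G} (hc : c ∈ CS N v) (hc' : c' ∈ CS N v) (hcc : c * c = c' * c') :
    c' = c ∨ c' = c * z := by
  have hvi : v⁻¹ = v := inv_eq_of_mul_eq_one_left h.v2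
  have hck := h.comm c hc
  set d : G := c⁻¹ * c' with hd
  have hinv : c * d * c⁻¹ = d⁻¹ := by
    rw [hd]
    have h1 : c * (c⁻¹ * c') * c⁻¹ = c'⁻¹ * (c' * c') * c⁻¹ := by group
    rw [h1, ← hcc]; group
  obtain ⟨n, hn, hcn⟩ := hc
  obtain ⟨n', hn', hcn'⟩ := hc'
  set e : G := v * ((n⁻¹ * n') * v * (n⁻¹ * n')⁻¹) with he
  have heC : e ∈ CS N v := ⟨n⁻¹ * n', N.mul_mem (N.inv_mem hn) hn', rfl⟩
  have hde : d = n * e * n⁻¹ := by
    rw [hd, hcn, hcn', he]
    have h1 : (v * (n * v * n⁻¹))⁻¹ = n * v⁻¹ * n⁻¹ * v⁻¹ := by group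
    rw [h1]
    have h2 : n * v⁻¹ * n⁻¹ * v⁻¹ * (v * (n' * v * n'⁻¹)) = n * v⁻¹ * n⁻¹ * (n' * v * n'⁻¹) := by group
    rw [h2, hvi]; group
  have hcd : c' = c * d := by rw [hd]; group
  by_cases hee : e * e = 1
  · rcases h.sq1 e heC hee with h1 | h1
    · left; rw [hcd, hde, h1]; group
    · right; rw [hcd, hde, h1, h.nz hn]
  · exfalso
    obtain ⟨m, hm1, hm2⟩ := exists_pow_four h.p2 (CS.mem_N h.v2 h.vN heC) hee
    have hemC := CS.pow_mem h.v2 h.vN heC m
    have hsq : e ^ m * e ^ m ∈ CS N v := by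
      rw [← pow_add]; exact CS.pow_mem h.v2 h.vN heC _
    have h3 : e ^ m * e ^ m = z := by
      rcases h.sq1 _ hsq hm2 with h4 | h4
      · exact (hm1 h4).elim
      · exact h4
    have h4 : d ^ m = k ∨ d ^ m = k⁻¹ := by
      rw [hde, conj_pow]
      rcases h.sqz _ hemC h3 with h5 | h5
      · rw [h5]; exact h.nk n hn
      · rw [h5]
        rcases h.nk n hn with h6 | h6
        · right
          have h7 : n * k⁻¹ * n⁻¹ = (n * k * n⁻¹)⁻¹ := by group
          rw [h7, h6]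
        · left
          have h7 : n * k⁻¹ * n⁻¹ = (n * k * n⁻¹)⁻¹ := by group
          rw [h7, h6, inv_inv]
    have h5 : c * d ^ m * c⁻¹ = (d ^ m)⁻¹ := by rw [← conj_pow, hinv, inv_pow]
    have hck' : c * k * c⁻¹ = k := by rw [hck]; group
    have hck'' : c * k⁻¹ * c⁻¹ = k⁻¹ := by
      have h7 : c * k⁻¹ * c⁻¹ = (c * k * c⁻¹)⁻¹ := by group
      rw [h7, hck']
    apply h.z1
    rw [← h.kk]
    rcases h4 with h6 | h6
    · rw [h6, hck'] at h5
      nth_rewrite 2 [h5]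
      exact mul_inv_cancel k
    · rw [h6, hck'', inv_inv] at h5
      nth_rewrite 1 [← h5]
      exact inv_mul_cancel k

/-- `z` is a power of every non-trivial element of the set. -/
theorem z_mem {c : G} (hc : c ∈ CS N v) (hc1 : c ≠ 1) : z ∈ zpowers c := by
  obtain ⟨n, hn⟩ := h.p2 ⟨c, CS.mem_N h.v2 h.vN hc⟩
  have hn' : c ^ 2 ^ n = 1 := by simpa using congrArg Subtype.val hn
  obtain ⟨j, -, hj⟩ := (Nat.dvd_prime_pow Nat.prime_two).1 (orderOf_dvd_of_pow_eq_one hn')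
  rcases j with _ | j
  · exact (hc1 (orderOf_eq_one_iff.1 (by simpa using hj))).elim
  have h1 : c ^ 2 ^ j ≠ 1 := by
    intro h1
    have h2 := orderOf_dvd_of_pow_eq_one h1
    rw [hj] at h2
    have h3 := (Nat.pow_dvd_pow_iff_le_right (by norm_num)).1 h2
    omega
  have h2 : c ^ 2 ^ j * c ^ 2 ^ j = 1 := by
    rw [← pow_add, ← two_mul, ← pow_succ', ← hj, pow_orderOf_eq_one]
  rcases h.sq1 _ (CS.pow_mem h.v2 h.vN hc _) h2 with h3 | h3
  · exact (h1 h3).elim
  · rw [← h3]; exact npow_mem_zpowers c _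

/-- **(5)** the set is a cyclic group -/
theorem exists_gen [Finite G] : ∃ c₀ ∈ CS N v, ∀ c, c ∈ CS N v ↔ c ∈ zpowers c₀ := by
  obtain ⟨c₀, hc₀, hmax⟩ := Set.exists_max_image (CS N v) orderOf (Set.toFinite _)
    ⟨1, CS.one_mem h.v2⟩
  refine ⟨c₀, hc₀, fun c => ⟨fun hc => ?_, fun hc => ?_⟩⟩
  · by_cases h0 : c₀ = 1
    · have h1 := hmax c hc
      rw [h0, orderOf_one] at h1
      have h2 : c = 1 := orderOf_eq_one_iff.1 (le_antisymm h1 (orderOf_pos c))
      rw [h2]; exact one_mem _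
    have hz0 : z ∈ zpowers c₀ := h.z_mem hc₀ h0
    obtain ⟨n, hn⟩ := h.p2 ⟨c, CS.mem_N h.v2 h.vN hc⟩
    have hn' : c ^ 2 ^ n = 1 := by simpa using congrArg Subtype.val hn
    clear hn
    revert c
    induction n with
    | zero =>
      intro c hc hn'
      rw [pow_zero, pow_one] at hn'
      rw [hn']; exact one_mem _
    | succ n ih =>
      intro c hc hn'
      have h1 : c ^ 2 ∈ CS N v := CS.pow_mem h.v2 h.vN hc 2
      have h2 : (c ^ 2) ^ 2 ^ n = 1 := by rw [← pow_mul, ← pow_succ']; exact hn'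
      obtain ⟨i, hi⟩ := (mem_powers_iff_mem_zpowers.2 (ih (c ^ 2) h1 h2))
      simp only at hi
      rcases Nat.even_or_odd' i with ⟨j, hj | hj⟩
      · -- `c ^ 2 = (c₀ ^ j) ^ 2`
        have h3 : c₀ ^ j * c₀ ^ j = c * c := by
          rw [← pow_add, ← two_mul, ← hj, hi, pow_two]
        rcases h.sq_eq (CS.pow_mem h.v2 h.vN hc₀ j) hc h3 with h4 | h4
        · rw [h4]; exact npow_mem_zpowers _ _
        · rw [h4]; exact mul_mem (npow_mem_zpowers _ _) hz0
      · -- `c ^ 2` generates `⟨c₀⟩`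
        have h3 : Nat.Coprime (orderOf c₀) i := by
          obtain ⟨n₀, hn₀⟩ := h.p2 ⟨c₀, CS.mem_N h.v2 h.vN hc₀⟩
          have hn₀' : c₀ ^ 2 ^ n₀ = 1 := by simpa using congrArg Subtype.val hn₀
          have h4 : Nat.Coprime (2 ^ n₀) i := by
            apply Nat.Coprime.pow_left
            rw [hj]
            exact (Nat.coprime_two_left).2 (by exact ⟨j, rfl⟩)
          exact Nat.Coprime.coprime_dvd_left (orderOf_dvd_of_pow_eq_one hn₀') h4
        have h4 : zpowers (c ^ 2) = zpowers c₀ := by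
          rw [← hi]
          apply SetLike.coe_injective
          have h5 : orderOf (c₀ ^ i) = orderOf c₀ := h3.orderOf_pow
          refine Set.eq_of_subset_of_ncard_le (SetLike.coe_subset_coe.2 ?_) ?_ (Set.toFinite _)
          · rw [zpowers_le]; exact npow_mem_zpowers _ _
          · change Nat.card (zpowers c₀) ≤ Nat.card (zpowers (c₀ ^ i))
            rw [Nat.card_zpowers, Nat.card_zpowers, h5]
        have h5 : zpowers c₀ ≤ zpowers c := by
          rw [← h4, zpowers_le]; exact npow_mem_zpowers _ _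
        have h6 : zpowers c₀ = zpowers c := by
          apply SetLike.coe_injective
          refine Set.eq_of_subset_of_ncard_le (SetLike.coe_subset_coe.2 h5) ?_ (Set.toFinite _)
          change Nat.card (zpowers c) ≤ Nat.card (zpowers c₀)
          rw [Nat.card_zpowers, Nat.card_zpowers]
          exact hmax c hc
        rw [h6]; exact mem_zpowers c
  · obtain ⟨i, hi⟩ := mem_powers_iff_mem_zpowers.2 hc
    simp only at hi
    rw [← hi]
    exact CS.pow_mem h.v2 h.vN hc₀ i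

end Cyc

end Cfsg.Agent.RankThreeFus
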