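import Cfsg.Agent.RankThreeFus.LemOneThree
import Cfsg.Agent.Lib.NormalAbelian
import Cfsg.Agent.GTwoFour.OuterSyl

/-!
# S1730, branch (B): Lemmas 2 and 3
-/

set_option autoImplicit false
set_option linter.style.haveILetI false

namespace Cfsg.Agent.RankThreeFus

open Subgroup Cfsg.Agent.Lib.GoldschmidtFusion Cfsg.Agent.Lib.EssentialFusion Cfsg.Agent.StdL2.G23Aut

variable {G : Type*} [Group G]

/-- `2` divides the index of `X C_G(X)` in a subgroup containing an element of `S - X`. -/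
theorem two_dvd_relIndex {S : Sylow 2 G} {F : Subgroup G} (hF : Ess S F) {D : Subgroup G}
    (hDN : D ≤ normalizer (F : Set G)) {u : G} (huS : u ∈ (S : Subgroup G)) (huD : u ∈ D) (huF : u ∉ F) :
    2 ∣ (XC F).relIndex D := by
  have huXC : u ∉ XC F := by
    intro h1
    apply huF
    have h2 : u ∈ ((XC F : Subgroup G) : Set G) := h1
    rw [XC, coe_mul_of_right_le_normalizer_left _ _ (centralizer_le_normalizer _)] at h2
    obtain ⟨x, hx, c, hc, rfl⟩ := Set.mem_mul.1 h2
    have hcP : c ∈ (S : Subgroup G) := by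
      have := mul_mem (inv_mem (hF.lt.le hx)) huS
      simpa using this
    exact mul_mem hx (hF.centric ⟨hc, hcP⟩)
  let R : Subgroup D := (XC F).subgroupOf D
  haveI hR : R.Normal := by
    constructor
    intro n hn g
    rw [mem_subgroupOf] at hn ⊢
    simpa using conj_mem_XC (hDN g.2) hn
  let y : D ⧸ R := QuotientGroup.mk (⟨u, huD⟩ : D)
  have hy1 : y ≠ 1 := by
    intro h
    apply huXC
    have := (QuotientGroup.eq_one_iff (N := R) (⟨u, huD⟩ : D)).1 h
    exact this
  obtain ⟨k, hk⟩ := S.isPGroup' ⟨u, huS⟩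
  have hk' : u ^ 2 ^ k = 1 := by simpa using congrArg Subtype.val hk
  have h3 : y ^ 2 ^ k = 1 := by
    change (QuotientGroup.mk (⟨u, huD⟩ : D) : D ⧸ R) ^ 2 ^ k = 1
    rw [← QuotientGroup.mk_pow]
    have : (⟨u, huD⟩ : D) ^ 2 ^ k = 1 := Subtype.ext (by simpa using hk')
    rw [this, QuotientGroup.mk_one]
  obtain ⟨j, -, hj⟩ := (Nat.dvd_prime_pow Nat.prime_two).1 (orderOf_dvd_of_pow_eq_one h3)
  have hj0 : j ≠ 0 := by
    rintro rfl
    rw [pow_zero, orderOf_eq_one_iff] at hj
    exact hy1 hj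
  have h4 : 2 ∣ orderOf y := by
    rw [hj]
    exact dvd_pow_self 2 hj0
  have h5 : Nat.card (D ⧸ R) = (XC F).relIndex D := rfl
  rw [← h5]
  exact h4.trans (orderOf_dvd_natCard y)


theorem mem_zp {c : G} (hc : c * c = 1) {x : G} : x ∈ zpowers c ↔ x = 1 ∨ x = c :=
  ⟨fun h => zpowers_cases hc x h, by rintro (rfl | rfl); exacts [one_mem _, mem_zpowers _]⟩

variable [Finite G]

/-- the chain `F > E > ⟨c⟩ > 1` -/
theorem Spl.chain {S : Sylow 2 G} {F E P : Subgroup G} {c : G} (hF : Ess S F) (hs : Spl F E P c) {k : G}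
    (hk : k ∈ normalizer (F : Set G)) (h1 : ∀ x ∈ F, k * x * k⁻¹ * x⁻¹ ∈ E)
    (h2 : ∀ e ∈ E, k * e * k⁻¹ * e⁻¹ ∈ zpowers c) : k ∈ XC F := by
  have hc2 : c * c = 1 := hs.oct.sq c hs.memc
  refine chain_le_XC hF (fun i => if i = 0 then F else if i = 1 then E else if i = 2 then zpowers c else ⊥) 3
    (by simp) (by simp) ?_ ?_ hk ?_
  · intro i
    rcases i with _ | _ | _ | i
    · simpa using hs.le
    · simpa using hs.memc
    · simp
    · simp
  · intro i
    rcases i with _ | _ | _ | i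
    · simp
    · simp only [Nat.reduceAdd, one_ne_zero, ↓reduceIte]
      rw [le_normalizer_iff]
      intro n hn e he
      exact hs.norm hn he
    · simp only [Nat.reduceAdd, OfNat.ofNat_ne_zero, ↓reduceIte, OfNat.ofNat_ne_one]
      rw [le_normalizer_iff]
      intro n hn e he
      rcases zpowers_cases hc2 e he with rfl | rfl
      · simp
      · rw [hs.fix hn]; exact mem_zpowers _
    · have e1 : (if i + 1 + 1 + 1 = 0 then F else if i + 1 + 1 + 1 = 1 then E else
          if i + 1 + 1 + 1 = 2 then zpowers c else ⊥) = (⊥ : Subgroup G) := by simp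
      change normalizer (F : Set G) ≤ normalizer ((if i + 1 + 1 + 1 = 0 then F else if i + 1 + 1 + 1 = 1 then E else
          if i + 1 + 1 + 1 = 2 then zpowers c else ⊥ : Subgroup G) : Set G)
      rw [e1, le_normalizer_iff]
      intro n _ e he
      rw [mem_bot] at he ⊢
      rw [he]; group
  · intro i e he
    rcases i with _ | _ | _ | i
    · simpa using h1 e (by simpa using he)
    · simpa using h2 e (by simpa using he)
    · have he' : e ∈ zpowers c := by simpa using he
      rcases zpowers_cases hc2 e he' with rfl | rfl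
      · simp
      · simp [hs.fix hk]
    · have he' : e = 1 := by simpa using he
      simp [he']

/-- In Lemma 3: an element of `N_S(F)` trivial on `E / ⟨c⟩` lies in `F`. -/
theorem Spl.mem_of_trivial {S : Sylow 2 G} {F E P : Subgroup G} {c : G} (hF : Ess S F) (hs : Spl F E P c)
    {a : G} (haS : a ∈ (S : Subgroup G)) (haN : a ∈ normalizer (F : Set G)) (haF : a ∉ F)
    (hFa : ∀ x ∈ F, a * x * a⁻¹ * x⁻¹ ∈ E) {t : G} (htS : t ∈ (S : Subgroup G))
    (htN : t ∈ normalizer (F : Set G)) (ht : ∀ e ∈ E, t * e * t⁻¹ * e⁻¹ ∈ zpowers c) : t ∈ F := by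
  by_contra htF
  obtain ⟨M, hXC, hTM, hMN, hM⟩ := hF.strong
  have hc2 : c * c = 1 := hs.oct.sq c hs.memc
  -- the normal subgroup acting trivially on `F / E` is in `M`
  have key : ∀ k ∈ normalizer (F : Set G), (∀ x ∈ F, k * x * k⁻¹ * x⁻¹ ∈ E) → k ∈ M := by
    intro k hk hkE
    by_contra hkM
    apply hM k hk hkM
    refine two_dvd_relIndex hF (inf_le_left.trans hMN.le) htS (mem_inf.2 ⟨hTM ⟨htS, htN⟩, mem_map_conj.2 ?_⟩) htF
    have hw : t⁻¹ * (k⁻¹ * t * k) ∈ XC F := by
      refine hs.chain hF (mul_mem (inv_mem htN) (mul_mem (mul_mem (inv_mem hk) htN) hk)) ?_ ?_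
      · intro x hx
        -- `t⁻¹ k⁻¹ t` and `k` act trivially on `F / E`
        have h1 := hkE x hx
        set y := k * x * k⁻¹ with hy
        have hyF : y ∈ F := mem_norm hk hx
        set y' := t * y * t⁻¹ with hy'
        have hy'F : y' ∈ F := mem_norm htN hyF
        set u := k⁻¹ * y' * k with hu
        have huF : u ∈ F := mem_norm' hk hy'F
        have h2 := hkE u huF
        have h3 : k * u * k⁻¹ = y' := by rw [hu]; group
        rw [h3] at h2
        -- u = d⁻¹ y' with d ∈ E ...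
        have e1 : t⁻¹ * (k⁻¹ * t * k) * x * (t⁻¹ * (k⁻¹ * t * k))⁻¹ = t⁻¹ * u * t := by
          rw [hu, hy', hy]; group
        rw [e1]
        have e2 : t⁻¹ * u * t * x⁻¹ = t⁻¹ * (y' * u⁻¹)⁻¹ * t * (k * x * k⁻¹ * x⁻¹) := by
          rw [hy', hy]; group
        rw [e2]
        refine mul_mem ?_ h1
        have h4 := hs.norm (inv_mem htN) (inv_mem h2)
        simpa using h4
      · intro e he
        have h1 : k * e * k⁻¹ ∈ E := hs.norm hk he
        set y := k * e * k⁻¹ with hy
        have h2 := ht y h1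
        -- t y t⁻¹ = d y, d ∈ ⟨c⟩; k⁻¹ (d y) k = d e
        rw [mem_zp hc2] at h2
        have hkc : k⁻¹ * c * k = c := by
          have := hs.fix (inv_mem hk)
          simpa using this
        have htc : t⁻¹ * c * t = c := by
          have := hs.fix (inv_mem htN)
          simpa using this
        have h3 := ht (t⁻¹ * e * t) (by simpa using hs.norm (inv_mem htN) he)
        rw [mem_zp hc2] at h3
        have e1 : t⁻¹ * (k⁻¹ * t * k) * e * (t⁻¹ * (k⁻¹ * t * k))⁻¹ * e⁻¹ =
            t⁻¹ * (k⁻¹ * (t * y * t⁻¹ * y⁻¹) * k) * t * (t * (t⁻¹ * e * t) * t⁻¹ * (t⁻¹ * e * t)⁻¹)⁻¹ := by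
          rw [hy]; group
        rw [e1, mem_zp hc2]
        have hcinv : c⁻¹ = c := inv_eq_of_mul_eq_one_left hc2
        rcases h2 with h2 | h2 <;> rcases h3 with h3 | h3 <;> rw [h2, h3]
        · left; group
        · right
          have : t⁻¹ * (k⁻¹ * 1 * k) * t * c⁻¹ = c⁻¹ := by group
          rw [this, hcinv]
        · right; rw [hkc, htc, inv_one, mul_one]
        · left; rw [hkc, htc, mul_inv_cancel]
    have : k⁻¹ * t * k = t * (t⁻¹ * (k⁻¹ * t * k)) := by group
    rw [this]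
    exact mul_mem (hTM ⟨htS, htN⟩) (hXC hw)
  obtain ⟨g, hg, hgM⟩ := SetLike.exists_of_lt hMN
  apply hM g hg hgM
  refine two_dvd_relIndex hF (inf_le_left.trans hMN.le) haS (mem_inf.2 ⟨hTM ⟨haS, haN⟩, mem_map_conj.2 ?_⟩) haF
  apply key _ (mul_mem (mul_mem (inv_mem hg) haN) hg)
  intro x hx
  have h1 := hFa _ (mem_norm hg hx)
  have h2 := hs.norm (inv_mem hg) h1
  have e1 : g⁻¹ * (a * (g * x * g⁻¹) * a⁻¹ * (g * x * g⁻¹)⁻¹) * g⁻¹⁻¹ =
      g⁻¹ * a * g * x * (g⁻¹ * a * g)⁻¹ * x⁻¹ := by group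
  rw [e1] at h2
  exact h2


/-- **Lemma 3.** -/
theorem Spl.card_eq {S : Sylow 2 G} {F E P : Subgroup G} {c : G} (hF : Ess S F) (hs : Spl F E P c)
    {a : G} (haS : a ∈ (S : Subgroup G)) (haN : a ∈ normalizer (F : Set G)) (haF : a ∉ F)
    (hFa : ∀ x ∈ F, a * x * a⁻¹ * x⁻¹ ∈ E) :
    Nat.card ((S : Subgroup G) ⊓ normalizer (F : Set G) : Subgroup G) = 2 * Nat.card F := by
  set T : Subgroup G := (S : Subgroup G) ⊓ normalizer (F : Set G) with hT
  have hFT : F ≤ T := le_inf hF.lt.le le_normalizer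
  have hET : E ≤ T := hs.le.trans hFT
  have hc2 : c * c = 1 := hs.oct.sq c hs.memc
  have hcinv : c⁻¹ = c := inv_eq_of_mul_eq_one_left hc2
  have hcT : zpowers c ≤ E := by simpa using hs.memc
  have hfix : ∀ t ∈ T, t * c * t⁻¹ = c := fun t ht => hs.fix ht.2
  have hcc : ∀ e ∈ E, c * e = e * c := fun e he => hs.oct.comm hs.memc he
  -- an element `f` of `E`, central modulo `c`
  obtain ⟨f, hfE, hfc, hf⟩ : ∃ f ∈ E, f ∉ zpowers c ∧ ∀ t ∈ T, t * f * t⁻¹ * f⁻¹ ∈ zpowers c := by
    have hTp : IsPGroup 2 T := S.isPGroup'.to_le inf_le_left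
    haveI : Group.IsNilpotent T := hTp.isNilpotent
    have hA : ((zpowers c).subgroupOf T).Normal := by
      constructor
      intro n hn g
      rw [mem_subgroupOf] at hn ⊢
      rcases zpowers_cases hc2 _ hn with h | h
      · have : n = 1 := Subtype.ext h
        rw [this]; simp
      · change (g : G) * (n : G) * (g : G)⁻¹ ∈ zpowers c
        rw [h, hfix g g.2]; exact mem_zpowers c
    have hC : (E.subgroupOf T).Normal := by
      constructor
      intro n hn g
      rw [mem_subgroupOf] at hn ⊢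
      exact hs.norm g.2.2 hn
    have hne : ¬ E.subgroupOf T ≤ (zpowers c).subgroupOf T := by
      intro h
      have h1 : E ≤ zpowers c := by
        intro e he
        have := h (show (⟨e, hET he⟩ : T) ∈ E.subgroupOf T from he)
        exact this
      have h2 : Nat.card E ≤ Nat.card (zpowers c) := Subgroup.card_le_of_le h1
      rw [hs.oct.card, Nat.card_zpowers] at h2
      have h3 : orderOf c ≤ 2 := Nat.le_of_dvd (by norm_num) (orderOf_dvd_of_pow_eq_one (by rw [pow_two]; exact hc2))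
      omega
    obtain ⟨x, hx, hx', hx''⟩ :=
      Cfsg.Agent.Lib.NormalAbelian.exists_mem_not_mem_central_mod hA hC hne
    refine ⟨x, hx, hx', ?_⟩
    intro t ht
    have h1 : (x : G) * t * (x : G)⁻¹ * t⁻¹ ∈ zpowers c := hx'' ⟨t, ht⟩
    have h2 : t * (x : G) * t⁻¹ * (x : G)⁻¹ = ((x : G) * t * (x : G)⁻¹ * t⁻¹)⁻¹ := by group
    rw [h2]
    exact inv_mem h1
  have hf2 : f * f = 1 := hs.oct.sq f hfE
  have hf1 : f ≠ 1 := fun h => hfc (by rw [h]; exact one_mem _)
  have hfc' : f ≠ c := fun h => hfc (by rw [h]; exact mem_zpowers c)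
  -- the subgroup `U = ⟨c, f⟩`
  have hfcc : f * c = c * f := (hcc f hfE).symm
  set U : Subgroup G := Cfsg.Agent.GTwoFour.OuterSyl.four f c hf2 hc2 hfcc with hUdef
  have hU : ∀ x, x ∈ U ↔ x = 1 ∨ x = f ∨ x = c ∨ x = f * c := fun x => Cfsg.Agent.GTwoFour.OuterSyl.mem_four
  have hUE : U ≤ E := by
    intro x hx
    rcases (hU x).1 hx with rfl | rfl | rfl | rfl
    · exact one_mem _
    · exact hfE
    · exact hs.memc
    · exact mul_mem hfE hs.memc
  have hcU : c ∈ U := (hU c).2 (Or.inr (Or.inr (Or.inl rfl)))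
  have hfU : f ∈ U := (hU f).2 (Or.inr (Or.inl rfl))
  have hzU : ∀ x ∈ zpowers c, x ∈ U := fun x hx => by
    rcases zpowers_cases hc2 x hx with rfl | rfl
    · exact one_mem _
    · exact hcU
  have hUcard : Nat.card U = 4 := Cfsg.Agent.GTwoFour.OuterSyl.card_four hf1 hs.ne_one hfc'
  have hTU : ∀ t ∈ T, ∀ x ∈ U, t * x * t⁻¹ ∈ U ∧ t * x * t⁻¹ * x⁻¹ ∈ zpowers c := by
    intro t ht x hx
    have h1 := hf t ht
    have h2 : t * f * t⁻¹ = (t * f * t⁻¹ * f⁻¹) * f := by group
    have key : t * x * t⁻¹ * x⁻¹ ∈ zpowers c := by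
      rcases (hU x).1 hx with rfl | rfl | rfl | rfl
      · simp
      · exact h1
      · rw [hfix t ht]; simp
      · have h3 : t * (f * c) * t⁻¹ * (f * c)⁻¹ = (t * f * t⁻¹) * (t * c * t⁻¹) * c⁻¹ * f⁻¹ := by group
        rw [h3, hfix t ht, mul_inv_cancel_right]
        exact h1
    refine ⟨?_, key⟩
    have h3 : t * x * t⁻¹ = (t * x * t⁻¹ * x⁻¹) * x := by group
    rw [h3]
    exact mul_mem (hzU _ key) hx
  obtain ⟨e, he, heU⟩ : ∃ e ∈ E, e ∉ U := by
    by_contra hcon
    push Not at hcon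
    have h1 : Nat.card E ≤ Nat.card U := Subgroup.card_le_of_le hcon
    rw [hs.oct.card, hUcard] at h1
    omega
  have hidx : ∀ x ∈ E, ∀ y ∈ E, x ∉ U → y ∉ U → x * y ∈ U := fun x hx y hy hx' hy' =>
    mul_mem_of_index_two hUE (by rw [hs.oct.card, hUcard]) hx hy hx' hy'
  have hte : ∀ t ∈ T, t * e * t⁻¹ * e⁻¹ ∈ U := by
    intro t ht
    have h1 : t * e * t⁻¹ ∉ U := by
      intro h2
      apply heU
      have h3 := (hTU t⁻¹ (inv_mem ht) _ h2).1
      have h4 : t⁻¹ * (t * e * t⁻¹) * t⁻¹⁻¹ = e := by group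
      rwa [h4] at h3
    exact hidx _ (hs.norm ht.2 he) _ (inv_mem he) h1 (fun h => heU (by simpa using inv_mem h))
  -- elements of `T - F`
  have hout : ∀ t ∈ T, t ∉ F → t * e * t⁻¹ * e⁻¹ = f ∨ t * e * t⁻¹ * e⁻¹ = f * c := by
    intro t ht htF
    by_contra hcon
    push Not at hcon
    apply htF
    refine hs.mem_of_trivial hF haS haN haF hFa ht.1 ht.2 ?_
    have h1 : t * e * t⁻¹ * e⁻¹ ∈ zpowers c := by
      rcases (hU _).1 (hte t ht) with h | h | h | h
      · rw [h]; exact one_mem _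
      · exact absurd h hcon.1
      · rw [h]; exact mem_zpowers c
      · exact absurd h hcon.2
    intro x hx
    by_cases hxU : x ∈ U
    · exact (hTU t ht x hxU).2
    · have h2 : x * e ∈ U := hidx x hx e he hxU heU
      have h3 := (hTU t ht _ h2).2
      -- x = (x e) e⁻¹
      have hzc : ∀ y ∈ zpowers c, ∀ u ∈ E, y * u = u * y := by
        intro y hy u hu
        rcases zpowers_cases hc2 y hy with rfl | rfl
        · simp
        · exact hcc u hu
      have h4 : t * x * t⁻¹ * x⁻¹ = (t * (x * e) * t⁻¹ * (x * e)⁻¹) * (x * (t * e * t⁻¹ * e⁻¹)⁻¹ * x⁻¹) := by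
        group
      rw [h4]
      refine mul_mem h3 ?_
      rw [← hzc _ (inv_mem h1) x hx, mul_inv_cancel_right]
      exact inv_mem h1
  have hfU' : ∀ d, d = f ∨ d = f * c → d ∈ U ∧ d ∉ zpowers c := by
    rintro d (rfl | rfl)
    · exact ⟨hfU, hfc⟩
    · refine ⟨(hU _).2 (Or.inr (Or.inr (Or.inr rfl))), fun h => hfc ?_⟩
      have := mul_mem h (inv_mem (mem_zpowers c))
      simpa using this
  have hmul : ∀ t₁ ∈ T, ∀ t₂ ∈ T, t₁ ∉ F → t₂ ∉ F → t₁ * t₂ ∈ F := by
    intro t₁ h₁ t₂ h₂ h₁' h₂'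
    by_contra hcon
    have h3 := hout _ (mul_mem h₁ h₂) hcon
    have h4 := hout _ h₁ h₁'
    have h5 := hout _ h₂ h₂'
    refine (hfU' _ h3).2 ?_
    set d₁ := t₁ * e * t₁⁻¹ * e⁻¹ with hd₁
    set d₂ := t₂ * e * t₂⁻¹ * e⁻¹ with hd₂
    have h6 := (hTU t₁ h₁ d₂ (hfU' _ h5).1).2
    have h7 : t₁ * t₂ * e * (t₁ * t₂)⁻¹ * e⁻¹ = (t₁ * d₂ * t₁⁻¹ * d₂⁻¹) * (d₂ * d₁) := by
      rw [hd₁, hd₂]; group
    rw [h7]
    refine mul_mem h6 ?_
    rw [mem_zp hc2]
    rcases h4 with h4 | h4 <;> rcases h5 with h5 | h5 <;> rw [h4, h5]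
    · left; exact hf2
    · right; rw [hfcc, mul_assoc, hf2, mul_one]
    · right; rw [← mul_assoc, hf2, one_mul]
    · left
      calc f * c * (f * c) = f * (c * f) * c := by group
        _ = (f * f) * (c * c) := by rw [← hfcc]; group
        _ = 1 := by rw [hf2, hc2, one_mul]
  have h2 : (F.subgroupOf T).index = 2 := by
    rw [Subgroup.index_eq_two_iff]
    have haT : a ∈ T := ⟨haS, haN⟩
    refine ⟨⟨a, haT⟩, fun b => ?_⟩
    by_cases hb : (b : G) ∈ F
    · right
      refine ⟨hb, fun h => haF ?_⟩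
      have h8 : (b : G) * a ∈ F := h
      have h9 := mul_mem (inv_mem hb) h8
      simpa using h9
    · left
      exact ⟨hmul _ b.2 _ haT hb haF, hb⟩
  have h3 := relIndex_mul_card' hFT
  rw [← h3]
  congr 1


/-- **Lemma 2.** -/
theorem Hyp.lemTwo {S : Sylow 2 G} {A : Subgroup G} (h : Hyp S A) {F E P : Subgroup G} {c : G}
    (hs : Spl F E P c) (hFS : F ≤ S) (hAN : A ≤ normalizer (F : Set G)) (hEA : E ≠ A) {a : G}
    (haA : a ∈ A) (haF : a ∉ F) (haP : ∀ p ∈ P, a * p * a⁻¹ ∈ P)
    (hcard : Nat.card ((S : Subgroup G) ⊓ normalizer (F : Set G) : Subgroup G) = 2 * Nat.card F) :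
    (S : Subgroup G) = F ⊔ zpowers a ∧ ∀ w ∈ A, w ∈ E → ∀ s ∈ (S : Subgroup G), w * s = s * w := by
  set R : Subgroup G := (S : Subgroup G) ⊓ normalizer (F : Set G) with hR
  have haS : a ∈ (S : Subgroup G) := h.le haA
  have haN : a ∈ normalizer (F : Set G) := hAN haA
  have haR : a ∈ R := ⟨haS, haN⟩
  have hFR : F ≤ R := le_inf hFS le_normalizer
  have hAR : A ≤ R := le_inf h.le hAN
  have hRF : R = F ⊔ zpowers a := by
    symm
    apply Subgroup.eq_of_le_of_card_ge (sup_le hFR (by simpa using haR))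
    rw [hcard]
    have h1 : F < F ⊔ zpowers a := by
      refine lt_of_le_of_ne le_sup_left fun h => haF ?_
      rw [h]; exact le_sup_right (a := F) (mem_zpowers a)
    have h2 := relIndex_mul_card' h1.le
    have h3 : F.relIndex (F ⊔ zpowers a) ≠ 1 := by
      intro h4
      exact h1.not_ge (relIndex_eq_one.1 h4)
    have h5 : F.relIndex (F ⊔ zpowers a) ≠ 0 := by
      intro h0
      rw [h0, zero_mul] at h2
      exact (Nat.card_pos (α := (F ⊔ zpowers a : Subgroup G))).ne h2
    have h4 : 2 ≤ F.relIndex (F ⊔ zpowers a) := by omega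
    rw [← h2]
    exact Nat.mul_le_mul_right _ h4
  have hSR : (S : Subgroup G) = R := by
    by_contra hne
    have hlt : R < (S : Subgroup G) := lt_of_le_of_ne inf_le_left (Ne.symm hne)
    obtain ⟨y, hy, hyR⟩ := SetLike.exists_of_lt (lt_inf_normalizer S.isPGroup' hlt)
    have hyS : y ∈ (S : Subgroup G) := hy.1
    have hyN : y ∈ normalizer (R : Set G) := hy.2
    have hyF : y ∉ normalizer (F : Set G) := fun h' => hyR ⟨hyS, h'⟩
    set F' := cj y F with hF'
    set E' := cj y E with hE'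
    have hF'R : F' ≤ R := by
      rintro _ ⟨x, hx, rfl⟩
      exact mem_norm hyN (hFR hx)
    have hE'F' : E' ≤ F' := map_mono hs.le
    have hFF' : F' ≠ F := fun h' => hyF (cj_eq_iff.1 h')
    have hcardF' : Nat.card R = 2 * Nat.card F' := by rw [hcard, hF', card_cj]
    have idxF : ∀ {x z : G}, x ∈ R → z ∈ R → x ∉ F → z ∉ F → x * z ∈ F := fun hx hz hx' hz' =>
      mul_mem_of_index_two hFR hcard hx hz hx' hz'
    have idxF' : ∀ {x z : G}, x ∈ R → z ∈ R → x ∉ F' → z ∉ F' → x * z ∈ F' := fun hx hz hx' hz' =>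
      mul_mem_of_index_two hF'R hcardF' hx hz hx' hz'
    have hoct' : Oct E' := Oct.cj hs.oct y
    have hcen' : ∀ e ∈ E', ∀ x ∈ F', e * x = x * e := by
      rintro _ ⟨e, he, rfl⟩ _ ⟨x, hx, rfl⟩
      rw [← map_mul, ← map_mul, hs.cen e he x hx]
    have hinv' : ∀ x ∈ F', x * x = 1 → x ∈ E' := by
      intro x hx hxx
      exact oct_inv h.rank hoct' hcen' hx hxx
    have hEE' : E' ≠ E := by
      intro heq
      -- then `a` centralises `E`
      have hF'c : ∀ e ∈ E, ∀ x ∈ F', e * x = x * e := fun e he x hx => hcen' e (by rw [heq]; exact he) x hx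
      have haE : a ∈ E := by
        refine Oct.mem_of_comm h.rank hs.oct (h.oct.sq a haA) fun e he => ?_
        by_cases haF' : a ∈ F'
        · exact (hF'c e he a haF').symm
        · obtain ⟨x, hx, hxF'⟩ : ∃ x ∈ F, x ∉ F' := by
            by_contra hcon
            push Not at hcon
            exact hFF' (Subgroup.eq_of_le_of_card_ge hcon (by rw [hF', card_cj])).symm
          have h1 : a * x ∈ F' := idxF' haR (hFR hx) haF' hxF'
          have h2 := hF'c e he _ h1
          have h3 := hs.cen e he x hx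
          have h4 : a * e * x = e * a * x := by
            calc a * e * x = a * (e * x) := by group
              _ = a * x * e := by rw [h3]; group
              _ = e * (a * x) := h2.symm
              _ = e * a * x := by group
          exact mul_right_cancel h4
      exact haF (hs.le haE)
    obtain ⟨e, heE, heF'⟩ : ∃ e ∈ E, e ∉ F' := by
      by_contra hcon
      push Not at hcon
      have h1 : E ≤ E' := fun x hx => hinv' x (hcon x hx) (hs.oct.sq x hx)
      exact hEE' (Oct.eq_of_le hs.oct hoct' h1).symm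
    obtain ⟨t, htE', htF⟩ : ∃ t ∈ E', t ∉ F := by
      by_contra hcon
      push Not at hcon
      have h1 : E' ≤ E := fun x hx => hs.inv x (hcon x hx) (hoct'.sq x hx)
      exact hEE' (Oct.eq_of_le hoct' hs.oct h1)
    have htF' : t ∈ F' := hE'F' htE'
    have htR : t ∈ R := hF'R htF'
    have heR : e ∈ R := hFR (hs.le heE)
    have he2 : e * e = 1 := hs.oct.sq e heE
    have ht2 : t * t = 1 := hoct'.sq t htE'
    have htinv : t⁻¹ = t := inv_eq_of_mul_eq_one_left ht2
    have heinv : e⁻¹ = e := inv_eq_of_mul_eq_one_left he2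
    -- the involution `w = (et)²`
    set w := e * (t * e * t⁻¹) with hw
    have hteE : t * e * t⁻¹ ∈ E := hs.norm htR.2 heE
    have hwE : w ∈ E := mul_mem heE hteE
    have hta : t * e * t⁻¹ = a * e * a⁻¹ := by
      have h1 : a⁻¹ * t ∈ F := idxF (inv_mem haR) htR (fun h' => haF (by simpa using inv_mem h')) htF
      have h2 := hs.cen e heE _ h1
      calc t * e * t⁻¹ = a * ((a⁻¹ * t) * e) * t⁻¹ := by group
        _ = a * (e * (a⁻¹ * t)) * t⁻¹ := by rw [h2]
        _ = a * e * a⁻¹ := by group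
    have hac : a * c * a⁻¹ = c := hs.fix haN
    have hwP : w ∈ P := by
      rw [hw, hta]
      rcases hs.mem_or heE with h1 | h1
      · exact mul_mem h1 (haP e h1)
      · have h2 := mul_mem h1 (haP _ h1)
        have hc2 : c * c = 1 := hs.oct.sq c hs.memc
        have h3 : e * c * (a * (e * c) * a⁻¹) = e * (a * e * a⁻¹) := by
          have h4 : a * (e * c) * a⁻¹ = (a * e * a⁻¹) * c := by
            calc a * (e * c) * a⁻¹ = (a * e * a⁻¹) * (a * c * a⁻¹) := by group
              _ = _ := by rw [hac]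
          have h5 : a * e * a⁻¹ ∈ E := by rw [← hta]; exact hteE
          rw [h4]
          calc e * c * (a * e * a⁻¹ * c) = e * (c * (a * e * a⁻¹)) * c := by group
            _ = e * (a * e * a⁻¹) * (c * c) := by rw [hs.oct.comm hs.memc h5]; group
            _ = e * (a * e * a⁻¹) := by rw [hc2, mul_one]
        rw [h3] at h2
        exact h2
    have hwc : w ≠ c := fun h' => hs.notc (h' ▸ hwP)
    have hw1 : w ≠ 1 := by
      intro h1
      have hcomm : t * e = e * t := by
        have h2 : t * e * t⁻¹ = e := by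
          have h3 : t * e * t⁻¹ = e⁻¹ := by
            rw [hw] at h1
            exact (inv_eq_of_mul_eq_one_right h1).symm
          rw [h3, heinv]
        exact conj_eq_iff.1 h2
      apply htF
      apply hs.le
      refine Oct.mem_of_comm h.rank hs.oct ht2 fun e₁ he₁ => ?_
      by_cases h2 : e₁ ∈ F'
      · exact hcen' t htE' e₁ h2
      · have h3 : e₁ * e ∈ F' := idxF' (hFR (hs.le he₁)) heR h2 heF'
        have h4 := hcen' t htE' _ h3
        have h5 : t * e₁ * e = e₁ * t * e := by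
          calc t * e₁ * e = t * (e₁ * e) := by group
            _ = e₁ * (e * t) := by rw [h4]; group
            _ = e₁ * t * e := by rw [← hcomm]; group
        exact mul_right_cancel h5
    -- all involutions of `R`
    have hinvR : ∀ x ∈ R, x * x = 1 → x ∈ E ∨ x ∈ E' := by
      intro x hx hxx
      by_cases h1 : x ∈ F
      · exact Or.inl (hs.inv x h1 hxx)
      by_cases h2 : x ∈ F'
      · exact Or.inr (hinv' x h2 hxx)
      exfalso
      have h3 : x * t ∈ F := idxF hx htR h1 htF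
      have h4 : x * t ∉ F' := fun h5 => h2 (by simpa using mul_mem h5 (inv_mem htF'))
      have h5 : x * t * e ∈ F' := idxF' (mul_mem hx htR) heR h4 heF'
      have h6 : x * t * e ∈ F := mul_mem h3 (hs.le heE)
      set k := x * t * e with hk
      have hxk : x = k * e * t := by
        rw [hk]
        calc x = x * t * (e * e) * t := by rw [he2, mul_one, mul_assoc, ht2, mul_one]
          _ = x * t * e * e * t := by group
      have hke : e * k = k * e := hs.cen e heE k h6
      have hkt : t * k = k * t := hcen' t htE' k h5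
      have h7 : x * x = (k * k) * w := by
        have h8 : w = e * t * e * t := by rw [hw, htinv]; group
        rw [h8, hxk]
        calc k * e * t * (k * e * t) = k * e * (t * k) * e * t := by group
          _ = k * (e * k) * t * e * t := by rw [hkt]; group
          _ = (k * k) * (e * t * e * t) := by rw [hke]; group
      rw [hxx] at h7
      have h8 : k * k = w := by
        have h9 : k * k = w⁻¹ := (inv_eq_of_mul_eq_one_left h7.symm).symm
        rw [h9, hs.oct.inv hwE]
      rcases hs.sq k h6 (by rw [h8]; exact hwE) with h9 | h9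
      · exact hw1 (by rw [← h8]; exact h9)
      · exact hwc (by rw [← h8]; exact h9)
    have haE' : a ∈ E' := (hinvR a haR (h.oct.sq a haA)).resolve_left fun h1 => haF (hs.le h1)
    have hAE' : A ≤ E' := by
      intro b hb
      rcases hinvR b (hAR hb) (h.oct.sq b hb) with h1 | h1
      · rcases hinvR (a * b) (hAR (mul_mem haA hb)) (h.oct.sq _ (mul_mem haA hb)) with h2 | h2
        · exfalso
          apply haF
          apply hs.le
          have := mul_mem h2 (inv_mem h1)
          simpa using this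
        · have := mul_mem (inv_mem haE') h2
          simpa using this
      · exact h1
    have hAeq : A = E' := Oct.eq_of_le h.oct hoct' hAE'
    have h1 : cj y⁻¹ A = E := cj_inv_eq (hE'.symm.trans hAeq.symm)
    have h2 : cj y⁻¹ A = A := cj_eq_iff.2 (inv_mem (h.norm hyS))
    exact hEA (h1.symm.trans h2)
  refine ⟨hSR.trans hRF, ?_⟩
  intro w hwA hwE s hsS
  have h1 : (S : Subgroup G) ≤ centralizer ({w} : Set G) := by
    rw [hSR, hRF]
    refine sup_le ?_ ?_
    · intro x hx
      rw [mem_centralizer_singleton_iff]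
      exact (hs.cen w hwE x hx).symm
    · rw [zpowers_le, mem_centralizer_singleton_iff]
      exact h.oct.comm haA hwA
  exact ((mem_centralizer_singleton_iff).1 (h1 hsS)).symm

/-- **Lemmas 1, 2, 3 combined.** -/
theorem Hyp.central {S : Sylow 2 G} {A : Subgroup G} (h : Hyp S A) {F E : Subgroup G} (hF : Ess S F)
    (hE : Oct E) (hEF : E ≤ F) (hcen : ∀ e ∈ E, ∀ x ∈ F, e * x = x * e) (hAN : A ≤ normalizer (F : Set G))
    {a : G} (haA : a ∈ A) (haF : a ∉ F) (hFa : ∀ x ∈ F, a * x * a⁻¹ * x⁻¹ ∈ E) (hEA : E ≠ A) :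
    ∀ w ∈ A, w ∈ E → ∀ s ∈ (S : Subgroup G), w * s = s * w := by
  have haS : a ∈ (S : Subgroup G) := h.le haA
  have haN : a ∈ normalizer (F : Set G) := hAN haA
  have hne : E ≠ F := by
    rintro rfl
    obtain ⟨x, hxS, hxE, hx⟩ := h.nsc E hF.lt.le hE
    exact hx (hF.centric ⟨mem_cent_iff.2 hxE, hxS⟩)
  have hnorm : ∀ n ∈ normalizer (F : Set G), ∀ e ∈ E, n * e * n⁻¹ ∈ E := fun n hn e he =>
    oct_norm h.rank hE hEF hcen hn he
  obtain ⟨σ, hσ, hodd, hnt, hinv, κ, hκ, hσκ⟩ := exists_sigma hF haS haN (h.oct.sq a haA) haF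
  have hσE : ∀ x ∈ F, σ * x * σ⁻¹ * x⁻¹ ∈ E := by
    intro x hx
    rw [hσκ x hx]
    set b := κ⁻¹ * a * κ with hb
    have h1 := hnorm κ⁻¹ (inv_mem hκ) _ (hFa _ (mem_norm hκ hx))
    have h2 : κ⁻¹ * (a * (κ * x * κ⁻¹) * a⁻¹ * (κ * x * κ⁻¹)⁻¹) * κ⁻¹⁻¹ = b * x * b⁻¹ * x⁻¹ := by
      rw [hb]; group
    rw [h2] at h1
    have h3 : a * b * x * (a * b)⁻¹ * x⁻¹ =
        (a * (b * x * b⁻¹ * x⁻¹) * a⁻¹) * (a * x * a⁻¹ * x⁻¹) := by group
    rw [h3]
    exact mul_mem (hnorm a haN _ h1) (hFa x hx)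
  obtain ⟨P, c, hs, hσc, hP⟩ := Spl.exists_of h.rank (h.no7 E hE) (S.isPGroup'.to_le hF.lt.le) hE hEF hcen hne
    hσ hodd hσE hnt
  have haP : ∀ p ∈ P, a * p * a⁻¹ ∈ P := norm_P hE hs.leP (hnorm a haN)
    (mem_norm_of_conj (hnorm σ hσ)) (fun x hx => hinv x (hEF hx)) hP
  exact (h.lemTwo hs hF.lt.le hAN hEA haA haF haP (hs.card_eq hF haS haN haF hFa)).2

end Cfsg.Agent.RankThreeFus
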