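import Cfsg.Agent.RankThreeFus.Setup
import Cfsg.Agent.RankThreeFus.Claim

/-!
# S1730, branch (B), (II.3): the quadratic space of `C_S(V)/V`
-/

set_option autoImplicit false
set_option linter.style.haveILetI false

namespace Cfsg.Agent.RankThreeFus.Quo

open Subgroup Cfsg.Agent.RankThreeFus

variable {G : Type*} [Group G] {Q V R : Subgroup G}

/-- `V` is a central elementary subgroup of `Q`, and `R` normalises `Q` and `V`. -/
structure Dat (Q V R : Subgroup G) : Prop where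
  le : V ≤ Q
  sq : ∀ v ∈ V, v * v = 1
  cen : ∀ v ∈ V, ∀ x ∈ Q, v * x = x * v
  nQ : R ≤ normalizer (Q : Set G)
  nV : R ≤ normalizer (V : Set G)

/-- The condition defining the preimage of the relevant part of `Z(Q/V)`. -/
def IsM (Q V : Subgroup G) (x : G) : Prop := x ∈ Q ∧ x * x ∈ V ∧ ∀ y ∈ Q, x * y * x⁻¹ * y⁻¹ ∈ V

/-- The preimage. -/
def MM (h : Dat Q V R) : Subgroup G where
  carrier := {x | IsM Q V x}
  one_mem' := ⟨one_mem _, by rw [one_mul]; exact one_mem _, fun y _ => by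
    have : (1 : G) * y * 1⁻¹ * y⁻¹ = 1 := by group
    rw [this]; exact one_mem _⟩
  mul_mem' := by
    rintro a b ⟨ha, ha2, hac⟩ ⟨hb, hb2, hbc⟩
    refine ⟨mul_mem ha hb, ?_, ?_⟩
    · have hc := hbc a ha
      have e : a * b * (a * b) = (a * (b * a * b⁻¹ * a⁻¹)) * a * (b * b) := by group
      rw [e, ← h.cen _ hc a ha]
      have e2 : b * a * b⁻¹ * a⁻¹ * a * a * (b * b) = (b * a * b⁻¹ * a⁻¹) * (a * a) * (b * b) := by group
      rw [e2]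
      exact mul_mem (mul_mem hc ha2) hb2
    · intro y hy
      have hc := hbc y hy
      have e : a * b * y * (a * b)⁻¹ * y⁻¹ = (a * (b * y * b⁻¹ * y⁻¹)) * (y * a⁻¹ * y⁻¹) := by group
      rw [e, ← h.cen _ hc a ha]
      have e2 : b * y * b⁻¹ * y⁻¹ * a * (y * a⁻¹ * y⁻¹) = (b * y * b⁻¹ * y⁻¹) * (a * y * a⁻¹ * y⁻¹) := by group
      rw [e2]
      exact mul_mem hc (hac y hy)
  inv_mem' := by
    rintro a ⟨ha, ha2, hac⟩
    refine ⟨inv_mem ha, ?_, ?_⟩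
    · rw [← mul_inv_rev]; exact inv_mem ha2
    · intro y hy
      have hc := hac y hy
      have e : a⁻¹ * y * a⁻¹⁻¹ * y⁻¹ = a⁻¹ * ((a * y * a⁻¹ * y⁻¹)⁻¹ * a) := by group
      rw [e, h.cen _ (inv_mem hc) a ha, inv_mul_cancel_left]
      exact inv_mem hc

theorem mem_MM {h : Dat Q V R} {x : G} : x ∈ MM h ↔ IsM Q V x := Iff.rfl

theorem Dat.oneM (h : Dat Q V R) : IsM Q V 1 := (MM h).one_mem

theorem Dat.mulM (h : Dat Q V R) {x y : G} (hx : IsM Q V x) (hy : IsM Q V y) : IsM Q V (x * y) :=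
  (MM h).mul_mem hx hy

theorem Dat.invM (h : Dat Q V R) {x : G} (hx : IsM Q V x) : IsM Q V x⁻¹ := (MM h).inv_mem hx

theorem MM_le (h : Dat Q V R) : MM h ≤ Q := fun _ hx => hx.1

theorem le_MM (h : Dat Q V R) : V ≤ MM h := fun v hv =>
  ⟨h.le hv, mul_mem hv hv, fun y hy => by
    have : v * y * v⁻¹ * y⁻¹ = 1 := by rw [h.cen v hv y hy]; group
    rw [this]; exact one_mem _⟩

theorem norm_MM (_h : Dat Q V R) {r : G} (hr : r ∈ normalizer (Q : Set G)) (hr' : r ∈ normalizer (V : Set G))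
    {x : G} (hx : IsM Q V x) : IsM Q V (r * x * r⁻¹) := by
  refine ⟨mem_norm hr hx.1, ?_, ?_⟩
  · have e : r * x * r⁻¹ * (r * x * r⁻¹) = r * (x * x) * r⁻¹ := by group
    rw [e]
    exact mem_norm hr' hx.2.1
  · intro y hy
    have h1 := hx.2.2 _ (mem_norm' hr hy)
    have e : r * x * r⁻¹ * y * (r * x * r⁻¹)⁻¹ * y⁻¹ = r * (x * (r⁻¹ * y * r) * x⁻¹ * (r⁻¹ * y * r)⁻¹) * r⁻¹ := by
      group
    rw [e]
    exact mem_norm hr' h1

instance normal (h : Dat Q V R) : (V.subgroupOf (MM h)).Normal := by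
  constructor
  rintro ⟨v, hv⟩ hv' ⟨x, hx⟩
  have hv'' : v ∈ V := hv'
  change x * v * x⁻¹ ∈ V
  rw [← h.cen v hv'' x hx.1, mul_inv_cancel_right]
  exact hv''

/-- `M = (preimage)/V`, written additively. -/
def TT (h : Dat Q V R) : Type _ := Additive (MM h ⧸ V.subgroupOf (MM h))

/-- The class of an element. -/
def mkT (h : Dat Q V R) (x : G) (hx : IsM Q V x) : TT h :=
  Additive.ofMul (QuotientGroup.mk (⟨x, hx⟩ : MM h))

theorem mkT_surj (h : Dat Q V R) (t : TT h) : ∃ x, ∃ hx : IsM Q V x, mkT h x hx = t := by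
  obtain ⟨⟨x, hx⟩, hxt⟩ := QuotientGroup.mk_surjective (Additive.toMul t : MM h ⧸ V.subgroupOf (MM h))
  exact ⟨x, hx, hxt⟩

theorem mkT_eq (h : Dat Q V R) {x y : G} {hx : IsM Q V x} {hy : IsM Q V y} :
    mkT h x hx = mkT h y hy ↔ x⁻¹ * y ∈ V := by
  rw [mkT, mkT]
  change (QuotientGroup.mk (⟨x, hx⟩ : MM h) : MM h ⧸ V.subgroupOf (MM h)) = QuotientGroup.mk ⟨y, hy⟩ ↔ _
  rw [QuotientGroup.eq]
  rfl

instance (h : Dat Q V R) : AddCommGroup (TT h) :=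
  { (inferInstance : AddGroup (Additive (MM h ⧸ V.subgroupOf (MM h)))) with
    add_comm := by
      intro s t
      obtain ⟨x, hx, rfl⟩ := mkT_surj h s
      obtain ⟨y, hy, rfl⟩ := mkT_surj h t
      change mkT h (x * y) (h.mulM hx hy) = mkT h (y * x) (h.mulM hy hx)
      rw [mkT_eq]
      have e : (x * y)⁻¹ * (y * x) = y⁻¹ * x⁻¹ * y⁻¹⁻¹ * x⁻¹⁻¹ := by group
      rw [e]
      exact (h.invM hy).2.2 _ (inv_mem hx.1) }

theorem mkT_add (h : Dat Q V R) {x y : G} (hx : IsM Q V x) (hy : IsM Q V y) :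
    mkT h x hx + mkT h y hy = mkT h (x * y) (h.mulM hx hy) := rfl

theorem mkT_zero (h : Dat Q V R) : mkT h 1 h.oneM = 0 := rfl

theorem mkT_eq_zero (h : Dat Q V R) {x : G} {hx : IsM Q V x} : mkT h x hx = 0 ↔ x ∈ V := by
  rw [← mkT_zero, mkT_eq, mul_one, inv_mem_iff]

/-- The action of `R`. -/
instance (h : Dat Q V R) : SMul R (TT h) :=
  ⟨fun r t => Quotient.liftOn' (Additive.toMul t : MM h ⧸ V.subgroupOf (MM h))
    (fun x => mkT h (r * x * (r : G)⁻¹) (norm_MM h (h.nQ r.2) (h.nV r.2) x.2)) (by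
      rintro ⟨x, hx⟩ ⟨y, hy⟩ hxy
      rw [mkT_eq]
      have hxy' : x⁻¹ * y ∈ V := (QuotientGroup.leftRel_apply (s := V.subgroupOf (MM h))).1 hxy
      have e : ((r : G) * x * (r : G)⁻¹)⁻¹ * (r * y * (r : G)⁻¹) = r * (x⁻¹ * y) * (r : G)⁻¹ := by group
      change ((r : G) * x * (r : G)⁻¹)⁻¹ * (r * y * (r : G)⁻¹) ∈ V
      rw [e]
      exact mem_norm (h.nV r.2) hxy')⟩

theorem smul_mkT (h : Dat Q V R) (r : R) {x : G} (hx : IsM Q V x) :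
    r • mkT h x hx = mkT h (r * x * (r : G)⁻¹) (norm_MM h (h.nQ r.2) (h.nV r.2) hx) := rfl

theorem mkT_congr (h : Dat Q V R) {x y : G} {hx : IsM Q V x} (e : x = y) :
    mkT h x hx = mkT h y (e ▸ hx) := by
  subst e; rfl

instance (h : Dat Q V R) : DistribMulAction R (TT h) where
  one_smul t := by
    obtain ⟨x, hx, rfl⟩ := mkT_surj h t
    rw [smul_mkT, mkT_eq]
    have e : (((1 : R) : G) * x * ((1 : R) : G)⁻¹)⁻¹ * x = 1 := by
      rw [OneMemClass.coe_one]; group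
    rw [e]; exact one_mem _
  mul_smul r s t := by
    obtain ⟨x, hx, rfl⟩ := mkT_surj h t
    rw [smul_mkT, smul_mkT, smul_mkT, mkT_eq]
    have e : (((r * s : R) : G) * x * ((r * s : R) : G)⁻¹)⁻¹ * (r * (s * x * (s : G)⁻¹) * (r : G)⁻¹) = 1 := by
      rw [Subgroup.coe_mul]; group
    rw [e]; exact one_mem _
  smul_zero r := by
    rw [← mkT_zero, smul_mkT, mkT_eq]
    have e : ((r : G) * 1 * (r : G)⁻¹)⁻¹ * 1 = 1 := by group
    rw [e]; exact one_mem _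
  smul_add r s t := by
    obtain ⟨x, hx, rfl⟩ := mkT_surj h s
    obtain ⟨y, hy, rfl⟩ := mkT_surj h t
    rw [mkT_add, smul_mkT, smul_mkT, smul_mkT, mkT_add, mkT_eq]
    have e : ((r : G) * (x * y) * (r : G)⁻¹)⁻¹ * (r * x * (r : G)⁻¹ * (r * y * (r : G)⁻¹)) = 1 := by group
    rw [e]; exact one_mem _

/-- `V`, written additively. -/
def WW (_ : Dat Q V R) : Type _ := Additive V

/-- The element of `WW`. -/
def mkW (h : Dat Q V R) (v : G) (hv : v ∈ V) : WW h := Additive.ofMul (⟨v, hv⟩ : V)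

theorem mkW_surj (h : Dat Q V R) (w : WW h) : ∃ v, ∃ hv : v ∈ V, mkW h v hv = w :=
  ⟨(show V from w).1, (show V from w).2, rfl⟩

theorem mkW_eq (h : Dat Q V R) {x y : G} {hx : x ∈ V} {hy : y ∈ V} : mkW h x hx = mkW h y hy ↔ x = y := by
  constructor
  · intro e
    exact congrArg (fun w : WW h => (show V from w).1) e
  · rintro rfl; rfl

instance (h : Dat Q V R) : AddCommGroup (WW h) :=
  { (inferInstance : AddGroup (Additive V)) with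
    add_comm := by
      intro s t
      obtain ⟨x, hx, rfl⟩ := mkW_surj h s
      obtain ⟨y, hy, rfl⟩ := mkW_surj h t
      change mkW h (x * y) (mul_mem hx hy) = mkW h (y * x) (mul_mem hy hx)
      rw [mkW_eq]
      exact h.cen x hx y (h.le hy) }

theorem mkW_add (h : Dat Q V R) {x y : G} (hx : x ∈ V) (hy : y ∈ V) :
    mkW h x hx + mkW h y hy = mkW h (x * y) (mul_mem hx hy) := rfl

theorem mkW_zero (h : Dat Q V R) : mkW h 1 (one_mem _) = 0 := rfl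

theorem mkW_eq_zero (h : Dat Q V R) {x : G} {hx : x ∈ V} : mkW h x hx = 0 ↔ x = 1 := by
  rw [← mkW_zero, mkW_eq]

instance (h : Dat Q V R) : SMul R (WW h) :=
  ⟨fun r w => mkW h (r * (show V from w).1 * (r : G)⁻¹) (mem_norm (h.nV r.2) (show V from w).2)⟩

theorem smul_mkW (h : Dat Q V R) (r : R) {x : G} (hx : x ∈ V) :
    r • mkW h x hx = mkW h (r * x * (r : G)⁻¹) (mem_norm (h.nV r.2) hx) := rfl

instance (h : Dat Q V R) : DistribMulAction R (WW h) where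
  one_smul t := by
    obtain ⟨x, hx, rfl⟩ := mkW_surj h t
    rw [smul_mkW, mkW_eq, OneMemClass.coe_one]
    group
  mul_smul r s t := by
    obtain ⟨x, hx, rfl⟩ := mkW_surj h t
    rw [smul_mkW, smul_mkW, smul_mkW, mkW_eq, Subgroup.coe_mul]
    group
  smul_zero r := by
    rw [← mkW_zero, smul_mkW, mkW_eq]
    group
  smul_add r s t := by
    obtain ⟨x, hx, rfl⟩ := mkW_surj h s
    obtain ⟨y, hy, rfl⟩ := mkW_surj h t
    rw [mkW_add, smul_mkW, smul_mkW, smul_mkW, mkW_add, mkW_eq]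
    group

theorem sq_aux (h : Dat Q V R) {x y : G} (hx : x ∈ Q) (hxy : x⁻¹ * y ∈ V) : x * x = y * y := by
  have hy : y = x * (x⁻¹ * y) := by group
  set v := x⁻¹ * y with hv
  have h1 := h.cen v hxy x hx
  calc x * x = x * x * (v * v) := by rw [h.sq v hxy, mul_one]
    _ = x * (x * v) * v := by group
    _ = x * (v * x) * v := by rw [h1]
    _ = (x * v) * (x * v) := by group
    _ = y * y := by rw [← hy]

theorem comm_aux (h : Dat Q V R) {x y x' y' : G} (hx : x ∈ Q) (hy : y ∈ Q) (hxx : x⁻¹ * x' ∈ V)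
    (hyy : y⁻¹ * y' ∈ V) : x * y * x⁻¹ * y⁻¹ = x' * y' * x'⁻¹ * y'⁻¹ := by
  have hx' : x' = x * (x⁻¹ * x') := by group
  have hy' : y' = y * (y⁻¹ * y') := by group
  set v := x⁻¹ * x' with hv
  set w := y⁻¹ * y' with hw
  rw [hx', hy']
  have h1 := h.cen v hxx y hy
  have h2 := h.cen w hyy x hx
  have h3 := h.cen v hxx w (h.le hyy)
  have h4 := h.cen w hyy v (h.le hxx)
  have e1 : x * v * (y * w) * (x * v)⁻¹ * (y * w)⁻¹ = x * (v * y) * w * v⁻¹ * x⁻¹ * w⁻¹ * y⁻¹ := by group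
  have e2 : x * (y * v) * w * v⁻¹ * x⁻¹ * w⁻¹ * y⁻¹ = x * y * (v * w) * v⁻¹ * x⁻¹ * w⁻¹ * y⁻¹ := by group
  have e3 : x * y * (w * v) * v⁻¹ * x⁻¹ * w⁻¹ * y⁻¹ = x * y * (w * x⁻¹) * w⁻¹ * y⁻¹ := by group
  have h5 := h.cen w hyy x⁻¹ (inv_mem hx)
  have e4 : x * y * (x⁻¹ * w) * w⁻¹ * y⁻¹ = x * y * x⁻¹ * y⁻¹ := by group
  rw [e1, h1, e2, h3, e3, h5, e4]

/-- The quadratic map. -/
def qq (h : Dat Q V R) (t : TT h) : WW h :=
  Quotient.liftOn' (Additive.toMul t : MM h ⧸ V.subgroupOf (MM h)) (fun x => mkW h (x * x) x.2.2.1) (by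
    rintro ⟨x, hx⟩ ⟨y, hy⟩ hxy
    rw [mkW_eq]
    have hxy' : x⁻¹ * y ∈ V := (QuotientGroup.leftRel_apply (s := V.subgroupOf (MM h))).1 hxy
    exact sq_aux h hx.1 hxy')

theorem qq_mk (h : Dat Q V R) {x : G} (hx : IsM Q V x) : qq h (mkT h x hx) = mkW h (x * x) hx.2.1 := rfl

/-- The bilinear map. -/
def bb (h : Dat Q V R) (s t : TT h) : WW h :=
  Quotient.liftOn₂' (Additive.toMul s : MM h ⧸ V.subgroupOf (MM h))
    (Additive.toMul t : MM h ⧸ V.subgroupOf (MM h))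
    (fun x y => mkW h (x * y * (x : G)⁻¹ * (y : G)⁻¹) (x.2.2.2 y y.2.1)) (by
    rintro ⟨x, hx⟩ ⟨y, hy⟩ ⟨x', hx'⟩ ⟨y', hy'⟩ hxx hyy
    rw [mkW_eq]
    have hxx' : x⁻¹ * x' ∈ V := (QuotientGroup.leftRel_apply (s := V.subgroupOf (MM h))).1 hxx
    have hyy' : y⁻¹ * y' ∈ V := (QuotientGroup.leftRel_apply (s := V.subgroupOf (MM h))).1 hyy
    exact comm_aux h hx.1 hy.1 hxx' hyy')

theorem bb_mk (h : Dat Q V R) {x y : G} (hx : IsM Q V x) (hy : IsM Q V y) :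
    bb h (mkT h x hx) (mkT h y hy) = mkW h (x * y * x⁻¹ * y⁻¹) (hx.2.2 y hy.1) := rfl

theorem quad (h : Dat Q V R) (h4 : Nat.card V = 4) (h3 : IsPGroup 3 R)
    (nt : ∃ r ∈ R, ∃ v ∈ V, r * v * r⁻¹ ≠ v)
    (sing : ∀ x, IsM Q V x → ∀ y, IsM Q V y → x * x = 1 → y * y = 1 → x * y = y * x → x ∉ V → y ∉ V →
      x⁻¹ * y ∈ V) : Claim.Quad (TT h) (WW h) R (qq h) (bb h) where
  two := by
    intro t
    obtain ⟨x, hx, rfl⟩ := mkT_surj h t
    rw [mkT_add, mkT_eq_zero]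
    exact hx.2.1
  two' := by
    intro t
    obtain ⟨x, hx, rfl⟩ := mkW_surj h t
    rw [mkW_add, mkW_eq_zero]
    exact h.sq x hx
  card := h4
  add := by
    intro s t
    obtain ⟨x, hx, rfl⟩ := mkT_surj h s
    obtain ⟨y, hy, rfl⟩ := mkT_surj h t
    rw [mkT_add, qq_mk, qq_mk, qq_mk, bb_mk, mkW_add, mkW_add, mkW_eq]
    have hc : x⁻¹ * y * x⁻¹⁻¹ * y⁻¹ ∈ V := (h.invM hx).2.2 y hy.1
    have h1 := h.cen _ hc y hy.1
    have h2 : x * y * x⁻¹ * y⁻¹ = (x⁻¹ * y * x⁻¹⁻¹ * y⁻¹)⁻¹ := by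
      have := h.cen _ hc x hx.1
      calc x * y * x⁻¹ * y⁻¹ = x * (x⁻¹ * y * x⁻¹⁻¹ * y⁻¹)⁻¹ * x⁻¹ := by group
        _ = (x⁻¹ * y * x⁻¹⁻¹ * y⁻¹)⁻¹ * x * x⁻¹ := by rw [h.cen _ (inv_mem hc) x hx.1]
        _ = _ := by group
    have h3 : (x⁻¹ * y * x⁻¹⁻¹ * y⁻¹)⁻¹ = x⁻¹ * y * x⁻¹⁻¹ * y⁻¹ := inv_eq_of_mul_eq_one_left (h.sq _ hc)
    rw [h2, h3]
    calc x * y * (x * y) = (x * x) * ((x⁻¹ * y * x⁻¹⁻¹ * y⁻¹) * y) * y := by group
      _ = (x * x) * (y * (x⁻¹ * y * x⁻¹⁻¹ * y⁻¹)) * y := by rw [h1]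
      _ = (x * x) * y * ((x⁻¹ * y * x⁻¹⁻¹ * y⁻¹) * y) := by group
      _ = (x * x) * y * (y * (x⁻¹ * y * x⁻¹⁻¹ * y⁻¹)) := by rw [h1]
      _ = x * x * (y * y) * (x⁻¹ * y * x⁻¹⁻¹ * y⁻¹) := by group
  ladd := by
    intro s t u
    obtain ⟨x, hx, rfl⟩ := mkT_surj h s
    obtain ⟨y, hy, rfl⟩ := mkT_surj h t
    obtain ⟨w, hw, rfl⟩ := mkT_surj h u
    rw [mkT_add, bb_mk, bb_mk, bb_mk, mkW_add, mkW_eq]
    have hc := hy.2.2 w hw.1
    have hc' := hx.2.2 w hw.1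
    have h1 := h.cen _ hc x hx.1
    have h2 := h.cen _ hc _ (h.le hc')
    calc x * y * w * (x * y)⁻¹ * w⁻¹ = (x * (y * w * y⁻¹ * w⁻¹)) * (w * x⁻¹ * w⁻¹) := by group
      _ = ((y * w * y⁻¹ * w⁻¹) * x) * (w * x⁻¹ * w⁻¹) := by rw [h1]
      _ = (y * w * y⁻¹ * w⁻¹) * (x * w * x⁻¹ * w⁻¹) := by group
      _ = _ := h2
  sing := by
    intro s t hs ht hst hqs hqt hb
    obtain ⟨x, hx, rfl⟩ := mkT_surj h s
    obtain ⟨y, hy, rfl⟩ := mkT_surj h t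
    rw [qq_mk, mkW_eq_zero] at hqs hqt
    rw [bb_mk, mkW_eq_zero] at hb
    apply hst
    rw [mkT_eq]
    refine sing x hx y hy hqs hqt ?_ (fun e => hs (mkT_eq_zero h |>.2 e)) (fun e => ht (mkT_eq_zero h |>.2 e))
    exact mul_inv_eq_iff_eq_mul.1 (mul_inv_eq_one.1 hb)
  equiv := by
    intro r t
    obtain ⟨x, hx, rfl⟩ := mkT_surj h t
    rw [smul_mkT, qq_mk, qq_mk, smul_mkW, mkW_eq]
    group
  isP := h3
  nt := by
    obtain ⟨r, hr, v, hv, hne⟩ := nt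
    refine ⟨⟨r, hr⟩, mkW h v hv, ?_⟩
    rw [smul_mkW, ne_eq, mkW_eq]
    exact hne

/-- The claim of (II.3) in terms of groups. -/
theorem exists_inv [Finite G] (h : Dat Q V R) (h4 : Nat.card V = 4) (h3 : IsPGroup 3 R)
    (nt : ∃ r ∈ R, ∃ v ∈ V, r * v * r⁻¹ ≠ v)
    (sing : ∀ x, IsM Q V x → ∀ y, IsM Q V y → x * x = 1 → y * y = 1 → x * y = y * x → x ∉ V → y ∉ V →
      x⁻¹ * y ∈ V) {a : G} (ha : IsM Q V a) (haa : a * a = 1) (haV : a ∉ V) :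
    ∃ y, IsM Q V y ∧ y * y = 1 ∧ y ∉ V ∧ (∀ r ∈ R, y⁻¹ * (r * y * r⁻¹) ∈ V) ∧
      ∀ y', IsM Q V y' → y' ∉ V → (∀ r ∈ R, y'⁻¹ * (r * y' * r⁻¹) ∈ V) → y⁻¹ * y' ∈ V := by
  have hQ := quad h h4 h3 nt sing
  haveI : Finite (TT h) := (inferInstance : Finite (MM h ⧸ V.subgroupOf (MM h)))
  obtain ⟨t, ht0, hqt, ht⟩ := hQ.exists_fix (x := mkT h a ha) (fun e => haV (mkT_eq_zero h |>.1 e)) (by
    rw [qq_mk, mkW_eq_zero]; exact haa)
  obtain ⟨y, hy, rfl⟩ := mkT_surj h t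
  rw [qq_mk, mkW_eq_zero] at hqt
  have hfix : ∀ y', ∀ hy' : IsM Q V y', (∀ r ∈ R, y'⁻¹ * (r * y' * r⁻¹) ∈ V) ↔
      ∀ r : R, r • mkT h y' hy' = mkT h y' hy' := by
    intro y' hy'
    constructor
    · intro h1 r
      rw [smul_mkT]
      exact ((mkT_eq h).2 (h1 r r.2)).symm
    · intro h1 r hr
      have := h1 ⟨r, hr⟩
      rw [smul_mkT] at this
      exact (mkT_eq h).1 this.symm
  refine ⟨y, hy, hqt, fun e => ht0 (mkT_eq_zero h |>.2 e), (hfix y hy).2 ht, ?_⟩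
  intro y' hy' hyV' hfy'
  exact (mkT_eq h).1 (hQ.fix_unique ht ((hfix y' hy').1 hfy') ht0 (fun e => hyV' (mkT_eq_zero h |>.1 e)))

end Cfsg.Agent.RankThreeFus.Quo
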