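import Cfsg.Agent.RankThreeFus.TwoTwo
import Cfsg.Agent.RankThreeFus.LemTwo
import Cfsg.Agent.RankThreeFus.Quo
import Cfsg.Agent.Lib.NormalAbelian
import Cfsg.Agent.Lib.SylowNormalInf

/-!
# S1730, branch (B), (II.3): an elementary abelian normal subgroup whose automizer moves `z`
-/

set_option autoImplicit false
set_option linter.style.haveILetI false

namespace Cfsg.Agent.RankThreeFus

open Subgroup Cfsg.Agent.Lib.GoldschmidtFusion Cfsg.Agent.StdL2.G23Aut

variable {G : Type*} [Group G] {S : Sylow 2 G} {A : Subgroup G} {z : G}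

/-! ### Four-groups -/

theorem four_cases {V : Subgroup G} [Finite V] (h4 : Nat.card V = 4) (hsq : ∀ v ∈ V, v * v = 1) {x y : G}
    (hx : x ∈ V) (hy : y ∈ V) (hx1 : x ≠ 1) (hy1 : y ≠ 1) (hxy : y ≠ x) {w : G} (hw : w ∈ V) :
    w = 1 ∨ w = x ∨ w = y ∨ w = x * y := by
  have hle : zpowers x ≤ V := by rwa [zpowers_le]
  have h2 : Nat.card (zpowers x) = 2 := by
    rw [Nat.card_zpowers]
    exact orderOf_eq_prime (by rw [pow_two]; exact hsq x hx) hx1
  have hnot : ∀ u ∈ V, u ≠ 1 → u ≠ x → u ∉ zpowers x := by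
    intro u _ h1 h2 h3
    rcases zpowers_cases (hsq x hx) u h3 with h | h
    · exact h1 h
    · exact h2 h
  by_cases hw1 : w = 1
  · exact Or.inl hw1
  by_cases hwx : w = x
  · exact Or.inr (Or.inl hwx)
  have h3 := mul_mem_of_index_two hle (by rw [h4, h2]) hw hy (hnot w hw hw1 hwx) (hnot y hy hy1 hxy)
  rcases zpowers_cases (hsq x hx) _ h3 with h | h
  · right; right; left
    have := eq_inv_of_mul_eq_one_left h
    rw [this]
    exact inv_eq_of_mul_eq_one_left (hsq y hy)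
  · right; right; right
    have : w = x * y⁻¹ := eq_mul_inv_of_mul_eq h
    rw [this, inv_eq_of_mul_eq_one_left (hsq y hy)]

section

variable [Finite G]

/-- There is an `S`-invariant plane of `A` through `z`. -/
theorem Hyp.exists_plane (h : Hyp S A) (hz : z ∈ UU S A) :
    ∃ u ∈ A, u ≠ 1 ∧ u ≠ z ∧ ∀ s ∈ (S : Subgroup G), s * u * s⁻¹ = u ∨ s * u * s⁻¹ = z * u := by
  haveI : Fact (Nat.Prime 2) := ⟨Nat.prime_two⟩
  haveI : Group.IsNilpotent (S : Subgroup G) := S.isPGroup'.isNilpotent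
  have hzz : z * z = 1 := h.U_sq hz
  have hzle : zpowers z ≤ A := by rw [zpowers_le]; exact hz.1
  have hAn : (A.subgroupOf (S : Subgroup G)).Normal := (normal_subgroupOf_iff_le_normalizer h.le).2 h.norm
  have hZn : ((zpowers z).subgroupOf (S : Subgroup G)).Normal := by
    rw [normal_subgroupOf_iff_le_normalizer (hzle.trans h.le)]
    intro s hs
    apply mem_norm_of_conj
    intro x hx
    rcases zpowers_cases hzz x hx with rfl | rfl
    · simp
    · rw [U_conj hz hs]; exact hx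
  have hnle : ¬ A.subgroupOf (S : Subgroup G) ≤ (zpowers z).subgroupOf (S : Subgroup G) := by
    intro hle
    have h1 : A ≤ zpowers z := fun a ha => hle (show (⟨a, h.le ha⟩ : (S : Subgroup G)) ∈ _ from ha)
    have h2 := Subgroup.card_le_of_le h1
    rw [h.oct.card, Nat.card_zpowers] at h2
    have h3 := orderOf_le_of_pow_eq_one (n := 2) (by norm_num) (by rw [pow_two]; exact hzz : z ^ 2 = 1)
    omega
  obtain ⟨⟨u, huS⟩, huA, huz, hu⟩ := Cfsg.Agent.Lib.NormalAbelian.exists_mem_not_mem_central_mod hZn hAn hnle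
  have huA' : u ∈ A := huA
  have huz' : u ∉ zpowers z := huz
  refine ⟨u, huA', fun e => huz' (by rw [e]; exact one_mem _), fun e => huz' (by rw [e]; exact mem_zpowers z),
    ?_⟩
  intro s hs
  have h1 : u * s * u⁻¹ * s⁻¹ ∈ zpowers z := hu ⟨s, hs⟩
  have hsz := U_comm hz hs
  rcases zpowers_cases hzz _ h1 with h2 | h2
  · left
    have h3 : u * s = s * u := by
      have := mul_inv_eq_one.1 h2
      have h4 := mul_inv_eq_iff_eq_mul.1 this
      exact h4
    rw [← h3]; group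
  · right
    have h3 : s * u⁻¹ * s⁻¹ = u⁻¹ * z := by rw [← h2]; group
    have h4 : s * u * s⁻¹ = (s * u⁻¹ * s⁻¹)⁻¹ := by group
    rw [h4, h3, mul_inv_rev, inv_inv, inv_eq_of_mul_eq_one_left hzz]

/-- The dichotomy replacing the case division of (II.3). -/
theorem Hyp.norm_or (h : Hyp S A) (hz : z ∈ UU S A) {F V : Subgroup G} (hFS : F ≤ S)
    (hAF : A ≤ F) (hVA : V ≤ A) (hVc : ∀ v ∈ V, ∀ x ∈ F, v * x = x * v) (hV4 : Nat.card V = 4) (hzV : z ∈ V)
    (hz1 : z ≠ 1) {n : G} (hn : n ∈ normalizer (F : Set G)) (hnz : n * z * n⁻¹ ≠ z)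
    (hnA : n ∉ normalizer (A : Set G)) : (S : Subgroup G) ≤ normalizer (V : Set G) := by
  obtain ⟨u, huA, hu1, huz, hu⟩ := h.exists_plane hz
  have hzz : z * z = 1 := h.U_sq hz
  have huu : u * u = 1 := h.oct.sq u huA
  have hVsq : ∀ v ∈ V, v * v = 1 := fun v hv => h.oct.sq v (hVA hv)
  by_cases huV : u ∈ V
  · intro s hs
    apply mem_norm_of_conj
    intro x hx
    have hsz := U_conj hz hs
    have hsu : s * u * s⁻¹ ∈ V := by
      rcases hu s hs with e | e
      · rw [e]; exact huV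
      · rw [e]; exact mul_mem hzV huV
    rcases four_cases hV4 hVsq hzV huV hz1 hu1 huz hx with rfl | rfl | rfl | rfl
    · simp
    · rw [hsz]; exact hx
    · exact hsu
    · have e : s * (z * u) * s⁻¹ = (s * z * s⁻¹) * (s * u * s⁻¹) := by group
      rw [e, hsz]
      exact mul_mem hzV hsu
  · exfalso
    apply hnA
    -- every element of `F` acts on `A` modulo `z` trivially
    have key : ∀ f ∈ F, ∀ a ∈ A, f * a * f⁻¹ = a ∨ f * a * f⁻¹ = z * a := by
      intro f hf a ha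
      by_cases haV : a ∈ V
      · left; rw [← hVc a haV f hf]; group
      · have h1 : a * u ∈ V := mul_mem_of_index_two hVA (by rw [hV4, h.oct.card]) ha huA haV huV
        have h2 : a = (a * u) * u := by rw [mul_assoc, huu, mul_one]
        have h3 := hVc _ h1 f hf
        have h4 : f * a * f⁻¹ = (a * u) * (f * u * f⁻¹) := by
          calc f * a * f⁻¹ = f * ((a * u) * u) * f⁻¹ := by rw [← h2]
            _ = (f * (a * u)) * u * f⁻¹ := by group
            _ = ((a * u) * f) * u * f⁻¹ := by rw [← h3]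
            _ = (a * u) * (f * u * f⁻¹) := by group
        rcases hu f (hFS hf) with e | e
        · left; rw [h4, e, ← h2]
        · right
          rw [h4, e, ← mul_assoc, ← h.oct.comm hz.1 (hVA h1), mul_assoc, ← h2]
    rw [← cj_eq_iff]
    refine Oct.eq_of_comm h.rank (RankThreeFus.Oct.cj h.oct n) h.oct ?_
    rintro _ ⟨a', ha', rfl⟩ a ha
    change n * a' * n⁻¹ * a = a * (n * a' * n⁻¹)
    set x := n * a' * n⁻¹ with hx
    have hxF : x ∈ F := mem_norm hn (hAF ha')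
    have hyF : n⁻¹ * a * n ∈ F := mem_norm' hn (hAF ha)
    rcases key x hxF a ha with e | e
    · exact conj_eq_iff.1 e
    · exfalso
      -- `x a x⁻¹ = z a`
      have haa : a⁻¹ = a := h.oct.inv ha
      have h2 : a * x * a⁻¹ = z * x := by
        have hzi : z⁻¹ = z := inv_eq_of_mul_eq_one_left hzz
        have h5 : a * x = z * (x * a) := by
          have h6 : x * a = z * a * x := by rw [← e]; group
          rw [h6]
          calc a * x = (z * z) * (a * x) := by rw [hzz, one_mul]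
            _ = z * (z * a * x) := by group
        rw [h5]; group
      rcases key _ hyF a' ha' with e' | e'
      · have h3 : a * x * a⁻¹ = x := by
          have : a * x * a⁻¹ = n * ((n⁻¹ * a * n) * a' * (n⁻¹ * a * n)⁻¹) * n⁻¹ := by rw [hx]; group
          rw [this, e']
        rw [h2] at h3
        exact hz1 (mul_eq_right.1 h3)
      · have h3 : a * x * a⁻¹ = (n * z * n⁻¹) * x := by
          have : a * x * a⁻¹ = n * ((n⁻¹ * a * n) * a' * (n⁻¹ * a * n)⁻¹) * n⁻¹ := by rw [hx]; group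
          rw [this, e', hx]; group
        rw [h2] at h3
        exact hnz (mul_right_cancel h3).symm

/-- `Q = C_S(V)`. -/
abbrev QV (S : Sylow 2 G) (V : Subgroup G) : Subgroup G := (S : Subgroup G) ⊓ centralizer (V : Set G)

omit [Finite G] in
theorem mem_QV {V : Subgroup G} {x : G} : x ∈ QV S V ↔ x ∈ (S : Subgroup G) ∧ ∀ v ∈ V, x * v = v * x := by
  rw [QV, mem_inf, mem_cent_iff]

/-- Frattini argument. -/
theorem exists_frattini {V : Subgroup G} (hSV : (S : Subgroup G) ≤ normalizer (V : Set G)) {n : G}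
    (hn : n ∈ normalizer (V : Set G)) : ∃ m ∈ normalizer (V : Set G), m ∈ normalizer (QV S V : Set G) ∧
      ∀ v ∈ V, m * v * m⁻¹ = n * v * n⁻¹ := by
  haveI : Fact (Nat.Prime 2) := ⟨Nat.prime_two⟩
  have hCn : ((centralizer (V : Set G)).subgroupOf (normalizer (V : Set G))).Normal :=
    (normal_subgroupOf_iff_le_normalizer (centralizer_le_normalizer _)).2 (by
      intro g hg
      apply mem_norm_of_conj
      intro x hx
      rw [mem_cent_iff] at hx ⊢
      intro v hv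
      have h1 := hx _ (mem_norm' hg hv)
      calc g * x * g⁻¹ * v = g * (x * (g⁻¹ * v * g)) * g⁻¹ := by group
        _ = g * ((g⁻¹ * v * g) * x) * g⁻¹ := by rw [h1]
        _ = v * (g * x * g⁻¹) := by group)
  have hQi : ¬ 2 ∣ (QV S V).relIndex (centralizer (V : Set G)) := by
    have h1 := Cfsg.Agent.Lib.SylowNormalInf.not_dvd_relIndex (S.subtype hSV)
      ((centralizer (V : Set G)).subgroupOf (normalizer (V : Set G)))
    rw [Sylow.coe_subtype, relIndex_subgroupOf (centralizer_le_normalizer _)] at h1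
    rwa [QV, inf_relIndex_right]
  have hQp : IsPGroup 2 (QV S V) := S.isPGroup'.to_le inf_le_left
  have hD : cj n (QV S V) ≤ centralizer (V : Set G) := by
    rintro _ ⟨x, hx, rfl⟩
    have hx' := (mem_QV.1 hx).2
    rw [mem_cent_iff]
    intro v hv
    change n * x * n⁻¹ * v = v * (n * x * n⁻¹)
    have h1 := hx' _ (mem_norm' hn hv)
    calc n * x * n⁻¹ * v = n * (x * (n⁻¹ * v * n)) * n⁻¹ := by group
        _ = n * ((n⁻¹ * v * n) * x) * n⁻¹ := by rw [h1]
        _ = v * (n * x * n⁻¹) := by group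
  obtain ⟨c, hc, hle⟩ := exists_conj_le_in hQp hQi hD (hQp.map _)
  refine ⟨c * n, mul_mem (centralizer_le_normalizer _ hc) hn, ?_, ?_⟩
  · rw [← cj_eq_iff, ← cj_cj]
    exact Subgroup.eq_of_le_of_card_ge hle (by rw [card_cj, card_cj])
  · intro v hv
    have h1 := mem_cent_iff.1 hc _ (mem_norm hn hv)
    calc c * n * v * (c * n)⁻¹ = c * (n * v * n⁻¹) * c⁻¹ := by group
      _ = n * v * n⁻¹ := by rw [h1]; group

/-- `V` is a normal four-subgroup of `S`, not central, and `z ∈ V` is central in `S`. -/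
structure Nrm (S : Sylow 2 G) (V : Subgroup G) (z : G) : Prop where
  card : Nat.card V = 4
  sq : ∀ v ∈ V, v * v = 1
  zV : z ∈ V
  z1 : z ≠ 1
  le : V ≤ S
  norm : (S : Subgroup G) ≤ normalizer (V : Set G)
  zc : ∀ s ∈ (S : Subgroup G), z * s = s * z
  nc : ∃ s ∈ (S : Subgroup G), s ∉ centralizer (V : Set G)

namespace Nrm

variable {V : Subgroup G} (h : Nrm S V z)

include h

omit [Finite G] in
theorem zz : z * z = 1 := h.sq z h.zV

theorem cases {y : G} (hy : y ∈ V) (hy1 : y ≠ 1) (hyz : y ≠ z) {w : G} (hw : w ∈ V) :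
    w = 1 ∨ w = z ∨ w = y ∨ w = z * y := four_cases h.card h.sq h.zV hy h.z1 hy1 hyz hw

omit [Finite G] in
theorem comm {x y : G} (hx : x ∈ V) (hy : y ∈ V) : x * y = y * x := comm_of_sq' h.sq x hx y hy

/-- An element of `S` not centralising `V` multiplies the other elements by `z`. -/
theorem act {s : G} (hs : s ∈ (S : Subgroup G)) (hsC : s ∉ centralizer (V : Set G)) {y : G} (hy : y ∈ V)
    (hy1 : y ≠ 1) (hyz : y ≠ z) : s * y * s⁻¹ = z * y := by
  have hsz : s * z * s⁻¹ = z := by rw [← h.zc s hs]; group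
  rcases h.cases hy hy1 hyz (mem_norm (h.norm hs) hy) with e | e | e | e
  · exfalso
    apply hy1
    have : y = s⁻¹ * (s * y * s⁻¹) * s := by group
    rw [this, e]; group
  · exfalso
    apply hyz
    have h1 : y = s⁻¹ * (s * y * s⁻¹) * s := by group
    have h2 : s⁻¹ * (s * z * s⁻¹) * s = z := by group
    rw [hsz] at h2
    rw [h1, e, h2]
  · exfalso
    apply hsC
    rw [mem_cent_iff]
    intro w hw
    rw [← conj_eq_iff]
    rcases h.cases hy hy1 hyz hw with rfl | rfl | rfl | rfl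
    · simp
    · exact hsz
    · exact e
    · have e' : s * (z * y) * s⁻¹ = (s * z * s⁻¹) * (s * y * s⁻¹) := by group
      rw [e', hsz, e]
  · exact e

omit [Finite G] in
theorem exists_y : ∃ y ∈ V, y ≠ 1 ∧ y ≠ z := by
  by_contra hcon
  push Not at hcon
  obtain ⟨s, hs, hsC⟩ := h.nc
  apply hsC
  rw [mem_cent_iff]
  intro v hv
  by_cases hv1 : v = 1
  · rw [hv1]; simp
  · rw [hcon v hv hv1]
    exact (h.zc s hs).symm

theorem mul_mem_QV {s t : G} (hs : s ∈ (S : Subgroup G)) (ht : t ∈ (S : Subgroup G))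
    (hsC : s ∉ centralizer (V : Set G)) (htC : t ∉ centralizer (V : Set G)) : s * t ∈ QV S V := by
  refine ⟨mul_mem hs ht, ?_⟩
  obtain ⟨y, hy, hy1, hyz⟩ := h.exists_y
  have hst : s * t * z = z * (s * t) := (h.zc _ (mul_mem hs ht)).symm
  have hy2 : s * t * y * (s * t)⁻¹ = y := by
    have e : s * t * y * (s * t)⁻¹ = s * (t * y * t⁻¹) * s⁻¹ := by group
    have e2 : s * (z * y) * s⁻¹ = (s * z * s⁻¹) * (s * y * s⁻¹) := by group
    have hsz : s * z * s⁻¹ = z := by rw [← h.zc s hs]; group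
    rw [e, h.act ht htC hy hy1 hyz, e2, hsz, h.act hs hsC hy hy1 hyz, ← mul_assoc, h.zz, one_mul]
  have hy3 := conj_eq_iff.1 hy2
  refine mem_cent_iff.2 ?_
  intro w hw
  rcases h.cases hy hy1 hyz hw with rfl | rfl | rfl | rfl
  · simp
  · exact hst
  · exact hy3
  · calc s * t * (z * y) = (s * t * z) * y := by group
      _ = z * (s * t * y) := by rw [hst]; group
      _ = z * y * (s * t) := by rw [hy3]; group

theorem QV_norm : (S : Subgroup G) ≤ normalizer (QV S V : Set G) := by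
  intro s hs
  apply mem_norm_of_conj
  intro x hx
  rw [mem_QV] at hx ⊢
  refine ⟨mul_mem (mul_mem hs hx.1) (inv_mem hs), fun v hv => ?_⟩
  have h1 := hx.2 _ (mem_norm' (h.norm hs) hv)
  calc s * x * s⁻¹ * v = s * (x * (s⁻¹ * v * s)) * s⁻¹ := by group
    _ = s * ((s⁻¹ * v * s) * x) * s⁻¹ := by rw [h1]
    _ = v * (s * x * s⁻¹) := by group

omit [Finite G] in
theorem le_QV : V ≤ QV S V := fun _ hv => mem_QV.2 ⟨h.le hv, fun _ hw => h.comm hv hw⟩

/-- A `3`-element of `N(V) ∩ N(Q)` moving `z`, inverted by `S` modulo `Q`. -/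
theorem exists_rho {m : G} (hm : m ∈ normalizer (V : Set G)) (hmQ : m ∈ normalizer (QV S V : Set G))
    (hmz : m * z * m⁻¹ ≠ z) :
    ∃ ρ ∈ normalizer (V : Set G), ρ ∈ normalizer (QV S V : Set G) ∧ ρ * z * ρ⁻¹ ≠ z ∧
      (∃ k, orderOf ρ = 3 ^ k) ∧ ∀ s ∈ (S : Subgroup G), s * ρ * s⁻¹ * ρ⁻¹ ∈ QV S V ∨
        s * ρ * s⁻¹ * ρ ∈ QV S V := by
  obtain ⟨s, hs, hsC⟩ := h.nc
  set y := m * z * m⁻¹ with hy
  have hyV : y ∈ V := mem_norm hm h.zV
  have hy1 : y ≠ 1 := by
    intro e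
    apply h.z1
    have : z = m⁻¹ * y * m := by rw [hy]; group
    rw [this, e]; group
  set t := m * s * m⁻¹ with ht
  have hss : s * s ∈ QV S V := h.mul_mem_QV hs hs hsC hsC
  have htt : t * t ∈ QV S V := by
    have e : t * t = m * (s * s) * m⁻¹ := by rw [ht]; group
    rw [e]
    exact mem_norm hmQ hss
  have hsz : s * z * s⁻¹ = z := by rw [← h.zc s hs]; group
  have hty : t * y * t⁻¹ = y := by
    have e : t * y * t⁻¹ = m * (s * z * s⁻¹) * m⁻¹ := by rw [ht, hy]; group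
    rw [e, hsz]
  have hsy : s * y * s⁻¹ = z * y := h.act hs hsC hyV hy1 hmz
  have hszy : s * (z * y) * s⁻¹ = y := by
    have e : s * (z * y) * s⁻¹ = (s * z * s⁻¹) * (s * y * s⁻¹) := by group
    rw [e, hsz, hsy, ← mul_assoc, h.zz, one_mul]
  have htN : t ∈ normalizer (V : Set G) := mul_mem (mul_mem hm (h.norm hs)) (inv_mem hm)
  have htz : t * z * t⁻¹ = z * y := by
    -- `m⁻¹ z m ≠ 1, z`
    set w := m⁻¹ * z * m with hw
    have hwV : w ∈ V := mem_norm' hm h.zV
    have hw1 : w ≠ 1 := by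
      intro e
      apply h.z1
      have : z = m * w * m⁻¹ := by rw [hw]; group
      rw [this, e]; group
    have hwz : w ≠ z := by
      intro e
      apply hmz
      have h1 : m * w * m⁻¹ = z := by rw [hw]; group
      rw [← h1, e]
    have e : t * z * t⁻¹ = m * (s * w * s⁻¹) * m⁻¹ := by rw [ht, hw]; group
    rw [e, h.act hs hsC hwV hw1 hwz]
    have e2 : m * (z * w) * m⁻¹ = y * z := by rw [hy, hw]; group
    rw [e2, h.comm hyV h.zV]
  have htzy : t * (z * y) * t⁻¹ = z := by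
    have e : t * (z * y) * t⁻¹ = (t * z * t⁻¹) * (t * y * t⁻¹) := by group
    rw [e, htz, hty, mul_assoc, h.sq y hyV, mul_one]
  set σ := s * t with hσ
  have hσN : σ ∈ normalizer (V : Set G) := mul_mem (h.norm hs) htN
  have hsQ : s ∈ normalizer (QV S V : Set G) := h.QV_norm hs
  have hσQ : σ ∈ normalizer (QV S V : Set G) := mul_mem hsQ (mul_mem (mul_mem hmQ hsQ) (inv_mem hmQ))
  have hσz : σ * z * σ⁻¹ = y := by
    have e : σ * z * σ⁻¹ = s * (t * z * t⁻¹) * s⁻¹ := by rw [hσ]; group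
    rw [e, htz, hszy]
  have hσy : σ * y * σ⁻¹ = z * y := by
    have e : σ * y * σ⁻¹ = s * (t * y * t⁻¹) * s⁻¹ := by rw [hσ]; group
    rw [e, hty, hsy]
  have hσzy : σ * (z * y) * σ⁻¹ = z := by
    have e : σ * (z * y) * σ⁻¹ = s * (t * (z * y) * t⁻¹) * s⁻¹ := by rw [hσ]; group
    rw [e, htzy, hsz]
  have hσ3 : σ ^ 3 * z * (σ ^ 3)⁻¹ = z := by
    have e : σ ^ 3 * z * (σ ^ 3)⁻¹ = σ * (σ * (σ * z * σ⁻¹) * σ⁻¹) * σ⁻¹ := by
      rw [pow_succ, pow_two]; group
    rw [e, hσz, hσy, hσzy]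
  -- inversion modulo `Q`
  have hinv : s * σ * s⁻¹ * σ ∈ QV S V := by
    have e : s * σ * s⁻¹ * σ = (s * s) * (t * t) := by rw [hσ]; group
    rw [e]
    exact mul_mem hss htt
  have hinvk : ∀ k : ℕ, s * σ ^ k * s⁻¹ * σ ^ k ∈ QV S V := by
    intro k
    induction k with
    | zero => simp
    | succ k ih =>
      have e : s * σ ^ (k + 1) * s⁻¹ * σ ^ (k + 1) = (s * σ * s⁻¹ * σ) *
          (σ⁻¹ * (s * σ ^ k * s⁻¹ * σ ^ k) * σ) := by
        rw [pow_succ' σ k]
        calc s * (σ * σ ^ k) * s⁻¹ * (σ * σ ^ k) = s * (σ * σ ^ k) * s⁻¹ * (σ ^ k * σ) := by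
              rw [← pow_succ', pow_succ]
          _ = (s * σ * s⁻¹ * σ) * (σ⁻¹ * (s * σ ^ k * s⁻¹ * σ ^ k) * σ) := by group
      rw [e]
      exact mul_mem hinv (mem_norm' hσQ ih)
  -- the `3`-part of `σ`
  have ho : orderOf σ ≠ 0 := (orderOf_pos σ).ne'
  obtain ⟨a, k, hk3, hak⟩ := Nat.exists_eq_pow_mul_and_not_dvd ho 3 (by norm_num)
  refine ⟨σ ^ k, pow_mem hσN k, pow_mem hσQ k, ?_, ⟨a, ?_⟩, ?_⟩
  · intro hk
    have h3 : σ ^ 3 ∈ centralizer ({z} : Set G) := by
      rw [mem_centralizer_singleton_iff]; exact (conj_eq_iff.1 hσ3)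
    have hkC : σ ^ k ∈ centralizer ({z} : Set G) := by
      rw [mem_centralizer_singleton_iff]; exact (conj_eq_iff.1 hk)
    have h1 : σ ∈ centralizer ({z} : Set G) := by
      have hmod : k % 3 = 1 ∨ k % 3 = 2 := by
        have : k % 3 ≠ 0 := fun e => hk3 (Nat.dvd_of_mod_eq_zero e)
        omega
      have hdm := Nat.div_add_mod k 3
      rcases hmod with hmod | hmod
      · rw [hmod] at hdm
        rw [← hdm, pow_succ, pow_mul] at hkC
        exact (Subgroup.mul_mem_cancel_left _ (pow_mem h3 _)).1 hkC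
      · rw [hmod] at hdm
        rw [← hdm, pow_add, pow_mul] at hkC
        have h2 := (Subgroup.mul_mem_cancel_left _ (pow_mem h3 _)).1 hkC
        have h4 : σ ^ 3 = σ ^ 2 * σ := pow_succ σ 2
        rw [h4] at h3
        exact (Subgroup.mul_mem_cancel_left _ h2).1 h3
    rw [mem_centralizer_singleton_iff] at h1
    have h2 := conj_eq_iff.2 h1
    rw [hσz] at h2
    exact hmz h2
  · rw [orderOf_pow, hak, Nat.gcd_eq_right (dvd_mul_left k _)]
    have : 0 < k := Nat.pos_of_ne_zero (by rintro rfl; exact hk3 (dvd_zero _))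
    exact Nat.mul_div_cancel _ this
  · intro s' hs'
    by_cases hC : s' ∈ centralizer (V : Set G)
    · left
      have e : s' * σ ^ k * s'⁻¹ * (σ ^ k)⁻¹ = s' * (σ ^ k * s'⁻¹ * (σ ^ k)⁻¹) := by group
      rw [e]
      have h1 : s' ∈ QV S V := ⟨hs', hC⟩
      exact mul_mem h1 (mem_norm (pow_mem hσQ k) (inv_mem h1))
    · right
      have hsi : s⁻¹ ∉ centralizer (V : Set G) := fun e => hsC (by simpa using inv_mem e)
      have h1 : s' * s⁻¹ ∈ QV S V := h.mul_mem_QV hs' (inv_mem hs) hC hsi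
      have e : s' * σ ^ k * s'⁻¹ * σ ^ k = (s' * s⁻¹) * (s * σ ^ k * s⁻¹ * σ ^ k) *
          ((σ ^ k)⁻¹ * (s' * s⁻¹)⁻¹ * σ ^ k) := by group
      rw [e]
      exact mul_mem (mul_mem h1 (hinvk k)) (mem_norm' (pow_mem hσQ k) (inv_mem h1))

end Nrm

/-! ### The new elementary abelian subgroup -/

/-- The elements of `N(V)` fixing the coset `yV`. -/
def Stb (V : Subgroup G) (y : G) : Subgroup G where
  carrier := {r | r ∈ normalizer (V : Set G) ∧ y⁻¹ * (r * y * r⁻¹) ∈ V}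
  one_mem' := ⟨one_mem _, by
    have : y⁻¹ * (1 * y * 1⁻¹) = 1 := by group
    rw [this]; exact one_mem _⟩
  mul_mem' := by
    rintro a b ⟨ha, ha'⟩ ⟨hb, hb'⟩
    refine ⟨mul_mem ha hb, ?_⟩
    have e : y⁻¹ * (a * b * y * (a * b)⁻¹) = (y⁻¹ * (a * y * a⁻¹)) * (a * (y⁻¹ * (b * y * b⁻¹)) * a⁻¹) := by
      group
    rw [e]
    exact mul_mem ha' (mem_norm ha hb')
  inv_mem' := by
    rintro a ⟨ha, ha'⟩
    refine ⟨inv_mem ha, ?_⟩
    have e : y⁻¹ * (a⁻¹ * y * a⁻¹⁻¹) = (a⁻¹ * (y⁻¹ * (a * y * a⁻¹)) * a)⁻¹ := by group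
    rw [e]
    exact inv_mem (mem_norm' ha ha')

omit [Finite G] in
theorem mem_Stb {V : Subgroup G} {y r : G} : r ∈ Stb V y ↔ r ∈ normalizer (V : Set G) ∧
    y⁻¹ * (r * y * r⁻¹) ∈ V := Iff.rfl

/-- `V` and a commuting involution outside `V` generate an elementary abelian group of order 8. -/
theorem oct_sup (hr : Cfsg.PRankLE 2 3 G) {V : Subgroup G} (h4 : Nat.card V = 4) (hsq : ∀ v ∈ V, v * v = 1)
    {x : G} (hxx : x * x = 1) (hxV : x ∉ V) (hc : ∀ v ∈ V, x * v = v * x) : Oct (V ⊔ zpowers x) := by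
  have h1 := sup_elem (X := V) (Y := zpowers x) hsq (zpowers_sq hxx) (comm_of_sq' hsq)
    (comm_of_sq' (zpowers_sq hxx)) (by
      intro v hv y hy
      rcases zpowers_cases hxx y hy with rfl | rfl
      · simp
      · exact (hc v hv).symm)
  refine ⟨?_, h1.2⟩
  have h2 := card_le hr h1.2
  have h3 : Nat.card V ∣ Nat.card (V ⊔ zpowers x : Subgroup G) := card_dvd_of_le le_sup_left
  have h5 : Nat.card (V ⊔ zpowers x : Subgroup G) ≠ 4 := by
    intro e
    have h6 : V = V ⊔ zpowers x := Subgroup.eq_of_le_of_card_ge le_sup_left (by rw [h4, e])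
    apply hxV
    rw [h6]
    exact le_sup_right (a := V) (mem_zpowers x)
  rw [h4] at h3
  have h6 : 0 < Nat.card (V ⊔ zpowers x : Subgroup G) := Nat.card_pos
  omega

/-- The group `A₀`. -/
theorem Nrm.exists_oct (hr : Cfsg.PRankLE 2 3 G) {V : Subgroup G} (h : Nrm S V z) {ρ : G}
    (hρ : ρ ∈ normalizer (V : Set G)) (hρQ : ρ ∈ normalizer (QV S V : Set G)) (hρz : ρ * z * ρ⁻¹ ≠ z)
    (h3 : ∃ k, orderOf ρ = 3 ^ k) (hinv : ∀ s ∈ (S : Subgroup G), s * ρ * s⁻¹ * ρ⁻¹ ∈ QV S V ∨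
        s * ρ * s⁻¹ * ρ ∈ QV S V) {a : G} (ha : Quo.IsM (QV S V) V a) (haa : a * a = 1) (haV : a ∉ V) :
    ∃ A₀ : Subgroup G, Oct A₀ ∧ V ≤ A₀ ∧ A₀ ≤ S ∧ (S : Subgroup G) ≤ normalizer (A₀ : Set G) ∧
      ρ ∈ normalizer (A₀ : Set G) := by
  have hD : Quo.Dat (QV S V) V (zpowers ρ) :=
    ⟨h.le_QV, h.sq, fun v hv x hx => ((mem_QV.1 hx).2 v hv).symm, by rwa [zpowers_le], by rwa [zpowers_le]⟩
  have hP : IsPGroup 3 (zpowers ρ) := by
    obtain ⟨k, hk⟩ := h3
    exact IsPGroup.of_card (n := k) (by rw [Nat.card_zpowers, hk])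
  have sing : ∀ x, Quo.IsM (QV S V) V x → ∀ y, Quo.IsM (QV S V) V y → x * x = 1 → y * y = 1 →
      x * y = y * x → x ∉ V → y ∉ V → x⁻¹ * y ∈ V := by
    intro x hx y hy hxx hyy hxy hxV hyV
    have hE := oct_sup hr h.card h.sq hxx hxV (mem_QV.1 hx.1).2
    have hyE : y ∈ V ⊔ zpowers x := by
      refine Oct.mem_of_comm hr hE hyy ?_
      intro e he
      have h1 : V ⊔ zpowers x ≤ centralizer ({y} : Set G) := by
        rw [sup_le_iff, zpowers_le]
        refine ⟨fun v hv => ?_, ?_⟩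
        · rw [mem_centralizer_singleton_iff]
          exact ((mem_QV.1 hy.1).2 v hv).symm
        · rw [mem_centralizer_singleton_iff]
          exact hxy
      exact (mem_centralizer_singleton_iff.1 (h1 he)).symm
    have h2 := mul_mem_of_index_two (H := V) (K := V ⊔ zpowers x) le_sup_left (by rw [hE.card, h.card])
      (le_sup_right (a := V) (mem_zpowers x)) hyE hxV hyV
    rwa [inv_eq_of_mul_eq_one_left hxx]
  obtain ⟨y, hy, hyy, hyV, hyR, huniq⟩ := Quo.exists_inv hD h.card hP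
    ⟨ρ, mem_zpowers ρ, z, h.zV, hρz⟩ sing ha haa haV
  have hE := oct_sup hr h.card h.sq hyy hyV (mem_QV.1 hy.1).2
  refine ⟨V ⊔ zpowers y, hE, le_sup_left, ?_, ?_, ?_⟩
  · rw [sup_le_iff, zpowers_le]
    exact ⟨h.le, (mem_QV.1 hy.1).1⟩
  · -- `S` normalises
    intro s hs
    have hsV := h.norm hs
    have hsQ := h.QV_norm hs
    have hQ : QV S V ≤ Stb V y := by
      intro q hq
      refine ⟨h.norm (mem_QV.1 hq).1, ?_⟩
      have := (hD.invM hy).2.2 q hq
      have e : y⁻¹ * (q * y * q⁻¹) = y⁻¹ * q * y⁻¹⁻¹ * q⁻¹ := by group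
      rw [e]; exact this
    have hρS : ρ ∈ Stb V y := ⟨hρ, hyR ρ (mem_zpowers ρ)⟩
    have hsρ : s⁻¹ * ρ * s ∈ Stb V y := by
      rcases hinv _ (inv_mem hs) with h1 | h1
      · have e : s⁻¹ * ρ * s = (s⁻¹ * ρ * s⁻¹⁻¹ * ρ⁻¹) * ρ := by group
        rw [e]; exact mul_mem (hQ h1) hρS
      · have e : s⁻¹ * ρ * s = (s⁻¹ * ρ * s⁻¹⁻¹ * ρ) * ρ⁻¹ := by group
        rw [e]; exact mul_mem (hQ h1) (inv_mem hρS)
    have hρS' : ρ ∈ Stb V (s * y * s⁻¹) := by
      refine ⟨hρ, ?_⟩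
      have e : (s * y * s⁻¹)⁻¹ * (ρ * (s * y * s⁻¹) * ρ⁻¹) =
          s * (y⁻¹ * ((s⁻¹ * ρ * s) * y * (s⁻¹ * ρ * s)⁻¹)) * s⁻¹ := by group
      rw [e]
      exact mem_norm hsV hsρ.2
    have hzp : zpowers ρ ≤ Stb V (s * y * s⁻¹) := by rwa [zpowers_le]
    have h1 := huniq _ (Quo.norm_MM hD hsQ hsV hy) (fun e => hyV (by
      have := mem_norm' hsV e
      have e' : s⁻¹ * (s * y * s⁻¹) * s = y := by group
      rwa [e'] at this)) (fun r hr => (hzp hr).2)
    apply mem_norm_of_conj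
    have h2 : V ⊔ zpowers y ≤ (V ⊔ zpowers y).comap (MulAut.conj s).toMonoidHom := by
      rw [sup_le_iff, zpowers_le]
      refine ⟨fun v hv => ?_, ?_⟩
      · change s * v * s⁻¹ ∈ V ⊔ zpowers y
        exact (le_sup_left : V ≤ V ⊔ zpowers y) (mem_norm hsV hv)
      · change s * y * s⁻¹ ∈ V ⊔ zpowers y
        have e : s * y * s⁻¹ = y * (y⁻¹ * (s * y * s⁻¹)) := by group
        rw [e]
        exact mul_mem (le_sup_right (a := V) (mem_zpowers y)) ((le_sup_left : V ≤ V ⊔ zpowers y) h1)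
    exact fun x hx => h2 hx
  · apply mem_norm_of_conj
    have h2 : V ⊔ zpowers y ≤ (V ⊔ zpowers y).comap (MulAut.conj ρ).toMonoidHom := by
      rw [sup_le_iff, zpowers_le]
      refine ⟨fun v hv => ?_, ?_⟩
      · change ρ * v * ρ⁻¹ ∈ V ⊔ zpowers y
        exact (le_sup_left : V ≤ V ⊔ zpowers y) (mem_norm hρ hv)
      · change ρ * y * ρ⁻¹ ∈ V ⊔ zpowers y
        have e : ρ * y * ρ⁻¹ = y * (y⁻¹ * (ρ * y * ρ⁻¹)) := by group
        rw [e]
        exact mul_mem (le_sup_right (a := V) (mem_zpowers y))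
          ((le_sup_left : V ≤ V ⊔ zpowers y) (hyR ρ (mem_zpowers ρ)))
    exact fun x hx => h2 hx

/-- (II.3): from a subgroup `F` as in (II.2) to `A₀`. -/
theorem Hyp.exists_moving_of (h : Hyp S A) (hz : z ∈ UU S A) (hz1 : z ≠ 1)
    (huniq : ∀ u ∈ UU S A, u = 1 ∨ u = z) {F : Subgroup G} (hFS : F ≤ S) {n : G}
    (hn : n ∈ normalizer (F : Set G)) (hnz : n * z * n⁻¹ ≠ z)
    (hVA : OZ F ≤ A) (hAF : A ≤ F) :
    ∃ A₀ : Subgroup G, Hyp S A₀ ∧ ∃ n ∈ normalizer (A₀ : Set G), n * z * n⁻¹ ≠ z := by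
  by_cases hnA : n ∈ normalizer (A : Set G)
  · exact ⟨A, h, n, hnA, hnz⟩
  set V := OZ F with hV
  have hzz : z * z = 1 := h.U_sq hz
  have hzV : z ∈ V := ⟨hAF hz.1, fun x hx => U_comm hz (hFS hx), hzz⟩
  have hnV : n ∈ normalizer (V : Set G) := OZ_norm F hn
  have hyV : n * z * n⁻¹ ∈ V := mem_norm hnV hzV
  have hy1 : n * z * n⁻¹ ≠ 1 := by
    intro e
    apply hz1
    have : z = n⁻¹ * (n * z * n⁻¹) * n := by group
    rw [this, e]; group
  have hVsq : ∀ v ∈ V, v * v = 1 := fun v hv => h.oct.sq v (hVA hv)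
  have hV4 : Nat.card V = 4 := by
    have h1 : Nat.card V ∣ 2 ^ 3 := by
      have := card_dvd_of_le hVA
      rw [h.oct.card] at this
      simpa using this
    obtain ⟨k, hk, hk'⟩ := (Nat.dvd_prime_pow Nat.prime_two).1 h1
    have h2 : 2 < Nat.card V := by
      by_contra hcon
      push Not at hcon
      have h3 : Nat.card (zpowers z) = 2 := by
        rw [Nat.card_zpowers]
        exact orderOf_eq_prime (by rw [pow_two]; exact hzz) hz1
      have h4 : zpowers z = V := Subgroup.eq_of_le_of_card_ge (by rwa [zpowers_le]) (by rw [h3]; exact hcon)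
      rw [← h4] at hyV
      rcases zpowers_cases hzz _ hyV with e | e
      · exact hy1 e
      · exact hnz e
    have h8 : Nat.card V ≠ 8 := by
      intro e
      have : V = A := Subgroup.eq_of_le_of_card_ge hVA (by rw [e, h.oct.card])
      rw [this] at hnV
      exact hnA hnV
    interval_cases k <;> simp_all
  have hVc : ∀ v ∈ V, ∀ x ∈ F, v * x = x * v := fun v hv => hv.2.1
  have hSV := h.norm_or hz hFS hAF hVA hVc hV4 hzV hz1 hn hnz hnA
  have hN : Nrm S V z := by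
    refine ⟨hV4, hVsq, hzV, hz1, hVA.trans h.le, hSV, fun s hs => U_comm hz hs, ?_⟩
    by_contra hcon
    push Not at hcon
    have h1 : n * z * n⁻¹ ∈ UU S A := ⟨hVA hyV, mem_cent_iff.2 fun s hs =>
      (mem_cent_iff.1 (hcon s hs) _ hyV).symm⟩
    rcases huniq _ h1 with e | e
    · exact hy1 e
    · exact hnz e
  obtain ⟨m, hm, hmQ, hmv⟩ := exists_frattini (S := S) hSV hnV
  obtain ⟨ρ, hρ, hρQ, hρz, h3, hinv⟩ := hN.exists_rho hm hmQ (by rw [hmv z hzV]; exact hnz)
  have hAQ : A ≤ QV S V := fun a ha => mem_QV.2 ⟨h.le ha, fun v hv => h.oct.comm ha (hVA hv)⟩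
  obtain ⟨a, haA, haV⟩ : ∃ a ∈ A, a ∉ V := by
    by_contra hcon
    push Not at hcon
    have : V = A := le_antisymm hVA hcon
    rw [this, h.oct.card] at hV4
    omega
  have haM : Quo.IsM (QV S V) V a := by
    refine ⟨hAQ haA, by rw [h.oct.sq a haA]; exact one_mem _, ?_⟩
    intro q hq
    have hqS := (mem_QV.1 hq).1
    -- index two
    have h1 : q * a * q⁻¹ ∈ A := mem_norm (h.norm hqS) haA
    have h2 : q * a * q⁻¹ ∉ V := by
      intro e
      apply haV
      have := mem_norm' (hSV hqS) e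
      have e' : q⁻¹ * (q * a * q⁻¹) * q = a := by group
      rwa [e'] at this
    have h3 := mul_mem_of_index_two hVA (by rw [hV4, h.oct.card]) haA h1 haV h2
    have e : a * q * a⁻¹ * q⁻¹ = a * (q * a * q⁻¹)⁻¹⁻¹ := by
      rw [inv_inv, h.oct.inv haA]; group
    rw [e, inv_inv]
    exact h3
  obtain ⟨A₀, hO, hVA₀, hA₀S, hSA₀, hρA₀⟩ := hN.exists_oct h.rank hρ hρQ hρz h3 hinv haM
    (h.oct.sq a haA) haV
  exact ⟨A₀, ⟨h.rank, hA₀S, hSA₀, hO, h.nsc, h.no7, h.noIso, h.noSC⟩, ρ, hρA₀, hρz⟩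

/-- Some essential subgroup has a normaliser moving `z`. -/
theorem Hyp.exists_ess (h : Hyp S A) (hz : z ∈ UU S A) (hz1 : z ≠ 1) (huniq : ∀ u ∈ UU S A, u = 1 ∨ u = z) :
    ∃ F : Subgroup G, Cfsg.Agent.Lib.EssentialFusion.Ess S F ∧ ∃ n ∈ normalizer (F : Set G),
      n * z * n⁻¹ ≠ z := by
  haveI : Fact (Nat.Prime 2) := ⟨Nat.prime_two⟩
  by_contra hcon
  push Not at hcon
  obtain ⟨g, hg, hgz⟩ := h.noIso z (h.le hz.1) hz1 (h.U_sq hz)
  apply hgz
  have h1 := Cfsg.Agent.Lib.EssentialFusion.gen_of_conj_ess S (fun X => X = (S : Subgroup G) ∨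
    Cfsg.Agent.Lib.EssentialFusion.Ess S X) (Or.inl rfl) (fun X hX => Or.inr hX)
    (A := zpowers z) (by rw [zpowers_le]; exact h.le hz.1) (zpowers_map_conj_le hg)
  have h2 := h1.invariant (fun x => x = z) ?_ z (mem_zpowers z)
  · simpa using h2
  · rintro X - (rfl | hX) n hn x hx
    · have hnU := h.norm_S hn
      have h3 : n * z * n⁻¹ = z := by
        rcases huniq _ (mem_norm hnU hz) with e | e
        · exfalso
          apply hz1
          have : z = n⁻¹ * (n * z * n⁻¹) * n := by group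
          rw [this, e]; group
        · exact e
      rw [eq_iff_iff]
      constructor
      · intro e
        exact mul_left_cancel (mul_right_cancel (e.trans h3.symm))
      · rintro rfl; exact h3
    · have h3 : n * z * n⁻¹ = z := hcon X hX n hn
      rw [eq_iff_iff]
      constructor
      · intro e
        exact mul_left_cancel (mul_right_cancel (e.trans h3.symm))
      · rintro rfl; exact h3

theorem Hyp.Central (h : Hyp S A) : Central S A := by
  rintro F E hF hE hEF hcen hAN ⟨a, haA, haF, hFa⟩ hEA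
  exact h.central hF hE hEF hcen hAN haA haF hFa hEA

/-- **(II.3)** : some elementary abelian normal subgroup of `S` of order 8 has a normaliser moving `z`. -/
theorem Hyp.exists_moving (h : Hyp S A) (hz : z ∈ UU S A) (hz1 : z ≠ 1) :
    ∃ A₀ : Subgroup G, Hyp S A₀ ∧ z ∈ UU S A₀ ∧ ∃ n ∈ normalizer (A₀ : Set G), n * z * n⁻¹ ≠ z := by
  have huniq : ∀ u ∈ UU S A, u = 1 ∨ u = z := by
    obtain ⟨z', hz', hz1', hu⟩ := h.exists_z
    have e : z = z' := (hu z hz).resolve_left hz1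
    rwa [e]
  obtain ⟨F, hF, n, hn, hnz⟩ := h.exists_ess hz hz1 huniq
  obtain ⟨h1, h2⟩ := h.omega_le h.Central hF hz hn hnz
  obtain ⟨A₀, hA₀, h3⟩ := h.exists_moving_of hz hz1 huniq hF.lt.le hn hnz h1 h2
  exact ⟨A₀, hA₀, hA₀.mem_U (h.U_sq hz) (fun s hs => U_comm hz hs), h3⟩

end

end Cfsg.Agent.RankThreeFus
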