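import Cfsg.Agent.RankThreeFus.YZero
import Cfsg.Agent.RankThreeFus.PartTwoThree

/-!
# S1730, branch (B): from `Hyp S A` to the frame of the last case
-/

set_option autoImplicit false

namespace Cfsg.Agent.RankThreeFus

open Subgroup Cfsg.Agent.StdL2.G23Aut

variable {G : Type*} [Group G] [Finite G] {S : Sylow 2 G} {A : Subgroup G}

/-- From the hypotheses of branch (B) to the frame of the last case with its subgroup `Y₀`. -/
theorem Hyp.exists_frame (h : Hyp S A) :
    ∃ (A₀ U : Subgroup G) (z f x s : G) (Y : Subgroup G) (t : G), Fr S A₀ U z f x s ∧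
      Yz S A₀ U z f x s Y t := by
  obtain ⟨z, hz, hz1, -⟩ := h.exists_z
  obtain ⟨A₀, h₀, hzA₀, n, hn, hnz⟩ := h.exists_moving hz hz1
  obtain ⟨z', -, -, hu⟩ := h₀.exists_z
  have hm : Mv S A₀ z :=
    { hyp := h₀
      zA := hzA₀.1
      z1 := hz1
      zc := fun g hg => (U_comm hzA₀ hg).symm
      zuniq := by
        intro a ha hc
        have ha' : a ∈ UU S A₀ := ⟨ha, mem_cent_iff.2 fun s hs => (hc s hs).symm⟩
        have e : z = z' := (hu z hzA₀).resolve_left hz1
        rw [e]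
        exact hu a ha'
      mv := ⟨n, hn, hnz⟩ }
  obtain ⟨U, f, x, s, hF⟩ := hm.exists_fr
  obtain ⟨Y, t, hY⟩ := hF.exists_yz
  exact ⟨A₀, U, z, f, x, s, Y, t, hF, hY⟩

end Cfsg.Agent.RankThreeFus
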