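import Cfsg.Agent.RankThreeFus.PartTwoOne
import Cfsg.Agent.RankThreeFus.LastGlue
import Cfsg.Agent.RankThreeFus.Choice
import Cfsg.Agent.RankThreeFus.CTwoBase

/-!
# S1730, branch (B), last case: the maximal choice

`Fr.exists_max`: in the frame of the last case there is an essential subgroup `P ≥ A` with `N_G(P) ≰ N_G(U)` and
`N_G(P) ≤ C_G(z)`, of maximal order among the subgroups of `S` which contain `U` and whose normaliser does not
normalise `U`.
-/

set_option autoImplicit false
set_option linter.style.haveILetI false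

namespace Cfsg.Agent.RankThreeFus

open Subgroup Cfsg.Agent.Lib.GoldschmidtFusion Cfsg.Agent.Lib.EssentialFusion Cfsg.Agent.StdL2.G23Aut

variable {G : Type*} [Group G] [Finite G]

namespace Fr

variable {S : Sylow 2 G} {A U : Subgroup G} {z f x s : G} (h : Fr S A U z f x s)

include h

/-- `U` is the only `S`-invariant four-subgroup of `A`. -/
theorem plane {V : Subgroup G} (hVA : V ≤ A) (h4 : Nat.card V = 4)
    (hS : (S : Subgroup G) ≤ normalizer (V : Set G)) : V = U := by
  by_cases hVU : V ≤ U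
  · exact Subgroup.eq_of_le_of_card_ge hVU (by rw [h4, h.cardU])
  · obtain ⟨w, hw, hwU⟩ := SetLike.not_le_iff_exists.1 hVU
    have hwA := hVA hw
    have hfw : f * w ∈ U := (h.mem_A hwA).resolve_left hwU
    have hle : U ≤ V := by
      intro u hu
      obtain ⟨b, hb, hbf⟩ := h.tv u hu
      have h1 : b * (f * w) * b⁻¹ = f * w := conj_eq_iff.2 (mem_cent_iff.1 hb.2 _ hfw)
      have h2 : b * w * b⁻¹ = u * w := by
        have e1 : b * (f * w) * b⁻¹ = (b * f * b⁻¹) * (b * w * b⁻¹) := by group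
        rw [e1, hbf] at h1
        have h3 : f * u * (b * w * b⁻¹) = f * w := h1
        have h4 : u * (b * w * b⁻¹) = w := by
          rw [mul_assoc] at h3
          exact mul_left_cancel h3
        have huu := h.sqA (h.UA hu)
        calc b * w * b⁻¹ = (u * u) * (b * w * b⁻¹) := by rw [huu, one_mul]
          _ = u * (u * (b * w * b⁻¹)) := by group
          _ = u * w := by rw [h4]
      have h3 : b * w * b⁻¹ ∈ V := mem_norm (hS hb.1) hw
      rw [h2] at h3
      have h4 := mul_mem h3 (inv_mem hw)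
      rwa [mul_inv_cancel_right] at h4
    exact (Subgroup.eq_of_le_of_card_ge hle (by rw [h4, h.cardU])).symm

/-- `S` acts on `U` by `u ↦ u` or `u ↦ z u`. -/
theorem U_or {u g : G} (hu : u ∈ U) (hg : g ∈ (S : Subgroup G)) : g * u * g⁻¹ = u ∨ g * u * g⁻¹ = z * u := by
  by_cases h1 : u = 1
  · left; rw [h1]; group
  by_cases h2 : u = z
  · left; rw [h2]; exact h.zSc hg
  have h3 : g * u * g⁻¹ ∈ U := mem_norm (h.SnU hg) hu
  rcases h.U_cases hu h1 h2 h3 with h4 | h4 | h4 | h4
  · exfalso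
    apply h1
    have : u = g⁻¹ * (g * u * g⁻¹) * g := by group
    rw [this, h4]; group
  · exfalso
    apply h2
    have h5 : g * u * g⁻¹ = g * z * g⁻¹ := by rw [h4, h.zSc hg]
    exact mul_left_cancel (mul_right_cancel h5)
  · exact Or.inl h4
  · exact Or.inr h4

/-- A normal involution of `S` modulo `z` outside `A` does not exist. -/
theorem no_trans {b : G} (hbS : b ∈ (S : Subgroup G)) (hbA : b ∉ A) (hbb : b * b = 1)
    (hb : ∀ g ∈ (S : Subgroup G), g * b * g⁻¹ = b ∨ g * b * g⁻¹ = z * b) : False := by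
  have hrank := h.hyp.rank
  have hbi : b⁻¹ = b := inv_eq_of_mul_eq_one_left hbb
  -- the other form of `hb`
  have hb' : ∀ g ∈ (S : Subgroup G), b * g * b⁻¹ = g ∨ b * g * b⁻¹ = z * g := by
    intro g hg
    rcases hb g hg with h1 | h1
    · left
      exact conj_eq_iff.2 (conj_eq_iff.1 h1).symm
    · right
      have h2 : g * b = z * b * g := by
        calc g * b = (g * b * g⁻¹) * g := by group
          _ = _ := by rw [h1]
      have h3 : b * g = z * (g * b) := by
        rw [h2]
        calc b * g = (z * z) * (b * g) := by rw [h.z2, one_mul]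
          _ = _ := by group
      calc b * g * b⁻¹ = z * (g * b) * b⁻¹ := by rw [h3]
        _ = z * g := by group
  have hzU := h.zU
  have hpU : x * z * x⁻¹ ∈ U := h.xzU
  set p := x * z * x⁻¹ with hp
  have hp1 : p ≠ 1 := h.xz1
  have hpz : p ≠ z := h.xz
  -- `b ∈ Q`
  have hbU : b ∈ centralizer (U : Set G) := by
    by_contra hbU
    have h1 : b * p * b⁻¹ ≠ p := by
      intro h2
      apply hbU
      refine mem_cent_iff.2 fun u hu => ?_
      have h3 : b * p = p * b := conj_eq_iff.1 h2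
      have h4 : b * z = z * b := h.zc b hbS
      rcases h.U_cases hpU hp1 hpz hu with rfl | rfl | rfl | rfl
      · simp
      · exact h4
      · exact h3
      · rw [← mul_assoc, h4, mul_assoc, h3, ← mul_assoc]
    have h2 : b * p * b⁻¹ = z * p := (h.U_or hpU hbS).resolve_left h1
    obtain ⟨q, hq, hqf⟩ := h.tv p hpU
    have h3 : (b * q * b⁻¹) * (b * f * b⁻¹) * (b * q * b⁻¹)⁻¹ = (b * f * b⁻¹) * (b * p * b⁻¹) := by
      calc (b * q * b⁻¹) * (b * f * b⁻¹) * (b * q * b⁻¹)⁻¹ = b * (q * f * q⁻¹) * b⁻¹ := by group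
        _ = b * (f * p) * b⁻¹ := by rw [hqf]
        _ = _ := by group
    have hfS : f ∈ (S : Subgroup G) := h.AS h.fA
    have h5 : q * (b * f * b⁻¹) * q⁻¹ = (b * f * b⁻¹) * p := by
      have h7 : q * z * q⁻¹ = z := h.zSc hq.1
      rcases hb' f hfS with h6 | h6
      · rw [h6]; exact hqf
      · rw [h6]
        calc q * (z * f) * q⁻¹ = (q * z * q⁻¹) * (q * f * q⁻¹) := by group
          _ = z * (f * p) := by rw [h7, hqf]
          _ = _ := by group
    have h6 : (b * q * b⁻¹) * (b * f * b⁻¹) * (b * q * b⁻¹)⁻¹ = q * (b * f * b⁻¹) * q⁻¹ := by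
      rcases hb' q hq.1 with h7 | h7
      · rw [h7]
      · rw [h7]
        have hz := h.zc (q * (b * f * b⁻¹) * q⁻¹) (mul_mem (mul_mem hq.1 (mul_mem (mul_mem hbS hfS) (inv_mem hbS)))
          (inv_mem hq.1))
        calc z * q * (b * f * b⁻¹) * (z * q)⁻¹ = z * (q * (b * f * b⁻¹) * q⁻¹) * z⁻¹ := by group
          _ = (q * (b * f * b⁻¹) * q⁻¹) * z * z⁻¹ := by rw [← hz]
          _ = _ := by group
    rw [h3, h5] at h6
    have h7 : b * p * b⁻¹ = p := mul_left_cancel h6
    exact h1 h7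
  have hbQ : b ∈ QQ S U := ⟨hbS, hbU⟩
  have hbf : b * f * b⁻¹ = z * f := by
    refine (hb' f (h.AS h.fA)).resolve_left fun h1 => hbA ?_
    exact h.mem_A_of_sq (h.mem_T_of_fix hbQ h1) hbb
  set c := x * b * x⁻¹ with hc
  have hcQ : c ∈ QQ S U := mem_norm h.xQ hbQ
  have hcc : c * c = 1 := by
    have e : c * c = x * (b * b) * x⁻¹ := by rw [hc]; group
    rw [e, hbb]; group
  have hcf : c * f * c⁻¹ = p * f := by
    have h1 : x⁻¹ * f * x = f := by
      have : x⁻¹ * f * x = x⁻¹ * (x * f * x⁻¹) * x := by rw [h.xfc]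
      rw [this]; group
    calc c * f * c⁻¹ = x * (b * (x⁻¹ * f * x) * b⁻¹) * x⁻¹ := by rw [hc]; group
      _ = x * (z * f) * x⁻¹ := by rw [h1, hbf]
      _ = p * (x * f * x⁻¹) := by rw [hp]; group
      _ = p * f := by rw [h.xfc]
  -- `b` and `c` commute
  have hbc : c * b = b * c := by
    rcases hb c hcQ.1 with h1 | h1
    · exact conj_eq_iff.1 h1
    · exfalso
      have h2 : b * c * b⁻¹ = z * c := by
        have h3 : c * b = z * b * c := by
          calc c * b = (c * b * c⁻¹) * c := by group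
            _ = _ := by rw [h1]
        have h4 : b * c = z * (c * b) := by
          rw [h3]
          calc b * c = (z * z) * (b * c) := by rw [h.z2, one_mul]
            _ = _ := by group
        rw [h4]; group
      have hyS : x⁻¹ * b * x ∈ (S : Subgroup G) := (mem_norm' h.xQ hbQ).1
      have h3 : b * c * b⁻¹ = x * ((x⁻¹ * b * x) * b * (x⁻¹ * b * x)⁻¹) * x⁻¹ := by rw [hc]; group
      rcases hb _ hyS with h4 | h4
      · rw [h4] at h3
        have h5 : z * c = 1 * c := by rw [← h2, h3, one_mul]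
        exact h.z1 (mul_right_cancel h5)
      · rw [h4] at h3
        have h5 : z * c = p * c := by
          rw [← h2, h3, hp, hc]; group
        exact hpz (mul_right_cancel h5).symm
  have hbnU : b ∉ U := fun h1 => hbA (h.UA h1)
  have hE : Oct (U ⊔ zpowers b) := oct_sup hrank h.cardU (fun v hv => h.sqA (h.UA hv)) hbb hbnU
    (fun v hv => mem_cent_iff.1 hbU v hv)
  have hcE : c ∈ U ⊔ zpowers b := by
    refine Oct.mem_of_comm hrank hE hcc ?_
    have h1 : U ⊔ zpowers b ≤ centralizer ((zpowers c : Subgroup G) : Set G) := by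
      refine sup_le ?_ ?_
      · intro u hu
        rw [mem_cent_iff]
        intro y hy
        rcases zpowers_cases hcc y hy with rfl | rfl
        · simp
        · exact (mem_cent_iff.1 hcQ.2 u hu).symm
      · rw [zpowers_le, mem_cent_iff]
        intro y hy
        rcases zpowers_cases hcc y hy with rfl | rfl
        · simp
        · exact hbc.symm
    intro e he
    exact ((mem_cent_iff.1 (h1 he)) c (mem_zpowers c)).symm
  -- `c f c⁻¹` read off from `c ∈ U ∪ b U`
  have h1 : ∀ y ∈ U ⊔ zpowers b, y * f * y⁻¹ = f ∨ y * f * y⁻¹ = z * f := by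
    intro y hy
    have hN : U ≤ normalizer ((zpowers b : Subgroup G) : Set G) := by
      intro u hu
      refine centralizer_le_normalizer _ (mem_cent_iff.2 fun w hw => ?_)
      rcases zpowers_cases hbb w hw with rfl | rfl
      · simp
      · exact (mem_cent_iff.1 hbU u hu).symm
    have h2 : y ∈ ((U ⊔ zpowers b : Subgroup G) : Set G) := hy
    rw [coe_mul_of_left_le_normalizer_right _ _ hN] at h2
    obtain ⟨u, hu, w, hw, rfl⟩ := Set.mem_mul.1 h2
    have h3 : u * f * u⁻¹ = f := conj_eq_iff.2 (h.commA (h.UA hu) h.fA)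
    have h4 : u * z * u⁻¹ = z := conj_eq_iff.2 (h.commA (h.UA hu) h.zA)
    rcases zpowers_cases hbb w hw with rfl | rfl
    · left; rw [mul_one]; exact h3
    · right
      calc u * w * f * (u * w)⁻¹ = u * (w * f * w⁻¹) * u⁻¹ := by group
        _ = u * (z * f) * u⁻¹ := by rw [hbf]
        _ = (u * z * u⁻¹) * (u * f * u⁻¹) := by group
        _ = z * f := by rw [h3, h4]
  rcases h1 c hcE with h2 | h2
  · rw [h2] at hcf
    apply hp1
    have h3 : 1 * f = p * f := by rw [← hcf, one_mul]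
    exact (mul_right_cancel h3).symm
  · rw [h2] at hcf
    exact hpz (mul_right_cancel hcf).symm

/-- An involution of `G` centralising `S` is `z`. -/
theorem eq_z {w : G} (hw : w * w = 1) (hw1 : w ≠ 1) (hc : ∀ g ∈ (S : Subgroup G), g * w = w * g) : w = z := by
  have h1 : w ∈ A := Oct.mem_of_comm h.hyp.rank h.hyp.oct hw fun a ha => (hc a (h.AS ha)).symm
  exact (h.zuniq w h1 hc).resolve_left hw1

omit [Finite G] in
theorem z_UU : z ∈ UU S A := ⟨h.zA, mem_cent_iff.2 fun g hg => (h.zc g hg).symm⟩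

/-- `N_G(S)` fixes `z`. -/
theorem norm_z {n : G} (hn : n ∈ normalizer ((S : Subgroup G) : Set G)) : n * z * n⁻¹ = z := by
  refine h.eq_z ?_ ?_ ?_
  · have e : n * z * n⁻¹ * (n * z * n⁻¹) = n * (z * z) * n⁻¹ := by group
    rw [e, h.z2]; group
  · intro h1
    apply h.z1
    have : z = n⁻¹ * (n * z * n⁻¹) * n := by group
    rw [this, h1]; group
  · intro g hg
    have h1 : n⁻¹ * g * n ∈ (S : Subgroup G) := mem_norm' hn hg
    have h2 := h.zc _ h1
    calc g * (n * z * n⁻¹) = n * ((n⁻¹ * g * n) * z) * n⁻¹ := by group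
      _ = n * (z * (n⁻¹ * g * n)) * n⁻¹ := by rw [h2]
      _ = _ := by group

/-- **`N_G(S) ≤ N_G(U)`** -/
theorem norm_S : normalizer ((S : Subgroup G) : Set G) ≤ normalizer (U : Set G) := by
  intro n hn
  by_cases hV : cj n U ≤ A
  · rw [← cj_eq_iff]
    refine h.plane hV (by rw [card_cj]; exact h.cardU) ?_
    intro g hg
    apply mem_norm_of_conj
    intro y hy
    rw [mem_cj] at hy ⊢
    have h1 : n⁻¹ * g * n ∈ (S : Subgroup G) := mem_norm' hn hg
    have h2 := mem_norm (h.SnU h1) hy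
    have e : n⁻¹ * g * n * (n⁻¹ * y * n) * (n⁻¹ * g * n)⁻¹ = n⁻¹ * (g * y * g⁻¹) * n := by group
    rwa [e] at h2
  · exfalso
    obtain ⟨b, hb, hbA⟩ := SetLike.not_le_iff_exists.1 hV
    rw [mem_cj] at hb
    have hbb : b * b = 1 := by
      have h1 := h.sqA (h.UA hb)
      have e : b * b = n * ((n⁻¹ * b * n) * (n⁻¹ * b * n)) * n⁻¹ := by group
      rw [e, h1]; group
    have hbS : b ∈ (S : Subgroup G) := by
      have h1 := mem_norm hn (h.US hb)
      have e : n * (n⁻¹ * b * n) * n⁻¹ = b := by group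
      rwa [e] at h1
    refine h.no_trans hbS hbA hbb fun g hg => ?_
    have h1 : n⁻¹ * g * n ∈ (S : Subgroup G) := mem_norm' hn hg
    have e : g * b * g⁻¹ = n * ((n⁻¹ * g * n) * (n⁻¹ * b * n) * (n⁻¹ * g * n)⁻¹) * n⁻¹ := by group
    rw [e]
    rcases h.U_or hb h1 with h2 | h2
    · left; rw [h2]; group
    · right; rw [h2]
      have h3 := h.norm_z hn
      calc n * (z * (n⁻¹ * b * n)) * n⁻¹ = (n * z * n⁻¹) * b := by group
        _ = z * b := by rw [h3]

/-- Every essential subgroup contains `A`. -/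
theorem A_le_ess {F : Subgroup G} (hF : Ess S F) : A ≤ F := by
  by_cases hfix : ∀ n ∈ normalizer (F : Set G), n * z * n⁻¹ = z
  · refine le_of_fix h.hyp (h.AS h.zA) h.z1 h.z2 (fun g hg => (h.zc g hg).symm) ?_ hF hfix
    intro w _ hww hw
    by_cases hw1 : w = 1
    · exact Or.inl hw1
    · exact Or.inr (h.eq_z hww hw1 fun g hg => (hw g hg).symm)
  · push Not at hfix
    obtain ⟨n, hn, hnz⟩ := hfix
    exact (h.hyp.omega_le h.hyp.Central hF h.z_UU hn hnz).2

/-- An essential subgroup whose normaliser moves `z` has a normaliser which normalises `U`. -/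
theorem ess_U {F : Subgroup G} (hF : Ess S F) {n : G} (hn : n ∈ normalizer (F : Set G))
    (hnz : n * z * n⁻¹ ≠ z) : normalizer (F : Set G) ≤ normalizer (U : Set G) := by
  obtain ⟨hVA, hAF⟩ := h.hyp.omega_le h.hyp.Central hF h.z_UU hn hnz
  have hzV : z ∈ OZ F := Ess.z_mem h.hyp hF h.z_UU
  have hnV : n ∈ normalizer (OZ F : Set G) := OZ_norm F hn
  have hyV : n * z * n⁻¹ ∈ OZ F := mem_norm hnV hzV
  have hy1 : n * z * n⁻¹ ≠ 1 := by
    intro e
    apply h.z1
    have : z = n⁻¹ * (n * z * n⁻¹) * n := by group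
    rw [this, e]; group
  rcases card_pow_two h.hyp ((OZ_le F).trans hF.lt.le) (fun x hx => hx.2.2) with h1 | h1 | h1 | h1
  · exfalso
    rw [Subgroup.card_eq_one.1 h1, mem_bot] at hzV
    exact h.z1 hzV
  · exfalso
    have h3 : Nat.card (zpowers z) = 2 := card_zpowers_two h.z2 h.z1
    have h4 : zpowers z = OZ F := Subgroup.eq_of_le_of_card_ge (by rwa [zpowers_le]) (by rw [h3, h1])
    rw [← h4] at hyV
    rcases zpowers_cases h.z2 _ hyV with e | e
    · exact hy1 e
    · exact hnz e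
  · -- `|V| = 4`
    have hVU : OZ F = U := by
      by_contra hne
      by_cases hnA : n ∈ normalizer (A : Set G)
      · -- `n` normalises `V ∩ U = ⟨z⟩`
        apply hnz
        have hnU := h.nU hnA
        have h5 : OZ F ⊓ U = zpowers z := by
          have h6 : zpowers z ≤ OZ F ⊓ U := by
            rw [zpowers_le]; exact ⟨hzV, h.zU⟩
          refine (Subgroup.eq_of_le_of_card_ge h6 ?_).symm
          rw [card_zpowers_two h.z2 h.z1]
          have h7 : Nat.card (OZ F ⊓ U : Subgroup G) ∣ 4 := by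
            have := card_dvd_of_le (inf_le_left : OZ F ⊓ U ≤ OZ F)
            rwa [h1] at this
          have h8 : Nat.card (OZ F ⊓ U : Subgroup G) ≠ 4 := by
            intro e
            apply hne
            have e1 : OZ F ⊓ U = OZ F := Subgroup.eq_of_le_of_card_ge inf_le_left (by rw [e, h1])
            have e2 : OZ F ⊓ U = U := Subgroup.eq_of_le_of_card_ge inf_le_right (by rw [e, h.cardU])
            rw [← e1]
            exact e2
          have h9 : Nat.card (OZ F ⊓ U : Subgroup G) ∈ Nat.divisors 4 := Nat.mem_divisors.2 ⟨h7, by norm_num⟩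
          have h10 : ∀ m ∈ Nat.divisors 4, m ≠ 4 → m ≤ 2 := by decide
          exact h10 _ h9 h8
        have h6 : n * z * n⁻¹ ∈ OZ F ⊓ U := ⟨hyV, mem_norm hnU h.zU⟩
        rw [h5] at h6
        exact (zpowers_cases h.z2 _ h6).resolve_left hy1
      · apply hne
        exact h.plane hVA h1 (h.hyp.norm_or h.z_UU hF.lt.le hAF hVA (fun v hv => hv.2.1) h1 hzV h.z1 hn hnz hnA)
    rw [← hVU]
    exact OZ_norm F
  · have h3 : OZ F = A := Subgroup.eq_of_le_of_card_ge hVA (by rw [h.hyp.oct.card]; exact h1.ge)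
    have h4 := OZ_norm F
    rw [h3] at h4
    exact h4.trans h.nU

/-- Facts on a maximal choice. -/
theorem max_facts {P : Subgroup G} (hP : Choice.Max S U P) :
    A ≤ P ∧ ∀ l ∈ normalizer (P : Set G), l * z = z * l := by
  refine ⟨h.A_le_ess hP.ess, fun l hl => ?_⟩
  rw [← conj_eq_iff]
  by_contra hne
  exact hP.not (h.ess_U hP.ess hl hne)

/-- **The maximal choice.** -/
theorem exists_max : ∃ P : Subgroup G, Choice.Max S U P ∧ A ≤ P ∧
    ∀ l ∈ normalizer (P : Set G), l * z = z * l := by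
  haveI : Fact (Nat.Prime 2) := ⟨Nat.prime_two⟩
  have h1 : ¬ Cfsg.IsStronglyClosed U (S : Subgroup G) := by
    intro hc
    have h2 := h.hyp.noSC U (fun a ha b hb => h.commA (h.UA ha) (h.UA hb)) hc
    have h3 := h.cardU
    rw [h2, card_bot] at h3
    omega
  have h2 : ∃ u ∈ U, ∃ g : G, g * u * g⁻¹ ∈ (S : Subgroup G) ∧ g * u * g⁻¹ ∉ U := by
    by_contra hcon
    push Not at hcon
    exact h1 ⟨h.US, fun u hu g hg => hcon u hu g hg⟩
  obtain ⟨u, hu, g, hg, hgU⟩ := h2
  obtain ⟨P, hP⟩ := Choice.exists_max_of_not_closed S h.US h.norm_S (fun F hF => h.UA.trans (h.A_le_ess hF)) hu hg hgU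
  exact ⟨P, hP, h.max_facts hP⟩

end Fr

omit [Finite G] in
/-- The hypotheses `YH` from `Yz`. -/
theorem Yz.yh {S : Sylow 2 G} {A U : Subgroup G} {z f x s : G} {Y : Subgroup G} {t : G}
    (h : Yz S A U z f x s Y t) : CTwo.YH S A U z x s Y t where
  AY := h.AY
  YT := h.YT
  comm := h.comm
  nS := h.nS
  nx := h.nx
  QY := h.QY
  tY := h.tY
  tt := h.tt
  ttt := by
    have h1 := h.tr
    have e : x * x * t * (x * x)⁻¹ = x * (x * t * x⁻¹) * x⁻¹ := by group
    rw [e]; exact h1
  x3 := by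
    intro y hy
    have h1 := h.x3 y hy
    have e : x * x * x = x ^ 3 := by rw [pow_succ, pow_two]
    rw [e]; exact h1
  st := h.st

/-- **The dichotomy** CASE I / CASE II for a given maximal choice. -/
theorem Yz.dicho_of {S : Sylow 2 G} {A U : Subgroup G} {z f x s : G} {Y : Subgroup G} {t : G}
    (h : Yz S A U z f x s Y t) {P : Subgroup G} (hP : Choice.Max S U P) :
      CTwo.Two S A U z f x s Y t P ∨
        ∃ l ∈ normalizer (P : Set G), ∀ a ∈ A, a ∈ cj l A → a = 1 ∨ a = z := by
  obtain ⟨hAP, hLz⟩ := h.fr.max_facts hP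
  by_cases h4 : ∀ l ∈ normalizer (P : Set G), 4 ≤ Nat.card (A ⊓ cj l A : Subgroup G)
  · exact Or.inl ⟨h.fr, h.yh, hP, hAP, hLz, h4⟩
  · right
    push Not at h4
    obtain ⟨l, hl, hlt⟩ := h4
    refine ⟨l, hl, fun a ha hal => ?_⟩
    have hz : z ∈ cj l A := by
      rw [mem_cj]
      have h1 : l⁻¹ * z * l = z := by
        have h2 := hLz l hl
        calc l⁻¹ * z * l = l⁻¹ * (z * l) := by group
          _ = l⁻¹ * (l * z) := by rw [h2]
          _ = z := by group
      rw [h1]; exact h.fr.zA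
    have h1 : zpowers z ≤ A ⊓ cj l A := by
      rw [zpowers_le]; exact ⟨h.fr.zA, hz⟩
    have h2 : Nat.card (A ⊓ cj l A : Subgroup G) ∣ 8 := by
      have := card_dvd_of_le (inf_le_left : A ⊓ cj l A ≤ A)
      rwa [h.fr.hyp.oct.card] at this
    have h3 : ∀ m ∈ Nat.divisors 8, m < 4 → m ≤ 2 := by decide
    have h4 := h3 _ (Nat.mem_divisors.2 ⟨h2, by norm_num⟩) hlt
    have h5 : zpowers z = A ⊓ cj l A :=
      Subgroup.eq_of_le_of_card_ge h1 (by rw [card_zpowers_two h.fr.z2 h.fr.z1]; exact h4)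
    have h6 : a ∈ A ⊓ cj l A := ⟨ha, hal⟩
    rw [← h5] at h6
    exact zpowers_cases h.fr.z2 _ h6

/-- **The dichotomy** CASE I / CASE II. -/
theorem Yz.dicho {S : Sylow 2 G} {A U : Subgroup G} {z f x s : G} {Y : Subgroup G} {t : G}
    (h : Yz S A U z f x s Y t) : ∃ P : Subgroup G, Choice.Max S U P ∧ A ≤ P ∧
      (∀ l ∈ normalizer (P : Set G), l * z = z * l) ∧
      (CTwo.Two S A U z f x s Y t P ∨
        ∃ l ∈ normalizer (P : Set G), ∀ a ∈ A, a ∈ cj l A → a = 1 ∨ a = z) := by
  obtain ⟨P, hP, hAP, hLz⟩ := h.fr.exists_max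
  exact ⟨P, hP, hAP, hLz, h.dicho_of hP⟩

end Cfsg.Agent.RankThreeFus
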