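import Mathlib
import Cfsg.Prelude.Def_CaseTheorems
import Cfsg.Prelude.Def_Transfer
import Cfsg.Prelude.Def_TwoFusion
import Cfsg.Agent.Lib.EssentialFusion
import Cfsg.Agent.StdL2.G23Aut

/-!
# S1730, branch (B) (sectional 2-rank at least 5): the fusion part.  Setup

`Oct E` (from `StdL2.G23Aut`): `E` is elementary abelian of order 8.

`Hyp S A`: `G` has 2-rank at most 3, `A` is a normal elementary abelian subgroup of order 8 of the
Sylow 2-subgroup `S`; no elementary abelian subgroup of order 8 of `S` is self-centralising in `S`; no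
automizer of an elementary abelian subgroup of order 8 has order divisible by 7; no involution of `S` is
isolated; no nontrivial commutative subgroup of `S` is strongly closed.
-/

set_option autoImplicit false
set_option linter.style.haveILetI false

namespace Cfsg.Agent.RankThreeFus

open Subgroup Cfsg.Agent.Lib.GoldschmidtFusion Cfsg.Agent.StdL2.G23Aut

variable {G : Type*} [Group G]

/-- The conjugate `g A g⁻¹`. -/
abbrev cj (g : G) (A : Subgroup G) : Subgroup G := A.map (MulAut.conj g).toMonoidHom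

theorem mem_cj {A : Subgroup G} {g x : G} : x ∈ cj g A ↔ g⁻¹ * x * g ∈ A := mem_map_conj

theorem conj_mem_cj {A : Subgroup G} {x : G} (hx : x ∈ A) (g : G) : g * x * g⁻¹ ∈ cj g A :=
  conj_mem_map_conj hx g

/-- Hypotheses of branch (B). -/
structure Hyp (S : Sylow 2 G) (A : Subgroup G) : Prop where
  rank : Cfsg.PRankLE 2 3 G
  le : A ≤ S
  norm : (S : Subgroup G) ≤ normalizer (A : Set G)
  oct : Oct A
  nsc : ∀ E : Subgroup G, E ≤ S → Oct E → ∃ x ∈ (S : Subgroup G), (∀ e ∈ E, x * e = e * x) ∧ x ∉ E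
  no7 : ∀ E : Subgroup G, Oct E → ¬ 7 ∣ (centralizer (E : Set G)).relIndex (normalizer (E : Set G))
  noIso : ∀ z ∈ (S : Subgroup G), z ≠ 1 → z * z = 1 → ∃ g : G, g * z * g⁻¹ ∈ (S : Subgroup G) ∧ g * z * g⁻¹ ≠ z
  noSC : ∀ X : Subgroup G, (∀ x ∈ X, ∀ y ∈ X, x * y = y * x) → Cfsg.IsStronglyClosed X (S : Subgroup G) →
    X = ⊥

/-! ### Elementary abelian subgroups -/

/-- The join of two elementwise commuting elementary abelian 2-subgroups. -/
theorem sup_elem {X Y : Subgroup G} (hX : ∀ x ∈ X, x * x = 1) (hY : ∀ y ∈ Y, y * y = 1)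
    (hXc : ∀ x ∈ X, ∀ y ∈ X, x * y = y * x) (hYc : ∀ x ∈ Y, ∀ y ∈ Y, x * y = y * x)
    (hXY : ∀ x ∈ X, ∀ y ∈ Y, x * y = y * x) :
    (∀ x ∈ X ⊔ Y, ∀ y ∈ X ⊔ Y, x * y = y * x) ∧ ∀ x ∈ X ⊔ Y, x * x = 1 := by
  have h1 : X ⊔ Y ≤ centralizer (X : Set G) := by
    refine sup_le ?_ ?_
    · intro x hx
      rw [mem_centralizer_iff]
      intro y hy
      exact hXc y hy x hx
    · intro y hy
      rw [mem_centralizer_iff]
      intro x hx
      exact hXY x hx y hy
  have h2 : X ⊔ Y ≤ centralizer (Y : Set G) := by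
    refine sup_le ?_ ?_
    · intro x hx
      rw [mem_centralizer_iff]
      intro y hy
      exact (hXY x hx y hy).symm
    · intro y hy
      rw [mem_centralizer_iff]
      intro x hx
      exact hYc x hx y hy
  have h3 : X ⊔ Y ≤ centralizer ((X ⊔ Y : Subgroup G) : Set G) := by
    refine sup_le ?_ ?_
    · intro x hx
      rw [mem_centralizer_iff]
      intro y hy
      exact ((mem_centralizer_iff.1 (h1 hy)) x hx).symm
    · intro x hx
      rw [mem_centralizer_iff]
      intro y hy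
      exact ((mem_centralizer_iff.1 (h2 hy)) x hx).symm
  have hc : ∀ x ∈ X ⊔ Y, ∀ y ∈ X ⊔ Y, x * y = y * x := by
    intro x hx y hy
    exact (mem_centralizer_iff.1 (h3 hy)) x hx
  refine ⟨hc, ?_⟩
  have hle : X ⊔ Y ≤ closure ((X : Set G) ∪ Y) := sup_le (fun x hx => subset_closure (Or.inl hx))
    (fun x hx => subset_closure (Or.inr hx))
  have hge : closure ((X : Set G) ∪ Y) ≤ X ⊔ Y := by
    rw [closure_le]
    rintro x (hx | hx)
    · exact le_sup_left (a := X) hx
    · exact le_sup_right (b := Y) hx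
  intro x hx
  have hx' := hle hx
  induction hx' using closure_induction with
  | mem x h =>
    rcases h with h | h
    · exact hX x h
    · exact hY x h
  | one => simp
  | mul x y hx1 hy1 ihx ihy =>
    have hx2 := hge hx1
    have hy2 := hge hy1
    calc x * y * (x * y) = x * (y * x) * y := by group
      _ = x * (x * y) * y := by rw [hc y hy2 x hx2]
      _ = (x * x) * (y * y) := by group
      _ = 1 := by rw [ihx hx2, ihy hy2, one_mul]
  | inv x hx1 ih =>
    have := ih (hge hx1)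
    rw [← mul_inv_rev, this, inv_one]

theorem comm_of_sq' {X : Subgroup G} (h : ∀ x ∈ X, x * x = 1) : ∀ x ∈ X, ∀ y ∈ X, x * y = y * x := by
  intro x hx y hy
  have := comm_of_sq (V := X) (fun v => Subtype.ext (h v v.2)) ⟨x, hx⟩ ⟨y, hy⟩
  exact congrArg Subtype.val this

theorem zpowers_sq {x : G} (hx : x * x = 1) : ∀ y ∈ zpowers x, y * y = 1 := by
  intro y hy
  obtain ⟨k, rfl⟩ := mem_zpowers_iff.1 hy
  rw [← zpow_add, ← two_mul, zpow_mul]
  have : x ^ (2 : ℤ) = 1 := by rw [zpow_two, hx]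
  rw [this, one_zpow]

theorem zpowers_cases {x : G} (hx : x * x = 1) : ∀ y ∈ zpowers x, y = 1 ∨ y = x := by
  intro y hy
  obtain ⟨k, rfl⟩ := mem_zpowers_iff.1 hy
  have h2 : x ^ (2 : ℤ) = 1 := by rw [zpow_two, hx]
  obtain ⟨m, hm⟩ := Int.even_or_odd' k
  rcases hm with rfl | rfl
  · left; rw [zpow_mul, h2, one_zpow]
  · right; rw [zpow_add, zpow_mul, h2, one_zpow, one_mul, zpow_one]

section Rank

/-- 2-rank at most three. -/
theorem card_le (hr : Cfsg.PRankLE 2 3 G) {X : Subgroup G} (h : ∀ x ∈ X, x * x = 1) : Nat.card X ≤ 8 := by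
  have h1 := hr X ⟨⟨fun a b => Subtype.ext (comm_of_sq' h a a.2 b b.2)⟩⟩ (fun a ha => by rw [pow_two]; exact h a ha)
  simpa using h1

variable [Finite G]

theorem Oct.mem_of_comm (hr : Cfsg.PRankLE 2 3 G) {E : Subgroup G} (hE : Oct E) {x : G} (hx : x * x = 1)
    (hc : ∀ e ∈ E, x * e = e * x) : x ∈ E := by
  have h1 := sup_elem (X := E) (Y := zpowers x) hE.sq (zpowers_sq hx) (fun a ha b hb => hE.comm ha hb)
    (comm_of_sq' (zpowers_sq hx)) (by
      intro e he y hy
      rcases zpowers_cases hx y hy with rfl | rfl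
      · simp
      · exact (hc e he).symm)
  have h2 := card_le hr h1.2
  have h3 : E = E ⊔ zpowers x := Subgroup.eq_of_le_of_card_ge le_sup_left (by rw [hE.card]; exact h2)
  rw [h3]
  exact le_sup_right (a := E) (mem_zpowers x)

theorem Oct.le_of_comm (hr : Cfsg.PRankLE 2 3 G) {E : Subgroup G} (hE : Oct E) {X : Subgroup G}
    (hX : ∀ x ∈ X, x * x = 1) (hc : ∀ x ∈ X, ∀ e ∈ E, x * e = e * x) : X ≤ E :=
  fun x hx => Oct.mem_of_comm hr hE (hX x hx) (hc x hx)

theorem Oct.eq_of_le {E F : Subgroup G} (hE : Oct E) (hF : Oct F) (h : E ≤ F) : E = F :=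
  Subgroup.eq_of_le_of_card_ge h (by rw [hE.card, hF.card])

theorem Oct.eq_of_comm (hr : Cfsg.PRankLE 2 3 G) {E F : Subgroup G} (hE : Oct E) (hF : Oct F)
    (hc : ∀ x ∈ E, ∀ y ∈ F, x * y = y * x) : E = F :=
  Oct.eq_of_le hE hF (Oct.le_of_comm hr hF hE.sq hc)

end Rank

theorem Oct.cj {E : Subgroup G} (hE : Oct E) (g : G) : Oct (cj g E) := by
  refine ⟨by rw [card_map_conj]; exact hE.card, ?_⟩
  rintro _ ⟨x, hx, rfl⟩
  rw [← map_mul, hE.sq x hx, map_one]

theorem cj_cj (g h : G) (A : Subgroup G) : cj h (cj g A) = cj (h * g) A := map_conj_map_conj A g h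

theorem cj_one (A : Subgroup G) : cj 1 A = A := map_conj_one A

theorem cj_eq_iff {g : G} {A : Subgroup G} : cj g A = A ↔ g ∈ normalizer (A : Set G) :=
  mem_normalizer_iff_map_conj.symm

theorem cj_inv_eq {g : G} {A B : Subgroup G} (h : cj g A = B) : cj g⁻¹ B = A := by
  rw [← h, cj_cj, inv_mul_cancel, cj_one]

theorem card_cj (g : G) (A : Subgroup G) : Nat.card (cj g A : Subgroup G) = Nat.card A := card_map_conj A g

theorem mem_norm {A : Subgroup G} {g : G} (hg : g ∈ normalizer (A : Set G)) {x : G} (hx : x ∈ A) :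
    g * x * g⁻¹ ∈ A := (mem_normalizer_iff.1 hg x).1 hx

theorem mem_norm' {A : Subgroup G} {g : G} (hg : g ∈ normalizer (A : Set G)) {x : G} (hx : x ∈ A) :
    g⁻¹ * x * g ∈ A := by
  have := mem_norm (inv_mem hg) hx
  simpa using this

theorem mem_cent_iff {A : Subgroup G} {g : G} : g ∈ centralizer (A : Set G) ↔ ∀ a ∈ A, g * a = a * g := by
  rw [mem_centralizer_iff]
  exact ⟨fun h a ha => (h a ha).symm, fun h a ha => (h a ha).symm⟩

theorem mem_norm_of_conj [Finite G] {A : Subgroup G} {g : G} (h : ∀ x ∈ A, g * x * g⁻¹ ∈ A) :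
    g ∈ normalizer (A : Set G) := by
  rw [← cj_eq_iff]
  refine Subgroup.eq_of_le_of_card_ge ?_ (by rw [card_cj])
  rintro _ ⟨x, hx, rfl⟩
  simpa using h x hx

theorem conj_eq_iff {g x : G} : g * x * g⁻¹ = x ↔ g * x = x * g := mul_inv_eq_iff_eq_mul

theorem relIndex_mul_card' [Finite G] {H K : Subgroup G} (h : H ≤ K) :
    H.relIndex K * Nat.card H = Nat.card K := by
  have := card_mul_index (H.subgroupOf K)
  rw [Nat.card_congr (subgroupOfEquivOfLe h).toEquiv] at this
  rw [mul_comm]
  exact this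

/-- Two elements outside a subgroup of index two. -/
theorem mul_mem_of_index_two {H K : Subgroup G} (hHK : H ≤ K) (hc : Nat.card K = 2 * Nat.card H)
    [Finite K] {x y : G} (hx : x ∈ K) (hy : y ∈ K) (hx' : x ∉ H) (hy' : y ∉ H) : x * y ∈ H := by
  have h1 : (H.subgroupOf K).index = 2 := by
    have h2 := (H.subgroupOf K).card_mul_index
    rw [Nat.card_congr (subgroupOfEquivOfLe hHK).toEquiv, hc] at h2
    have h3 : 0 < Nat.card H := by
      have : 0 < Nat.card K := Nat.card_pos
      omega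
    rw [mul_comm] at h2
    exact Nat.eq_of_mul_eq_mul_right h3 h2
  have h4 := (mul_mem_iff_of_index_two h1 (a := (⟨x, hx⟩ : K)) (b := ⟨y, hy⟩)).2
    (by simp [mem_subgroupOf, hx', hy'])
  simpa [mem_subgroupOf] using h4

/-- The automizer of an elementary abelian group of order 8 has order dividing 168. -/
theorem Oct.relIndex_dvd [Finite G] {E : Subgroup G} (hE : Oct E) :
    (centralizer (E : Set G)).relIndex (normalizer (E : Set G)) ∣ 168 := by
  haveI := hE.finite_aut
  have h1 := card_img_mul (K := normalizer (E : Set G)) (V := E) le_rfl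
  have h2 : (normalizer (E : Set G) ⊓ centralizer (E : Set G) : Subgroup G) = centralizer (E : Set G) :=
    inf_eq_right.2 (centralizer_le_normalizer _)
  rw [h2] at h1
  have h3 := relIndex_mul_card' (centralizer_le_normalizer (E : Set G))
  have h4 : (centralizer (E : Set G)).relIndex (normalizer (E : Set G)) =
      Nat.card (img (normalizer (E : Set G)) E) :=
    Nat.eq_of_mul_eq_mul_right (Nat.card_pos (α := centralizer (E : Set G))) (by rw [h1, h3])
  rw [h4, ← hE.card_aut]
  exact card_subgroup_dvd_card _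

end Cfsg.Agent.RankThreeFus
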