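import Mathlib
import Cfsg.Agent.RankThreeFus.Setup
import Cfsg.Agent.RankThreeON.Seven
import Cfsg.Agent.S0501
import Cfsg.Agent.S0215

/-!
# S1730, branch (B): simple groups satisfy `Hyp`

A simple group of 2-rank at most 3 and sectional 2-rank at least 5 has a strongly embedded subgroup, or satisfies
`ONType.Sit.Frame`, or satisfies `RankThreeFus.Hyp`.
-/

set_option autoImplicit false
set_option linter.style.haveILetI false

namespace Cfsg.Agent.RankThreeFus.OfSimple

open Subgroup Cfsg.Agent.StdL2 Cfsg.Agent.RankThreeFus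

variable {G : Type*} [Group G] [Finite G]

/-- a normal elementary abelian subgroup of order 8 -/
theorem exists_normal_oct (hr : Cfsg.PRankLE 2 3 G) (h4 : ¬ Cfsg.SectionalPRankLE 2 4 G) (S : Sylow 2 G) :
    ∃ A : Subgroup G, A ≤ (S : Subgroup G) ∧ (S : Subgroup G) ≤ normalizer (A : Set G) ∧ G23Aut.Oct A := by
  have hf2 : Fact (Nat.Prime 2) := ⟨Nat.prime_two⟩
  have h1 : ¬ ∀ A : Subgroup (S : Subgroup G), A.Normal → IsMulCommutative A → (∀ a ∈ A, a ^ 2 = 1) →
      Nat.card A ≤ 4 := by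
    intro h
    apply h4
    apply Cfsg.Agent.TwoFusion.SectionalRank.sectionalPRankLE_of_sylow S
    exact Cfsg.Agent.S0501.result S.2 h
  push Not at h1
  obtain ⟨A, hAn, hAc, hA2, hcard⟩ := h1
  have hsq : ∀ x ∈ A.map (S : Subgroup G).subtype, x * x = 1 := by
    rintro _ ⟨a, ha, rfl⟩
    rw [← map_mul, ← pow_two, hA2 a ha, map_one]
  have hcA : Nat.card (A.map (S : Subgroup G).subtype) = Nat.card A :=
    (Nat.card_congr (A.equivMapOfInjective _ (S : Subgroup G).subtype_injective).toEquiv).symm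
  have hle8 := card_le hr hsq
  have h2 : IsPGroup 2 A := S.2.to_subgroup A
  obtain ⟨n, hn⟩ := h2.exists_card_eq
  have h8 : Nat.card (A.map (S : Subgroup G).subtype) = 8 := by
    rw [hcA, hn] at hle8 ⊢
    rw [hn] at hcard
    have h5 : n ≤ 3 := (Nat.pow_le_pow_iff_right (a := 2) (by norm_num)).1 hle8
    have h6 : ¬ n ≤ 2 := fun h => by
      have := (Nat.pow_le_pow_iff_right (a := 2) (by norm_num)).2 h
      omega
    have h7 : n = 3 := by omega
    rw [h7]; norm_num
  refine ⟨A.map (S : Subgroup G).subtype, map_subtype_le A, ?_, ⟨h8, hsq⟩⟩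
  intro s hs
  apply mem_norm_of_conj
  rintro _ ⟨a, ha, rfl⟩
  exact ⟨⟨s, hs⟩ * a * ⟨s, hs⟩⁻¹, hAn.conj_mem a ha _, rfl⟩

/-- no self-centralising elementary abelian subgroup of order 8 -/
theorem not_self_centralising (h4 : ¬ Cfsg.SectionalPRankLE 2 4 G) (S : Sylow 2 G) {E : Subgroup G}
    (hES : E ≤ (S : Subgroup G)) (oct : G23Aut.Oct E) :
    ∃ x ∈ (S : Subgroup G), (∀ e ∈ E, x * e = e * x) ∧ x ∉ E := by
  have hf2 : Fact (Nat.Prime 2) := ⟨Nat.prime_two⟩
  by_contra hcon
  push Not at hcon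
  apply h4
  apply Cfsg.Agent.TwoFusion.SectionalRank.sectionalPRankLE_of_sylow S
  refine Cfsg.Agent.S1232.result S.2 (E.subgroupOf S) ?_ ?_ ?_
  · refine ⟨⟨⟨fun a b => ?_⟩⟩, fun a ha => ?_⟩
    · exact Subtype.ext (Subtype.ext (oct.comm (mem_subgroupOf.1 a.2) (mem_subgroupOf.1 b.2)))
    · rw [pow_two]
      exact Subtype.ext (oct.sq _ (mem_subgroupOf.1 ha))
  · rw [Nat.card_congr (subgroupOfEquivOfLe hES).toEquiv, oct.card]
  · ext x
    rw [mem_centralizer_iff, mem_subgroupOf]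
    constructor
    · intro hx
      exact hcon x x.2 fun e he => (congrArg Subtype.val (hx ⟨e, hES he⟩ (mem_subgroupOf.2 he))).symm
    · intro hx e he
      exact Subtype.ext (oct.comm (mem_subgroupOf.1 he) hx)

/-- the Sylow 2-subgroups are not commutative -/
theorem not_comm (hr : Cfsg.PRankLE 2 3 G) (h4 : ¬ Cfsg.SectionalPRankLE 2 4 G) (S : Sylow 2 G) {E : Subgroup G}
    (hES : E ≤ (S : Subgroup G)) (oct : G23Aut.Oct E) : ¬ IsMulCommutative (S : Subgroup G) := by
  have hf2 : Fact (Nat.Prime 2) := ⟨Nat.prime_two⟩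
  intro hc
  apply h4
  apply Cfsg.Agent.TwoFusion.SectionalRank.sectionalPRankLE_of_sylow S
  refine Cfsg.Agent.RankThreeON.Seven.sectional_of_comm (fun x y => hc.is_comm.comm x y) (E.subgroupOf S) ?_ ?_
  · intro x hx
    rw [mem_subgroupOf]
    refine Oct.mem_of_comm hr oct (congrArg Subtype.val hx) (fun a ha => ?_)
    exact congrArg Subtype.val (hc.is_comm.comm x ⟨a, hES ha⟩)
  · rw [Nat.card_congr (subgroupOfEquivOfLe hES).toEquiv, oct.card]

/-- no involution is isolated in a nonabelian simple group (Glauberman's `Z*`-theorem) -/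
theorem exists_conj [IsSimpleGroup G] (hG : ¬ IsMulCommutative G) (S : Sylow 2 G) {z : G}
    (hz : z ∈ (S : Subgroup G)) (hz1 : z ≠ 1) (hz2 : z * z = 1) :
    ∃ g : G, g * z * g⁻¹ ∈ (S : Subgroup G) ∧ g * z * g⁻¹ ≠ z := by
  by_contra hcon
  push Not at hcon
  have ho : orderOf z = 2 := orderOf_eq_prime (by rw [pow_two]; exact hz2) hz1
  obtain ⟨N, hN, hodd, hcomm⟩ := Cfsg.Agent.S0215.result S z ho hz hcon
  rcases hN.eq_bot_or_eq_top with h | h
  · -- `z` is central
    have hzc : z ∈ center G := by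
      rw [mem_center_iff]
      intro g
      have h1 := hcomm g
      rw [h, mem_bot] at h1
      calc g * z = (z * g * z⁻¹ * g⁻¹) * (g * z) := by rw [h1, one_mul]
        _ = z * g := by group
    rcases (inferInstance : (center G).Normal).eq_bot_or_eq_top with h2 | h2
    · rw [h2, mem_bot] at hzc
      exact hz1 hzc
    · apply hG
      refine ⟨⟨fun a b => ?_⟩⟩
      have h3 : b ∈ center G := by rw [h2]; exact mem_top b
      exact mem_center_iff.1 h3 a
  · rw [h] at hodd
    have h1 : Nat.card (⊤ : Subgroup G) = Nat.card G := card_top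
    rw [h1] at hodd
    have h2 := orderOf_dvd_natCard z
    rw [ho] at h2
    obtain ⟨k, hk⟩ := hodd
    omega

/-- **branch (B) from its hypotheses** -/
theorem main [IsSimpleGroup G] (hG : ¬ IsMulCommutative G) (hGold : Cfsg.Agent.RankThreeON.Seven.Gold G)
    (hr : Cfsg.PRankLE 2 3 G) (h4 : ¬ Cfsg.SectionalPRankLE 2 4 G) :
    (∃ H : Subgroup G, Cfsg.IsStronglyEmbedded H) ∨
      (∃ (n : ℕ) (S : Sylow 2 G) (T : Subgroup G), Cfsg.Agent.ONType.Sit.Frame n S T) ∨
        ∀ S : Sylow 2 G, ∃ A : Subgroup G, Hyp S A := by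
  by_cases hSE : ∃ H : Subgroup G, Cfsg.IsStronglyEmbedded H
  · exact Or.inl hSE
  by_cases h7 : ∃ E : Subgroup G, G23Aut.Oct E ∧
      7 ∣ (centralizer (E : Set G)).relIndex (normalizer (E : Set G))
  · obtain ⟨E, hE, h7⟩ := h7
    rcases Cfsg.Agent.RankThreeON.Seven.main hGold hr h4 hE h7 with h | h
    · exact Or.inl h
    · exact Or.inr (Or.inl h)
  right; right
  intro S
  obtain ⟨A, hAS, hSA, hA⟩ := exists_normal_oct hr h4 S
  refine ⟨A,
  { rank := hr
    le := hAS
    norm := hSA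
    oct := hA
    nsc := fun E hES hE => not_self_centralising h4 S hES hE
    no7 := fun E hE h => h7 ⟨E, hE, h⟩
    noIso := fun z hz hz1 hz2 => exists_conj hG S hz hz1 hz2
    noSC := ?_ }⟩
  intro X hX hXS
  by_contra hne
  rcases hGold S X hne ⟨⟨fun a b => Subtype.ext (hX a a.2 b b.2)⟩⟩ hXS with h | h
  · exact not_comm hr h4 S hAS hA h
  · exact hSE h

end Cfsg.Agent.RankThreeFus.OfSimple
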