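import Cfsg.Agent.RankThree.Assemble
import Cfsg.Agent.RankThreeFus.OfSimple
import Cfsg.Agent.RankThreeFus.MaxChoice
import Cfsg.Agent.RankThreeFus.CTwoEnd

/-!
# S1730, branch (B): the final glue

`propB_of`: `PropB` from Goldschmidt's theorem and CASE I: `SmallOne` (a small maximal choice is impossible in
CASE I) and `BigOne` (a maximal choice which is not small yields a small one, in CASE I).
-/

set_option autoImplicit false
set_option linter.style.haveILetI false

namespace Cfsg.Agent.RankThreeFus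

open Subgroup Cfsg.Agent.Lib.GoldschmidtFusion Cfsg.Agent.Lib.EssentialFusion Cfsg.Agent.StdL2.G23Aut

universe u

/-- `P` is small: `[A, P] ≤ ⟨z⟩`. -/
def SmallP {G : Type*} [Group G] (A P : Subgroup G) (z : G) : Prop :=
  ∀ g ∈ P, ∀ a ∈ A, g * a * g⁻¹ = a ∨ g * a * g⁻¹ = z * a

/-- CASE I, PART 1: `P` small. -/
def SmallOne (G : Type*) [Group G] : Prop :=
  ∀ (S : Sylow 2 G) (A U : Subgroup G) (z f x s : G) (Y : Subgroup G) (t : G) (P : Subgroup G),
    Yz S A U z f x s Y t → Choice.Max S U P → A ≤ P → (∀ l ∈ normalizer (P : Set G), l * z = z * l) →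
    SmallP A P z → ∀ l ∈ normalizer (P : Set G), (∀ a ∈ A, a ∈ cj l A → a = 1 ∨ a = z) → False

/-- CASE I, PART 2: `P` not small. -/
def BigOne (G : Type*) [Group G] : Prop :=
  ∀ (S : Sylow 2 G) (A U : Subgroup G) (z f x s : G) (Y : Subgroup G) (t : G) (P : Subgroup G),
    Yz S A U z f x s Y t → Choice.Max S U P → A ≤ P → (∀ l ∈ normalizer (P : Set G), l * z = z * l) →
    ¬ SmallP A P z → ∀ l ∈ normalizer (P : Set G), (∀ a ∈ A, a ∈ cj l A → a = 1 ∨ a = z) →
    ∃ P' : Subgroup G, Choice.Max S U P' ∧ SmallP A P' z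

/-- `Hyp` is impossible in sectional 2-rank at least 5. -/
theorem Hyp.false_of {G : Type*} [Group G] [Finite G] {S : Sylow 2 G} {A : Subgroup G} (h : Hyp S A)
    (h4 : ¬ Cfsg.SectionalPRankLE 2 4 G) (h1 : SmallOne G) (h2 : BigOne G) : False := by
  obtain ⟨A₀, U, z, f, x, s, Y, t, -, hY⟩ := h.exists_frame
  have key : ∀ P : Subgroup G, Choice.Max S U P → ¬ SmallP A₀ P z := by
    intro P hP hs
    obtain ⟨hAP, hLz⟩ := hY.fr.max_facts hP
    rcases hY.dicho_of hP with h5 | ⟨l, hl, hal⟩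
    · exact h4 h5.rank_le
    · exact h1 S A₀ U z f x s Y t P hY hP hAP hLz hs l hl hal
  obtain ⟨P, hP, hAP, hLz, h5 | ⟨l, hl, hal⟩⟩ := hY.dicho
  · exact h4 h5.rank_le
  · obtain ⟨P', hP', hs'⟩ := h2 S A₀ U z f x s Y t P hY hP hAP hLz (key P hP) l hl hal
    exact key P' hP' hs'

/-- **`PropB`** from the two missing pieces and Goldschmidt's theorem. -/
theorem propB_of
    (hGold : ∀ (G : Type u) [Group G] [Finite G] [IsSimpleGroup G], ¬ IsMulCommutative G →
      Cfsg.Agent.RankThreeON.Seven.Gold G)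
    (h1 : ∀ (G : Type u) [Group G] [Finite G], SmallOne G)
    (h2 : ∀ (G : Type u) [Group G] [Finite G], BigOne G) :
    Cfsg.Agent.RankThree.Assemble.PropB.{u} := by
  intro G _ _ _ hG hr _ h4
  rcases OfSimple.main hG (hGold G hG) hr h4 with h | h | h
  · exact Or.inl h
  · exact Or.inr h
  · exfalso
    obtain ⟨A, hA⟩ := h (Classical.arbitrary (Sylow 2 G))
    exact hA.false_of h4 (h1 G) (h2 G)

end Cfsg.Agent.RankThreeFus
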