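import Cfsg.Agent.RankThreeFus.Setup

/-!
# S1730, branch (B), last case (B8*): the frame

`Fr S A U z f x s`: the automizer of the normal elementary abelian subgroup `A` of order 8 is the
stabiliser (isomorphic to `S₄`) of the four-group `U ≤ A`; `T := S ⊓ centralizer A`,
`Q := S ⊓ centralizer U`; `z` generates `A ⊓ Z(S)`; `x` is a 3-element normalising `A`, `T`, `Q` which
permutes the involutions of `U` and centralises `f ∈ A - U`; `s ∈ S - Q` inverts `x`.
-/

set_option autoImplicit false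

namespace Cfsg.Agent.RankThreeFus

open Subgroup Cfsg.Agent.Lib.GoldschmidtFusion Cfsg.Agent.StdL2.G23Aut

variable {G : Type*} [Group G]

/-- The frame of the last case. -/
structure Fr (S : Sylow 2 G) (A U : Subgroup G) (z f x s : G) : Prop where
  hyp : Hyp S A
  UA : U ≤ A
  cardU : Nat.card U = 4
  nU : normalizer (A : Set G) ≤ normalizer (U : Set G)
  zU : z ∈ U
  z1 : z ≠ 1
  zc : ∀ g ∈ (S : Subgroup G), g * z = z * g
  zuniq : ∀ a ∈ A, (∀ g ∈ (S : Subgroup G), g * a = a * g) → a = 1 ∨ a = z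
  fA : f ∈ A
  fU : f ∉ U
  xA : x ∈ normalizer (A : Set G)
  xT : x ∈ normalizer (((S : Subgroup G) ⊓ centralizer (A : Set G) : Subgroup G) : Set G)
  xQ : x ∈ normalizer (((S : Subgroup G) ⊓ centralizer (U : Set G) : Subgroup G) : Set G)
  xz : x * z * x⁻¹ ≠ z
  xf : x * f = f * x
  xo : ∃ k, orderOf x = 3 ^ k
  sS : s ∈ (S : Subgroup G)
  sU : s ∉ centralizer (U : Set G)
  sx : s * x * s⁻¹ = x⁻¹
  cardS : Nat.card S = 8 * Nat.card ((S : Subgroup G) ⊓ centralizer (A : Set G) : Subgroup G)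
  cardQ : Nat.card ((S : Subgroup G) ⊓ centralizer (U : Set G) : Subgroup G) =
    4 * Nat.card ((S : Subgroup G) ⊓ centralizer (A : Set G) : Subgroup G)
  tv : ∀ u ∈ U, ∃ b ∈ ((S : Subgroup G) ⊓ centralizer (U : Set G) : Subgroup G), b * f * b⁻¹ = f * u

/-- `T = C_S(A)` -/
abbrev TT (S : Sylow 2 G) (A : Subgroup G) : Subgroup G := (S : Subgroup G) ⊓ centralizer (A : Set G)

theorem conj_mem_cent {B : Subgroup G} {g t : G} (hg : g ∈ normalizer (B : Set G))
    (ht : t ∈ centralizer (B : Set G)) : g * t * g⁻¹ ∈ centralizer (B : Set G) := by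
  rw [mem_cent_iff] at ht ⊢
  intro a ha
  have h3 := ht _ (mem_norm' hg ha)
  calc g * t * g⁻¹ * a = g * (t * (g⁻¹ * a * g)) * g⁻¹ := by group
    _ = g * ((g⁻¹ * a * g) * t) * g⁻¹ := by rw [h3]
    _ = _ := by group

theorem inf_cent_norm {H B : Subgroup G} (hHB : H ≤ normalizer (B : Set G)) :
    H ≤ normalizer ((H ⊓ centralizer (B : Set G) : Subgroup G) : Set G) := by
  intro g hg
  rw [mem_normalizer_iff]
  intro t
  constructor
  · rintro ⟨h1, h2⟩
    exact ⟨H.mul_mem (H.mul_mem hg h1) (H.inv_mem hg), conj_mem_cent (hHB hg) h2⟩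
  · rintro ⟨h1, h2⟩
    have h3 := H.mul_mem (H.mul_mem (H.inv_mem hg) h1) hg
    have h4 := conj_mem_cent (inv_mem (hHB hg)) h2
    have h5 : g⁻¹ * (g * t * g⁻¹) * g = t := by group
    rw [inv_inv] at h4
    rw [h5] at h3 h4
    exact ⟨h3, h4⟩

namespace Fr

variable {S : Sylow 2 G} {A U : Subgroup G} {z f x s : G} (h : Fr S A U z f x s)

include h

theorem zA : z ∈ A := h.UA h.zU

theorem AS : A ≤ S := h.hyp.le

theorem US : U ≤ S := h.UA.trans h.AS

theorem sqA {a : G} (ha : a ∈ A) : a * a = 1 := h.hyp.oct.sq a ha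

theorem commA {a b : G} (ha : a ∈ A) (hb : b ∈ A) : a * b = b * a := h.hyp.oct.comm ha hb

theorem invA {a : G} (ha : a ∈ A) : a⁻¹ = a := h.hyp.oct.inv ha

theorem T_le_Q : TT S A ≤ (S : Subgroup G) ⊓ centralizer (U : Set G) :=
  inf_le_inf_left _ (centralizer_le (SetLike.coe_subset_coe.2 h.UA))

theorem A_le_T : A ≤ TT S A :=
  le_inf h.AS (fun a ha => mem_cent_iff.2 fun _ hb => h.commA ha hb)

theorem xU : x ∈ normalizer (U : Set G) := h.nU h.xA

theorem SnU : (S : Subgroup G) ≤ normalizer (U : Set G) := h.hyp.norm.trans h.nU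

theorem SnT : (S : Subgroup G) ≤ normalizer (TT S A : Set G) := inf_cent_norm h.hyp.norm

theorem SnQ : (S : Subgroup G) ≤
    normalizer (((S : Subgroup G) ⊓ centralizer (U : Set G) : Subgroup G) : Set G) :=
  inf_cent_norm h.SnU

theorem f1 : f ≠ 1 := fun hf => h.fU (hf ▸ U.one_mem)

/-- `A = U ∪ fU`. -/
theorem mem_A [Finite G] {a : G} (ha : a ∈ A) : a ∈ U ∨ f * a ∈ U := by
  by_cases h1 : a ∈ U
  · exact Or.inl h1
  · right
    exact mul_mem_of_index_two h.UA (by rw [h.hyp.oct.card, h.cardU]) h.fA ha h.fU h1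

end Fr

end Cfsg.Agent.RankThreeFus
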