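import Cfsg.Agent.RankThreeFus.Star

/-!
# S1730, type (a5): the frame with the square root `t` of `z`

`Ft S A U z f x v g t` : `Fv` together with `t ∈ T`, `t² = z`, `[t, v] = 1`, `t t^x t^(x²) = 1`, `[Q, t] ≤ A`.
`CC v m = m v m⁻¹ v`, so that `m v m⁻¹ = CC v m * v`.
Blueprint: `S1730-a5-helper439.md`.
-/

set_option autoImplicit false
set_option linter.style.haveILetI false

namespace Cfsg.Agent.RankThreeFus

open Subgroup Cfsg.Agent.Lib.GoldschmidtFusion Cfsg.Agent.StdL2.G23Aut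

variable {G : Type*} [Group G]

/-- The frame `Fv` with a `v`-fixed square root `t` of `z`. -/
structure Ft (S : Sylow 2 G) (A U : Subgroup G) (z f x v g t : G) : Prop extends Fv S A U z f x v g where
  tT : t ∈ TT S A
  t2 : t * t = z
  vt : v * t = t * v
  tx : t * (x * t * x⁻¹) = (x * t * x⁻¹) * t
  x3 : x * (x * (x * t * x⁻¹) * x⁻¹) * x⁻¹ = t
  prod : t * (x * t * x⁻¹) * (x * (x * t * x⁻¹) * x⁻¹) = 1
  Qt : ∀ q ∈ QQ S U, q * t * q⁻¹ * t⁻¹ ∈ A

/-- `m v m⁻¹ = CC v m * v` -/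
def CC (v m : G) : G := m * v * m⁻¹ * v

theorem CC_v {v : G} (h2 : v * v = 1) (m : G) : CC v m * v = m * v * m⁻¹ := by
  unfold CC
  rw [mul_assoc, h2, mul_one]

theorem CC_conj {v : G} (h2 : v * v = 1) (m : G) : v * CC v m * v⁻¹ = (CC v m)⁻¹ := by
  have h3 : v⁻¹ = v := inv_eq_of_mul_eq_one_left h2
  unfold CC
  simp only [mul_inv_rev, inv_inv, h3, mul_assoc]
  rw [h2, mul_one]

theorem CC_mul {v : G} (h2 : v * v = 1) (a b : G) : CC v (a * b) = a * CC v b * a⁻¹ * CC v a := by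
  have h3 : v⁻¹ = v := inv_eq_of_mul_eq_one_left h2
  unfold CC
  calc a * b * v * (a * b)⁻¹ * v = a * (b * v * b⁻¹) * a⁻¹ * v := by group
    _ = a * (b * v * b⁻¹ * (v * v)) * a⁻¹ * v := by rw [h2, mul_one]
    _ = _ := by group

theorem CC_of_comm {v : G} (h2 : v * v = 1) {b : G} (hb : v * b = b * v) : CC v b = 1 := by
  unfold CC
  rw [← hb, mul_assoc v b, mul_inv_cancel, mul_one, h2]

theorem CC_mul_right {v : G} (h2 : v * v = 1) (a : G) {b : G} (hb : v * b = b * v) : CC v (a * b) = CC v a := by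
  rw [CC_mul h2, CC_of_comm h2 hb, mul_one, mul_inv_cancel, one_mul]

theorem CC_eq_one {v : G} (h2 : v * v = 1) {b : G} (hb : CC v b = 1) : v * b = b * v := by
  have h3 : v⁻¹ = v := inv_eq_of_mul_eq_one_left h2
  unfold CC at hb
  have h4 : b * v * b⁻¹ = v := by
    have h5 := eq_inv_of_mul_eq_one_left hb
    rw [h3] at h5; exact h5
  exact (conj_eq_iff.1 h4).symm

/-- If `m` is inverted by `v`, then `CC v (a * m)`... : `CC v (m) = m * m`. -/
theorem CC_of_inv {v : G} (h2 : v * v = 1) {m : G} (hm : v * m * v⁻¹ = m⁻¹) : CC v m = m * m := by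
  have h3 : v⁻¹ = v := inv_eq_of_mul_eq_one_left h2
  have h4 : v * m⁻¹ * v = m := by
    have h5 : v * m⁻¹ * v⁻¹ = (v * m * v⁻¹)⁻¹ := by group
    rw [hm, inv_inv, h3] at h5
    exact h5
  unfold CC
  rw [mul_assoc, mul_assoc, ← mul_assoc v m⁻¹ v, h4]

/-- All powers of `CC v m` are of the form `CC v m'` with `m' ∈ ⟨m, CC v m⟩`. -/
theorem CC_pow {v : G} (h2 : v * v = 1) (m : G) (k : ℤ) {H : Subgroup G} (hm : m ∈ H) (hc : CC v m ∈ H) :
    ∃ m' ∈ H, CC v m' = (CC v m) ^ k := by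
  have hinv : ∀ j : ℤ, v * (CC v m) ^ j * v⁻¹ = ((CC v m) ^ j)⁻¹ := by
    intro j
    rw [← conj_zpow, CC_conj h2, inv_zpow]
  obtain ⟨j, hj⟩ := Int.even_or_odd' k
  rcases hj with hj | hj
  · refine ⟨(CC v m) ^ j, zpow_mem hc j, ?_⟩
    rw [CC_of_inv h2 (hinv j), hj, two_mul, zpow_add]
  · refine ⟨(CC v m) ^ j * m, mul_mem (zpow_mem hc j) hm, ?_⟩
    rw [CC_mul h2, CC_of_inv h2 (hinv j), hj]
    have h5 : (CC v m) ^ j * CC v m * ((CC v m) ^ j)⁻¹ = CC v m := by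
      have h6 : Commute ((CC v m) ^ j) (CC v m) := (Commute.refl (CC v m)).zpow_left j
      rw [h6.eq]; group
    rw [h5]
    rw [← zpow_add, ← two_mul]
    conv_lhs => rw [← zpow_one (CC v m)]
    rw [← zpow_mul, one_mul, ← zpow_add]
    congr 1
    ring

namespace Ft

variable {S : Sylow 2 G} {A U : Subgroup G} {z f x v g t : G} (h : Ft S A U z f x v g t)

include h

theorem CC_mem {M : Subgroup G} (hvM : v ∈ normalizer (M : Set G)) {m : G} (hm : m ∈ M) : CC v m ∈ M := by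
  have h1 : CC v m = m * (v * m⁻¹ * v⁻¹) := by unfold CC; rw [h.vi]; group
  rw [h1]
  exact mul_mem hm (mem_norm hvM (inv_mem hm))

theorem CC_T {m : G} (hm : m ∈ TT S A) : CC v m ∈ TT S A := h.CC_mem (h.SnT h.vS) hm

theorem CC_Q {m : G} (hm : m ∈ QQ S U) : CC v m ∈ QQ S U := h.CC_mem (h.SnQ h.vS) hm

end Ft

end Cfsg.Agent.RankThreeFus
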