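import Cfsg.Agent.RankThreeFus.LastTools

/-!
# S1730, branch (B), last case: existence of the frame

Input: `Hyp S A`, the involution `z` of `A ⊓ Z(S)` and an element `y` of `N(A)` moving `z`.
-/

set_option autoImplicit false
set_option linter.style.haveILetI false

namespace Cfsg.Agent.RankThreeFus

open Subgroup Cfsg.Agent.Lib.GoldschmidtFusion Cfsg.Agent.StdL2.G23Aut

variable {G : Type*} [Group G]

/-- The four-group generated by two commuting involutions. -/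
def four (z w : G) (hz : z * z = 1) (hw : w * w = 1) (hc : w * z = z * w) : Subgroup G where
  carrier := {1, z, w, z * w}
  one_mem' := by simp
  mul_mem' := by
    intro a b ha hb
    simp only [Set.mem_insert_iff, Set.mem_singleton_iff] at ha hb ⊢
    have e1 : z * (z * w) = w := by rw [← mul_assoc, hz, one_mul]
    have e2 : w * (z * w) = z := by rw [← mul_assoc, hc, mul_assoc, hw, mul_one]
    have e3 : z * w * z = w := by rw [mul_assoc, hc, ← mul_assoc, hz, one_mul]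
    have e4 : z * w * w = z := by rw [mul_assoc, hw, mul_one]
    have e5 : z * w * (z * w) = 1 := by rw [← mul_assoc, e3, hw]
    rcases ha with rfl | rfl | rfl | rfl <;> rcases hb with rfl | rfl | rfl | rfl <;>
      simp only [one_mul, mul_one, hz, hw, hc, e1, e2, e3, e4, e5, true_or, or_true]
  inv_mem' := by
    intro a ha
    simp only [Set.mem_insert_iff, Set.mem_singleton_iff] at ha ⊢
    have hz' : z⁻¹ = z := inv_eq_of_mul_eq_one_left hz
    have hw' : w⁻¹ = w := inv_eq_of_mul_eq_one_left hw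
    rcases ha with rfl | rfl | rfl | rfl
    · simp
    · right; left; exact hz'
    · right; right; left; exact hw'
    · right; right; right
      rw [mul_inv_rev, hz', hw', hc]

theorem mem_four {z w : G} {hz : z * z = 1} {hw : w * w = 1} {hc : w * z = z * w} {a : G} :
    a ∈ four z w hz hw hc ↔ a = 1 ∨ a = z ∨ a = w ∨ a = z * w := Iff.rfl

theorem card_four {z w : G} {hz : z * z = 1} {hw : w * w = 1} {hc : w * z = z * w}
    (hz1 : z ≠ 1) (hw1 : w ≠ 1) (hzw : w ≠ z) : Nat.card (four z w hz hw hc) = 4 := by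
  have hzw1 : z * w ≠ 1 := by
    intro h
    apply hzw
    rw [← inv_eq_of_mul_eq_one_left hz]
    exact eq_inv_of_mul_eq_one_right h
  change Nat.card ({1, z, w, z * w} : Set G) = 4
  rw [Nat.card_coe_set_eq]
  rw [Set.ncard_insert_of_notMem, Set.ncard_insert_of_notMem, Set.ncard_insert_of_notMem,
    Set.ncard_singleton]
  · simpa using fun h => hz1 h
  · simp only [Set.mem_insert_iff, Set.mem_singleton_iff, not_or]
    exact ⟨fun h => hzw h.symm, by simpa using hw1⟩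
  · simp only [Set.mem_insert_iff, Set.mem_singleton_iff, not_or]
    exact ⟨fun h => hz1 h.symm, fun h => hw1 h.symm, fun h => hzw1 h.symm⟩

theorem same_coset [Finite G] {K Y : Subgroup G} (h3 : K.relIndex Y = 3) (f : Fin 4 → G)
    (hf : ∀ i, f i ∈ Y) : ∃ i j, i ≠ j ∧ (f i)⁻¹ * f j ∈ K := by
  have h1 : Nat.card (Y ⧸ K.subgroupOf Y) = 3 := h3
  haveI : Fintype (Y ⧸ K.subgroupOf Y) := Fintype.ofFinite _
  have h2 : Fintype.card (Y ⧸ K.subgroupOf Y) < Fintype.card (Fin 4) := by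
    rw [← Nat.card_eq_fintype_card, h1]; simp
  obtain ⟨i, j, hij, he⟩ := Fintype.exists_ne_map_eq_of_card_lt
    (fun i => (QuotientGroup.mk (⟨f i, hf i⟩ : Y) : Y ⧸ K.subgroupOf Y)) h2
  refine ⟨i, j, hij, ?_⟩
  have h4 := QuotientGroup.eq.1 he
  simpa [mem_subgroupOf] using h4

/-- The input. -/
structure Mv (S : Sylow 2 G) (A : Subgroup G) (z : G) : Prop where
  hyp : Hyp S A
  zA : z ∈ A
  z1 : z ≠ 1
  zc : ∀ g ∈ (S : Subgroup G), g * z = z * g
  zuniq : ∀ a ∈ A, (∀ g ∈ (S : Subgroup G), g * a = a * g) → a = 1 ∨ a = z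
  mv : ∃ y ∈ normalizer (A : Set G), y * z * y⁻¹ ≠ z

namespace Mv

variable [Finite G] {S : Sylow 2 G} {A : Subgroup G} {z : G} (h : Mv S A z)

include h

theorem relIndex_eq : (normalizer (A : Set G) ⊓ centralizer {z} : Subgroup G).relIndex
    (normalizer (A : Set G)) = 3 := by
  have h1 : (S : Subgroup G) ≤ normalizer (A : Set G) ⊓ centralizer {z} := by
    refine le_inf h.hyp.norm fun g hg => ?_
    rw [mem_centralizer_singleton_iff]
    exact h.zc g hg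
  set H := (normalizer (A : Set G) ⊓ centralizer {z} : Subgroup G) with hH
  have h2 : ¬ 2 ∣ H.relIndex (normalizer (A : Set G)) := by
    intro h3
    apply S.not_dvd_index
    have h4 : (S : Subgroup G).relIndex (normalizer (A : Set G)) ∣ (S : Subgroup G).index :=
      relIndex_dvd_index_of_le h.hyp.norm
    exact (h3.trans (relIndex_dvd_of_le_left _ h1)).trans h4
  have h5 : centralizer (A : Set G) ≤ H := by
    refine le_inf (centralizer_le_normalizer _) fun g hg => ?_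
    rw [mem_centralizer_singleton_iff]
    exact mem_cent_iff.1 hg z h.zA
  have h6 : H.relIndex (normalizer (A : Set G)) ∣
      (centralizer (A : Set G)).relIndex (normalizer (A : Set G)) := relIndex_dvd_of_le_left _ h5
  have h7 := Cfsg.Agent.RankThreeFus.Oct.relIndex_dvd h.hyp.oct
  have h8 := h.hyp.no7 A h.hyp.oct
  set m := H.relIndex (normalizer (A : Set G)) with hm
  have h9 : ¬ 7 ∣ m := fun h9 => h8 (h9.trans h6)
  have h10 : m ∣ 168 := h6.trans h7
  have h11 : m ≠ 1 := by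
    intro h12
    rw [hm, relIndex_eq_one] at h12
    obtain ⟨y, hy, hyz⟩ := h.mv
    apply hyz
    rw [conj_eq_iff]
    exact (mem_centralizer_singleton_iff.1 (h12 hy).2)
  have h12 : m ∈ Nat.divisors 168 := Nat.mem_divisors.2 ⟨h10, by norm_num⟩
  have h13 : ∀ m ∈ Nat.divisors 168, ¬ 2 ∣ m → ¬ 7 ∣ m → m ≠ 1 → m = 3 := by decide
  exact h13 m h12 h2 h9 h11

/-- among four conjugates two coincide -/
theorem four_conj (n : Fin 4 → G) (hn : ∀ i, n i ∈ normalizer (A : Set G)) :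
    ∃ i j, i ≠ j ∧ n i * z * (n i)⁻¹ = n j * z * (n j)⁻¹ := by
  obtain ⟨i, j, hij, h1⟩ := same_coset h.relIndex_eq n hn
  refine ⟨i, j, hij, ?_⟩
  have h2 := mem_centralizer_singleton_iff.1 h1.2
  have h3 : n i * z * (n i)⁻¹ = n i * (((n i)⁻¹ * n j) * z * ((n i)⁻¹ * n j)⁻¹) * (n i)⁻¹ := by
    rw [h2]; group
  rw [h3]; group

/-- conjugates of `z` under `N(A)` -/
theorem exists_two : ∃ w s₀ n₁ : G, n₁ ∈ normalizer (A : Set G) ∧ n₁ * z * n₁⁻¹ = w ∧ w ≠ z ∧
    s₀ ∈ (S : Subgroup G) ∧ s₀ * w * s₀⁻¹ = z * w ∧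
    ∀ n ∈ normalizer (A : Set G), n * z * n⁻¹ = z ∨ n * z * n⁻¹ = w ∨ n * z * n⁻¹ = z * w := by
  obtain ⟨y, hy, hyz⟩ := h.mv
  set w := y * z * y⁻¹ with hw
  have hwA : w ∈ A := mem_norm hy h.zA
  have hw1 : w ≠ 1 := by
    intro h1
    apply h.z1
    rw [hw, mul_inv_eq_one] at h1
    exact mul_eq_left.1 h1
  obtain ⟨s₀, hs₀, hs₀w⟩ : ∃ s₀ ∈ (S : Subgroup G), s₀ * w * s₀⁻¹ ≠ w := by
    by_contra hcon
    push Not at hcon
    rcases h.zuniq w hwA (fun g hg => conj_eq_iff.1 (hcon g hg)) with h1 | h1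
    · exact hw1 h1
    · exact hyz h1
  set w' := s₀ * w * s₀⁻¹ with hw'
  have hSN := h.hyp.norm
  have hw'A : w' ∈ A := mem_norm (hSN hs₀) hwA
  have fixz : ∀ g ∈ (S : Subgroup G), g * z * g⁻¹ = z := fun g hg => conj_eq_iff.2 (h.zc g hg)
  have notz : ∀ g ∈ (S : Subgroup G), ∀ v, v ≠ z → g * v * g⁻¹ ≠ z := by
    intro g hg v hv h1
    apply hv
    have h2 : v = g⁻¹ * z * g := by rw [← h1]; group
    rw [h2]
    have := fixz g⁻¹ ((S : Subgroup G).inv_mem hg)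
    rwa [inv_inv] at this
  have hw'z : w' ≠ z := notz s₀ hs₀ w hyz
  have hall : ∀ n ∈ normalizer (A : Set G), n * z * n⁻¹ = z ∨ n * z * n⁻¹ = w ∨ n * z * n⁻¹ = w' := by
    intro n hn
    obtain ⟨i, j, hij, hE⟩ := h.four_conj ![1, y, s₀ * y, n] (by
      intro i; fin_cases i
      · exact one_mem _
      · exact hy
      · exact mul_mem (hSN hs₀) hy
      · exact hn)
    have e0 : (1 : G) * z * 1⁻¹ = z := by simp
    have e2 : (s₀ * y) * z * (s₀ * y)⁻¹ = w' := by rw [hw', hw]; group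
    fin_cases i <;> fin_cases j <;> simp only [Fin.zero_eta, Fin.mk_one, Fin.isValue,
      Matrix.cons_val_zero, Matrix.cons_val_one, Fin.reduceFinMk, Matrix.cons_val,
      ne_eq, not_true_eq_false] at hij hE
    all_goals simp only [e0, e2, ← hw] at hE
    · exact absurd hE.symm hyz
    · exact absurd hE.symm hw'z
    · exact Or.inl hE.symm
    · exact absurd hE hyz
    · exact absurd hE.symm hs₀w
    · exact Or.inr (Or.inl hE.symm)
    · exact absurd hE hw'z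
    · exact absurd hE hs₀w
    · exact Or.inr (Or.inr hE.symm)
    · exact Or.inl hE
    · exact Or.inr (Or.inl hE)
    · exact Or.inr (Or.inr hE)
  have hp : z * w * w' ∈ A := mul_mem (mul_mem h.zA hwA) hw'A
  have hcomm : w * w' = w' * w := h.hyp.oct.comm hwA hw'A
  have hfix : ∀ g ∈ (S : Subgroup G), g * (z * w * w') = z * w * w' * g := by
    intro g hg
    rw [← conj_eq_iff]
    have h1 : g * (z * w * w') * g⁻¹ = (g * z * g⁻¹) * (g * w * g⁻¹) * (g * w' * g⁻¹) := by group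
    rw [h1, fixz g hg]
    have h2 : g * w * g⁻¹ = w ∨ g * w * g⁻¹ = w' := by
      have := hall (g * y) (mul_mem (hSN hg) hy)
      have e : (g * y) * z * (g * y)⁻¹ = g * w * g⁻¹ := by rw [hw]; group
      rw [e] at this
      rcases this with h3 | h3
      · exact absurd h3 (notz g hg w hyz)
      · exact h3
    have h4 : g * w' * g⁻¹ = w ∨ g * w' * g⁻¹ = w' := by
      have := hall (g * (s₀ * y)) (mul_mem (hSN hg) (mul_mem (hSN hs₀) hy))
      have e : (g * (s₀ * y)) * z * (g * (s₀ * y))⁻¹ = g * w' * g⁻¹ := by rw [hw', hw]; group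
      rw [e] at this
      rcases this with h3 | h3
      · exact absurd h3 (notz g hg w' hw'z)
      · exact h3
    have hne : g * w * g⁻¹ ≠ g * w' * g⁻¹ := by
      intro h5
      apply hs₀w
      have h6 : g * w = g * w' := mul_right_cancel h5
      exact (mul_left_cancel h6).symm
    rcases h2 with h2 | h2 <;> rcases h4 with h4 | h4
    · exact absurd (h2.trans h4.symm) hne
    · rw [h2, h4]
    · rw [h2, h4, mul_assoc z w' w, ← hcomm, ← mul_assoc z w w']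
    · exact absurd (h2.trans h4.symm) hne
  have hzw' : w' = z * w := by
    rcases h.zuniq _ hp hfix with h1 | h1
    · rw [← inv_eq_of_mul_eq_one_right h1, mul_inv_rev, h.hyp.oct.inv h.zA, h.hyp.oct.inv hwA]
      exact h.hyp.oct.comm hwA h.zA
    · exfalso
      rw [mul_assoc] at h1
      have h2 : w * w' = 1 := mul_eq_left.1 h1
      apply hs₀w
      exact (h.hyp.oct.eq_of_mul hw'A h2).symm
  refine ⟨w, s₀, y, hy, rfl, hyz, hs₀, hzw', fun n hn => ?_⟩
  rw [← hzw']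
  exact hall n hn

/-- The four-group `U`, stabilised by `N(A)` and permuted transitively. -/
theorem exists_U : ∃ (U : Subgroup G) (w s₀ : G), U ≤ A ∧ Nat.card U = 4 ∧
    normalizer (A : Set G) ≤ normalizer (U : Set G) ∧ z ∈ U ∧ w ∈ U ∧ w ≠ z ∧
    (∀ u ∈ U, u ≠ 1 → ∃ n ∈ normalizer (A : Set G), n * z * n⁻¹ = u) ∧
    s₀ ∈ (S : Subgroup G) ∧ s₀ * w * s₀⁻¹ = z * w ∧ (∀ u ∈ U, u = 1 ∨ u = z ∨ u = w ∨ u = z * w) := by
  obtain ⟨w, s₀, n₁, hn₁, hw, hwz, hs₀, hs₀w, hall⟩ := h.exists_two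
  have hwA : w ∈ A := by rw [← hw]; exact mem_norm hn₁ h.zA
  have hw1 : w ≠ 1 := by
    intro h1
    apply h.z1
    rw [← hw, mul_inv_eq_one] at h1
    exact mul_eq_left.1 h1
  have hz2 := h.hyp.oct.sq z h.zA
  have hw2 := h.hyp.oct.sq w hwA
  have hc := h.hyp.oct.comm hwA h.zA
  have hUA : four z w hz2 hw2 hc ≤ A := by
    intro a ha
    rcases mem_four.1 ha with rfl | rfl | rfl | rfl
    · exact one_mem _
    · exact h.zA
    · exact hwA
    · exact mul_mem h.zA hwA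
  have hnz : ∀ n ∈ normalizer (A : Set G), n * z * n⁻¹ ∈ four z w hz2 hw2 hc := by
    intro n hn
    rw [mem_four]
    rcases hall n hn with h1 | h1 | h1
    · exact Or.inr (Or.inl h1)
    · exact Or.inr (Or.inr (Or.inl h1))
    · exact Or.inr (Or.inr (Or.inr h1))
  have hnw : ∀ n ∈ normalizer (A : Set G), n * w * n⁻¹ ∈ four z w hz2 hw2 hc := by
    intro n hn
    have := hnz (n * n₁) (mul_mem hn hn₁)
    have e : (n * n₁) * z * (n * n₁)⁻¹ = n * w * n⁻¹ := by rw [← hw]; group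
    rwa [e] at this
  refine ⟨four z w hz2 hw2 hc, w, s₀, hUA, card_four h.z1 hw1 hwz, ?_, ?_, ?_, hwz, ?_, hs₀, hs₀w,
    fun u hu => mem_four.1 hu⟩
  · intro n hn
    refine mem_norm_of_conj fun u hu => ?_
    rcases mem_four.1 hu with rfl | rfl | rfl | rfl
    · rw [mul_one, mul_inv_cancel]; exact one_mem _
    · exact hnz n hn
    · exact hnw n hn
    · have e : n * (z * w) * n⁻¹ = (n * z * n⁻¹) * (n * w * n⁻¹) := by group
      rw [e]
      exact mul_mem (hnz n hn) (hnw n hn)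
  · exact mem_four.2 (Or.inr (Or.inl rfl))
  · exact mem_four.2 (Or.inr (Or.inr (Or.inl rfl)))
  · intro u hu hu1
    rcases mem_four.1 hu with rfl | rfl | rfl | rfl
    · exact absurd rfl hu1
    · exact ⟨1, one_mem _, by simp⟩
    · exact ⟨n₁, hn₁, hw⟩
    · exact ⟨s₀ * n₁, mul_mem (h.hyp.norm hs₀) hn₁, by rw [← hs₀w, ← hw]; group⟩

/-- Some element of `N(A) ∩ C(U)` moves an element of `A`. -/
theorem exists_k {U : Subgroup G} {w s₀ : G} (hUA : U ≤ A) (hU4 : Nat.card U = 4) (hzU : z ∈ U) (hwU : w ∈ U)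
    (hwz : w ≠ z) (hs₀ : s₀ ∈ (S : Subgroup G)) (hs₀w : s₀ * w * s₀⁻¹ = z * w)
    (hnU : normalizer (A : Set G) ≤ normalizer (U : Set G))
    (hU : ∀ u ∈ U, u = 1 ∨ u = z ∨ u = w ∨ u = z * w) :
    ∃ k ∈ normalizer (A : Set G), (∀ u ∈ U, k * u * k⁻¹ = u) ∧ ∃ a ∈ A, k * a * k⁻¹ ≠ a := by
  by_contra hcon
  push Not at hcon
  have hz2 := h.hyp.oct.sq z h.zA
  have hwA := hUA hwU
  -- every element of `S` or its product with `s₀` centralises `A`
  have hS : ∀ g ∈ (S : Subgroup G), (∀ a ∈ A, g * a * g⁻¹ = a) ∨ ∀ a ∈ A, (s₀ * g) * a * (s₀ * g)⁻¹ = a := by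
    intro g hg
    have hgz : g * z * g⁻¹ = z := conj_eq_iff.2 (h.zc g hg)
    have hgU := mem_norm (hnU (h.hyp.norm hg)) hwU
    have hgw : g * w * g⁻¹ = w ∨ g * w * g⁻¹ = z * w := by
      rcases hU _ hgU with h1 | h1 | h1 | h1
      · exfalso
        rw [mul_inv_eq_one] at h1
        have h2 : w = 1 := mul_eq_left.1 h1
        rw [h2] at hs₀w
        rw [mul_one, mul_inv_cancel, mul_one] at hs₀w
        exact h.z1 hs₀w.symm
      · exfalso
        apply hwz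
        rw [← hgz] at h1
        exact mul_left_cancel (mul_right_cancel h1)
      · exact Or.inl h1
      · exact Or.inr h1
    rcases hgw with h1 | h1
    · left
      refine hcon g (h.hyp.norm hg) fun u hu => ?_
      rcases hU u hu with rfl | rfl | rfl | rfl
      · simp
      · exact hgz
      · exact h1
      · have e : g * (z * w) * g⁻¹ = (g * z * g⁻¹) * (g * w * g⁻¹) := by group
        rw [e, hgz, h1]
    · right
      have e1 : (s₀ * g) * w * (s₀ * g)⁻¹ = w := by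
        have : (s₀ * g) * w * (s₀ * g)⁻¹ = s₀ * (g * w * g⁻¹) * s₀⁻¹ := by group
        rw [this, h1]
        have e2 : s₀ * (z * w) * s₀⁻¹ = (s₀ * z * s₀⁻¹) * (s₀ * w * s₀⁻¹) := by group
        rw [e2, conj_eq_iff.2 (h.zc s₀ hs₀), hs₀w, ← mul_assoc, hz2, one_mul]
      have e0 : (s₀ * g) * z * (s₀ * g)⁻¹ = z := conj_eq_iff.2 (h.zc _ (mul_mem hs₀ hg))
      refine hcon (s₀ * g) (h.hyp.norm (mul_mem hs₀ hg)) fun u hu => ?_
      rcases hU u hu with rfl | rfl | rfl | rfl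
      · simp
      · exact e0
      · exact e1
      · have e : (s₀ * g) * (z * w) * (s₀ * g)⁻¹ = ((s₀ * g) * z * (s₀ * g)⁻¹) * ((s₀ * g) * w * (s₀ * g)⁻¹) := by
          group
        rw [e, e0, e1]
  have hs₀sq : ∀ a ∈ A, s₀ * (s₀ * a * s₀⁻¹) * s₀⁻¹ = a := by
    intro a ha
    rcases hS s₀ hs₀ with h1 | h1
    · rw [h1 a ha, h1 a ha]
    · have e : s₀ * (s₀ * a * s₀⁻¹) * s₀⁻¹ = s₀ * s₀ * a * (s₀ * s₀)⁻¹ := by group
      rw [e]
      exact h1 a ha
  -- elements of `A` fixed by `s₀` are central in `S`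
  have hcen : ∀ a ∈ A, s₀ * a * s₀⁻¹ = a → a = 1 ∨ a = z := by
    intro a ha hsa
    refine h.zuniq a ha fun g hg => ?_
    rw [← conj_eq_iff]
    rcases hS g hg with h1 | h1
    · exact h1 a ha
    · have h2 := h1 a ha
      have h3 : g * a * g⁻¹ = s₀⁻¹ * a * s₀ := by
        have e : g * a * g⁻¹ = s₀⁻¹ * (s₀ * g * a * (s₀ * g)⁻¹) * s₀ := by group
        rw [e, h2]
      have h4 : s₀⁻¹ * a * s₀ = a := by
        have : a = s₀⁻¹ * (s₀ * a * s₀⁻¹) * s₀ := by group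
        rw [hsa] at this
        exact this.symm
      rw [h3, h4]
  -- pick `a ∉ U`
  obtain ⟨a, haA, haU⟩ : ∃ a ∈ A, a ∉ U := by
    by_contra h1
    push Not at h1
    have := Nat.card_congr (Equiv.setCongr (congrArg (fun X : Subgroup G => (X : Set G)) (le_antisymm h1 hUA)))
    have h8 := h.hyp.oct.card
    change Nat.card A = Nat.card U at this
    omega
  have key : ∀ b ∈ A, b ∉ U → s₀ * b * s₀⁻¹ = b * z := by
    intro b hb hbU
    have hb' := mem_norm (h.hyp.norm hs₀) hb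
    have h1 : s₀ * (b * (s₀ * b * s₀⁻¹)) * s₀⁻¹ = b * (s₀ * b * s₀⁻¹) := by
      have e : s₀ * (b * (s₀ * b * s₀⁻¹)) * s₀⁻¹ = (s₀ * b * s₀⁻¹) * (s₀ * (s₀ * b * s₀⁻¹) * s₀⁻¹) := by group
      rw [e, hs₀sq b hb]
      exact h.hyp.oct.comm hb' hb
    rcases hcen _ (mul_mem hb hb') h1 with h2 | h2
    · exfalso
      have h3 : s₀ * b * s₀⁻¹ = b := (h.hyp.oct.eq_of_mul hb' h2).symm
      rcases hcen b hb h3 with h4 | h4
      · exact hbU (h4 ▸ one_mem _)
      · exact hbU (h4 ▸ hzU)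
    · have h3 : s₀ * b * s₀⁻¹ = b⁻¹ * z := by rw [← h2]; group
      rw [h3, h.hyp.oct.inv hb]
  have h1 := key a haA haU
  have h2 := key (a * w) (mul_mem haA hwA) (fun h3 => haU (by
    have := mul_mem h3 (inv_mem hwU)
    simpa using this))
  have h3 : s₀ * (a * w) * s₀⁻¹ = (s₀ * a * s₀⁻¹) * (s₀ * w * s₀⁻¹) := by group
  rw [h3, h1, hs₀w] at h2
  have h4 : a * z * (z * w) = a * w := by
    rw [mul_assoc, ← mul_assoc z z w, hz2, one_mul]
  rw [h4] at h2
  exact h.z1 (mul_eq_left.1 h2.symm)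

theorem exists_tv {U : Subgroup G} {w s₀ : G} (hUA : U ≤ A) (hU4 : Nat.card U = 4) (hzU : z ∈ U) (hwU : w ∈ U)
    (hwz : w ≠ z) (hs₀ : s₀ ∈ (S : Subgroup G)) (hs₀w : s₀ * w * s₀⁻¹ = z * w)
    (hnU : normalizer (A : Set G) ≤ normalizer (U : Set G))
    (hU : ∀ u ∈ U, u = 1 ∨ u = z ∨ u = w ∨ u = z * w)
    (htr : ∀ u ∈ U, u ≠ 1 → ∃ n ∈ normalizer (A : Set G), n * z * n⁻¹ = u)
    {f : G} (hf : f ∈ A) (hfU : f ∉ U) {u : G} (hu : u ∈ U) :
    ∃ b ∈ ((S : Subgroup G) ⊓ centralizer (U : Set G) : Subgroup G), b * f * b⁻¹ = f * u := by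
  obtain ⟨k₀, hk₀N, hk₀U, a, haA, hka⟩ := h.exists_k hUA hU4 hzU hwU hwz hs₀ hs₀w hnU hU
  have hcA : Nat.card A = 2 * Nat.card U := by rw [h.hyp.oct.card, hU4]
  have two : ∀ c ∈ A, c ∉ U → f * c ∈ U := fun c hc hcU => mul_mem_of_index_two hUA hcA hf hc hfU hcU
  -- the action on `A - U`
  have act : ∀ k ∈ normalizer (A : Set G), (∀ v ∈ U, k * v * k⁻¹ = v) →
      ∃ v ∈ U, ∀ c ∈ A, c ∉ U → k * c * k⁻¹ = c * v := by
    intro k hk hkU
    have h1 : f * (k * f * k⁻¹) ∈ U := two _ (mem_norm hk hf) (fun h2 => hfU (by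
      have := hkU _ (mem_norm' (hnU hk) h2)
      have e : k⁻¹ * (k * f * k⁻¹) * k = f := by group
      rw [e] at this
      rw [this] at h2
      exact h2))
    refine ⟨f * (k * f * k⁻¹), h1, fun c hc hcU => ?_⟩
    have h2 := two c hc hcU
    have h3 : c = f * (f * c) := by rw [← mul_assoc, h.hyp.oct.sq f hf, one_mul]
    have h4 : k * c * k⁻¹ = (k * f * k⁻¹) * (f * c) := by
      conv_lhs => rw [h3]
      have e : k * (f * (f * c)) * k⁻¹ = (k * f * k⁻¹) * (k * (f * c) * k⁻¹) := by group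
      rw [e, hkU _ h2]
    rw [h4]
    have hkf := mem_norm hk hf
    calc (k * f * k⁻¹) * (f * c) = ((k * f * k⁻¹) * f) * c := by group
      _ = c * ((k * f * k⁻¹) * f) := h.hyp.oct.comm (mul_mem hkf hf) hc
      _ = c * (f * (k * f * k⁻¹)) := by rw [h.hyp.oct.comm hkf hf]
  obtain ⟨u₀, hu₀, hact⟩ := act k₀ hk₀N hk₀U
  have haU : a ∉ U := fun h1 => hka (hk₀U a h1)
  have hu₀1 : u₀ ≠ 1 := by
    intro h1
    apply hka
    rw [hact a haA haU, h1, mul_one]
  -- all elements of `U` occur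
  have hall : ∃ k ∈ normalizer (A : Set G), (∀ v ∈ U, k * v * k⁻¹ = v) ∧
      ∀ c ∈ A, c ∉ U → k * c * k⁻¹ = c * u := by
    by_cases hu1 : u = 1
    · exact ⟨1, one_mem _, by simp, by simp [hu1]⟩
    · obtain ⟨n, hn, hnz⟩ := htr u hu hu1
      obtain ⟨n₀, hn₀, hn₀z⟩ := htr u₀ hu₀ hu₀1
      set m := n * n₀⁻¹ with hm
      have hmN : m ∈ normalizer (A : Set G) := mul_mem hn (inv_mem hn₀)
      have hmu : m * u₀ * m⁻¹ = u := by
        rw [hm, ← hn₀z, ← hnz]; group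
      refine ⟨m * k₀ * m⁻¹, mul_mem (mul_mem hmN hk₀N) (inv_mem hmN), fun v hv => ?_, fun c hc hcU => ?_⟩
      · have h1 := mem_norm' (hnU hmN) hv
        have h2 := hk₀U _ h1
        have e : m * k₀ * m⁻¹ * v * (m * k₀ * m⁻¹)⁻¹ = m * (k₀ * (m⁻¹ * v * m) * k₀⁻¹) * m⁻¹ := by group
        rw [e, h2]; group
      · have h1 := mem_norm' hmN hc
        have h1U : m⁻¹ * c * m ∉ U := fun h2 => hcU (by
          have := mem_norm (hnU hmN) h2
          have e : m * (m⁻¹ * c * m) * m⁻¹ = c := by group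
          rwa [e] at this)
        have h2 := hact _ h1 h1U
        have e : m * k₀ * m⁻¹ * c * (m * k₀ * m⁻¹)⁻¹ = m * (k₀ * (m⁻¹ * c * m) * k₀⁻¹) * m⁻¹ := by group
        rw [e, h2, ← hmu]; group
  obtain ⟨k, hkN, hkU, hk⟩ := hall
  -- pass to the Sylow subgroup
  set K : Subgroup G := normalizer (A : Set G) ⊓ centralizer (U : Set G) with hK
  have hKn : normalizer (A : Set G) ≤ normalizer (K : Set G) := by
    exact inf_cent_norm hnU
  have hidx := not_dvd_inf (S := S) h.hyp.norm (inf_le_left : K ≤ normalizer (A : Set G)) hKn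
  have hkK : k ∈ K := ⟨hkN, mem_cent_iff.2 fun v hv => conj_eq_iff.1 (hkU v hv)⟩
  obtain ⟨b, hb, hbk⟩ := mem_same (A := A) hidx (fun c hc a ha => mem_norm hc.1 ha) 1
    (by
      intro c hc a ha
      have hcU : ∀ v ∈ U, c * v * c⁻¹ = v := fun v hv => conj_eq_iff.2 (mem_cent_iff.1 hc.2 v hv)
      obtain ⟨v, hv, hcv⟩ := act c hc.1 hcU
      have e : c ^ 2 ^ 1 * a * (c ^ 2 ^ 1)⁻¹ = c * (c * a * c⁻¹) * c⁻¹ := by
        rw [pow_one, pow_two]; group
      rw [e]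
      by_cases haU : a ∈ U
      · rw [hcU a haU, hcU a haU]
      · rw [hcv a ha haU]
        have e2 : c * (a * v) * c⁻¹ = (c * a * c⁻¹) * (c * v * c⁻¹) := by group
        rw [e2, hcv a ha haU, hcU v hv, mul_assoc, h.hyp.oct.sq v (hUA hv), mul_one]) hkK
  refine ⟨b, ⟨hb.1, hb.2.2⟩, ?_⟩
  rw [hbk f hf, hk f hf hfU]

omit [Finite G] in
theorem mem_Q_iff {U : Subgroup G} {w : G} (hwU : w ∈ U)
    (hU : ∀ u ∈ U, u = 1 ∨ u = z ∨ u = w ∨ u = z * w) {g : G} (hg : g ∈ (S : Subgroup G)) :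
    g ∈ ((S : Subgroup G) ⊓ centralizer (U : Set G) : Subgroup G) ↔ g * w * g⁻¹ = w := by
  constructor
  · rintro ⟨_, h2⟩
    exact conj_eq_iff.2 (mem_cent_iff.1 h2 w hwU)
  · intro h1
    refine ⟨hg, mem_cent_iff.2 fun u hu => ?_⟩
    have hz := conj_eq_iff.2 (h.zc g hg)
    rw [← conj_eq_iff]
    rcases hU u hu with rfl | rfl | rfl | rfl
    · simp
    · exact hz
    · exact h1
    · have e : g * (z * w) * g⁻¹ = (g * z * g⁻¹) * (g * w * g⁻¹) := by group
      rw [e, hz, h1]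

theorem card_S_eq {U : Subgroup G} {w s₀ : G} (hwU : w ∈ U)
    (hwz : w ≠ z) (hs₀ : s₀ ∈ (S : Subgroup G)) (hs₀w : s₀ * w * s₀⁻¹ = z * w)
    (hnU : normalizer (A : Set G) ≤ normalizer (U : Set G))
    (hU : ∀ u ∈ U, u = 1 ∨ u = z ∨ u = w ∨ u = z * w) :
    Nat.card S = 2 * Nat.card ((S : Subgroup G) ⊓ centralizer (U : Set G) : Subgroup G) := by
  have hz2 := h.hyp.oct.sq z h.zA
  have h1 : ((S : Subgroup G) ⊓ centralizer (U : Set G) : Subgroup G).relIndex (S : Subgroup G) = 2 := by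
    rw [relIndex, index_eq_two_iff]
    refine ⟨⟨s₀, hs₀⟩, fun b => ?_⟩
    rw [mem_subgroupOf, mem_subgroupOf, h.mem_Q_iff hwU hU b.2]
    have hb : ((b * ⟨s₀, hs₀⟩ : (S : Subgroup G)) : G) = b * s₀ := rfl
    rw [hb, h.mem_Q_iff hwU hU (mul_mem b.2 hs₀)]
    have hbz : (b : G) * z * (b : G)⁻¹ = z := conj_eq_iff.2 (h.zc b b.2)
    have e : (b : G) * s₀ * w * ((b : G) * s₀)⁻¹ = z * ((b : G) * w * (b : G)⁻¹) := by
      have e1 : (b : G) * s₀ * w * ((b : G) * s₀)⁻¹ = b * (s₀ * w * s₀⁻¹) * (b : G)⁻¹ := by group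
      rw [e1, hs₀w]
      have e2 : (b : G) * (z * w) * (b : G)⁻¹ = (b * z * (b : G)⁻¹) * (b * w * (b : G)⁻¹) := by group
      rw [e2, hbz]
    rw [e]
    have hbw : (b : G) * w * (b : G)⁻¹ = w ∨ (b : G) * w * (b : G)⁻¹ = z * w := by
      rcases hU _ (mem_norm (hnU (h.hyp.norm b.2)) hwU) with h1 | h1 | h1 | h1
      · exfalso
        rw [mul_inv_eq_one] at h1
        have h2 : w = 1 := mul_eq_left.1 h1
        rw [h2, mul_one, mul_inv_cancel, mul_one] at hs₀w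
        exact h.z1 hs₀w.symm
      · exfalso
        apply hwz
        rw [← hbz] at h1
        exact mul_left_cancel (mul_right_cancel h1)
      · exact Or.inl h1
      · exact Or.inr h1
    rcases hbw with h1 | h1
    · rw [h1]
      refine Or.inr ⟨rfl, fun h2 => h.z1 (mul_eq_right.1 h2)⟩
    · rw [h1, ← mul_assoc, hz2, one_mul]
      refine Or.inl ⟨rfl, fun h2 => h.z1 (mul_eq_right.1 h2)⟩
  have h2 := relIndex_mul_card' (inf_le_left : (S : Subgroup G) ⊓ centralizer (U : Set G) ≤ (S : Subgroup G))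
  rw [h1] at h2
  exact h2.symm

theorem card_Q_eq {U : Subgroup G} (hUA : U ≤ A) (hU4 : Nat.card U = 4)
    (hnU : normalizer (A : Set G) ≤ normalizer (U : Set G)) {f : G} (hf : f ∈ A) (hfU : f ∉ U)
    (htv : ∀ u ∈ U, ∃ b ∈ ((S : Subgroup G) ⊓ centralizer (U : Set G) : Subgroup G), b * f * b⁻¹ = f * u) :
    Nat.card ((S : Subgroup G) ⊓ centralizer (U : Set G) : Subgroup G) = 4 * Nat.card (TT S A) := by
  have hcA : Nat.card A = 2 * Nat.card U := by rw [h.hyp.oct.card, hU4]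
  have hff := h.hyp.oct.sq f hf
  set Q : Subgroup G := (S : Subgroup G) ⊓ centralizer (U : Set G) with hQ
  have hQf : ∀ q ∈ Q, f * (q * f * q⁻¹) ∈ U := by
    intro q hq
    have hqN := h.hyp.norm hq.1
    refine mul_mem_of_index_two hUA hcA hf (mem_norm hqN hf) hfU fun h1 => hfU ?_
    have := mem_norm' (hnU hqN) h1
    have e : q⁻¹ * (q * f * q⁻¹) * q = f := by group
    rwa [e] at this
  let φ : Q →* U :=
    { toFun := fun q => ⟨f * (q * f * (q : G)⁻¹), hQf q q.2⟩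
      map_one' := by
        apply Subtype.ext
        simp [hff]
      map_mul' := by
        intro q q'
        apply Subtype.ext
        change f * ((q * q' : G) * f * (q * q' : G)⁻¹) = f * (q * f * (q : G)⁻¹) * (f * (q' * f * (q' : G)⁻¹))
        have h1 := mem_cent_iff.1 q.2.2 _ (hQf q' q'.2)
        have h2 : (q : G) * (f * (q' * f * (q' : G)⁻¹)) * (q : G)⁻¹ = f * (q' * f * (q' : G)⁻¹) :=
          conj_eq_iff.2 h1
        have h3 : (q' * f * (q' : G)⁻¹ : G) = f * (f * (q' * f * (q' : G)⁻¹)) := by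
          rw [← mul_assoc, hff, one_mul]
        calc f * ((q * q' : G) * f * (q * q' : G)⁻¹) = f * (q * (q' * f * (q' : G)⁻¹) * (q : G)⁻¹) := by group
          _ = f * (q * (f * (f * (q' * f * (q' : G)⁻¹))) * (q : G)⁻¹) := by rw [← h3]
          _ = f * (q * f * (q : G)⁻¹) * (q * (f * (q' * f * (q' : G)⁻¹)) * (q : G)⁻¹) := by group
          _ = _ := by rw [h2] }
  have hker : φ.ker = (TT S A).subgroupOf Q := by
    ext q
    rw [MonoidHom.mem_ker, mem_subgroupOf]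
    constructor
    · intro h1
      have h2 : f * (q * f * (q : G)⁻¹) = 1 := congrArg Subtype.val h1
      have h3 : (q : G) * f * (q : G)⁻¹ = f := by
        rw [← inv_eq_of_mul_eq_one_right h2, h.hyp.oct.inv hf]
      refine ⟨q.2.1, mem_cent_iff.2 fun a ha => ?_⟩
      have hqf : (q : G) * f = f * q := conj_eq_iff.1 h3
      by_cases haU : a ∈ U
      · exact mem_cent_iff.1 q.2.2 a haU
      · have h4 := mul_mem_of_index_two hUA hcA hf ha hfU haU
        have h5 := mem_cent_iff.1 q.2.2 _ h4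
        have h6 : a = f * (f * a) := by rw [← mul_assoc, hff, one_mul]
        calc (q : G) * a = q * (f * (f * a)) := by rw [← h6]
          _ = (q * f) * (f * a) := by group
          _ = f * (q * (f * a)) := by rw [hqf]; group
          _ = f * ((f * a) * q) := by rw [h5]
          _ = (f * (f * a)) * q := by group
          _ = a * q := by rw [← h6]
    · intro h1
      apply Subtype.ext
      change f * (q * f * (q : G)⁻¹) = 1
      rw [conj_eq_iff.2 (mem_cent_iff.1 h1.2 f hf), hff]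
  have hsurj : Function.Surjective φ := by
    rintro ⟨u, hu⟩
    obtain ⟨b, hb, hbf⟩ := htv u hu
    refine ⟨⟨b, hb⟩, Subtype.ext ?_⟩
    change f * (b * f * b⁻¹) = u
    rw [hbf, ← mul_assoc, hff, one_mul]
  have h1 : (TT S A).relIndex Q = 4 := by
    rw [relIndex, ← hker, index_ker, MonoidHom.range_eq_top.2 hsurj, card_top, hU4]
  have hTQ : TT S A ≤ Q := inf_le_inf_left _ (centralizer_le (SetLike.coe_subset_coe.2 hUA))
  have h2 := relIndex_mul_card' hTQ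
  rw [h1] at h2
  exact h2.symm

/-- An element of `N(A) ∩ N(T) ∩ N(Q)` which moves `z` to a given conjugate. -/
theorem exists_n {U : Subgroup G} (hUA : U ≤ A)
    (hnU : normalizer (A : Set G) ≤ normalizer (U : Set G)) {n w : G} (hzU : z ∈ U)
    (hn : n ∈ normalizer (A : Set G)) (hnz : n * z * n⁻¹ = w) :
    ∃ m ∈ normalizer (A : Set G), m ∈ normalizer (TT S A : Set G) ∧
      m ∈ normalizer (((S : Subgroup G) ⊓ centralizer (U : Set G) : Subgroup G) : Set G) ∧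
      m * z * m⁻¹ = w := by
  have hwU : w ∈ U := by rw [← hnz]; exact mem_norm (hnU hn) hzU
  have hN1 : normalizer (A : Set G) ≤ normalizer ((centralizer (A : Set G) : Subgroup G) : Set G) := by
    intro g hg
    refine mem_norm_of_conj fun c hc => conj_mem_cent hg hc
  have hi1 := not_dvd_inf (S := S) h.hyp.norm (centralizer_le_normalizer (A : Set G)) hN1
  obtain ⟨k₁, hk₁, hm₁⟩ := frattini_rel hN1 (inf_le_right : TT S A ≤ _) (S.2.to_le inf_le_left) hi1 hn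
  have hk₁N := centralizer_le_normalizer _ hk₁
  set m₁ := k₁ * n with hm₁d
  have hm₁N : m₁ ∈ normalizer (A : Set G) := mul_mem hk₁N hn
  have hm₁z : m₁ * z * m₁⁻¹ = w := by
    have e : m₁ * z * m₁⁻¹ = k₁ * (n * z * n⁻¹) * k₁⁻¹ := by rw [hm₁d]; group
    rw [e, hnz]
    exact conj_eq_iff.2 (mem_cent_iff.1 hk₁ w (hUA hwU))
  set N₂ : Subgroup G := normalizer (A : Set G) ⊓ normalizer (TT S A : Set G) with hN₂
  have hSN₂ : (S : Subgroup G) ≤ N₂ := le_inf h.hyp.norm (inf_cent_norm h.hyp.norm)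
  set K₂ : Subgroup G := N₂ ⊓ centralizer (U : Set G) with hK₂
  have hN2 : N₂ ≤ normalizer (K₂ : Set G) := inf_cent_norm (inf_le_left.trans hnU)
  have hi2 := not_dvd_inf (S := S) hSN₂ (inf_le_left : K₂ ≤ N₂) hN2
  have hQ : (S : Subgroup G) ⊓ K₂ = (S : Subgroup G) ⊓ centralizer (U : Set G) := by
    apply le_antisymm
    · exact inf_le_inf_left _ inf_le_right
    · exact le_inf inf_le_left (le_inf (inf_le_left.trans hSN₂) inf_le_right)
  obtain ⟨k₂, hk₂, hm₂⟩ := frattini_rel hN2 (inf_le_right : (S : Subgroup G) ⊓ K₂ ≤ K₂)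
    (S.2.to_le inf_le_left) hi2 (show m₁ ∈ N₂ from ⟨hm₁N, hm₁⟩)
  rw [hQ] at hm₂
  refine ⟨k₂ * m₁, mul_mem hk₂.1.1 hm₁N, mul_mem hk₂.1.2 hm₁, hm₂, ?_⟩
  have e : k₂ * m₁ * z * (k₂ * m₁)⁻¹ = k₂ * (m₁ * z * m₁⁻¹) * k₂⁻¹ := by group
  rw [e, hm₁z]
  exact conj_eq_iff.2 (mem_cent_iff.1 hk₂.2 w hwU)

omit h [Finite G] in
/-- powers modulo a normalised subgroup -/
theorem _root_.Cfsg.Agent.RankThreeFus.pow_mod {Q : Subgroup G} {y : G} (hy : y ∈ normalizer (Q : Set G))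
    {q : G} (hq : q ∈ Q) (e : ℕ) : (q * y⁻¹) ^ e * y ^ e ∈ Q := by
  induction e with
  | zero => simp
  | succ e ih =>
    have e1 : (q * y⁻¹) ^ (e + 1) * y ^ (e + 1) = q * (y⁻¹ * ((q * y⁻¹) ^ e * y ^ e) * y) := by
      rw [pow_succ' (q * y⁻¹), pow_succ y]; group
    rw [e1]
    exact mul_mem hq (mem_norm' hy ih)

/-- **The frame exists.** -/
theorem exists_fr : ∃ (U : Subgroup G) (f x s : G), Fr S A U z f x s := by
  obtain ⟨U, w, s₀, hUA, hU4, hnU, hzU, hwU, hwz, htr, hs₀, hs₀w, hU⟩ := h.exists_U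
  have hz2 := h.hyp.oct.sq z h.zA
  have hwA := hUA hwU
  have hw2 := h.hyp.oct.sq w hwA
  have hzw : z * w = w * z := h.hyp.oct.comm h.zA hwA
  have hSN := h.hyp.norm
  have hcA : Nat.card A = 2 * Nat.card U := by rw [h.hyp.oct.card, hU4]
  have hw1 : w ≠ 1 := by
    intro h1
    rw [h1, mul_one, mul_inv_cancel, mul_one] at hs₀w
    exact h.z1 hs₀w.symm
  obtain ⟨n, hn, hnz⟩ := htr w hwU hw1
  obtain ⟨m, hmA, hmT, hmQ, hmz⟩ := h.exists_n hUA hnU hzU hn hnz
  set Q : Subgroup G := (S : Subgroup G) ⊓ centralizer (U : Set G) with hQ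
  have hSQ : (S : Subgroup G) ≤ normalizer (Q : Set G) := inf_cent_norm (hSN.trans hnU)
  have hST : (S : Subgroup G) ≤ normalizer (TT S A : Set G) := inf_cent_norm hSN
  have hs₀z : s₀ * z * s₀⁻¹ = z := conj_eq_iff.2 (h.zc s₀ hs₀)
  have hs₀zw : s₀ * (z * w) * s₀⁻¹ = w := by
    have e : s₀ * (z * w) * s₀⁻¹ = (s₀ * z * s₀⁻¹) * (s₀ * w * s₀⁻¹) := by group
    rw [e, hs₀z, hs₀w, ← mul_assoc, hz2, one_mul]
  have hs₀iw : s₀⁻¹ * w * s₀ = z * w := by
    have : s₀⁻¹ * (s₀ * (z * w) * s₀⁻¹) * s₀ = z * w := by group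
    rwa [hs₀zw] at this
  have hs₀izw : s₀⁻¹ * (z * w) * s₀ = w := by
    have : s₀⁻¹ * (s₀ * w * s₀⁻¹) * s₀ = w := by group
    rwa [hs₀w] at this
  have hs₀iz : s₀⁻¹ * z * s₀ = z := by
    conv_lhs => rw [← hs₀z]
    group
  -- `m` acts on `U`
  have hmw : m * w * m⁻¹ = z ∨ m * w * m⁻¹ = z * w := by
    rcases hU _ (mem_norm (hnU hmA) hwU) with h1 | h1 | h1 | h1
    · exfalso
      rw [mul_inv_eq_one] at h1
      exact hw1 (mul_eq_left.1 h1)
    · exact Or.inl h1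
    · exfalso
      have h2 : m * w * m⁻¹ = m * z * m⁻¹ := h1.trans hmz.symm
      exact hwz (mul_left_cancel (mul_right_cancel h2))
    · exact Or.inr h1
  set s' := m * s₀⁻¹ * m⁻¹ with hs'
  have hs'z : s' * z * s'⁻¹ = z * w := by
    have e : s' * z * s'⁻¹ = m * (s₀⁻¹ * (m⁻¹ * z * m) * s₀) * m⁻¹ := by rw [hs']; group
    rcases hmw with h1 | h1
    · have h2 : m⁻¹ * z * m = w := by rw [← h1]; group
      rw [e, h2, hs₀iw]
      have e2 : m * (z * w) * m⁻¹ = (m * z * m⁻¹) * (m * w * m⁻¹) := by group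
      rw [e2, hmz, h1, hzw]
    · have h2 : m * (z * w) * m⁻¹ = z := by
        have e2 : m * (z * w) * m⁻¹ = (m * z * m⁻¹) * (m * w * m⁻¹) := by group
        rw [e2, hmz, h1, hzw, ← mul_assoc, hw2, one_mul]
      have h3 : m⁻¹ * z * m = z * w := by
        have : m⁻¹ * (m * (z * w) * m⁻¹) * m = z * w := by group
        rwa [h2] at this
      rw [e, h3, hs₀izw, h1]
  have hs'w : s' * w * s'⁻¹ = w := by
    have e : s' * w * s'⁻¹ = m * (s₀⁻¹ * (m⁻¹ * w * m) * s₀) * m⁻¹ := by rw [hs']; group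
    have h2 : m⁻¹ * w * m = z := by rw [← hmz]; group
    rw [e, h2, hs₀iz, hmz]
  set y := s₀ * s' with hy
  have hyz : y * z * y⁻¹ = w := by
    have e : y * z * y⁻¹ = s₀ * (s' * z * s'⁻¹) * s₀⁻¹ := by rw [hy]; group
    rw [e, hs'z, hs₀zw]
  have hyw : y * w * y⁻¹ = z * w := by
    have e : y * w * y⁻¹ = s₀ * (s' * w * s'⁻¹) * s₀⁻¹ := by rw [hy]; group
    rw [e, hs'w, hs₀w]
  have hyzw : y * (z * w) * y⁻¹ = z := by
    have e : y * (z * w) * y⁻¹ = (y * z * y⁻¹) * (y * w * y⁻¹) := by group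
    rw [e, hyz, hyw, hzw, ← mul_assoc, hw2, one_mul]
  have hmiA := inv_mem hmA
  have hs₀A := hSN hs₀
  have hyA : y ∈ normalizer (A : Set G) :=
    mul_mem hs₀A (mul_mem (mul_mem hmA (inv_mem hs₀A)) (inv_mem hmA))
  have hyT : y ∈ normalizer (TT S A : Set G) :=
    mul_mem (hST hs₀) (mul_mem (mul_mem hmT (inv_mem (hST hs₀))) (inv_mem hmT))
  have hyQ : y ∈ normalizer (Q : Set G) :=
    mul_mem (hSQ hs₀) (mul_mem (mul_mem hmQ (inv_mem (hSQ hs₀))) (inv_mem hmQ))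
  -- `s₀` inverts `y` modulo `Q`
  have hs₀2 : s₀ * s₀ ∈ Q := by
    rw [hQ, h.mem_Q_iff hwU hU (mul_mem hs₀ hs₀)]
    have e : s₀ * s₀ * w * (s₀ * s₀)⁻¹ = s₀ * (s₀ * w * s₀⁻¹) * s₀⁻¹ := by group
    rw [e, hs₀w, hs₀zw]
  have hinv : s₀ * y * s₀⁻¹ * y ∈ Q := by
    have e : s₀ * y * s₀⁻¹ * y = (s₀ * s₀) * (m * (s₀ * s₀)⁻¹ * m⁻¹) := by rw [hy, hs']; group
    rw [e]
    exact mul_mem hs₀2 (mem_norm hmQ (inv_mem hs₀2))
  obtain ⟨e, ⟨k, hk⟩, he⟩ := exists_three_part y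
  set x := y ^ e with hx
  have hxA : x ∈ normalizer (A : Set G) := pow_mem hyA e
  have hxT : x ∈ normalizer (TT S A : Set G) := pow_mem hyT e
  have hxQ : x ∈ normalizer (Q : Set G) := pow_mem hyQ e
  have hy3 : ∀ u ∈ U, y ^ 3 * u * (y ^ 3)⁻¹ = u := by
    intro u hu
    have e3 : ∀ v, y ^ 3 * v * (y ^ 3)⁻¹ = y * (y * (y * v * y⁻¹) * y⁻¹) * y⁻¹ := by
      intro v
      have e4 : y ^ 3 = y * y * y := by rw [pow_succ, pow_two]
      rw [e4]; group
    rw [e3]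
    rcases hU u hu with rfl | rfl | rfl | rfl
    · simp
    · rw [hyz, hyw, hyzw]
    · rw [hyw, hyzw, hyz]
    · rw [hyzw, hyz, hyw]
  have hy3n : ∀ j : ℕ, ∀ u ∈ U, (y ^ 3) ^ j * u * ((y ^ 3) ^ j)⁻¹ = u := by
    intro j u hu
    have h1 : y ^ 3 ∈ centralizer (U : Set G) := mem_cent_iff.2 fun u hu => conj_eq_iff.1 (hy3 u hu)
    exact conj_eq_iff.2 (mem_cent_iff.1 (pow_mem h1 j) u hu)
  have hxe : x = y * (y ^ 3) ^ (e / 3) := by
    rw [hx, ← pow_mul, ← pow_succ']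
    congr 1
    omega
  have hxU : ∀ u ∈ U, x * u * x⁻¹ = y * u * y⁻¹ := by
    intro u hu
    have h1 : x * u * x⁻¹ = y * ((y ^ 3) ^ (e / 3) * u * ((y ^ 3) ^ (e / 3))⁻¹) * y⁻¹ := by
      rw [hxe]; group
    rw [h1, hy3n _ u hu]
  have hx3U : ∀ u ∈ U, x ^ 3 * u * (x ^ 3)⁻¹ = u := by
    intro u hu
    have h1 : x ^ 3 = (y ^ 3) ^ e := by rw [hx, ← pow_mul, ← pow_mul, mul_comm]
    rw [h1]
    exact hy3n e u hu
  -- the exact inversion
  have hsx : (s₀ * x * s₀⁻¹) * x ∈ Q := by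
    have h1 : s₀ * x * s₀⁻¹ = (s₀ * y * s₀⁻¹) ^ e := by rw [hx, conj_pow]
    have h2 : s₀ * y * s₀⁻¹ = (s₀ * y * s₀⁻¹ * y) * y⁻¹ := by group
    rw [h1, h2]
    exact pow_mod hyQ hinv e
  obtain ⟨q, hq, hqx⟩ := exists_conj_coset (Q := Q) (S.2.to_le inf_le_left) hxQ ⟨k, hk⟩
    (x' := (s₀ * x * s₀⁻¹)⁻¹) ⟨k, by
      rw [orderOf_inv, ← hk]
      have : s₀ * x * s₀⁻¹ = MulAut.conj s₀ x := rfl
      rw [this, MulEquiv.orderOf_eq]⟩
    (by
      have h1 : (s₀ * x * s₀⁻¹)⁻¹ * x⁻¹ = (x * (s₀ * x * s₀⁻¹))⁻¹ := by group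
      rw [h1]
      refine inv_mem ?_
      have h2 : x * (s₀ * x * s₀⁻¹) = x * ((s₀ * x * s₀⁻¹) * x) * x⁻¹ := by group
      rw [h2]
      exact mem_norm hxQ hsx)
  set s := q * s₀ with hs
  have hsS : s ∈ (S : Subgroup G) := mul_mem hq.1 hs₀
  have hsx' : s * x * s⁻¹ = x⁻¹ := by
    have h1 : (s * x * s⁻¹)⁻¹ = q * (s₀ * x * s₀⁻¹)⁻¹ * q⁻¹ := by rw [hs]; group
    rw [hqx] at h1
    exact inv_eq_iff_eq_inv.1 h1
  -- the fixed point `f`
  obtain ⟨a, haA, haU⟩ : ∃ a ∈ A, a ∉ U := by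
    by_contra h1
    push Not at h1
    have := Nat.card_congr (Equiv.setCongr (congrArg (fun X : Subgroup G => (X : Set G)) (le_antisymm h1 hUA)))
    have h8 := h.hyp.oct.card
    change Nat.card A = Nat.card U at this
    omega
  have hxnU : ∀ c ∈ A, c ∉ U → x * c * x⁻¹ ∈ A ∧ x * c * x⁻¹ ∉ U := by
    intro c hc hcU
    refine ⟨mem_norm hxA hc, fun h1 => hcU ?_⟩
    have := mem_norm' (hnU hxA) h1
    have e1 : x⁻¹ * (x * c * x⁻¹) * x = c := by group
    rwa [e1] at this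
  have hx3 : ∀ c ∈ A, x ^ 3 * c * (x ^ 3)⁻¹ = c := by
    intro c hc
    by_cases hcU : c ∈ U
    · exact hx3U c hcU
    · have hx3A : x ^ 3 ∈ normalizer (A : Set G) := pow_mem hxA 3
      have hc3 := mem_norm hx3A hc
      have hc3U : x ^ 3 * c * (x ^ 3)⁻¹ ∉ U := fun h1 => hcU (by
        have := mem_norm' (hnU hx3A) h1
        have e1 : (x ^ 3)⁻¹ * (x ^ 3 * c * (x ^ 3)⁻¹) * x ^ 3 = c := by group
        rwa [e1] at this)
      have h1 : c * (x ^ 3 * c * (x ^ 3)⁻¹) ∈ U := mul_mem_of_index_two hUA hcA hc hc3 hcU hc3U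
      have h2 : x ^ 3 * c * (x ^ 3)⁻¹ = c * (c * (x ^ 3 * c * (x ^ 3)⁻¹)) := by
        rw [← mul_assoc, h.hyp.oct.sq c hc, one_mul]
      set v := c * (x ^ 3 * c * (x ^ 3)⁻¹) with hv
      have h3 : x ^ 6 * c = c * x ^ 6 := by
        rw [← conj_eq_iff]
        have e1 : x ^ 6 * c * (x ^ 6)⁻¹ = x ^ 3 * (x ^ 3 * c * (x ^ 3)⁻¹) * (x ^ 3)⁻¹ := by
          have : x ^ 6 = x ^ 3 * x ^ 3 := by rw [← pow_add]
          rw [this]; group
        rw [e1, h2]
        have e2 : x ^ 3 * (c * v) * (x ^ 3)⁻¹ = (x ^ 3 * c * (x ^ 3)⁻¹) * (x ^ 3 * v * (x ^ 3)⁻¹) := by group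
        rw [e2, hx3U v h1, h2, mul_assoc, h.hyp.oct.sq v (hUA h1), mul_one]
      have h4 : x ^ 3 = (x ^ 6) ^ ((3 ^ k + 1) / 2) := by
        have hodd : (3 ^ k) % 2 = 1 := by
          have : Odd (3 ^ k) := Odd.pow (by decide)
          exact Nat.odd_iff.1 this
        have h5 : 6 * ((3 ^ k + 1) / 2) = 3 ^ k * 3 + 3 := by omega
        have h6 : (x ^ 6) ^ ((3 ^ k + 1) / 2) = x ^ (6 * ((3 ^ k + 1) / 2)) := (pow_mul x _ _).symm
        have h7 : x ^ (3 ^ k) = 1 := by rw [← hk]; exact pow_orderOf_eq_one x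
        have h8 : x ^ (3 ^ k * 3) = 1 := by rw [pow_mul x (3 ^ k) 3, h7, one_pow]
        rw [h6, h5, pow_add x, h8, one_mul]
      rw [conj_eq_iff, h4]
      exact ((show Commute (x ^ 6) c from h3).pow_left _).eq
  have ha1 := hxnU a haA haU
  have ha2 := hxnU _ ha1.1 ha1.2
  set a1 := x * a * x⁻¹ with ha1d
  set a2 := x * a1 * x⁻¹ with ha2d
  have ha3 : x * a2 * x⁻¹ = a := by
    have e1 : x * a2 * x⁻¹ = x ^ 3 * a * (x ^ 3)⁻¹ := by
      rw [ha2d, ha1d]
      have : x ^ 3 = x * x * x := by rw [pow_succ, pow_two]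
      rw [this]; group
    rw [e1, hx3 a haA]
  have hfA : a * a1 * a2 ∈ A := mul_mem (mul_mem haA ha1.1) ha2.1
  have hfU : a * a1 * a2 ∉ U := by
    intro h1
    apply ha2.2
    have h2 := mul_mem_of_index_two hUA hcA haA ha1.1 haU ha1.2
    have h3 := mul_mem (inv_mem h2) h1
    have e1 : (a * a1)⁻¹ * (a * a1 * a2) = a2 := by group
    rwa [e1] at h3
  have hxf : x * (a * a1 * a2) = a * a1 * a2 * x := by
    rw [← conj_eq_iff]
    have e1 : x * (a * a1 * a2) * x⁻¹ = a1 * a2 * a := by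
      have e2 : x * (a * a1 * a2) * x⁻¹ = (x * a * x⁻¹) * (x * a1 * x⁻¹) * (x * a2 * x⁻¹) := by group
      rw [e2, ha3]
    rw [e1, h.hyp.oct.comm (mul_mem ha1.1 ha2.1) haA, ← mul_assoc]
  have htv := fun u (hu : u ∈ U) => h.exists_tv hUA hU4 hzU hwU hwz hs₀ hs₀w hnU hU htr hfA hfU hu
  have hcQ := h.card_Q_eq hUA hU4 hnU hfA hfU htv
  have hcS := h.card_S_eq hwU hwz hs₀ hs₀w hnU hU
  refine ⟨U, a * a1 * a2, x, s, ?_⟩
  exact
    { hyp := h.hyp
      UA := hUA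
      cardU := hU4
      nU := hnU
      zU := hzU
      z1 := h.z1
      zc := h.zc
      zuniq := h.zuniq
      fA := hfA
      fU := hfU
      xA := hxA
      xT := hxT
      xQ := hxQ
      xz := by rw [hxU z hzU, hyz]; exact hwz
      xf := hxf
      xo := ⟨k, hk⟩
      sS := hsS
      sU := by
        intro h1
        have h2 := conj_eq_iff.2 (mem_cent_iff.1 h1 w hwU)
        have e1 : s * w * s⁻¹ = q * (s₀ * w * s₀⁻¹) * q⁻¹ := by rw [hs]; group
        rw [e1, hs₀w, conj_eq_iff.2 (mem_cent_iff.1 hq.2 _ (mul_mem hzU hwU))] at h2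
        exact h.z1 (mul_eq_right.1 h2)
      sx := hsx'
      cardS := by rw [hcS, hcQ]; ring
      cardQ := hcQ
      tv := htv }

end Mv

end Cfsg.Agent.RankThreeFus
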