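import Cfsg.Agent.RankThreeFus.Setup
import Cfsg.Agent.Involutions.BaerSuzuki

/-!
# S1730, branch (B): Lemmas 1, 2, 3

`Spl F E P c`: the involutions of the 2-group `F` form the central elementary abelian group `E` of order 8,
`E = P × ⟨c⟩`, and `c` is the only involution of `F` which is a square in `F`.
-/

set_option autoImplicit false
set_option linter.style.haveILetI false

namespace Cfsg.Agent.RankThreeFus

open Subgroup Cfsg.Agent.Lib.GoldschmidtFusion Cfsg.Agent.Lib.EssentialFusion Cfsg.Agent.StdL2.G23Aut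

variable {G : Type*} [Group G]

/-- Output of Lemma 1. -/
structure Spl (F E P : Subgroup G) (c : G) : Prop where
  oct : Oct E
  le : E ≤ F
  cen : ∀ e ∈ E, ∀ x ∈ F, e * x = x * e
  inv : ∀ x ∈ F, x * x = 1 → x ∈ E
  leP : P ≤ E
  cardP : Nat.card P = 4
  memc : c ∈ E
  notc : c ∉ P
  sq : ∀ x ∈ F, x * x ∈ E → x * x = 1 ∨ x * x = c
  exc : ∃ y ∈ F, y * y = c

theorem Spl.ne_one {F E P : Subgroup G} {c : G} (h : Spl F E P c) : c ≠ 1 := by
  rintro rfl
  exact h.notc (one_mem _)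

theorem Spl.norm {F E P : Subgroup G} {c : G} (h : Spl F E P c) {n : G} (hn : n ∈ normalizer (F : Set G))
    {e : G} (he : e ∈ E) : n * e * n⁻¹ ∈ E := by
  refine h.inv _ (mem_norm hn (h.le he)) ?_
  calc n * e * n⁻¹ * (n * e * n⁻¹) = n * (e * e) * n⁻¹ := by group
    _ = 1 := by rw [h.oct.sq e he]; group

/-- `c` is fixed by the normaliser of `F`. -/
theorem Spl.fix {F E P : Subgroup G} {c : G} (h : Spl F E P c) {n : G} (hn : n ∈ normalizer (F : Set G)) :
    n * c * n⁻¹ = c := by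
  obtain ⟨y, hy, hyc⟩ := h.exc
  have h1 : n * y * n⁻¹ * (n * y * n⁻¹) = n * c * n⁻¹ := by rw [← hyc]; group
  rcases h.sq _ (mem_norm hn hy) (by rw [h1]; exact h.norm hn h.memc) with h2 | h2
  · exfalso
    rw [h1] at h2
    have h3 : c = 1 := by
      have : c = n⁻¹ * (n * c * n⁻¹) * n := by group
      rw [this, h2]; group
    exact h.ne_one h3
  · rw [← h1]; exact h2

theorem Spl.mem_or {F E P : Subgroup G} {c : G} (h : Spl F E P c) {e : G} (he : e ∈ E) : e ∈ P ∨ e * c ∈ P := by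
  by_cases h1 : e ∈ P
  · exact Or.inl h1
  · right
    haveI : Finite E := Nat.finite_of_card_ne_zero (by rw [h.oct.card]; norm_num)
    exact mul_mem_of_index_two h.leP (by rw [h.oct.card, h.cardP]) he h.memc h1 h.notc

/-- An element of odd order stabilising a chain of a finite 2-group centralises it. -/
theorem mem_centralizer_of_chain {X : Subgroup G} (hX : IsPGroup 2 X) (c : ℕ → Subgroup G) (n : ℕ)
    (h0 : c 0 = X) (hn : c n = ⊥) (hle : ∀ i, c (i + 1) ≤ c i)
    {g : G} (ho : Nat.Coprime (orderOf g) 2) (hg : ∀ i, ∀ e ∈ c i, g * e * g⁻¹ * e⁻¹ ∈ c (i + 1)) :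
    g ∈ centralizer (X : Set G) := by
  have hcX : ∀ i, c i ≤ X := by
    intro i
    induction i with
    | zero => exact h0.le
    | succ i ih => exact (hle i).trans ih
  have key : ∀ k i : ℕ, i + k = n → ∀ e ∈ c i, g * e * g⁻¹ = e := by
    intro k
    induction k with
    | zero =>
      intro i hi e he
      rw [add_zero] at hi
      rw [hi, hn, mem_bot] at he
      rw [he]; simp
    | succ k ih =>
      intro i hi e he
      set d := g * e * g⁻¹ * e⁻¹ with hd
      have hdc : d ∈ c (i + 1) := hg i e he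
      have hgd : g * d * g⁻¹ = d := ih (i + 1) (by omega) d hdc
      have hge : g * e * g⁻¹ = d * e := by rw [hd]; group
      have hpow : ∀ m : ℕ, g ^ m * e * (g ^ m)⁻¹ = d ^ m * e := by
        intro m
        induction m with
        | zero => simp
        | succ m ihm =>
          have hgd' : g * d ^ m * g⁻¹ = d ^ m := by
            rw [← conj_pow, hgd]
          calc g ^ (m + 1) * e * (g ^ (m + 1))⁻¹ = g * (g ^ m * e * (g ^ m)⁻¹) * g⁻¹ := by
                rw [pow_succ']; group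
            _ = g * (d ^ m * e) * g⁻¹ := by rw [ihm]
            _ = (g * d ^ m * g⁻¹) * (g * e * g⁻¹) := by group
            _ = d ^ m * (d * e) := by rw [hgd', hge]
            _ = d ^ (m + 1) * e := by rw [pow_succ]; group
      have h1 := hpow (orderOf g)
      rw [pow_orderOf_eq_one] at h1
      have h2 : d ^ orderOf g = 1 := by
        have h5 : e = d ^ orderOf g * e := by simpa using h1
        have h6 : e * e⁻¹ = d ^ orderOf g * e * e⁻¹ := congrArg (· * e⁻¹) h5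
        simpa using h6.symm
      have hdX : d ∈ X := hcX _ hdc
      obtain ⟨j, hj⟩ := hX ⟨d, hdX⟩
      have hj' : d ^ 2 ^ j = 1 := by simpa using congrArg Subtype.val hj
      have h3 : orderOf d ∣ Nat.gcd (orderOf g) (2 ^ j) :=
        Nat.dvd_gcd (orderOf_dvd_of_pow_eq_one h2) (orderOf_dvd_of_pow_eq_one hj')
      rw [Nat.Coprime.pow_right j ho, Nat.dvd_one, orderOf_eq_one_iff] at h3
      rw [hge, h3, one_mul]
  rw [mem_centralizer_iff]
  intro e he
  have h1 := key n 0 (by omega) e (by rw [h0]; exact he)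
  calc e * g = (g * e * g⁻¹) * g := by rw [h1]
    _ = g * e := by group

/-- Two-step version. -/
theorem comm_of_two_step {X Y : Subgroup G} (hX : IsPGroup 2 X) (hYX : Y ≤ X) {g : G} (ho : Odd (orderOf g))
    (h1 : ∀ x ∈ X, g * x * g⁻¹ * x⁻¹ ∈ Y) (h2 : ∀ y ∈ Y, g * y * g⁻¹ = y) : ∀ x ∈ X, g * x * g⁻¹ = x := by
  have hc := mem_centralizer_of_chain (X := X) hX (fun i => if i = 0 then X else if i = 1 then Y else ⊥) 2
    (by simp) (by simp) (by
      intro i
      rcases i with _ | _ | i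
      · simpa using hYX
      · simp
      · simp) ((Nat.coprime_two_right).2 ho) (by
      intro i e he
      rcases i with _ | _ | i
      · simpa using h1 e (by simpa using he)
      · have he' : e ∈ Y := by simpa using he
        simp [h2 e he']
      · have he' : e = 1 := by simpa using he
        simp [he'])
  intro x hx
  rw [conj_eq_iff]
  exact (mem_cent_iff.1 hc) x hx

section Finite

variable [Finite G]

/-- A normal subgroup of `N_G(X)` all of whose elements of odd order centralise the essential subgroup `X` lies in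
`X C_G(X)`. -/
theorem le_XC_of_coprime {P : Sylow 2 G} {X : Subgroup G} (h : Ess P X) {A : Subgroup G}
    (hA : A ≤ normalizer (X : Set G)) (hAN : normalizer (X : Set G) ≤ normalizer (A : Set G))
    (hcop : ∀ g ∈ A, Nat.Coprime (orderOf g) 2 → g ∈ centralizer (X : Set G)) : A ≤ XC X := by
  set N : Subgroup G := normalizer (X : Set G) with hN
  obtain ⟨H, hH, -⟩ := h.exists_stronglyEmb
  set B : Subgroup (Out X) := (A.subgroupOf N).map (QuotientGroup.mk' _) with hB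
  have hAn : (A.subgroupOf N).Normal := (normal_subgroupOf_iff_le_normalizer hA).2 hAN
  have hBn : B.Normal := Subgroup.Normal.map hAn _ (QuotientGroup.mk'_surjective _)
  have hBp : IsPGroup 2 B := by
    rintro ⟨y, hy⟩
    obtain ⟨⟨a, haN⟩, haA, rfl⟩ := hy
    have haA' : a ∈ A := haA
    obtain ⟨k, m, hm, hkm⟩ := Nat.exists_eq_pow_mul_and_not_dvd (orderOf_pos a).ne' 2 (by norm_num)
    refine ⟨k, ?_⟩
    apply Subtype.ext
    change (QuotientGroup.mk (⟨a, haN⟩ : N) : Out X) ^ 2 ^ k = 1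
    rw [← QuotientGroup.mk_pow, QuotientGroup.eq_one_iff, mem_subgroupOf]
    have hc : a ^ 2 ^ k ∈ centralizer (X : Set G) := by
      apply hcop _ (pow_mem haA' _)
      rw [orderOf_pow_of_dvd (pow_ne_zero _ (by norm_num)) (by rw [hkm]; exact Dvd.intro _ rfl), hkm,
        Nat.mul_div_cancel_left _ (pow_pos (by norm_num) _)]
      exact ((Nat.Prime.coprime_iff_not_dvd Nat.prime_two).2 hm).symm
    exact centralizer_le_XC X hc
  have hB1 : B = ⊥ := hH.eq_bot_of_normal hBn hBp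
  intro a ha
  have h1 : toOut a (hA ha) ∈ B := ⟨⟨a, hA ha⟩, ha, rfl⟩
  rw [hB1, mem_bot, toOut_eq_one] at h1
  exact h1

/-- **Chain lemma**: an element of `N_G(X)` stabilising a chain of `N_G(X)`-invariant subgroups of the essential
subgroup `X` lies in `X C_G(X)`. -/
theorem chain_le_XC {P : Sylow 2 G} {X : Subgroup G} (h : Ess P X) (c : ℕ → Subgroup G) (n : ℕ)
    (h0 : c 0 = X) (hn : c n = ⊥) (hle : ∀ i, c (i + 1) ≤ c i)
    (hc : ∀ i, normalizer (X : Set G) ≤ normalizer (c i : Set G))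
    {x : G} (hxN : x ∈ normalizer (X : Set G))
    (hx : ∀ i, ∀ e ∈ c i, x * e * x⁻¹ * e⁻¹ ∈ c (i + 1)) : x ∈ XC X := by
  set N : Subgroup G := normalizer (X : Set G) with hN
  have hcX : ∀ i, c i ≤ X := by
    intro i
    induction i with
    | zero => exact h0.le
    | succ i ih => exact (hle i).trans ih
  have conjc : ∀ {g e : G} {i : ℕ}, g ∈ N → e ∈ c i → g * e * g⁻¹ ∈ c i := by
    intro g e i hg he
    exact (mem_normalizer_iff.1 (hc i hg) e).1 he
  have prod : ∀ (i : ℕ) {g k : G}, g ∈ N → (∀ e ∈ c i, k * e * k⁻¹ * e⁻¹ ∈ c (i + 1)) →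
      (∀ e ∈ c i, g * e * g⁻¹ * e⁻¹ ∈ c (i + 1)) → ∀ e ∈ c i, (g * k) * e * (g * k)⁻¹ * e⁻¹ ∈ c (i + 1) := by
    intro i g k hg hk hg' e he
    have e1 : (g * k) * e * (g * k)⁻¹ * e⁻¹ = g * (k * e * k⁻¹ * e⁻¹) * g⁻¹ * (g * e * g⁻¹ * e⁻¹) := by group
    rw [e1]
    exact mul_mem (conjc hg (hk e he)) (hg' e he)
  let A : Subgroup G :=
    { carrier := {g : G | g ∈ N ∧ ∀ i, ∀ e ∈ c i, g * e * g⁻¹ * e⁻¹ ∈ c (i + 1)}
      one_mem' := ⟨one_mem _, fun i e _ => by simp⟩
      mul_mem' := by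
        rintro a b ⟨ha, ha'⟩ ⟨hb, hb'⟩
        exact ⟨mul_mem ha hb, fun i => prod i ha (hb' i) (ha' i)⟩
      inv_mem' := by
        rintro a ⟨ha, ha'⟩
        refine ⟨inv_mem ha, fun i e he => ?_⟩
        have h1 : a⁻¹ * e * a ∈ c i := by
          have := conjc (inv_mem ha) he
          simpa using this
        have h2 := ha' i _ h1
        -- `a⁻¹ e a e⁻¹ = ([a, a⁻¹ e a])⁻¹`
        have e1 : a⁻¹ * e * a⁻¹⁻¹ * e⁻¹ = (a * (a⁻¹ * e * a) * a⁻¹ * (a⁻¹ * e * a)⁻¹)⁻¹ := by group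
        rw [e1]
        exact inv_mem h2 }
  have hAN : N ≤ normalizer (A : Set G) := by
    rw [le_normalizer_iff]
    rintro g hg a ⟨ha, ha'⟩
    refine ⟨mul_mem (mul_mem hg ha) (inv_mem hg), fun i e he => ?_⟩
    have h1 : g⁻¹ * e * g ∈ c i := by
      have := conjc (inv_mem hg) he
      simpa using this
    have h2 := conjc hg (ha' i _ h1)
    have e1 : g * a * g⁻¹ * e * (g * a * g⁻¹)⁻¹ * e⁻¹ =
        g * (a * (g⁻¹ * e * g) * a⁻¹ * (g⁻¹ * e * g)⁻¹) * g⁻¹ := by group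
    rw [e1]
    exact h2
  have hcop : ∀ g ∈ A, Nat.Coprime (orderOf g) 2 → g ∈ centralizer (X : Set G) := by
    rintro g ⟨hgN, hg⟩ ho
    exact mem_centralizer_of_chain (P.isPGroup'.to_le h.lt.le) c n h0 hn hle ho hg
  have hAN' : A ≤ N := by
    rintro a ⟨ha, -⟩
    exact ha
  have hxA : x ∈ A := ⟨hxN, hx⟩
  exact le_XC_of_coprime h hAN' hAN hcop hxA

end Finite

/-- Lifting an element of odd order. -/
theorem exists_odd_lift {N Q : Type*} [Group N] [Group Q] [Finite N] (f : N →* Q)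
    (hf : Function.Surjective f) (h : Q) (ho : Odd (orderOf h)) : ∃ s : N, f s = h ∧ Odd (orderOf s) := by
  obtain ⟨s, rfl⟩ := hf h
  obtain ⟨k, m, hm, hkm⟩ := Nat.exists_eq_two_pow_mul_odd (orderOf_pos s).ne'
  rcases Nat.lt_or_ge 1 (orderOf (f s)) with h1 | h1
  · have hc : Nat.Coprime (2 ^ k) (orderOf (f s)) := Nat.Coprime.pow_left k ((Nat.coprime_two_left).2 ho)
    obtain ⟨j, hj⟩ := Nat.exists_mul_mod_eq_one_of_coprime hc h1
    refine ⟨s ^ (2 ^ k * j), ?_, ?_⟩
    · rw [map_pow, ← pow_mod_orderOf, hj.2, pow_one]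
    · have h2 : (s ^ (2 ^ k * j)) ^ m = 1 := by
        rw [← pow_mul]
        have : 2 ^ k * j * m = orderOf s * j := by rw [hkm]; ring
        rw [this, pow_mul, pow_orderOf_eq_one, one_pow]
      exact Odd.of_dvd_nat hm (orderOf_dvd_of_pow_eq_one h2)
  · refine ⟨1, ?_, by simp⟩
    have h2 : orderOf (f s) = 1 := by
      have := ho.pos
      omega
    rw [map_one, (orderOf_eq_one_iff.1 h2)]

/-- **(BS)** Baer–Suzuki for an essential subgroup. -/
theorem exists_sigma [Finite G] {S : Sylow 2 G} {F : Subgroup G} (hF : Ess S F) {a : G}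
    (haS : a ∈ (S : Subgroup G)) (haN : a ∈ normalizer (F : Set G)) (ha2 : a * a = 1) (haF : a ∉ F) :
    ∃ σ ∈ normalizer (F : Set G), Odd (orderOf σ) ∧ (∃ x ∈ F, σ * x * σ⁻¹ ≠ x) ∧
      (∀ x ∈ F, (a * σ * a⁻¹) * x * (a * σ * a⁻¹)⁻¹ = σ⁻¹ * x * σ) ∧
      ∃ κ ∈ normalizer (F : Set G), ∀ x ∈ F,
        σ * x * σ⁻¹ = (a * (κ⁻¹ * a * κ)) * x * (a * (κ⁻¹ * a * κ))⁻¹ := by
  set N : Subgroup G := normalizer (F : Set G) with hN
  have hCN : centralizer (F : Set G) ≤ N := centralizer_le_normalizer _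
  let K : Subgroup N := (centralizer (F : Set G)).subgroupOf N
  haveI hK : K.Normal := by
    constructor
    intro n hn g
    rw [mem_subgroupOf] at hn ⊢
    rw [mem_cent_iff] at hn ⊢
    intro x hx
    have h1 := hn _ (mem_norm' g.2 hx)
    have h2 : (g : G) * (n : G) * (g : G)⁻¹ * x = (g : G) * ((n : G) * ((g : G)⁻¹ * x * g)) * (g : G)⁻¹ := by group
    change (g : G) * (n : G) * (g : G)⁻¹ * x = x * ((g : G) * (n : G) * (g : G)⁻¹)
    rw [h2, h1]; group
  let f : N →* N ⧸ K := QuotientGroup.mk' K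
  have hker : ∀ x : N, f x = 1 ↔ (x : G) ∈ centralizer (F : Set G) := by
    intro x
    change (QuotientGroup.mk' K) x = 1 ↔ _
    rw [QuotientGroup.mk'_apply, QuotientGroup.eq_one_iff, mem_subgroupOf]
  have hsurj : Function.Surjective f := QuotientGroup.mk'_surjective K
  let a' : N := ⟨a, haN⟩
  have ha' : f a' * f a' = 1 := by
    rw [← map_mul]
    have : a' * a' = 1 := Subtype.ext ha2
    rw [this, map_one]
  have hnp : ¬ IsPGroup 2 (Subgroup.normalClosure {f a'} : Subgroup (N ⧸ K)) := by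
    intro hp
    let B : Subgroup N := (Subgroup.normalClosure {f a'}).comap f
    haveI hB : B.Normal := Subgroup.Normal.comap Subgroup.normalClosure_normal f
    let A : Subgroup G := B.map N.subtype
    have hAN : A ≤ N := by
      rintro _ ⟨b, -, rfl⟩
      exact b.2
    have hNA : N ≤ normalizer (A : Set G) := by
      rw [le_normalizer_iff]
      rintro g hg _ ⟨b, hb, rfl⟩
      exact ⟨⟨g, hg⟩ * b * ⟨g, hg⟩⁻¹, hB.conj_mem b hb ⟨g, hg⟩, rfl⟩
    have h1 := hF.inf_le hAN hNA (by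
      rintro _ ⟨b, hb, rfl⟩ ho
      change (b : G) ∈ centralizer (F : Set G)
      rw [← hker]
      have hb' : f b ∈ Subgroup.normalClosure {f a'} := hb
      obtain ⟨k, hk⟩ := hp ⟨f b, hb'⟩
      have hk' : (f b) ^ 2 ^ k = 1 := by simpa using congrArg Subtype.val hk
      have h2 : orderOf (f b) ∣ 2 ^ k := orderOf_dvd_of_pow_eq_one hk'
      have h3 : orderOf (f b) ∣ orderOf b := orderOf_map_dvd f b
      have h4 : orderOf b = orderOf (N.subtype b) := (Subgroup.orderOf_coe b).symm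
      rw [h4] at h3
      have h5 : orderOf (f b) ∣ Nat.gcd (orderOf (N.subtype b)) (2 ^ k) := Nat.dvd_gcd h3 h2
      rw [Nat.Coprime.pow_right k ho, Nat.dvd_one, orderOf_eq_one_iff] at h5
      exact h5)
    apply haF
    exact h1 ⟨⟨a', subset_normalClosure (by simp), rfl⟩, haS⟩
  obtain ⟨h, h1, hodd, hinv⟩ := Cfsg.Agent.Involutions.BaerSuzuki.exists_odd_inverted (f a') ha' hnp
  obtain ⟨s, hs, hso⟩ := exists_odd_lift f hsurj h hodd
  -- conjugation by elements with the same image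
  have hact : ∀ {u v : N}, f u = f v → ∀ x ∈ F, (u : G) * x * (u : G)⁻¹ = (v : G) * x * (v : G)⁻¹ := by
    intro u v huv x hx
    have h2 : f (v⁻¹ * u) = 1 := by rw [map_mul, map_inv, huv, inv_mul_cancel]
    have h3 := (mem_cent_iff.1 ((hker _).1 h2)) x hx
    have h4 : (v : G)⁻¹ * (u : G) * x = x * ((v : G)⁻¹ * (u : G)) := h3
    calc (u : G) * x * (u : G)⁻¹ = (v : G) * ((v : G)⁻¹ * (u : G) * x) * (u : G)⁻¹ := by group
      _ = (v : G) * (x * ((v : G)⁻¹ * (u : G))) * (u : G)⁻¹ := by rw [h4]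
      _ = (v : G) * x * (v : G)⁻¹ := by group
  obtain ⟨m, hm⟩ := hso
  let κ : N := s ^ (m + 1)
  have hκ : κ * κ = s := by
    change s ^ (m + 1) * s ^ (m + 1) = s
    rw [← pow_add]
    have : m + 1 + (m + 1) = orderOf s + 1 := by rw [hm]; ring
    rw [this, pow_succ, pow_orderOf_eq_one, one_mul]
  have hinvp : ∀ n : ℕ, f a' * h ^ n * (f a')⁻¹ = (h ^ n)⁻¹ := by
    intro n
    rw [← conj_pow, hinv, inv_pow]
  refine ⟨s, s.2, ?_, ?_, ?_, κ, κ.2, ?_⟩
  · rw [Subgroup.orderOf_coe]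
    exact ⟨m, hm⟩
  · by_contra hcon
    push Not at hcon
    apply h1
    rw [← hs, hker, mem_cent_iff]
    intro x hx
    exact conj_eq_iff.1 (hcon x hx)
  · intro x hx
    have h2 := hact (u := a' * s * a'⁻¹) (v := s⁻¹) (by
      rw [map_mul, map_mul, map_inv, map_inv, hs, hinv]) x hx
    have h3 : ((a' * s * a'⁻¹ : N) : G) = a * s * a⁻¹ := rfl
    have h4 : ((s⁻¹ : N) : G) = (s : G)⁻¹ := rfl
    rw [h3, h4] at h2
    rw [h2]; group
  · intro x hx
    refine (hact (u := s) (v := a' * (κ⁻¹ * a' * κ)) ?_ x hx)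
    have h2 : f κ = h ^ (m + 1) := by
      change f (s ^ (m + 1)) = _
      rw [map_pow, hs]
    have h3 := hinvp (m + 1)
    have h4 : f a' * (h ^ (m + 1))⁻¹ * f a' = h ^ (m + 1) := by
      have h5 : (f a')⁻¹ = f a' := inv_eq_of_mul_eq_one_left ha'
      have h6 : f a' * (h ^ (m + 1))⁻¹ * (f a')⁻¹ = (f a' * h ^ (m + 1) * (f a')⁻¹)⁻¹ := by group
      rw [h5] at h6
      rw [h6]
      have h7 : f a' * h ^ (m + 1) * f a' = (h ^ (m + 1))⁻¹ := by rw [h5] at h3; exact h3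
      rw [h7, inv_inv]
    have h5 : f (a' * (κ⁻¹ * a' * κ)) = (f a' * (f κ)⁻¹ * f a') * f κ := by
      rw [map_mul, map_mul, map_mul, map_inv]; group
    rw [h5, h2, h4, ← h2, ← map_mul, hκ]



/-! ### Lemma 1 -/

theorem relIndex_eq_card_img [Finite G] {E : Subgroup G} :
    (centralizer (E : Set G)).relIndex (normalizer (E : Set G)) =
      Nat.card (img (normalizer (E : Set G)) E) := by
  have h1 := card_img_mul (K := normalizer (E : Set G)) (V := E) le_rfl
  have h2 : (normalizer (E : Set G) ⊓ centralizer (E : Set G) : Subgroup G) = centralizer (E : Set G) :=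
    inf_eq_right.2 (centralizer_le_normalizer _)
  rw [h2] at h1
  have h3 := relIndex_mul_card' (centralizer_le_normalizer (E : Set G))
  exact Nat.eq_of_mul_eq_mul_right (Nat.card_pos (α := centralizer (E : Set G))) (by rw [h1, h3])

/-- An element of odd order normalising `E` acts on `E` with order dividing three. -/
theorem cube_fix [Finite G] {E : Subgroup G} (hE : Oct E)
    (no7 : ¬ 7 ∣ (centralizer (E : Set G)).relIndex (normalizer (E : Set G))) {σ : G}
    (hσ : σ ∈ normalizer (E : Set G)) (hodd : Odd (orderOf σ)) :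
    (E.normalizerMonoidHom ⟨σ, hσ⟩) ^ 3 = 1 := by
  haveI := hE.finite_aut
  set φ := E.normalizerMonoidHom ⟨σ, hσ⟩ with hφ
  have h1 : orderOf φ ∣ orderOf σ := by
    have h := orderOf_map_dvd E.normalizerMonoidHom (⟨σ, hσ⟩ : normalizer (E : Set G))
    rwa [← Subgroup.orderOf_coe] at h
  have h2 : Odd (orderOf φ) := Odd.of_dvd_nat hodd h1
  have h3 : orderOf φ ∣ 168 := by
    rw [← hE.card_aut]
    exact orderOf_dvd_natCard φ
  have h4 : orderOf φ ∣ 21 := by
    have : Nat.Coprime (orderOf φ) 8 := by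
      have := (Nat.coprime_two_right).2 h2
      exact Nat.Coprime.pow_right 3 this
    exact this.dvd_of_dvd_mul_left (by simpa using h3 : orderOf φ ∣ 8 * 21)
  have h5 : ¬ 7 ∣ orderOf φ := by
    intro h
    apply no7
    rw [relIndex_eq_card_img]
    refine h.trans ?_
    have hmem : φ ∈ img (normalizer (E : Set G)) E := mem_img.2 ⟨σ, hσ, hσ, fun v => rfl⟩
    have h6 : orderOf (⟨φ, hmem⟩ : img (normalizer (E : Set G)) E) = orderOf φ :=
      (Subgroup.orderOf_coe _).symm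
    rw [← h6]
    exact orderOf_dvd_natCard _
  have h6 : orderOf φ ∣ 3 := by
    have : Nat.Coprime (orderOf φ) 7 :=
      ((Nat.Prime.coprime_iff_not_dvd (by norm_num)).2 h5).symm
    exact this.dvd_of_dvd_mul_left (by simpa using h4 : orderOf φ ∣ 7 * 3)
  exact orderOf_dvd_iff_pow_eq_one.1 h6

/-- A fixed-point decomposition of `E`. -/
theorem exists_decomp {E : Subgroup G} (hE : Oct E) {σ : G} (hσ : σ ∈ normalizer (E : Set G))
    (h3 : (E.normalizerMonoidHom ⟨σ, hσ⟩) ^ 3 = 1) (hnt : ∃ e ∈ E, σ * e * σ⁻¹ ≠ e) :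
    ∃ (P : Subgroup G) (c : G), P ≤ E ∧ Nat.card P = 4 ∧ c ∈ E ∧ c ∉ P ∧ σ * c * σ⁻¹ = c ∧
      (∀ e ∈ E, σ * e * σ⁻¹ = e → e = 1 ∨ e = c) ∧
      ∀ e ∈ E, (e ∈ P ↔ e * (σ * e * σ⁻¹) * (σ * (σ * e * σ⁻¹) * σ⁻¹) = 1) := by
  haveI : Finite E := Nat.finite_of_card_ne_zero (by rw [hE.card]; norm_num)
  set φ : MulAut E := E.normalizerMonoidHom ⟨σ, hσ⟩ with hφ
  have hval : ∀ e : E, ((φ e : E) : G) = σ * e * σ⁻¹ := fun e => rfl
  have h3' : ∀ e : E, φ (φ (φ e)) = e := by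
    intro e
    have := congrArg (fun ψ : MulAut E => ψ e) h3
    simpa [pow_succ] using this
  have hsq : ∀ e : E, e * e = 1 := fun e => Subtype.ext (hE.sq e e.2)
  have hcomm : ∀ x y : E, x * y = y * x := comm_of_sq hsq
  -- the trace
  let f : E →* E :=
    { toFun := fun e => e * φ e * φ (φ e)
      map_one' := by simp
      map_mul' := by
        intro x y
        simp only [map_mul]
        have e1 : x * y * (φ x * φ y) * (φ (φ x) * φ (φ y)) =
            x * (y * φ x) * (φ y * φ (φ x)) * φ (φ y) := by group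
        have e2 : x * φ x * φ (φ x) * (y * φ y * φ (φ y)) =
            x * φ x * (φ (φ x) * (y * φ y)) * φ (φ y) := by group
        rw [e1, e2, hcomm y (φ x), hcomm (φ (φ x)) (y * φ y), hcomm (φ y) (φ (φ x))]
        have e3 : x * (φ x * y) * (φ (φ x) * φ y) * φ (φ y) = x * φ x * (y * φ (φ x)) * φ y * φ (φ y) := by group
        rw [e3, hcomm y (φ (φ x))]
        have e4 : x * φ x * (y * φ y * φ (φ x)) * φ (φ y) = x * φ x * (y * (φ y * φ (φ x))) * φ (φ y) := by group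
        rw [e4, hcomm (φ y) (φ (φ x)), ← mul_assoc y, hcomm y (φ (φ x))]
        group }
  have hf : ∀ e, f e = e * φ e * φ (φ e) := fun e => rfl
  -- the fixed points
  let D : Subgroup E :=
    { carrier := {e | φ e = e}
      one_mem' := by simp
      mul_mem' := by
        intro x y hx hy
        change φ (x * y) = x * y
        rw [map_mul, (hx : φ x = x), (hy : φ y = y)]
      inv_mem' := by
        intro x hx
        change φ x⁻¹ = x⁻¹
        rw [map_inv, (hx : φ x = x)] }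
  have hD : ∀ e : E, e ∈ D ↔ φ e = e := fun e => Iff.rfl
  have hrange : f.range = D := by
    ext e
    constructor
    · rintro ⟨x, rfl⟩
      rw [hD, hf, map_mul, map_mul, h3', hcomm (φ x * φ (φ x)) x]
      group
    · intro he
      refine ⟨e, ?_⟩
      rw [hD] at he
      rw [hf, he, he, hsq, one_mul]
  have hcard : Nat.card D * Nat.card f.ker = 8 := by
    have h := f.ker.card_mul_index
    rw [Subgroup.index_ker, hrange, hE.card] at h
    rw [mul_comm]; exact h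
  -- fixed point count modulo three
  have hmod : Nat.card D ≡ 8 [MOD 3] := by
    haveI : Fact (Nat.Prime 3) := ⟨Nat.prime_three⟩
    have hp : IsPGroup 3 (zpowers φ) := by
      intro g
      refine ⟨1, ?_⟩
      obtain ⟨g, hg⟩ := g
      obtain ⟨k, rfl⟩ := mem_zpowers_iff.1 hg
      apply Subtype.ext
      change (φ ^ k) ^ 3 ^ 1 = 1
      rw [pow_one, ← zpow_natCast, ← zpow_mul, mul_comm, zpow_mul]
      have : φ ^ ((3 : ℕ) : ℤ) = 1 := by rw [zpow_natCast]; exact h3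
      rw [this, one_zpow]
    have h := hp.card_modEq_card_fixedPoints E
    rw [hE.card] at h
    have h4 : Nat.card (MulAction.fixedPoints (zpowers φ) E) = Nat.card D := by
      apply Nat.card_congr
      refine Equiv.subtypeEquivRight ?_
      intro e
      rw [MulAction.mem_fixedPoints]
      change _ ↔ φ e = e
      constructor
      · intro h
        exact h ⟨φ, mem_zpowers φ⟩
      · rintro h ⟨g, hg⟩
        obtain ⟨k, rfl⟩ := mem_zpowers_iff.1 hg
        change (φ ^ k) e = e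
        have h5 : φ ∈ MulAction.stabilizer (MulAut E) e := h
        exact (MulAction.mem_stabilizer_iff).1 (zpow_mem h5 k)
    rw [h4] at h
    exact h.symm
  have hDle : Nat.card D ∣ 8 := Dvd.intro _ hcard
  have hDne : Nat.card D ≠ 8 := by
    intro h
    have h5 : D = ⊤ := Subgroup.eq_top_of_card_eq _ (by rw [h, hE.card])
    obtain ⟨e, he, hne⟩ := hnt
    apply hne
    have h6 : (⟨e, he⟩ : E) ∈ D := by rw [h5]; trivial
    rw [hD] at h6
    have := congrArg Subtype.val h6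
    exact this
  have hD2 : Nat.card D = 2 := by
    have h5 : Nat.card D ≤ 8 := Nat.le_of_dvd (by norm_num) hDle
    interval_cases h6 : Nat.card D <;> first | rfl | (exfalso; revert hmod; decide) | (exfalso; omega)
  have hP4 : Nat.card f.ker = 4 := by rw [hD2] at hcard; omega
  obtain ⟨c, hc1, hc⟩ : ∃ c : D, c ≠ 1 ∧ ∀ x : D, x = 1 ∨ x = c := by
    obtain ⟨x, y, hxy, hU⟩ := Nat.card_eq_two_iff.1 hD2
    have hall : ∀ u : D, u = x ∨ u = y := by
      intro u
      have : u ∈ ({x, y} : Set D) := by rw [hU]; trivial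
      simpa using this
    rcases hall 1 with h | h
    · refine ⟨y, by rw [h]; exact hxy.symm, fun u => ?_⟩
      rw [h]; exact hall u
    · refine ⟨x, by rw [h]; exact hxy, fun u => ?_⟩
      rw [h]; exact (hall u).symm
  have hfc : φ (c : E) = c := c.2
  refine ⟨f.ker.map E.subtype, ((c : E) : G), ?_, ?_, (c : E).2, ?_, ?_, ?_, ?_⟩
  · rintro _ ⟨x, -, rfl⟩
    exact x.2
  · rw [Subgroup.card_map_of_injective E.subtype_injective]
    exact hP4
  · rintro ⟨x, hx, hxc⟩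
    have hx' : x = (c : E) := Subtype.ext hxc
    rw [hx'] at hx
    have h5 : f (c : E) = 1 := hx
    rw [hf, hfc, hfc, hsq, one_mul] at h5
    exact hc1 (Subtype.ext h5)
  · exact congrArg Subtype.val hfc
  · intro e he heq
    have h5 : φ ⟨e, he⟩ = ⟨e, he⟩ := Subtype.ext heq
    rcases hc ⟨⟨e, he⟩, h5⟩ with h6 | h6
    · left
      have := congrArg (fun u : D => ((u : E) : G)) h6
      exact this
    · right
      exact congrArg (fun u : D => ((u : E) : G)) h6
  · intro e he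
    have key : (e * (σ * e * σ⁻¹) * (σ * (σ * e * σ⁻¹) * σ⁻¹) : G) = ((f ⟨e, he⟩ : E) : G) := rfl
    rw [key]
    constructor
    · rintro ⟨x, hx, hxe⟩
      have hx' : x = ⟨e, he⟩ := Subtype.ext hxe
      rw [hx'] at hx
      have h5 : f ⟨e, he⟩ = 1 := hx
      rw [h5]; rfl
    · intro h5
      exact ⟨⟨e, he⟩, Subtype.ext h5, rfl⟩


/-- The normaliser of `F` normalises the central subgroup `E` of order 8. -/
theorem oct_norm [Finite G] (hr : Cfsg.PRankLE 2 3 G) {F E : Subgroup G} (hE : Oct E) (hEF : E ≤ F)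
    (hcen : ∀ e ∈ E, ∀ x ∈ F, e * x = x * e) {n : G} (hn : n ∈ normalizer (F : Set G)) {e : G} (he : e ∈ E) :
    n * e * n⁻¹ ∈ E := by
  refine Oct.mem_of_comm hr hE ?_ ?_
  · calc n * e * n⁻¹ * (n * e * n⁻¹) = n * (e * e) * n⁻¹ := by group
      _ = 1 := by rw [hE.sq e he]; group
  · intro y hy
    exact (hcen y hy _ (mem_norm hn (hEF he))).symm

theorem oct_inv [Finite G] (hr : Cfsg.PRankLE 2 3 G) {F E : Subgroup G} (hE : Oct E)
    (hcen : ∀ e ∈ E, ∀ x ∈ F, e * x = x * e) {x : G} (hx : x ∈ F) (h : x * x = 1) : x ∈ E :=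
  Oct.mem_of_comm hr hE h fun e he => (hcen e he x hx).symm

/-- **Lemma 1.** -/
theorem Spl.exists_of [Finite G] (hr : Cfsg.PRankLE 2 3 G) {F E : Subgroup G}
    (no7 : ¬ 7 ∣ (centralizer (E : Set G)).relIndex (normalizer (E : Set G)))
    (hF : IsPGroup 2 F) (hE : Oct E) (hEF : E ≤ F) (hcen : ∀ e ∈ E, ∀ x ∈ F, e * x = x * e) (hne : E ≠ F)
    {σ : G} (hσ : σ ∈ normalizer (F : Set G)) (hodd : Odd (orderOf σ))
    (hσE : ∀ x ∈ F, σ * x * σ⁻¹ * x⁻¹ ∈ E) (hnt : ∃ x ∈ F, σ * x * σ⁻¹ ≠ x) :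
    ∃ (P : Subgroup G) (c : G), Spl F E P c ∧ σ * c * σ⁻¹ = c ∧
      ∀ e ∈ E, (e ∈ P ↔ e * (σ * e * σ⁻¹) * (σ * (σ * e * σ⁻¹) * σ⁻¹) = 1) := by
  have hσ' : σ ∈ normalizer (E : Set G) := mem_norm_of_conj fun e he => oct_norm hr hE hEF hcen hσ he
  have hnt' : ∃ e ∈ E, σ * e * σ⁻¹ ≠ e := by
    by_contra hcon
    push Not at hcon
    obtain ⟨x, hx, hx'⟩ := hnt
    exact hx' (comm_of_two_step hF hEF hodd hσE hcon x hx)
  obtain ⟨P, c, hPE, hP4, hcE, hcP, hσc, hD, hP⟩ := exists_decomp hE hσ' (cube_fix hE no7 hσ' hodd) hnt'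
  have hsq : ∀ x ∈ F, x * x ∈ E → x * x = 1 ∨ x * x = c := by
    intro x hx hxx
    apply hD _ hxx
    set d := σ * x * σ⁻¹ * x⁻¹ with hd
    have hdE : d ∈ E := hσE x hx
    have h1 : σ * x * σ⁻¹ = d * x := by rw [hd]; group
    have h2 : σ * (x * x) * σ⁻¹ = (σ * x * σ⁻¹) * (σ * x * σ⁻¹) := by group
    rw [h2, h1]
    calc d * x * (d * x) = d * (x * d) * x := by group
      _ = d * (d * x) * x := by rw [hcen d hdE x hx]
      _ = (d * d) * (x * x) := by group
      _ = x * x := by rw [hE.sq d hdE, one_mul]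
  refine ⟨P, c, ⟨hE, hEF, hcen, fun x hx h => oct_inv hr hE hcen hx h, hPE, hP4, hcE, hcP, hsq, ?_⟩, hσc, hP⟩
  -- an element of order 4
  obtain ⟨x, hx, hxE⟩ := SetLike.exists_of_lt (lt_of_le_of_ne hEF hne)
  obtain ⟨k, hk⟩ := hF ⟨x, hx⟩
  have hk' : x ^ 2 ^ k = 1 := by simpa using congrArg Subtype.val hk
  have hex : ∃ j, x ^ 2 ^ j ∈ E := ⟨k, by rw [hk']; exact one_mem _⟩
  classical
  have hmin : ∀ m, m < Nat.find hex → x ^ 2 ^ m ∉ E := fun m hm => Nat.find_min hex hm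
  have hspec := Nat.find_spec hex
  rcases Nat.eq_zero_or_pos (Nat.find hex) with h0 | h0
  · exfalso
    rw [h0, pow_zero, pow_one] at hspec
    exact hxE hspec
  · obtain ⟨j, hj⟩ := Nat.exists_eq_succ_of_ne_zero h0.ne'
    rw [hj] at hspec
    have h1 : x ^ 2 ^ j ∉ E := hmin j (by omega)
    have h2 : x ^ 2 ^ j * x ^ 2 ^ j ∈ E := by
      rw [← pow_add, ← two_mul, ← pow_succ']
      exact hspec
    refine ⟨x ^ 2 ^ j, pow_mem hx _, ?_⟩
    rcases hsq _ (pow_mem hx _) h2 with h3 | h3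
    · exact absurd (oct_inv hr hE hcen (pow_mem hx _) h3) h1
    · exact h3

/-- If `a` inverts `σ` on `F` then `a` normalises `P`. -/
theorem norm_P {E P : Subgroup G} (hE : Oct E) (hPE : P ≤ E) {a σ : G} (haE : ∀ e ∈ E, a * e * a⁻¹ ∈ E)
    (hσE : σ ∈ normalizer (E : Set G))
    (hinv : ∀ x ∈ E, (a * σ * a⁻¹) * x * (a * σ * a⁻¹)⁻¹ = σ⁻¹ * x * σ)
    (hP : ∀ e ∈ E, (e ∈ P ↔ e * (σ * e * σ⁻¹) * (σ * (σ * e * σ⁻¹) * σ⁻¹) = 1)) :
    ∀ p ∈ P, a * p * a⁻¹ ∈ P := by
  intro p hp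
  have hpE := hPE hp
  have h1 : ∀ e ∈ E, σ * (a * e * a⁻¹) * σ⁻¹ = a * (σ⁻¹ * e * σ) * a⁻¹ := by
    intro e he
    have he' : σ⁻¹ * e * σ ∈ E := mem_norm' hσE he
    have h2 := hinv (a * (σ⁻¹ * e * σ) * a⁻¹) (haE _ he')
    have h3 : (a * σ * a⁻¹) * (a * (σ⁻¹ * e * σ) * a⁻¹) * (a * σ * a⁻¹)⁻¹ = a * e * a⁻¹ := by group
    rw [h3] at h2
    rw [h2]; group
  have q1E : σ⁻¹ * p * σ ∈ E := mem_norm' hσE hpE
  have q2E : σ⁻¹ * (σ⁻¹ * p * σ) * σ ∈ E := mem_norm' hσE q1E
  rw [hP _ (haE p hpE), h1 p hpE, h1 _ q1E]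
  have h4 : a * p * a⁻¹ * (a * (σ⁻¹ * p * σ) * a⁻¹) * (a * (σ⁻¹ * (σ⁻¹ * p * σ) * σ) * a⁻¹) =
      a * (p * (σ⁻¹ * p * σ) * (σ⁻¹ * (σ⁻¹ * p * σ) * σ)) * a⁻¹ := by group
  have h5 := (hP p hpE).1 hp
  have h6 : σ⁻¹ * (σ⁻¹ * (p * (σ * p * σ⁻¹) * (σ * (σ * p * σ⁻¹) * σ⁻¹)) * σ) * σ =
      σ⁻¹ * (σ⁻¹ * p * σ) * σ * (σ⁻¹ * p * σ) * p := by group
  rw [h5] at h6
  have h7 : (σ⁻¹ * (σ⁻¹ * p * σ) * σ) * (σ⁻¹ * p * σ) * p = 1 := by rw [← h6]; group
  have h8 : p * (σ⁻¹ * p * σ) * (σ⁻¹ * (σ⁻¹ * p * σ) * σ) = 1 := by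
    rw [hE.comm hpE q1E, mul_assoc, hE.comm hpE q2E, ← mul_assoc, hE.comm q1E q2E]
    exact h7
  rw [h4, h8]; group

end Cfsg.Agent.RankThreeFus
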