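import Mathlib
import Cfsg.Agent.GTwoFour.TransferNorm
import Cfsg.Agent.Lib.GoldschmidtFusion

/-!
# S1730, (B8*), type (a5): the final transfer argument

`S` a Sylow 2-subgroup of the nonabelian simple group `G`, `A = U⟨e⟩ ≤ S`, every involution of `S` is in `A` or is
`S`-conjugate to `σ` or `σ e`, all elements of `A ∖ U` are `S`-conjugate to `e`, `C_S(σ)` and `C_S(σe)` are smaller than
`C_S(e)`, `e` is not conjugate to an element of `U`: then `e ∈ S'`.
-/

set_option autoImplicit false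

namespace Cfsg.Agent.RankThreeFus.NineTransfer

open Subgroup Cfsg.Agent.Lib.GoldschmidtFusion

variable {G : Type*} [Group G]

/-- `C_S(t)` -/
def CS (S : Subgroup G) (t : G) : Subgroup G := S ⊓ centralizer {t}

theorem mem_CS {S : Subgroup G} {t x : G} : x ∈ CS S t ↔ x ∈ S ∧ x * t = t * x := by
  rw [CS, mem_inf, mem_centralizer_singleton_iff]

theorem card_CS_conj {S : Subgroup G} {s t : G} (hs : s ∈ S) : Nat.card (CS S (s * t * s⁻¹)) = Nat.card (CS S t) := by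
  have h : (CS S t).map (MulAut.conj s).toMonoidHom = CS S (s * t * s⁻¹) := by
    ext x
    rw [mem_map_conj, mem_CS, mem_CS]
    constructor
    · rintro ⟨h1, h2⟩
      refine ⟨?_, ?_⟩
      · have := mul_mem (mul_mem hs h1) (inv_mem hs)
        have e : s * (s⁻¹ * x * s) * s⁻¹ = x := by group
        rwa [e] at this
      · calc x * (s * t * s⁻¹) = s * (s⁻¹ * x * s * t) * s⁻¹ := by group
          _ = s * t * s⁻¹ * x := by rw [h2]; group
    · rintro ⟨h1, h2⟩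
      refine ⟨mul_mem (mul_mem (inv_mem hs) h1) hs, ?_⟩
      calc s⁻¹ * x * s * t = s⁻¹ * (x * (s * t * s⁻¹)) * s := by group
        _ = t * (s⁻¹ * x * s) := by rw [h2]; group
  rw [← h, card_map_conj]

/-- **the final transfer argument** -/
theorem main [Finite G] [IsSimpleGroup G] (hG : ¬ IsMulCommutative G) (S : Sylow 2 G) {A U : Subgroup G} {e σ : G}
    (hAS : A ≤ (S : Subgroup G)) (heA : e ∈ A) (he2 : e * e = 1)
    (hinv : ∀ t ∈ (S : Subgroup G), t * t = 1 → t ∈ A ∨ ∃ s ∈ (S : Subgroup G), s * t * s⁻¹ = σ ∨ s * t * s⁻¹ = σ * e)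
    (hclass : ∀ a ∈ A, a ∉ U → ∃ s ∈ (S : Subgroup G), s * a * s⁻¹ = e)
    (hnU : ∀ u ∈ U, ∀ g : G, g * e * g⁻¹ ≠ u)
    (hσ : Nat.card (CS (S : Subgroup G) σ) < Nat.card (CS (S : Subgroup G) e))
    (hσe : Nat.card (CS (S : Subgroup G) (σ * e)) < Nat.card (CS (S : Subgroup G) e))
    (hcomm : e ∉ ⁅(S : Subgroup G), (S : Subgroup G)⁆) : False := by
  have hf : Fact (Nat.Prime 2) := ⟨Nat.prime_two⟩
  have heS : e ∈ (S : Subgroup G) := hAS heA
  -- the conjugates of `e` in `S` with large centraliser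
  have key : ∀ g : G, g * e * g⁻¹ ∈ (S : Subgroup G) →
      Nat.card (CS (S : Subgroup G) e) ≤ Nat.card (CS (S : Subgroup G) (g * e * g⁻¹)) →
      (∃ s ∈ (S : Subgroup G), s * (g * e * g⁻¹) * s⁻¹ = e) ∧
        Nat.card (CS (S : Subgroup G) (g * e * g⁻¹)) = Nat.card (CS (S : Subgroup G) e) := by
    intro g hgS hcard
    have h2 : g * e * g⁻¹ * (g * e * g⁻¹) = 1 := by
      calc g * e * g⁻¹ * (g * e * g⁻¹) = g * (e * e) * g⁻¹ := by group
        _ = 1 := by rw [he2]; group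
    rcases hinv _ hgS h2 with h | ⟨s, hs, h | h⟩
    · obtain ⟨s, hs, es⟩ := hclass _ h (fun hU => hnU _ hU g rfl)
      refine ⟨⟨s, hs, es⟩, ?_⟩
      rw [← card_CS_conj (t := g * e * g⁻¹) hs, es]
    · rw [← card_CS_conj (t := g * e * g⁻¹) hs, h] at hcard
      omega
    · rw [← card_CS_conj (t := g * e * g⁻¹) hs, h] at hcard
      omega
  -- `e` is extremal
  have hodd : Odd ((S : Subgroup G).subgroupOf (Subgroup.centralizer {e})).index := by
    apply Cfsg.Agent.GTwoFour.TransferNorm.odd_index S.2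
    intro Q hQ hQe hSQ
    obtain ⟨P, hP⟩ := hQ.exists_le_sylow
    obtain ⟨k, hk⟩ := MulAction.exists_smul_eq G P S
    have hkS : ∀ x ∈ Q, k * x * k⁻¹ ∈ (S : Subgroup G) := by
      intro x hx
      rw [← hk]
      exact ⟨x, hP hx, rfl⟩
    have heQ : e ∈ Q := hSQ e heS rfl
    have hle : Q.map (MulAut.conj k).toMonoidHom ≤ CS (S : Subgroup G) (k * e * k⁻¹) := by
      rintro _ ⟨x, hx, rfl⟩
      rw [mem_CS]
      refine ⟨hkS x hx, ?_⟩
      show k * x * k⁻¹ * (k * e * k⁻¹) = k * e * k⁻¹ * (k * x * k⁻¹)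
      have := hQe x hx
      calc k * x * k⁻¹ * (k * e * k⁻¹) = k * (x * e) * k⁻¹ := by group
        _ = k * e * k⁻¹ * (k * x * k⁻¹) := by rw [this]; group
    have h1 : Nat.card Q ≤ Nat.card (CS (S : Subgroup G) (k * e * k⁻¹)) := by
      rw [← card_map_conj Q k]
      exact Subgroup.card_le_of_le hle
    have h2 : CS (S : Subgroup G) e ≤ Q := fun x hx => hSQ x (mem_CS.1 hx).1 (mem_CS.1 hx).2
    have h3 := Subgroup.card_le_of_le h2
    obtain ⟨-, h4⟩ := key k (hkS e heQ) (h3.trans h1)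
    rw [h4] at h1
    have h5 : CS (S : Subgroup G) e = Q := Subgroup.eq_of_le_of_card_ge h2 h1
    intro x hx
    rw [← h5] at hx
    exact (mem_CS.1 hx).1
  have hφ : (Abelianization.of (⟨e, heS⟩ : (S : Subgroup G))) ≠ 1 := by
    intro h1
    have h2 : (⟨e, heS⟩ : (S : Subgroup G)) ∈ commutator (S : Subgroup G) := by
      rw [← Abelianization.ker_of]
      exact h1
    apply hcomm
    have h3 : (commutator (S : Subgroup G)).map (S : Subgroup G).subtype =
        ⁅(S : Subgroup G), (S : Subgroup G)⁆ := by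
      rw [commutator_def, Subgroup.map_commutator, ← MonoidHom.range_eq_map, Subgroup.range_subtype]
    rw [← h3]
    exact ⟨_, h2, rfl⟩
  obtain ⟨g, hg1, ⟨hg2, -⟩, hg3⟩ := Cfsg.Agent.GTwoFour.TransferNorm.exists_extremal hG S.2
    (Abelianization.of (G := (S : Subgroup G))) he2 heS hodd hφ
  have hle : (CS (S : Subgroup G) e).map (MulAut.conj g⁻¹).toMonoidHom ≤ CS (S : Subgroup G) (g⁻¹ * e * g) := by
    rintro _ ⟨x, hx, rfl⟩
    obtain ⟨hxS, hxe⟩ := mem_CS.1 hx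
    rw [mem_CS]
    have e1 : (MulAut.conj g⁻¹).toMonoidHom x = g⁻¹ * x * g := by
      show g⁻¹ * x * g⁻¹⁻¹ = _
      rw [inv_inv]
    rw [e1]
    refine ⟨hg1 x hxS hxe, ?_⟩
    calc g⁻¹ * x * g * (g⁻¹ * e * g) = g⁻¹ * (x * e) * g := by group
      _ = g⁻¹ * e * g * (g⁻¹ * x * g) := by rw [hxe]; group
  have hcard : Nat.card (CS (S : Subgroup G) e) ≤ Nat.card (CS (S : Subgroup G) (g⁻¹ * e * g)) := by
    rw [← card_map_conj (CS (S : Subgroup G) e) g⁻¹]
    exact Subgroup.card_le_of_le hle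
  have e2 : g⁻¹ * e * g = g⁻¹ * e * g⁻¹⁻¹ := by rw [inv_inv]
  rw [e2] at hcard hg2
  obtain ⟨⟨s, hs, es⟩, -⟩ := key g⁻¹ hg2 hcard
  apply hg3 s hs
  rw [e2]
  calc g⁻¹ * e * g⁻¹⁻¹ = s⁻¹ * (s * (g⁻¹ * e * g⁻¹⁻¹) * s⁻¹) * s := by group
    _ = s⁻¹ * e * s := by rw [es]

end Cfsg.Agent.RankThreeFus.NineTransfer
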