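import Cfsg.Agent.RankThreeFus.Choice
import Cfsg.Agent.TwoFusion.StronglyEmbeddedBasic

/-!
# S1730 (B8*): involutions of the outer automizer of an essential subgroup

The outer automizer of an essential subgroup `X` has a strongly embedded subgroup, so all its involutions are
conjugate.
-/

set_option autoImplicit false

namespace Cfsg.Agent.RankThreeFus.StrongM

open Subgroup Cfsg.Agent.Lib.GoldschmidtFusion Cfsg.Agent.Lib.EssentialFusion

variable {G : Type*} [Group G] [Finite G]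

omit [Finite G] in
/-- elements of `XC X ∩ S` are in `X` -/
theorem mem_of_XC {S : Sylow 2 G} {X : Subgroup G} (h : Ess S X) {t : G} (ht : t ∈ (S : Subgroup G))
    (h1 : t ∈ XC X) : t ∈ X := by
  have h2 : t ∈ ((XC X : Subgroup G) : Set G) := h1
  rw [XC, coe_mul_of_right_le_normalizer_left _ _ (centralizer_le_normalizer _)] at h2
  obtain ⟨x, hx, c, hc, rfl⟩ := Set.mem_mul.1 h2
  have hcP : c ∈ (S : Subgroup G) := by
    have := mul_mem (inv_mem (h.lt.le hx)) ht
    simpa using this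
  exact mul_mem hx (h.centric ⟨hc, hcP⟩)

/-- **Conjugacy**: `i, j ∈ N_S(X) - X` with `i², j² ∈ X`; then `j = (g i g⁻¹) p d` with `g ∈ N_G(X)`,
`p ∈ X`, `d ∈ C_G(X)`. -/
theorem exists_conj {S : Sylow 2 G} {X : Subgroup G} (h : Ess S X) {i j : G} (hi : i ∈ (S : Subgroup G))
    (hiN : i ∈ normalizer (X : Set G)) (hiX : i ∉ X) (hii : i * i ∈ X) (hj : j ∈ (S : Subgroup G))
    (hjN : j ∈ normalizer (X : Set G)) (hjX : j ∉ X) (hjj : j * j ∈ X) :
    ∃ g ∈ normalizer (X : Set G), ∃ p ∈ X, ∃ d ∈ centralizer (X : Set G), j = (g * i * g⁻¹) * p * d := by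
  obtain ⟨H, hH, -⟩ := h.exists_stronglyEmb
  have key : ∀ {k : G} (hk : k ∈ (S : Subgroup G)) (hkN : k ∈ normalizer (X : Set G)), k ∉ X → k * k ∈ X →
      orderOf (toOut k hkN : Out X) = 2 := by
    intro k hk hkN hkX hkk
    apply orderOf_eq_prime
    · rw [pow_two, ← toOut_mul, toOut_eq_one]
      exact le_XC X hkk
    · rw [Ne, toOut_eq_one]
      exact fun h1 => hkX (mem_of_XC h hk h1)
  have h1 := Cfsg.Agent.TwoFusion.StronglyEmbeddedBasic.isConj_of_involutions hH.isStronglyEmbedded _ _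
    (key hi hiN hiX hii) (key hj hjN hjX hjj)
  obtain ⟨y, hy⟩ := isConj_iff.1 h1
  obtain ⟨g, hg, rfl⟩ := exists_toOut y
  have h2 : (toOut ((g * i * g⁻¹)⁻¹ * j) (mul_mem (inv_mem (mul_mem (mul_mem hg hiN) (inv_mem hg))) hjN) :
      Out X) = 1 := by
    have e : (toOut ((g * i * g⁻¹)⁻¹ * j) (mul_mem (inv_mem (mul_mem (mul_mem hg hiN) (inv_mem hg))) hjN) :
      Out X) = (toOut g hg * toOut i hiN * (toOut g hg)⁻¹)⁻¹ * toOut j hjN := rfl
    rw [e, hy, inv_mul_cancel]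
  rw [toOut_eq_one] at h2
  have h3 : (g * i * g⁻¹)⁻¹ * j ∈ ((XC X : Subgroup G) : Set G) := h2
  rw [XC, coe_mul_of_right_le_normalizer_left _ _ (centralizer_le_normalizer _)] at h3
  obtain ⟨p, hp, d, hd, hpd⟩ := Set.mem_mul.1 h3
  refine ⟨g, hg, p, hp, d, hd, ?_⟩
  rw [mul_assoc, hpd]
  group

end Cfsg.Agent.RankThreeFus.StrongM
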