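import Cfsg.Agent.RankThreeFus.ZPrime
import Cfsg.Agent.RankThreeFus.StrongM

/-!
# S1730, branch (B), (B8*), CASE I, `PT ≠ S`: section 3
-/

set_option autoImplicit false
set_option linter.style.haveILetI false
set_option linter.unusedSectionVars false
set_option linter.unusedVariables false

namespace Cfsg.Agent.RankThreeFus

open Subgroup Cfsg.Agent.Lib.GoldschmidtFusion Cfsg.Agent.StdL2.G23Aut Cfsg.Agent.Lib.EssentialFusion

variable {G : Type*} [Group G]

/-- The essential subgroup `P` of CASE I with `[A, P] ≤ ⟨z⟩`. -/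
structure Pd (S : Sylow 2 G) (A U : Subgroup G) (z f x e : G) (Y : Subgroup G) (t b : G) (P : Subgroup G) :
    Prop where
  ci : Ci S A U z f x e Y t b
  ess : Ess S P
  AP : A ≤ P
  bP : b ∈ P
  eP : e ∈ P
  hz : ∀ l ∈ normalizer (P : Set G), l * z = z * l
  PA : ∀ g ∈ P, ∀ a ∈ A, g * a * g⁻¹ = a ∨ g * a * g⁻¹ = z * a
  Pb : ∀ g ∈ P, g * b * g⁻¹ = b ∨ g * b * g⁻¹ = z * b
  Pe : ∀ g ∈ P, g * e * g⁻¹ = e ∨ g * e * g⁻¹ = z * e

namespace Ci

variable {S : Sylow 2 G} {A U : Subgroup G} {z f x e : G} {Y : Subgroup G} {t b : G}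
  (h : Ci S A U z f x e Y t b)

include h

theorem fr : Fr S A U z f x e := h.yz.fr

theorem eS : e ∈ (S : Subgroup G) := h.fr.sS

theorem tT : t ∈ TT S A := h.yz.YT h.yz.tY

theorem zz : z * z = 1 := h.fr.sqA h.fr.zA

theorem zc {g : G} (hg : g ∈ (S : Subgroup G)) : g * z = z * g := h.fr.zc g hg

theorem bz : b * z = z * b := h.zc h.bQ.1

theorem rY : x * t * x⁻¹ ∈ Y := mem_norm h.yz.nx h.yz.tY

theorem pU : x * z * x⁻¹ ∈ U := h.fr.z2_mem

theorem rr : (x * t * x⁻¹) * (x * t * x⁻¹) = x * z * x⁻¹ := by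
  rw [← h.yz.tt]; group

/-- `x⁻¹ t x = x² t x⁻²` -/
theorem xit : x⁻¹ * t * x = x * (x * t * x⁻¹) * x⁻¹ := by
  have h1 := h.yz.trace_comm h.yz.tY
  calc x⁻¹ * t * x = x⁻¹ * (x * (x * (x * t * x⁻¹) * x⁻¹) * x⁻¹) * x := by rw [h1]
    _ = _ := by group

/-- `[e, t₂] = t⁻¹ p` -/
theorem er' [Finite G] : e * (x * t * x⁻¹) * e⁻¹ * (x * t * x⁻¹)⁻¹ = t⁻¹ * (x * z * x⁻¹) := by
  have hrY := h.rY
  have hcm := h.yz.comm t h.yz.tY _ hrY
  have htr := h.yz.tr
  obtain ⟨r, hr⟩ : ∃ r, r = x * t * x⁻¹ := ⟨_, rfl⟩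
  have hrr := h.rr
  have hp := h.fr.sqA (h.fr.UA h.pU)
  rw [h.er]
  rw [← hr] at hrY hcm htr hrr ⊢
  have e1 : x * r * x⁻¹ = (t * r)⁻¹ := by
    rw [eq_comm]
    exact inv_eq_of_mul_eq_one_right htr
  rw [e1, hcm]
  have e2 : (r * t)⁻¹ * r⁻¹ = t⁻¹ * (r * r)⁻¹ := by group
  rw [e2, hrr, inv_eq_of_mul_eq_one_right hp]

theorem t_notMem : t ∉ A := fun h1 => h.fr.z1 (by
  have := h.yz.tt
  rw [h.fr.sqA h1] at this
  exact this.symm)

theorem er_notMem [Finite G] : e * (x * t * x⁻¹) * e⁻¹ * (x * t * x⁻¹)⁻¹ ∉ A := by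
  rw [h.er']
  intro h1
  have h2 := mul_mem h1 (inv_mem (h.fr.UA h.pU))
  rw [mul_inv_cancel_right] at h2
  exact h.t_notMem (by simpa using inv_mem h2)

/-- elements of `tA` have order 4 -/
theorem sq_tA {y : G} (hy : t * y ∈ A) : y * y = z := by
  have h1 : y = t⁻¹ * (t * y) := by group
  have h2 := h.fr.T_comm (inv_mem h.tT) hy
  have h3 : t⁻¹ * t⁻¹ = z := by
    rw [← mul_inv_rev, h.yz.tt]
    exact h.fr.invA h.fr.zA
  calc y * y = t⁻¹ * (t * y) * (t⁻¹ * (t * y)) := by rw [← h1]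
    _ = t⁻¹ * ((t * y) * t⁻¹) * (t * y) := by group
    _ = t⁻¹ * (t⁻¹ * (t * y)) * (t * y) := by rw [h2]
    _ = (t⁻¹ * t⁻¹) * ((t * y) * (t * y)) := by group
    _ = z := by rw [h3, h.fr.sqA hy, mul_one]

/-- `[e, y] ∈ A` for `y ∈ Y₀` implies `y ∈ A ∪ t A` -/
theorem mem_Y1 [Finite G] {y : G} (hy : y ∈ Y) (h1 : e * y * e⁻¹ * y⁻¹ ∈ A) : y ∈ A ∨ t * y ∈ A := by
  have hF := h.fr
  have heN := hF.hyp.norm h.eS
  obtain ⟨a, ha, h2⟩ := h.yz.mem y hy
  have hnot := h.er_notMem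
  have hrY := h.rY
  obtain ⟨r, hr⟩ : ∃ r, r = x * t * x⁻¹ := ⟨_, rfl⟩
  rw [← hr] at h2 hnot hrY
  have hea : e * a * e⁻¹ ∈ A := mem_norm heN ha
  rcases h2 with h2 | h2 | h2 | h2
  · left; rw [h2]; exact ha
  · right
    rw [h2, ← mul_assoc, hF.T_comm h.tT ha, mul_assoc, h.yz.tt]
    exact mul_mem ha hF.zA
  · exfalso
    apply hnot
    have e1 : e * y * e⁻¹ * y⁻¹ = (e * a * e⁻¹) * (e * r * e⁻¹ * r⁻¹) * a⁻¹ := by rw [h2]; group
    rw [e1] at h1
    have h3 := mul_mem (mul_mem (inv_mem hea) h1) ha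
    have e2 : (e * a * e⁻¹)⁻¹ * ((e * a * e⁻¹) * (e * r * e⁻¹ * r⁻¹) * a⁻¹) * a = e * r * e⁻¹ * r⁻¹ := by group
    rwa [e2] at h3
  · exfalso
    apply hnot
    have het : e * t * e⁻¹ = t := conj_eq_iff.2 h.et
    have hkY : e * r * e⁻¹ * r⁻¹ ∈ Y := mul_mem (mem_norm (h.yz.nS h.eS) hrY) (inv_mem hrY)
    have e1 : e * y * e⁻¹ * y⁻¹ = (e * a * e⁻¹) * ((e * t * e⁻¹) * (e * r * e⁻¹ * r⁻¹) * t⁻¹) * a⁻¹ := by
      rw [h2]; group
    rw [e1, het, h.yz.comm t h.yz.tY _ hkY, mul_inv_cancel_right] at h1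
    have h3 := mul_mem (mul_mem (inv_mem hea) h1) ha
    have e2 : (e * a * e⁻¹)⁻¹ * ((e * a * e⁻¹) * (e * r * e⁻¹ * r⁻¹) * a⁻¹) * a = e * r * e⁻¹ * r⁻¹ := by group
    rwa [e2] at h3

/-- `C_A(b) ≤ U` -/
theorem fix_b' [Finite G] {a : G} (ha : a ∈ A) (hb : b * a = a * b) : a ∈ U := by
  have hF := h.fr
  rcases hF.mem_A ha with h1 | h1
  · exact h1
  · exfalso
    have h2 := hF.Q_comm h.bQ h1
    have e1 : a = f * (f * a) := by rw [← mul_assoc, hF.sqA hF.fA, one_mul]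
    have h3 : b * f * b⁻¹ = f := by
      rw [conj_eq_iff]
      have e2 : f = (f * a) * a := by rw [mul_assoc, hF.sqA ha, mul_one]
      have c1 : Commute b (f * a) := h2
      have c2 : Commute b a := hb
      have c3 := (c1.mul_right c2).eq
      rwa [← e2] at c3
    rw [h.bf] at h3
    exact hF.z1 (mul_eq_left.1 h3)

/-- the centraliser of `b` and `e` in `A` is `⟨z⟩` -/
theorem fix_be [Finite G] {a : G} (ha : a ∈ A) (hb : b * a = a * b) (he : e * a = a * e) : a = 1 ∨ a = z :=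
  h.fr.fix_s (h.fix_b' ha hb) he

theorem ef [Finite G] : e * f = f * e := h.fr.sf'

/-- an element of `T` whose commutators with `b` and `e` are in `⟨z⟩` can be changed by an element of `A` to
commute with `b` and `e` -/
theorem exists_comm [Finite G] {g : G} (hg : g ∈ TT S A) (hb : g * b * g⁻¹ = b ∨ g * b * g⁻¹ = z * b)
    (he : g * e * g⁻¹ = e ∨ g * e * g⁻¹ = z * e) :
    ∃ a ∈ A, (g * a) * b = b * (g * a) ∧ (g * a) * e = e * (g * a) := by
  have hF := h.fr
  have hzf := hF.commA hF.zA hF.fA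
  obtain ⟨p, hp⟩ : ∃ p, p = x * z * x⁻¹ := ⟨_, rfl⟩
  have hpU : p ∈ U := by rw [hp]; exact h.pU
  have hep : e * p * e⁻¹ = z * p := by rw [hp]; exact h.ep
  have hbp : b * p = p * b := hF.Q_comm h.bQ hpU
  have hzz := h.zz
  -- commutation with `f`
  have hfb : f * b * f⁻¹ = z * b := by
    have h1 : b * f = f * z * b := by rw [← h.bf]; group
    have h2 : f * b * f⁻¹ = f * b * f := by rw [hF.invA hF.fA]
    calc f * b * f⁻¹ = f * (b * f) := by rw [h2, mul_assoc]
      _ = (f * f) * z * b := by rw [h1]; group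
      _ = z * b := by rw [hF.sqA hF.fA, one_mul]
  have hfe : f * e * f⁻¹ = e := conj_eq_iff.2 h.ef.symm
  have hpb : p * b * p⁻¹ = b := conj_eq_iff.2 hbp.symm
  have hpe : p * e * p⁻¹ = z * e := by
    have h1 : e * p = z * p * e := by rw [← hep]; group
    have hpp := hF.sqA (hF.UA hpU)
    calc p * e * p⁻¹ = p * (e * p) := by rw [hF.invA (hF.UA hpU), mul_assoc]
      _ = p * (z * p) * e := by rw [h1]; group
      _ = (z * p) * p * e := by rw [hF.commA (hF.UA hpU) (mul_mem hF.zA (hF.UA hpU))]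
      _ = z * (p * p) * e := by group
      _ = z * e := by rw [hpp, mul_one]
  have hgz : g * z * g⁻¹ = z := conj_eq_iff.2 (h.zc hg.1)
  have mulz : ∀ (c y : G), c * y * c⁻¹ = z * y → g * (c * y * c⁻¹) * g⁻¹ = z * (g * y * g⁻¹) := by
    intro c y hc
    rw [hc]
    calc g * (z * y) * g⁻¹ = (g * z * g⁻¹) * (g * y * g⁻¹) := by group
      _ = _ := by rw [hgz]
  have key : ∀ (c y : G), g * c * y * (g * c)⁻¹ = g * (c * y * c⁻¹) * g⁻¹ := by intro c y; group
  have fin : ∀ (c y : G), g * (c * y * c⁻¹) * g⁻¹ = y → g * c * y = y * (g * c) := by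
    intro c y hc
    rw [← conj_eq_iff, key, hc]
  rcases hb with hb | hb <;> rcases he with he | he
  · exact ⟨1, one_mem _, fin 1 b (by simpa using hb), fin 1 e (by simpa using he)⟩
  · refine ⟨p, hF.UA hpU, fin p b (by rw [hpb]; exact hb), fin p e ?_⟩
    rw [mulz p e hpe, he, ← mul_assoc, hzz, one_mul]
  · refine ⟨f, hF.fA, fin f b ?_, fin f e (by rw [hfe]; exact he)⟩
    rw [mulz f b hfb, hb, ← mul_assoc, hzz, one_mul]
  · have h1 : (f * p) * b * (f * p)⁻¹ = z * b := by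
      have e1 : (f * p) * b * (f * p)⁻¹ = f * (p * b * p⁻¹) * f⁻¹ := by group
      rw [e1, hpb, hfb]
    have h2 : (f * p) * e * (f * p)⁻¹ = z * e := by
      have e1 : (f * p) * e * (f * p)⁻¹ = f * (p * e * p⁻¹) * f⁻¹ := by group
      rw [e1, hpe]
      have e2 : f * (z * e) * f⁻¹ = (f * z * f⁻¹) * (f * e * f⁻¹) := by group
      rw [e2, hfe, conj_eq_iff.2 hzf.symm]
    refine ⟨f * p, mul_mem hF.fA (hF.UA hpU), fin _ b ?_, fin _ e ?_⟩
    · rw [mulz _ b h1, hb, ← mul_assoc, hzz, one_mul]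
    · rw [mulz _ e h2, he, ← mul_assoc, hzz, one_mul]

end Ci

namespace Pd

variable {S : Sylow 2 G} {A U : Subgroup G} {z f x e : G} {Y : Subgroup G} {t b : G} {P : Subgroup G}
  (h : Pd S A U z f x e Y t b P)

include h

theorem fr : Fr S A U z f x e := h.ci.yz.fr

theorem PS : P ≤ S := h.ess.lt.le

/-- `P = (P ∩ T)⟨b, e⟩` -/
theorem exists_T [Finite G] {g : G} (hg : g ∈ P) :
    ∃ y, (y = 1 ∨ y = b ∨ y = e ∨ y = b * e) ∧ g * y ∈ TT S A := by
  have hF := h.fr
  have hci := h.ci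
  have hzz := hci.zz
  obtain ⟨p, hp⟩ : ∃ p, p = x * z * x⁻¹ := ⟨_, rfl⟩
  have hpU : p ∈ U := by rw [hp]; exact hci.pU
  have hp1 : p ≠ 1 := by rw [hp]; exact hF.z2_ne_one
  have hpz : p ≠ z := by rw [hp]; exact hF.xz
  have hep : e * p * e⁻¹ = z * p := by rw [hp]; exact hci.ep
  have hbp : b * p * b⁻¹ = p := conj_eq_iff.2 (hF.Q_comm hci.bQ hpU)
  have hbf : b * f * b⁻¹ = z * f := by rw [hci.bf]; exact hF.commA hF.fA hF.zA
  have hef : e * f * e⁻¹ = f := conj_eq_iff.2 hci.ef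
  have hgS := h.PS hg
  have hgz : g * z * g⁻¹ = z := conj_eq_iff.2 (hci.zc hgS)
  have hbz : b * z * b⁻¹ = z := conj_eq_iff.2 hci.bz
  -- criterion
  have crit : ∀ k : G, k ∈ (S : Subgroup G) → k * f * k⁻¹ = f → k * p * k⁻¹ = p → k ∈ TT S A := by
    intro k hkS hkf hkp
    refine ⟨hkS, mem_cent_iff.2 fun a ha => ?_⟩
    have c1 : Commute k f := conj_eq_iff.1 hkf
    have c2 : Commute k p := conj_eq_iff.1 hkp
    have c3 : Commute k z := hci.zc hkS
    have c4 : ∀ u ∈ U, Commute k u := by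
      intro u hu
      rcases hF.U_cases' hpU hp1 hpz u hu with rfl | rfl | rfl | rfl
      · exact Commute.one_right _
      · exact c3
      · exact c2
      · exact c3.mul_right c2
    rcases hF.mem_A ha with h1 | h1
    · exact (c4 a h1).eq
    · have e1 : a = f * (f * a) := by rw [← mul_assoc, hF.sqA hF.fA, one_mul]
      have := (c1.mul_right (c4 _ h1)).eq
      rwa [← e1] at this
  have mulz : ∀ c : G, g * (z * c) * g⁻¹ = z * (g * c * g⁻¹) := by
    intro c
    calc g * (z * c) * g⁻¹ = (g * z * g⁻¹) * (g * c * g⁻¹) := by group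
      _ = _ := by rw [hgz]
  have key : ∀ (y c : G), (g * y) * c * (g * y)⁻¹ = g * (y * c * y⁻¹) * g⁻¹ := by intro y c; group
  have canc : ∀ c : G, z * (z * c) = c := fun c => by rw [← mul_assoc, hzz, one_mul]
  rcases h.PA g hg f hF.fA with h1 | h1 <;> rcases h.PA g hg p (hF.UA hpU) with h2 | h2
  · exact ⟨1, Or.inl rfl, crit _ (by rw [mul_one]; exact hgS) (by rw [mul_one]; exact h1)
      (by rw [mul_one]; exact h2)⟩
  · refine ⟨e, Or.inr (Or.inr (Or.inl rfl)), crit _ (mul_mem hgS hci.eS) ?_ ?_⟩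
    · rw [key, hef, h1]
    · rw [key, hep, mulz, h2, canc]
  · refine ⟨b, Or.inr (Or.inl rfl), crit _ (mul_mem hgS hci.bQ.1) ?_ ?_⟩
    · rw [key, hbf, mulz, h1, canc]
    · rw [key, hbp, h2]
  · refine ⟨b * e, Or.inr (Or.inr (Or.inr rfl)), crit _ (mul_mem hgS (mul_mem hci.bQ.1 hci.eS)) ?_ ?_⟩
    · have e1 : (b * e) * f * (b * e)⁻¹ = b * (e * f * e⁻¹) * b⁻¹ := by group
      rw [key, e1, hef, hbf, mulz, h1, canc]
    · have e1 : (b * e) * p * (b * e)⁻¹ = b * (e * p * e⁻¹) * b⁻¹ := by group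
      have e2 : b * (z * p) * b⁻¹ = (b * z * b⁻¹) * (b * p * b⁻¹) := by group
      rw [key, e1, hep, e2, hbz, hbp, mulz, h2, canc]

/-- `P = C A ⟨b, e⟩` -/
theorem dec [Finite G] {g : G} (hg : g ∈ P) :
    ∃ c ∈ P, c ∈ TT S A ∧ c * b = b * c ∧ c * e = e * c ∧ ∃ a ∈ A, ∃ y,
      (y = 1 ∨ y = b ∨ y = e ∨ y = b * e) ∧ g = c * a * y := by
  have hF := h.fr
  have hci := h.ci
  obtain ⟨y, hy, hT⟩ := h.exists_T hg
  have hyP : y ∈ P := by
    rcases hy with rfl | rfl | rfl | rfl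
    · exact one_mem _
    · exact h.bP
    · exact h.eP
    · exact mul_mem h.bP h.eP
  have hyy : y * y = 1 := by
    rcases hy with rfl | rfl | rfl | rfl
    · simp
    · exact hci.bb
    · exact hci.ee
    · calc b * e * (b * e) = b * (e * b) * e := by group
        _ = b * (b * e) * e := by rw [hci.be]
        _ = (b * b) * (e * e) := by group
        _ = 1 := by rw [hci.bb, hci.ee, one_mul]
  have hgy := mul_mem hg hyP
  obtain ⟨a, ha, h1, h2⟩ := hci.exists_comm hT (h.Pb _ hgy) (h.Pe _ hgy)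
  refine ⟨g * y * a, mul_mem hgy (h.AP ha), mul_mem hT (hF.A_le_T ha), h1, h2, a, ha, y, hy, ?_⟩
  calc g = g * (y * y) := by rw [hyy, mul_one]
    _ = g * y * (a * a) * y := by rw [hF.sqA ha]; group
    _ = _ := by group

/-- `t f ∈ P`, hence `t ∈ P` -/
theorem tP [Finite G] (hzt : b * t * b⁻¹ * t⁻¹ = z) : t ∈ P := by
  have hF := h.fr
  have hci := h.ci
  have hzz := hci.zz
  obtain ⟨w, hw⟩ : ∃ w, w = t * f := ⟨_, rfl⟩
  have htT := hci.tT
  have hwT : w ∈ TT S A := by rw [hw]; exact mul_mem htT (hF.A_le_T hF.fA)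
  have hbt : b * t * b⁻¹ = z * t := by rw [← hzt]; group
  have hwb : w * b = b * w := by
    rw [eq_comm, ← conj_eq_iff, hw]
    have e1 : b * (t * f) * b⁻¹ = (b * t * b⁻¹) * (b * f * b⁻¹) := by group
    rw [e1, hbt, hci.bf]
    have c1 := hF.commA hF.fA hF.zA
    have c2 := hci.zc htT.1
    calc z * t * (f * z) = z * t * (z * f) := by rw [c1]
      _ = z * (t * z) * f := by group
      _ = z * (z * t) * f := by rw [c2]
      _ = (z * z) * (t * f) := by group
      _ = t * f := by rw [hzz, one_mul]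
  have hwe : w * e = e * w := by
    have c1 : Commute e t := hci.et
    have c2 : Commute e f := hci.ef
    rw [hw]
    exact (c1.mul_right c2).eq.symm
  have hwS := hwT.1
  -- `[w, P] ≤ ⟨z⟩`
  have hwP : ∀ g ∈ P, w * g * w⁻¹ * g⁻¹ = 1 ∨ w * g * w⁻¹ * g⁻¹ = z := by
    intro g hg
    obtain ⟨c, hcP, hcT, hcb, hce, a, ha, y, hy, rfl⟩ := h.dec hg
    have hwy : Commute w (a * y) := by
      have c1 : Commute w a := hF.T_comm hwT ha
      have c2 : Commute w b := hwb
      have c3 : Commute w e := hwe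
      refine c1.mul_right ?_
      rcases hy with rfl | rfl | rfl | rfl
      · exact Commute.one_right _
      · exact c2
      · exact c3
      · exact c2.mul_right c3
    have e1 : w * (c * a * y) * w⁻¹ * (c * a * y)⁻¹ =
        (w * c * w⁻¹) * (w * (a * y) * w⁻¹) * (a * y)⁻¹ * c⁻¹ := by group
    have e2 : w * (c * a * y) * w⁻¹ * (c * a * y)⁻¹ = w * c * w⁻¹ * c⁻¹ := by
      rw [e1, conj_eq_iff.2 hwy.eq]; group
    rw [e2]
    refine hci.fix_be ?_ ?_ ?_
    · have c1 := hF.T_comm hcT hF.fA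
      have h3 := hci.yz.QY c (hF.T_le_Q hcT) t hci.yz.tY
      have e3 : w * c * w⁻¹ * c⁻¹ = t * (f * c * f⁻¹) * t⁻¹ * c⁻¹ := by rw [hw]; group
      rw [e3, conj_eq_iff.2 c1.symm]
      have e4 : t * c * t⁻¹ * c⁻¹ = (c * t * c⁻¹ * t⁻¹)⁻¹ := by group
      rw [e4]
      exact inv_mem h3
    · have c1 : Commute b w := hwb.symm
      have c2 : Commute b c := hcb.symm
      exact (((c1.mul_right c2).mul_right c1.inv_right).mul_right c2.inv_right).eq
    · have c1 : Commute e w := hwe.symm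
      have c2 : Commute e c := hce.symm
      exact (((c1.mul_right c2).mul_right c1.inv_right).mul_right c2.inv_right).eq
  have hzP : zpowers z ≤ P := by
    rw [zpowers_le]; exact h.AP hF.zA
  have hwN : w ∈ normalizer (P : Set G) := by
    refine mem_norm_of_conj fun g hg => ?_
    have e1 : w * g * w⁻¹ = (w * g * w⁻¹ * g⁻¹) * g := by group
    rw [e1]
    rcases hwP g hg with h1 | h1 <;> rw [h1]
    · rw [one_mul]; exact hg
    · exact mul_mem (h.AP hF.zA) hg
  have hcen : ∀ l ∈ normalizer (P : Set G), ∀ k ∈ zpowers z, l * k = k * l := by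
    intro l hl k hk
    obtain ⟨i, rfl⟩ := mem_zpowers_iff.1 hk
    exact ((show Commute l z from h.hz l hl).zpow_right i).eq
  have hwP' : w ∈ P := by
    refine h.ess.mem_of_chain (fun i => if i = 0 then P else if i = 1 then zpowers z else ⊥) 2 (by simp) (by simp)
      ?_ ?_ hwS hwN ?_
    · intro i
      rcases i with _ | _ | i
      · simpa using h.AP hF.zA
      · simp
      · simp
    · intro i
      rcases i with _ | _ | i
      · simp
      · simp only [zero_add, one_ne_zero, if_false, if_true]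
        intro l hl
        refine mem_norm_of_conj fun k hk => ?_
        rw [conj_eq_iff.2 (hcen l hl k hk)]
        exact hk
      · change normalizer (P : Set G) ≤ normalizer ((⊥ : Subgroup G) : Set G)
        intro l _
        refine mem_norm_of_conj fun k hk => ?_
        rw [mem_bot] at hk ⊢
        rw [hk, mul_one, mul_inv_cancel]
    · intro i k hk
      rcases i with _ | _ | i
      · simp only [if_true] at hk
        simp only [zero_add, one_ne_zero, if_false, if_true]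
        rcases hwP k hk with h1 | h1 <;> rw [h1]
        · exact one_mem _
        · exact mem_zpowers z
      · simp only [zero_add, one_ne_zero, if_false, if_true] at hk
        have h1 := hcen w hwN k hk
        have h2 : w * k * w⁻¹ * k⁻¹ = 1 := by rw [conj_eq_iff.2 h1, mul_inv_cancel]
        rw [h2]
        exact one_mem _
      · have hk' : k = 1 := by simpa using hk
        rw [hk']
        simp
  have h9 := mul_mem hwP' (inv_mem (h.AP hF.fA))
  rw [hw, mul_inv_cancel_right] at h9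
  exact h9

end Pd

end Cfsg.Agent.RankThreeFus
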