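import Cfsg.Agent.RankThreeFus.MaxChoice
import Cfsg.Agent.RankThreeFus.SecThree

/-!
# S1730, branch (B), (B8*), CASE I, `PT = S`: the reduction to a small maximal choice

helper455's (10.5), (10.6): if `κ` acts on `A⟨b, e, t f⟩ / ⟨t f⟩` as in (9.3) and `n ∈ T` satisfies
`[n, e] ∈ ⟨z⟩`, `[n, b] ∈ f ⟨t f⟩`, then `P₀⟨n⟩` is conjugate under `N(U)` to a maximal choice `P*`
with `[A, P*] ≤ ⟨z⟩`.
-/

set_option autoImplicit false
set_option linter.style.haveILetI false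
set_option linter.unusedSectionVars false
set_option linter.unusedVariables false

namespace Cfsg.Agent.RankThreeFus

open Subgroup Cfsg.Agent.Lib.GoldschmidtFusion Cfsg.Agent.StdL2.G23Aut Cfsg.Agent.Lib.EssentialFusion

variable {G : Type*} [Group G]

/-- `g w g⁻¹ = w` or `z w`. -/
def RR (z g w : G) : Prop := g * w * g⁻¹ = w ∨ g * w * g⁻¹ = z * w

theorem RR.symm {z g w : G} (hzz : z * z = 1) (hg : g * z = z * g) (hw : w * z = z * w) (h : RR z g w) :
    RR z w g := by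
  rcases h with h | h
  · left
    exact conj_eq_iff.2 (conj_eq_iff.1 h).symm
  · right
    have h1 : g * w = z * w * g := by rw [← h]; group
    have h2 : w * g = z * (g * w) := by
      rw [h1]
      calc w * g = (z * z) * (w * g) := by rw [hzz, one_mul]
        _ = _ := by group
    rw [h2]; group

/-- `{g : [g, w] ∈ ⟨z⟩}` inside the centraliser of `z` -/
def ZE (z w : G) (hzz : z * z = 1) : Subgroup G where
  carrier := {g | g * z = z * g ∧ RR z g w}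
  one_mem' := ⟨by simp, Or.inl (by simp)⟩
  mul_mem' := by
    rintro g g' ⟨hg, h1⟩ ⟨hg', h2⟩
    refine ⟨((show Commute g z from hg).mul_left hg').eq, ?_⟩
    have e1 : g * g' * w * (g * g')⁻¹ = g * (g' * w * g'⁻¹) * g⁻¹ := by group
    have e2 : g * (z * w) * g⁻¹ = z * (g * w * g⁻¹) := by
      calc g * (z * w) * g⁻¹ = (g * z) * w * g⁻¹ := by group
        _ = z * (g * w * g⁻¹) := by rw [hg]; group
    unfold RR
    rw [e1]
    rcases h2 with h2 | h2 <;> rw [h2]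
    · exact h1
    · rw [e2]
      rcases h1 with h1 | h1 <;> rw [h1]
      · exact Or.inr rfl
      · left; rw [← mul_assoc, hzz, one_mul]
  inv_mem' := by
    rintro g ⟨hg, h1⟩
    have hg' : g⁻¹ * z = z * g⁻¹ := ((show Commute g z from hg).inv_left).eq
    refine ⟨hg', ?_⟩
    rcases h1 with h1 | h1
    · left
      calc g⁻¹ * w * g⁻¹⁻¹ = g⁻¹ * (g * w * g⁻¹) * g := by rw [h1]; group
        _ = w := by group
    · right
      have h2 : w = z * (g * w * g⁻¹) := by rw [h1, ← mul_assoc, hzz, one_mul]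
      calc g⁻¹ * w * g⁻¹⁻¹ = g⁻¹ * (z * (g * w * g⁻¹)) * g := by rw [← h2]; group
        _ = (g⁻¹ * z) * g * w := by group
        _ = z * w := by rw [hg']; group

theorem mem_ZE {z w g : G} {hzz : z * z = 1} : g ∈ ZE z w hzz ↔ g * z = z * g ∧ RR z g w := Iff.rfl

/-- the calculation of `γ = κ n κ` in the elementary abelian quotient -/
theorem gam_calc {f p b e κ n : G} (hf : f * f = 1) (hp : p * p = 1) (hb : b * b = 1) (he : e * e = 1)
    (fp : f * p = p * f) (fb : f * b = b * f) (fe : f * e = e * f) (pb : p * b = b * p) (pe : p * e = e * p)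
    (be : b * e = e * b) (κf : κ * f * κ⁻¹ = f * b * e) (κp : κ * p * κ⁻¹ = p * b) (κb : κ * b * κ⁻¹ = p)
    (κe : κ * e * κ⁻¹ = f * p) (nf : n * f * n⁻¹ = f) (np : n * p * n⁻¹ = p) (nb : n * b * n⁻¹ = b * f)
    (ne : n * e * n⁻¹ = e) :
    (κ * n * κ) * f * (κ * n * κ)⁻¹ = f ∧ (κ * n * κ) * p * (κ * n * κ)⁻¹ = f * e ∧
      (κ * n * κ) * e * (κ * n * κ)⁻¹ = f * e * p := by
  have e0 : ∀ y : G, (κ * n * κ) * y * (κ * n * κ)⁻¹ = κ * (n * (κ * y * κ⁻¹) * n⁻¹) * κ⁻¹ := by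
    intro y; group
  refine ⟨?_, ?_, ?_⟩
  · rw [e0, κf]
    calc κ * (n * (f * b * e) * n⁻¹) * κ⁻¹ =
        κ * ((n * f * n⁻¹) * (n * b * n⁻¹) * (n * e * n⁻¹)) * κ⁻¹ := by group
      _ = κ * (f * (b * f) * e) * κ⁻¹ := by rw [nf, nb, ne]
      _ = κ * ((f * f) * b * e) * κ⁻¹ := by rw [← fb]; group
      _ = (κ * b * κ⁻¹) * (κ * e * κ⁻¹) := by rw [hf]; group
      _ = p * (p * f) := by rw [κb, κe, fp]
      _ = f := by rw [← mul_assoc, hp, one_mul]
  · rw [e0, κp]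
    calc κ * (n * (p * b) * n⁻¹) * κ⁻¹ = κ * ((n * p * n⁻¹) * (n * b * n⁻¹)) * κ⁻¹ := by group
      _ = κ * (p * (b * f)) * κ⁻¹ := by rw [np, nb]
      _ = (κ * p * κ⁻¹) * ((κ * b * κ⁻¹) * (κ * f * κ⁻¹)) := by group
      _ = p * b * (p * (f * b * e)) := by rw [κp, κb, κf]
      _ = (p * b) * p * (f * b) * e := by group
      _ = (b * p) * p * (b * f) * e := by rw [pb, fb]
      _ = b * (p * p) * b * f * e := by group
      _ = (b * b) * f * e := by rw [hp]; group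
      _ = f * e := by rw [hb, one_mul]
  · rw [e0, κe]
    calc κ * (n * (f * p) * n⁻¹) * κ⁻¹ = κ * ((n * f * n⁻¹) * (n * p * n⁻¹)) * κ⁻¹ := by group
      _ = (κ * f * κ⁻¹) * (κ * p * κ⁻¹) := by rw [nf, np]; group
      _ = f * b * e * (p * b) := by rw [κf, κp]
      _ = f * b * e * (b * p) := by rw [pb]
      _ = f * b * (e * b) * p := by group
      _ = f * b * (b * e) * p := by rw [be]
      _ = f * (b * b) * e * p := by group
      _ = f * e * p := by rw [hb, mul_one]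

/-- the same modulo `⟨k⟩` -/
theorem gam_mod {k f p b e κ n : G} (kf : f * k = k * f) (kp : p * k = k * p) (kb : b * k = k * b)
    (ke : e * k = k * e) (hκk : κ ∈ normalizer (zpowers k : Set G)) (hnk : n ∈ normalizer (zpowers k : Set G))
    (hf : f * f = 1) (hp : p * p = 1) (hb : b * b = 1) (he : e * e = 1)
    (fp : f * p = p * f) (fb : (f * b)⁻¹ * (b * f) ∈ zpowers k) (fe : f * e = e * f) (pb : p * b = b * p)
    (pe : (p * e)⁻¹ * (e * p) ∈ zpowers k)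
    (be : b * e = e * b) (κf : (κ * f * κ⁻¹)⁻¹ * (f * b * e) ∈ zpowers k)
    (κp : (κ * p * κ⁻¹)⁻¹ * (p * b) ∈ zpowers k) (κb : (κ * b * κ⁻¹)⁻¹ * p ∈ zpowers k)
    (κe : (κ * e * κ⁻¹)⁻¹ * (f * p) ∈ zpowers k) (nf : n * f * n⁻¹ = f) (np : n * p * n⁻¹ = p)
    (nb : (n * b * n⁻¹)⁻¹ * (b * f) ∈ zpowers k)
    (ne : (n * e * n⁻¹)⁻¹ * e ∈ zpowers k) :
    ((κ * n * κ) * f * (κ * n * κ)⁻¹)⁻¹ * f ∈ zpowers k ∧
    ((κ * n * κ) * p * (κ * n * κ)⁻¹)⁻¹ * (f * e) ∈ zpowers k ∧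
      ((κ * n * κ) * e * (κ * n * κ)⁻¹)⁻¹ * (f * e * p) ∈ zpowers k := by
  obtain ⟨H, hH⟩ : ∃ H, H = normalizer (zpowers k : Set G) := ⟨_, rfl⟩
  have hcen : ∀ {y : G}, y * k = k * y → y ∈ H := by
    intro y hy
    rw [hH]
    refine centralizer_le_normalizer _ ?_
    rw [mem_centralizer_iff]
    intro w hw
    obtain ⟨i, rfl⟩ := mem_zpowers_iff.1 hw
    exact ((show Commute y k from hy).zpow_right i).eq.symm
  rw [← hH] at hκk hnk
  haveI hN : ((zpowers k).subgroupOf H).Normal := by rw [hH]; infer_instance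
  obtain ⟨φ, hφ⟩ : ∃ φ : H → H ⧸ (zpowers k).subgroupOf H, ∀ y, φ y = (y : H ⧸ (zpowers k).subgroupOf H) :=
    ⟨fun y => y, fun _ => rfl⟩
  have hiff : ∀ y y' : H, (y : H ⧸ (zpowers k).subgroupOf H) = y' ↔ (y : G)⁻¹ * y' ∈ zpowers k := by
    intro y y'
    rw [QuotientGroup.eq, mem_subgroupOf]
    rfl
  have h1 := gam_calc (G := H ⧸ (zpowers k).subgroupOf H) (f := ((⟨f, hcen kf⟩ : H) : H ⧸ (zpowers k).subgroupOf H))
    (p := ((⟨p, hcen kp⟩ : H) : H ⧸ (zpowers k).subgroupOf H))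
    (b := ((⟨b, hcen kb⟩ : H) : H ⧸ (zpowers k).subgroupOf H))
    (e := ((⟨e, hcen ke⟩ : H) : H ⧸ (zpowers k).subgroupOf H))
    (κ := ((⟨κ, hκk⟩ : H) : H ⧸ (zpowers k).subgroupOf H))
    (n := ((⟨n, hnk⟩ : H) : H ⧸ (zpowers k).subgroupOf H))
  simp only [← QuotientGroup.mk_mul, ← QuotientGroup.mk_inv, ← QuotientGroup.mk_one, hiff] at h1
  simp only [Subgroup.coe_mul, Subgroup.coe_inv, Subgroup.coe_one, mul_one] at h1
  have triv : ∀ y : G, y = 1 → y⁻¹ ∈ zpowers k := by rintro y rfl; simp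
  have triv' : ∀ y y' : G, y = y' → y⁻¹ * y' ∈ zpowers k := by rintro y y' rfl; simp
  exact h1 (triv _ hf) (triv _ hp) (triv _ hb) (triv _ he) (triv' _ _ fp) fb (triv' _ _ fe) (triv' _ _ pb) pe
    (triv' _ _ be) κf κp κb κe (triv' _ _ nf) (triv' _ _ np) nb ne

/-- `P₀ = {g ∈ P : [A, g] ≤ ⟨z⟩}` of section 8. -/
structure Pz (S : Sylow 2 G) (A U : Subgroup G) (z f x e : G) (Y : Subgroup G) (t b : G) (P0 : Subgroup G) :
    Prop where
  ci : Ci S A U z f x e Y t b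
  zt : b * t * b⁻¹ * t⁻¹ = z
  PS : P0 ≤ (S : Subgroup G)
  AP : A ≤ P0
  tP : t ∈ P0
  bP : b ∈ P0
  eP : e ∈ P0
  PA : ∀ g ∈ P0, ∀ a ∈ A, g * a * g⁻¹ = a ∨ g * a * g⁻¹ = z * a
  Pb : ∀ g ∈ P0, g * b * g⁻¹ = b ∨ g * b * g⁻¹ = z * b
  Pe : ∀ g ∈ P0, g * e * g⁻¹ = e ∨ g * e * g⁻¹ = z * e

namespace Pz

variable {S : Sylow 2 G} {A U : Subgroup G} {z f x e : G} {Y : Subgroup G} {t b : G} {P0 : Subgroup G}
  (h : Pz S A U z f x e Y t b P0)

include h

theorem fr : Fr S A U z f x e := h.ci.yz.fr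

theorem zz : z * z = 1 := h.ci.zz

/-- `P₀ = (P₀ ∩ T)⟨b, e⟩` -/
theorem exists_T [Finite G] {g : G} (hg : g ∈ P0) :
    ∃ y, (y = 1 ∨ y = b ∨ y = e ∨ y = b * e) ∧ g * y ∈ TT S A := by
  have hF := h.fr
  have hci := h.ci
  have hzz := hci.zz
  obtain ⟨p, hp⟩ : ∃ p, p = x * z * x⁻¹ := ⟨_, rfl⟩
  have hpU : p ∈ U := by rw [hp]; exact hci.pU
  have hp1 : p ≠ 1 := by rw [hp]; exact hF.z2_ne_one
  have hpz : p ≠ z := by rw [hp]; exact hF.xz
  have hep : e * p * e⁻¹ = z * p := by rw [hp]; exact hci.ep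
  have hbp : b * p * b⁻¹ = p := conj_eq_iff.2 (hF.Q_comm hci.bQ hpU)
  have hbf : b * f * b⁻¹ = z * f := by rw [hci.bf]; exact hF.commA hF.fA hF.zA
  have hef : e * f * e⁻¹ = f := conj_eq_iff.2 hci.ef
  have hgS := h.PS hg
  have hgz : g * z * g⁻¹ = z := conj_eq_iff.2 (hci.zc hgS)
  have hbz : b * z * b⁻¹ = z := conj_eq_iff.2 hci.bz
  -- criterion
  have crit : ∀ k : G, k ∈ (S : Subgroup G) → k * f * k⁻¹ = f → k * p * k⁻¹ = p → k ∈ TT S A := by
    intro k hkS hkf hkp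
    refine ⟨hkS, mem_cent_iff.2 fun a ha => ?_⟩
    have c1 : Commute k f := conj_eq_iff.1 hkf
    have c2 : Commute k p := conj_eq_iff.1 hkp
    have c3 : Commute k z := hci.zc hkS
    have c4 : ∀ u ∈ U, Commute k u := by
      intro u hu
      rcases hF.U_cases' hpU hp1 hpz u hu with rfl | rfl | rfl | rfl
      · exact Commute.one_right _
      · exact c3
      · exact c2
      · exact c3.mul_right c2
    rcases hF.mem_A ha with h1 | h1
    · exact (c4 a h1).eq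
    · have e1 : a = f * (f * a) := by rw [← mul_assoc, hF.sqA hF.fA, one_mul]
      have := (c1.mul_right (c4 _ h1)).eq
      rwa [← e1] at this
  have mulz : ∀ c : G, g * (z * c) * g⁻¹ = z * (g * c * g⁻¹) := by
    intro c
    calc g * (z * c) * g⁻¹ = (g * z * g⁻¹) * (g * c * g⁻¹) := by group
      _ = _ := by rw [hgz]
  have key : ∀ (y c : G), (g * y) * c * (g * y)⁻¹ = g * (y * c * y⁻¹) * g⁻¹ := by intro y c; group
  have canc : ∀ c : G, z * (z * c) = c := fun c => by rw [← mul_assoc, hzz, one_mul]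
  rcases h.PA g hg f hF.fA with h1 | h1 <;> rcases h.PA g hg p (hF.UA hpU) with h2 | h2
  · exact ⟨1, Or.inl rfl, crit _ (by rw [mul_one]; exact hgS) (by rw [mul_one]; exact h1)
      (by rw [mul_one]; exact h2)⟩
  · refine ⟨e, Or.inr (Or.inr (Or.inl rfl)), crit _ (mul_mem hgS hci.eS) ?_ ?_⟩
    · rw [key, hef, h1]
    · rw [key, hep, mulz, h2, canc]
  · refine ⟨b, Or.inr (Or.inl rfl), crit _ (mul_mem hgS hci.bQ.1) ?_ ?_⟩
    · rw [key, hbf, mulz, h1, canc]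
    · rw [key, hbp, h2]
  · refine ⟨b * e, Or.inr (Or.inr (Or.inr rfl)), crit _ (mul_mem hgS (mul_mem hci.bQ.1 hci.eS)) ?_ ?_⟩
    · have e1 : (b * e) * f * (b * e)⁻¹ = b * (e * f * e⁻¹) * b⁻¹ := by group
      rw [key, e1, hef, hbf, mulz, h1, canc]
    · have e1 : (b * e) * p * (b * e)⁻¹ = b * (e * p * e⁻¹) * b⁻¹ := by group
      have e2 : b * (z * p) * b⁻¹ = (b * z * b⁻¹) * (b * p * b⁻¹) := by group
      rw [key, e1, hep, e2, hbz, hbp, mulz, h2, canc]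

theorem kT : t * f ∈ TT S A := mul_mem h.ci.tT (h.fr.A_le_T h.fr.fA)

theorem kb : (t * f) * b = b * (t * f) := by
  have hF := h.fr
  have hci := h.ci
  have hbt : b * t * b⁻¹ = z * t := by
    calc b * t * b⁻¹ = (b * t * b⁻¹ * t⁻¹) * t := by group
      _ = z * t := by rw [h.zt]
  rw [eq_comm, ← conj_eq_iff]
  have e1 : b * (t * f) * b⁻¹ = (b * t * b⁻¹) * (b * f * b⁻¹) := by group
  rw [e1, hbt, hci.bf]
  have c1 := hF.commA hF.fA hF.zA
  have c2 := hci.zc hci.tT.1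
  calc z * t * (f * z) = z * t * (z * f) := by rw [c1]
    _ = z * (t * z) * f := by group
    _ = z * (z * t) * f := by rw [c2]
    _ = (z * z) * (t * f) := by group
    _ = t * f := by rw [hci.zz, one_mul]

theorem ke [Finite G] : (t * f) * e = e * (t * f) := by
  have c1 : Commute e t := h.ci.et
  have c2 : Commute e f := h.ci.ef
  exact (c1.mul_right c2).eq.symm

theorem kk [Finite G] : (t * f) * (t * f) = z := by
  have hF := h.fr
  have c := hF.T_comm h.ci.tT hF.fA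
  calc (t * f) * (t * f) = t * (f * t) * f := by group
    _ = t * (t * f) * f := by rw [c]
    _ = (t * t) * (f * f) := by group
    _ = z := by rw [h.ci.yz.tt, hF.sqA hF.fA, mul_one]

theorem kP0 : t * f ∈ P0 := mul_mem h.tP (h.AP h.fr.fA)

/-- `[P₀, t f] ≤ ⟨z⟩` -/
theorem kP [Finite G] {g : G} (hg : g ∈ P0) : RR z g (t * f) := by
  have hF := h.fr
  have hci := h.ci
  have hk := h.kT
  have hkb := h.kb
  have hke := h.ke
  obtain ⟨w, hw⟩ : ∃ w, w = t * f := ⟨_, rfl⟩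
  rw [← hw] at hk hkb hke ⊢
  obtain ⟨y, hy, hT⟩ := h.exists_T hg
  have hyP : y ∈ P0 ∧ y * y = 1 ∧ y * w = w * y := by
    rcases hy with rfl | rfl | rfl | rfl
    · exact ⟨one_mem _, by simp, by simp⟩
    · exact ⟨h.bP, hci.bb, hkb.symm⟩
    · exact ⟨h.eP, hci.ee, hke.symm⟩
    · refine ⟨mul_mem h.bP h.eP, ?_, ((show Commute b w from hkb.symm).mul_left hke.symm).eq⟩
      calc b * e * (b * e) = b * (e * b) * e := by group
        _ = b * (b * e) * e := by rw [hci.be]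
        _ = (b * b) * (e * e) := by group
        _ = 1 := by rw [hci.bb, hci.ee, one_mul]
  obtain ⟨hyP, hyy, hyw⟩ := hyP
  have hgy := mul_mem hg hyP
  obtain ⟨a, ha, h1, h2⟩ := hci.exists_comm hT (h.Pb _ hgy) (h.Pe _ hgy)
  obtain ⟨c, hc⟩ : ∃ c, c = g * y * a := ⟨_, rfl⟩
  rw [← hc] at h1 h2
  have hcT : c ∈ TT S A := by rw [hc]; exact mul_mem hT (hF.A_le_T ha)
  have hgc : g = c * (a⁻¹ * y⁻¹) := by rw [hc]; group
  have hwa : (a⁻¹ * y⁻¹) * w = w * (a⁻¹ * y⁻¹) := by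
    have c1 : Commute a w := (hF.T_comm hk ha).symm
    have c2 : Commute y w := hyw
    exact (c1.inv_left.mul_left c2.inv_left).eq
  have h3 : g * w * g⁻¹ = c * w * c⁻¹ := by
    rw [hgc]
    calc c * (a⁻¹ * y⁻¹) * w * (c * (a⁻¹ * y⁻¹))⁻¹ = c * ((a⁻¹ * y⁻¹) * w * (a⁻¹ * y⁻¹)⁻¹) * c⁻¹ := by group
      _ = _ := by rw [conj_eq_iff.2 hwa]
  have h4 : c * w * c⁻¹ * w⁻¹ = 1 ∨ c * w * c⁻¹ * w⁻¹ = z := by
    refine hci.fix_be ?_ ?_ ?_
    · have c1 := hF.T_comm hcT hF.fA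
      have h5 := hci.yz.QY c (hF.T_le_Q hcT) t hci.yz.tY
      have e3 : c * w * c⁻¹ * w⁻¹ = (c * t * c⁻¹) * (c * f * c⁻¹) * f⁻¹ * t⁻¹ := by rw [hw]; group
      rw [e3, conj_eq_iff.2 c1, mul_inv_cancel_right]
      exact h5
    · have c1 : Commute b w := hkb.symm
      have c2 : Commute b c := h1.symm
      exact (((c2.mul_right c1).mul_right c2.inv_right).mul_right c1.inv_right).eq
    · have c1 : Commute e w := hke.symm
      have c2 : Commute e c := h2.symm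
      exact (((c2.mul_right c1).mul_right c2.inv_right).mul_right c1.inv_right).eq
  unfold RR
  rw [h3]
  rcases h4 with h4 | h4
  · left; exact mul_inv_eq_one.1 h4
  · right; rw [← h4]; group

end Pz

end Cfsg.Agent.RankThreeFus
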