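import Cfsg.Agent.RankThreeFus.PTSgam
import Cfsg.Agent.RankThreeFus.FrattiniMax

/-!
# S1730, branch (B), (B8*), CASE I, `PT = S`: the new maximal choice is small
-/

set_option autoImplicit false
set_option linter.style.haveILetI false
set_option linter.unusedSectionVars false
set_option linter.unusedVariables false

namespace Cfsg.Agent.RankThreeFus

open Subgroup Cfsg.Agent.Lib.GoldschmidtFusion Cfsg.Agent.StdL2.G23Aut Cfsg.Agent.Lib.EssentialFusion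

variable {G : Type*} [Group G]

/-- The data of section 10, case `ε = 0`: `P0`, the element `n`, and `κ` with its action modulo `⟨t f⟩`
(`p ∈ U - ⟨z⟩`). -/
structure Gm (S : Sylow 2 G) (A U : Subgroup G) (z f x e : G) (Y : Subgroup G) (t b : G) (P0 : Subgroup G)
    (n κ p : G) : Prop where
  pz : Pz S A U z f x e Y t b P0
  nT : n ∈ TT S A
  nn : n * n ∈ P0
  nN : n ∈ normalizer (P0 : Set G)
  nb : (n * b * n⁻¹)⁻¹ * (b * f) ∈ zpowers (t * f)
  ne : RR z n e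
  nt : RR z n (t * f)
  pU : p ∈ U
  p1 : p ≠ 1
  pz' : p ≠ z
  κk : κ * (t * f) = (t * f) * κ
  κf : (κ * f * κ⁻¹)⁻¹ * (f * b * e) ∈ zpowers (t * f)
  κp : (κ * p * κ⁻¹)⁻¹ * (p * b) ∈ zpowers (t * f)
  κb : (κ * b * κ⁻¹)⁻¹ * p ∈ zpowers (t * f)
  κe : (κ * e * κ⁻¹)⁻¹ * (f * p) ∈ zpowers (t * f)

namespace Gm

variable {S : Sylow 2 G} {A U : Subgroup G} {z f x e : G} {Y : Subgroup G} {t b : G} {P0 : Subgroup G}
  {n κ p : G} (h : Gm S A U z f x e Y t b P0 n κ p)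

include h

theorem fr : Fr S A U z f x e := h.pz.ci.yz.fr

theorem ci : Ci S A U z f x e Y t b := h.pz.ci

theorem zz : z * z = 1 := h.pz.ci.zz

theorem ez : e * z = z * e := h.fr.zc e h.fr.sS

theorem zk [Finite G] : z ∈ zpowers (t * f) := by
  rw [← h.pz.kk]; exact mul_mem (mem_zpowers _) (mem_zpowers _)

theorem ep [Finite G] : e * p * e⁻¹ = z * p := by
  refine (h.fr.U_or h.pU h.ci.eS).resolve_left fun h1 => h.fr.sU ?_
  refine mem_cent_iff.2 fun u hu => ?_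
  have c1 : Commute e p := conj_eq_iff.1 h1
  have c2 : Commute e z := h.ez
  rcases h.fr.U_cases' h.pU h.p1 h.pz' u hu with rfl | rfl | rfl | rfl
  · simp
  · exact c2
  · exact c1
  · exact (c2.mul_right c1).eq

theorem nk [Finite G] : n ∈ normalizer (zpowers (t * f) : Set G) := by
  refine mem_norm_of_conj fun y hy => ?_
  obtain ⟨i, rfl⟩ := mem_zpowers_iff.1 hy
  rw [← conj_zpow]
  refine zpow_mem ?_ i
  rcases h.nt with h1 | h1 <;> rw [h1]
  · exact mem_zpowers _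
  · exact mul_mem h.zk (mem_zpowers _)

theorem κN [Finite G] : κ ∈ normalizer (zpowers (t * f) : Set G) := by
  refine mem_norm_of_conj fun y hy => ?_
  obtain ⟨i, rfl⟩ := mem_zpowers_iff.1 hy
  rw [← conj_zpow, conj_eq_iff.2 h.κk]
  exact zpow_mem (mem_zpowers _) i

theorem fe [Finite G] : f * e = e * f := h.ci.ef.symm

theorem kA {a : G} (ha : a ∈ A) : a * (t * f) = (t * f) * a := (h.fr.T_comm h.pz.kT ha).symm

/-- the action of `γ = κ n κ` -/
theorem gam [Finite G] :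
    ((κ * n * κ) * f * (κ * n * κ)⁻¹)⁻¹ * f ∈ zpowers (t * f) ∧
    ((κ * n * κ) * p * (κ * n * κ)⁻¹)⁻¹ * (f * e) ∈ zpowers (t * f) ∧
      ((κ * n * κ) * e * (κ * n * κ)⁻¹)⁻¹ * (f * e * p) ∈ zpowers (t * f) := by
  have hF := h.fr
  have hci := h.ci
  have hpA := hF.UA h.pU
  refine gam_mod (h.kA hF.fA) (h.kA hpA) h.pz.kb.symm h.pz.ke.symm h.κN h.nk (hF.sqA hF.fA) (hF.sqA hpA) hci.bb
    hci.ee (hF.commA hF.fA hpA) ?_ h.fe (hF.Q_comm hci.bQ h.pU).symm ?_ hci.be h.κf h.κp h.κb h.κe ?_ ?_ h.nb ?_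
  · have e1 : (f * b)⁻¹ * (b * f) = b⁻¹ * (f⁻¹ * (b * f * b⁻¹)) * b := by group
    rw [e1, hci.bf]
    have e2 : b⁻¹ * (f⁻¹ * (f * z)) * b = z := by
      have := hci.bz
      calc b⁻¹ * (f⁻¹ * (f * z)) * b = b⁻¹ * (z * b) := by group
        _ = b⁻¹ * (b * z) := by rw [this]
        _ = z := by group
    rw [e2]; exact h.zk
  · have e1 : (p * e)⁻¹ * (e * p) = e⁻¹ * (p⁻¹ * (e * p * e⁻¹)) * e := by group
    have c := hF.commA hF.zA hpA
    rw [e1, h.ep, c]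
    have e2 : e⁻¹ * (p⁻¹ * (p * z)) * e = z := by
      have := h.ez
      calc e⁻¹ * (p⁻¹ * (p * z)) * e = e⁻¹ * (z * e) := by group
        _ = e⁻¹ * (e * z) := by rw [this]
        _ = z := by group
    rw [e2]; exact h.zk
  · exact conj_eq_iff.2 (hF.T_comm h.nT hF.fA)
  · exact conj_eq_iff.2 (hF.T_comm h.nT hpA)
  · rcases h.ne with h1 | h1 <;> rw [h1]
    · simp
    · have e1 : (z * e)⁻¹ * e = e⁻¹ * (z⁻¹ * e) := by group
      have e2 : e⁻¹ * (z⁻¹ * e) = z⁻¹ := by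
        have c : Commute e z := h.ez
        have := c.inv_right.eq
        rw [← this]; group
      rw [e1, e2]
      exact inv_mem h.zk

/-- `D = A⟨t f, e⟩` -/
def DD (_h : Gm S A U z f x e Y t b P0 n κ p) : Subgroup G := A ⊔ zpowers (t * f) ⊔ zpowers e

theorem A_le_D : A ≤ h.DD := le_sup_left.trans le_sup_left

theorem k_le_D : zpowers (t * f) ≤ h.DD := le_sup_right.trans le_sup_left

theorem e_mem_D : e ∈ h.DD := (le_sup_right : zpowers e ≤ h.DD) (mem_zpowers e)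

theorem D_le_P0 : h.DD ≤ P0 := by
  refine sup_le (sup_le h.pz.AP ?_) ?_
  · rw [zpowers_le]; exact h.pz.kP0
  · rw [zpowers_le]; exact h.pz.eP

theorem gamN [Finite G] : κ * n * κ ∈ normalizer (h.DD : Set G) := by
  obtain ⟨g, hg⟩ : ∃ g, g = κ * n * κ := ⟨_, rfl⟩
  obtain ⟨h1, h2, h3⟩ := h.gam
  have hNk : g ∈ normalizer (zpowers (t * f) : Set G) := by
    rw [hg]; exact mul_mem (mul_mem h.κN h.nk) h.κN
  rw [← hg] at h1 h2 h3 ⊢
  have hA := h.A_le_D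
  have hk := h.k_le_D
  have he := h.e_mem_D
  have hF := h.fr
  have hpA := hF.UA h.pU
  have inv : ∀ y w : G, y⁻¹ * w ∈ zpowers (t * f) → w ∈ h.DD → y ∈ h.DD := by
    intro y w h4 h5
    have h6 := mul_mem h5 (inv_mem (hk h4))
    have e1 : w * (y⁻¹ * w)⁻¹ = y := by group
    rwa [e1] at h6
  have gf := inv _ _ h1 (hA hF.fA)
  have gp := inv _ _ h2 (mul_mem (hA hF.fA) he)
  have ge := inv _ _ h3 (mul_mem (mul_mem (hA hF.fA) he) (hA hpA))
  have gz : g * z * g⁻¹ ∈ h.DD := hk (mem_norm hNk h.zk)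
  have gm : ∀ y w : G, g * y * g⁻¹ ∈ h.DD → g * w * g⁻¹ ∈ h.DD → g * (y * w) * g⁻¹ ∈ h.DD := by
    intro y w h4 h5
    have e1 : g * (y * w) * g⁻¹ = (g * y * g⁻¹) * (g * w * g⁻¹) := by group
    rw [e1]; exact mul_mem h4 h5
  have gU : ∀ u ∈ U, g * u * g⁻¹ ∈ h.DD := by
    intro u hu
    rcases hF.U_cases' h.pU h.p1 h.pz' u hu with rfl | rfl | rfl | rfl
    · simp
    · exact gz
    · exact gp
    · exact gm _ _ gz gp
  have key : h.DD ≤ h.DD.comap (MulAut.conj g).toMonoidHom := by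
    refine sup_le (sup_le ?_ ?_) ?_
    · intro a ha
      rw [mem_comap]
      change g * a * g⁻¹ ∈ h.DD
      rcases hF.mem_A ha with h4 | h4
      · exact gU a h4
      · have e1 : a = f * (f * a) := by rw [← mul_assoc, hF.sqA hF.fA, one_mul]
        rw [e1]
        exact gm _ _ gf (gU _ h4)
    · rw [zpowers_le, mem_comap]
      exact hk (mem_norm hNk (mem_zpowers _))
    · rw [zpowers_le, mem_comap]
      exact ge
  refine mem_norm_of_conj fun y hy => ?_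
  have := key hy
  rw [mem_comap] at this
  exact this

theorem gam_notMem [Finite G] : κ * n * κ ∉ normalizer (U : Set G) := by
  intro h1
  obtain ⟨-, h2, -⟩ := h.gam
  have hF := h.fr
  have h3 := mem_norm h1 h.pU
  obtain ⟨y, hy⟩ : ∃ y, y = (κ * n * κ) * p * (κ * n * κ)⁻¹ := ⟨_, rfl⟩
  rw [← hy] at h2 h3
  have hkQ : zpowers (t * f) ≤ QQ S U := by
    rw [zpowers_le]; exact hF.T_le_Q h.pz.kT
  have hyQ : y ∈ QQ S U := hF.T_le_Q (hF.A_le_T (hF.UA h3))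
  have hfQ : f ∈ QQ S U := hF.T_le_Q (hF.A_le_T hF.fA)
  have h4 : e ∈ QQ S U := by
    have h5 := mul_mem (mul_mem (inv_mem hfQ) hyQ) (hkQ h2)
    have e1 : f⁻¹ * y * (y⁻¹ * (f * e)) = e := by group
    rwa [e1] at h5
  exact hF.sU h4.2

/-! ### the subgroup `P'' = P₀⟨n⟩` -/

theorem k_cases [Finite G] : ∀ y ∈ zpowers (t * f), y = 1 ∨ y = z ∨ y = t * f ∨ y = z * (t * f) := by
  have hkk := h.pz.kk
  have hkz : (t * f) * z = z * (t * f) := h.fr.zc _ h.pz.kT.1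
  intro y hy
  obtain ⟨i, rfl⟩ := mem_zpowers_iff.1 hy
  obtain ⟨j, hj⟩ := Int.even_or_odd' i
  have h2 : ∀ j : ℤ, (t * f) ^ (2 * j) = 1 ∨ (t * f) ^ (2 * j) = z := by
    intro j
    rw [zpow_mul, zpow_two, hkk]
    have h1 : z ^ j ∈ zpowers z := zpow_mem (mem_zpowers z) j
    exact zpowers_cases h.zz _ h1
  rcases hj with rfl | rfl
  · rcases h2 j with h3 | h3
    · exact Or.inl h3
    · exact Or.inr (Or.inl h3)
  · rw [zpow_add, zpow_one]
    rcases h2 j with h3 | h3 <;> rw [h3]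
    · rw [one_mul]; exact Or.inr (Or.inr (Or.inl rfl))
    · exact Or.inr (Or.inr (Or.inr rfl))

theorem k_notMem : t * f ∉ A := fun h1 => h.ci.t_notMem (by
  have h2 := mul_mem h1 (inv_mem h.fr.fA)
  rwa [mul_inv_cancel_right] at h2)

theorem k_A [Finite G] {y : G} (hy : y ∈ zpowers (t * f)) (hA : y ∈ A) : y = 1 ∨ y = z := by
  rcases h.k_cases y hy with h1 | h1 | h1 | h1
  · exact Or.inl h1
  · exact Or.inr h1
  · rw [h1] at hA
    exact absurd hA h.k_notMem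
  · rw [h1] at hA
    exact absurd ((A.mul_mem_cancel_left h.fr.zA).1 hA) h.k_notMem

theorem n_notMem [Finite G] : n ∉ P0 := by
  intro hn
  have hF := h.fr
  have h1 := h.nb
  rcases h.pz.Pb n hn with h2 | h2
  · rw [h2, inv_mul_cancel_left] at h1
    rcases h.k_A h1 hF.fA with h3 | h3
    · exact hF.fU (h3 ▸ one_mem _)
    · exact hF.fU (h3 ▸ hF.zU)
  · have e1 : (z * b)⁻¹ * (b * f) = b⁻¹ * (z⁻¹ * b) * f := by group
    have c : b⁻¹ * (z⁻¹ * b) = z⁻¹ := by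
      have c1 : Commute b z := h.ci.bz
      rw [← c1.inv_right.eq]; group
    rw [h2, e1, c] at h1
    rcases h.k_A h1 (mul_mem (inv_mem hF.zA) hF.fA) with h3 | h3
    · apply hF.fU
      have e2 : f = z * (z⁻¹ * f) := by group
      rw [e2, h3]; exact mul_mem hF.zU (one_mem _)
    · apply hF.fU
      have e2 : f = z * (z⁻¹ * f) := by group
      rw [e2, h3]; exact mul_mem hF.zU hF.zU

/-- `[n, b]` has square `z` -/
theorem nb_sq [Finite G] : (n * b * n⁻¹ * b⁻¹) * (n * b * n⁻¹ * b⁻¹) = z := by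
  have hF := h.fr
  have hci := h.ci
  have hzz := h.zz
  have h1 := h.nb
  obtain ⟨c, hc⟩ : ∃ c, c = (n * b * n⁻¹)⁻¹ * (b * f) := ⟨_, rfl⟩
  rw [← hc] at h1
  have h2 : n * b * n⁻¹ = b * f * c⁻¹ := by rw [hc]; group
  have hcb : c * b = b * c := by
    obtain ⟨i, rfl⟩ := mem_zpowers_iff.1 h1
    exact ((show Commute (t * f) b from h.pz.kb).zpow_left i).eq
  have h3 : n * b * n⁻¹ * b⁻¹ = z * f * c⁻¹ := by
    rw [h2]
    have c1 : Commute c⁻¹ b⁻¹ := (show Commute c b from hcb).inv_inv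
    have c2 := hF.commA hF.fA hF.zA
    calc b * f * c⁻¹ * b⁻¹ = b * f * (c⁻¹ * b⁻¹) := by group
      _ = b * f * (b⁻¹ * c⁻¹) := by rw [c1.eq]
      _ = (b * f * b⁻¹) * c⁻¹ := by group
      _ = z * f * c⁻¹ := by rw [hci.bf, c2]
  -- `(n b n⁻¹)² = 1`
  have h4 : (n * b * n⁻¹) * (n * b * n⁻¹) = 1 := by
    have e1 : (n * b * n⁻¹) * (n * b * n⁻¹) = n * (b * b) * n⁻¹ := by group
    rw [e1, hci.bb]; group
  have hzf := hF.commA hF.zA hF.fA
  have hbff : (b * f) * (b * f) = z := by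
    have e1 : b * f = (b * f * b⁻¹) * b := by group
    calc (b * f) * (b * f) = (b * f * b⁻¹) * (b * b) * f := by group
      _ = f * z * f := by rw [hci.bf, hci.bb, mul_one]
      _ = z * (f * f) := by rw [← hzf]; group
      _ = z := by rw [hF.sqA hF.fA, mul_one]
  have hcf : c * f = f * c := by
    obtain ⟨i, rfl⟩ := mem_zpowers_iff.1 h1
    exact ((show Commute (t * f) f from (h.kA hF.fA).symm).zpow_left i).eq
  have h5 : c⁻¹ * c⁻¹ = z := by
    have cbf : Commute (b * f) c⁻¹ := by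
      have c1 : Commute b c := hcb.symm
      have c2 : Commute f c := hcf.symm
      exact (c1.mul_left c2).inv_right
    rw [h2] at h4
    have h6 : (b * f * c⁻¹) * (b * f * c⁻¹) = ((b * f) * (b * f)) * (c⁻¹ * c⁻¹) := by
      calc (b * f * c⁻¹) * (b * f * c⁻¹) = (b * f) * (c⁻¹ * (b * f)) * c⁻¹ := by group
        _ = (b * f) * ((b * f) * c⁻¹) * c⁻¹ := by rw [cbf.eq]
        _ = _ := by group
    rw [h6, hbff] at h4
    calc c⁻¹ * c⁻¹ = (z * z) * (c⁻¹ * c⁻¹) := by rw [hzz, one_mul]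
      _ = z * (z * (c⁻¹ * c⁻¹)) := by group
      _ = z := by rw [h4, mul_one]
  rw [h3]
  have c1 : Commute c z := by
    obtain ⟨i, rfl⟩ := mem_zpowers_iff.1 h1
    exact (show Commute (t * f) z from hF.zc _ h.pz.kT.1).zpow_left i
  have c2 : Commute c f := hcf
  have c3 : Commute (z * f) c⁻¹ := (c1.symm.mul_left c2.symm).inv_right
  calc z * f * c⁻¹ * (z * f * c⁻¹) = z * f * (c⁻¹ * (z * f)) * c⁻¹ := by group
    _ = z * f * ((z * f) * c⁻¹) * c⁻¹ := by rw [c3.eq]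
    _ = ((z * f) * (z * f)) * (c⁻¹ * c⁻¹) := by group
    _ = z := by rw [hF.sqA (mul_mem hF.zA hF.fA), h5, one_mul]

/-- `P'' = P₀⟨n⟩` -/
def PP (_h : Gm S A U z f x e Y t b P0 n κ p) : Subgroup G := P0 ⊔ zpowers n

theorem P0_le : P0 ≤ h.PP := le_sup_left

theorem n_mem : n ∈ h.PP := (le_sup_right : zpowers n ≤ h.PP) (mem_zpowers n)

theorem PP_le : h.PP ≤ (S : Subgroup G) := by
  refine sup_le h.pz.PS ?_
  rw [zpowers_le]; exact h.nT.1

theorem mem_PP {y : G} (hy : y ∈ h.PP) : y ∈ P0 ∨ ∃ y0 ∈ P0, y = y0 * n := by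
  have h1 : zpowers n ≤ normalizer (P0 : Set G) := by
    rw [zpowers_le]; exact h.nN
  have h2 : y ∈ ((P0 ⊔ zpowers n : Subgroup G) : Set G) := hy
  rw [coe_mul_of_right_le_normalizer_left _ _ h1] at h2
  obtain ⟨y0, hy0, w, hw, rfl⟩ := Set.mem_mul.1 h2
  obtain ⟨i, rfl⟩ := mem_zpowers_iff.1 hw
  have h3 : ∀ j : ℤ, n ^ (2 * j) ∈ P0 := by
    intro j
    rw [zpow_mul, zpow_two]
    exact zpow_mem h.nn j
  obtain ⟨j, hj⟩ := Int.even_or_odd' i
  rcases hj with rfl | rfl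
  · exact Or.inl (mul_mem hy0 (h3 j))
  · right
    refine ⟨y0 * n ^ (2 * j), mul_mem hy0 (h3 j), ?_⟩
    rw [zpow_add, zpow_one, mul_assoc]

theorem PP_ZE_of {w : G} (h1 : ∀ g ∈ P0, RR z g w) (h2 : RR z n w) : h.PP ≤ ZE z w h.zz := by
  refine sup_le ?_ ?_
  · intro g hg
    exact ⟨h.fr.zc g (h.pz.PS hg), h1 g hg⟩
  · rw [zpowers_le]
    exact ⟨h.fr.zc n h.nT.1, h2⟩

theorem PP_A [Finite G] {a : G} (ha : a ∈ A) : h.PP ≤ ZE z a h.zz :=
  h.PP_ZE_of (fun g hg => h.pz.PA g hg a ha) (Or.inl (conj_eq_iff.2 (h.fr.T_comm h.nT ha)))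

theorem PP_k [Finite G] : h.PP ≤ ZE z (t * f) h.zz := h.PP_ZE_of (fun _ hg => h.pz.kP hg) h.nt

theorem PP_e : h.PP ≤ ZE z e h.zz := h.PP_ZE_of (fun g hg => h.pz.Pe g hg) h.ne

/-- `[P'', D] ≤ ⟨z⟩` -/
theorem D_ZE [Finite G] {g : G} (hg : g ∈ h.PP) : h.DD ≤ ZE z g h.zz := by
  have hF := h.fr
  have hgz := hF.zc g (h.PP_le hg)
  have key : ∀ w ∈ (S : Subgroup G), h.PP ≤ ZE z w h.zz → w ∈ ZE z g h.zz := by
    intro w hw h1
    exact ⟨hF.zc w hw, RR.symm h.zz hgz (hF.zc w hw) (h1 hg).2⟩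
  refine sup_le (sup_le ?_ ?_) ?_
  · intro a ha
    exact key a (hF.AS ha) (h.PP_A ha)
  · rw [zpowers_le]; exact key _ h.pz.kT.1 h.PP_k
  · rw [zpowers_le]; exact key _ h.ci.eS h.PP_e

theorem D_le_PP : h.DD ≤ h.PP := h.D_le_P0.trans h.P0_le

theorem D_le_S : h.DD ≤ (S : Subgroup G) := h.D_le_P0.trans h.pz.PS

theorem zD : z ∈ h.DD := h.A_le_D h.fr.zA

/-- `N(D)` fixes `z` -/
theorem ND_z [Finite G] {m : G} (hm : m ∈ normalizer (h.DD : Set G)) : m * z = z * m := by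
  have hF := h.fr
  have hpD := h.A_le_D (hF.UA h.pU)
  have h1 := mem_norm hm h.e_mem_D
  have h2 := mem_norm hm hpD
  have h3 : RR z (m * e * m⁻¹) (m * p * m⁻¹) := (h.D_ZE (h.D_le_PP h2) h1).2
  have h4 : (m * e * m⁻¹) * (m * p * m⁻¹) * (m * e * m⁻¹)⁻¹ = (m * z * m⁻¹) * (m * p * m⁻¹) := by
    calc (m * e * m⁻¹) * (m * p * m⁻¹) * (m * e * m⁻¹)⁻¹ = m * (e * p * e⁻¹) * m⁻¹ := by group
      _ = m * (z * p) * m⁻¹ := by rw [h.ep]
      _ = _ := by group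
  unfold RR at h3
  rw [h4] at h3
  rcases h3 with h3 | h3
  · exfalso
    have h5 : m * z * m⁻¹ = 1 := mul_eq_right.1 h3
    apply hF.z1
    have : z = m⁻¹ * (m * z * m⁻¹) * m := by group
    rw [this, h5]; group
  · exact conj_eq_iff.1 (mul_right_cancel h3)

/-- `K = {g ∈ N(D) : [D, g] ≤ ⟨z⟩}` -/
def KK (_h : Gm S A U z f x e Y t b P0 n κ p) : Subgroup G :=
  normalizer (_h.DD : Set G) ⊓ ⨅ d : _h.DD, ZE z (d : G) _h.zz

theorem mem_KK {g : G} : g ∈ h.KK ↔ g ∈ normalizer (h.DD : Set G) ∧ ∀ d ∈ h.DD, g ∈ ZE z d h.zz := by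
  unfold KK
  rw [mem_inf, mem_iInf]
  simp only [Subtype.forall]

theorem KK_le : h.KK ≤ normalizer (h.DD : Set G) := inf_le_left

theorem mem_KK_of [Finite G] {g : G} (h1 : ∀ d ∈ h.DD, g ∈ ZE z d h.zz) : g ∈ h.KK := by
  refine h.mem_KK.2 ⟨mem_norm_of_conj fun d hd => ?_, h1⟩
  rcases (h1 d hd).2 with h2 | h2 <;> rw [h2]
  · exact hd
  · exact mul_mem h.zD hd

theorem PP_le_KK [Finite G] : h.PP ≤ h.KK := by
  intro g hg
  refine h.mem_KK_of fun d hd => ?_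
  have h1 := h.D_ZE hg hd
  have hgz := h.fr.zc g (h.PP_le hg)
  exact ⟨hgz, RR.symm h.zz h1.1 hgz h1.2⟩

theorem ND_le [Finite G] : normalizer (h.DD : Set G) ≤ normalizer (h.KK : Set G) := by
  intro m hm
  have hmz := h.ND_z hm
  refine mem_norm_of_conj fun g hg => ?_
  obtain ⟨h1, h2⟩ := h.mem_KK.1 hg
  refine h.mem_KK_of fun d hd => ?_
  have h3 : m * g * m⁻¹ ∈ normalizer (h.DD : Set G) := mul_mem (mul_mem hm h1) (inv_mem hm)
  refine ⟨h.ND_z h3, ?_⟩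
  have hd' := mem_norm' hm hd
  have e1 : m * g * m⁻¹ * d * (m * g * m⁻¹)⁻¹ = m * (g * (m⁻¹ * d * m) * g⁻¹) * m⁻¹ := by group
  unfold RR
  rw [e1]
  rcases (h2 _ hd').2 with h4 | h4 <;> rw [h4]
  · left; group
  · right
    calc m * (z * (m⁻¹ * d * m)) * m⁻¹ = (m * z) * (m⁻¹ * d) := by group
      _ = z * d := by rw [hmz]; group

theorem KK_U [Finite G] : h.KK ≤ normalizer (U : Set G) := by
  intro g hg
  refine mem_norm_of_conj fun u hu => ?_
  rcases ((h.mem_KK.1 hg).2 u (h.A_le_D (h.fr.UA hu))).2 with h2 | h2 <;> rw [h2]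
  · exact hu
  · exact mul_mem h.fr.zU hu

theorem U_le [Finite G] : U ≤ h.KK ⊓ (S : Subgroup G) :=
  le_inf ((h.fr.UA.trans (h.A_le_D.trans h.D_le_PP)).trans h.PP_le_KK) h.fr.US

/-- `t₂ ∈ N_S(D) - K` -/
theorem t2_mem [Finite G] : x * t * x⁻¹ ∈ normalizer (h.DD : Set G) ⊓ (S : Subgroup G) ∧ x * t * x⁻¹ ∉ h.KK := by
  have hF := h.fr
  have hci := h.ci
  have hrY := hci.rY
  have her := hci.er'
  have hpU := hci.pU
  obtain ⟨r, hr⟩ : ∃ r, r = x * t * x⁻¹ := ⟨_, rfl⟩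
  rw [← hr] at hrY her ⊢
  have hrT := hci.yz.YT hrY
  have htD : t ∈ h.DD := by
    have h1 := mul_mem (h.k_le_D (mem_zpowers _)) (inv_mem (h.A_le_D hF.fA))
    rwa [mul_inv_cancel_right] at h1
  have hre : r * e * r⁻¹ = (x * z * x⁻¹)⁻¹ * t * e := by
    have e1 : r * e * r⁻¹ = (e * r * e⁻¹ * r⁻¹)⁻¹ * e := by group
    rw [e1, her]; group
  refine ⟨⟨mem_norm_of_conj ?_, hrT.1⟩, ?_⟩
  · have key : h.DD ≤ h.DD.comap (MulAut.conj r).toMonoidHom := by
      refine sup_le (sup_le ?_ ?_) ?_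
      · intro a ha
        rw [mem_comap]
        change r * a * r⁻¹ ∈ h.DD
        rw [conj_eq_iff.2 (hF.T_comm hrT ha)]
        exact h.A_le_D ha
      · rw [zpowers_le, mem_comap]
        change r * (t * f) * r⁻¹ ∈ h.DD
        rw [conj_eq_iff.2 (hci.yz.comm _ hrY _ (mul_mem hci.yz.tY (hci.yz.AY hF.fA)))]
        exact h.k_le_D (mem_zpowers _)
      · rw [zpowers_le, mem_comap]
        change r * e * r⁻¹ ∈ h.DD
        rw [hre]
        exact mul_mem (mul_mem (inv_mem (h.A_le_D (hF.UA hpU))) htD) h.e_mem_D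
    intro y hy
    exact key hy
  · intro h1
    have h2 := ((h.mem_KK.1 h1).2 e h.e_mem_D).2
    unfold RR at h2
    rw [hre] at h2
    rcases h2 with h2 | h2
    · have h3 : (x * z * x⁻¹)⁻¹ * t = 1 := mul_eq_right.1 h2
      apply hci.t_notMem
      have e1 : t = (x * z * x⁻¹) * ((x * z * x⁻¹)⁻¹ * t) := by group
      rw [e1, h3, mul_one]
      exact hF.UA hpU
    · have h3 : (x * z * x⁻¹)⁻¹ * t = z := mul_right_cancel h2
      apply hci.t_notMem
      have e1 : t = (x * z * x⁻¹) * ((x * z * x⁻¹)⁻¹ * t) := by group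
      rw [e1, h3]
      exact mul_mem (hF.UA hpU) hF.zA

theorem card_PP [Finite G] : 2 * Nat.card P0 ≤ Nat.card h.PP := by
  have h1 : Nat.card P0 ∣ Nat.card h.PP := card_dvd_of_le h.P0_le
  have h2 : Nat.card P0 ≠ Nat.card h.PP := by
    intro e1
    apply h.n_notMem
    rw [Subgroup.eq_of_le_of_card_ge h.P0_le e1.ge]
    exact h.n_mem
  obtain ⟨k, hk⟩ := h1
  have h3 : 0 < Nat.card P0 := Nat.card_pos
  rw [hk, mul_comm]
  refine Nat.mul_le_mul_left _ ?_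
  rcases k with _ | _ | k
  · rw [mul_zero] at hk
    exact absurd hk Nat.card_pos.ne'
  · rw [zero_add, mul_one] at hk
    exact absurd hk.symm h2
  · omega

theorem card_lt [Finite G] : Nat.card (h.KK ⊓ (S : Subgroup G) : Subgroup G) <
    Nat.card (normalizer (h.DD : Set G) ⊓ (S : Subgroup G) : Subgroup G) := by
  have h1 : h.KK ⊓ (S : Subgroup G) < normalizer (h.DD : Set G) ⊓ (S : Subgroup G) := by
    refine lt_of_le_of_ne (inf_le_inf_right _ h.KK_le) ?_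
    intro e1
    obtain ⟨h2, h3⟩ := h.t2_mem
    rw [← e1] at h2
    exact h3 h2.1
  exact Set.Finite.card_lt_card (Set.toFinite _) h1

/-- **(10.5)**: `P''` is conjugate under `N(U)` to a maximal choice. -/
theorem exists_max [Finite G] {P : Subgroup G} (hM : Choice.Max S U P) (hc : Nat.card P = 2 * Nat.card P0) :
    ∃ m ∈ normalizer (U : Set G), Choice.Max S U (cj m h.PP) := by
  have h1 : h.PP ≤ h.KK ⊓ (S : Subgroup G) := le_inf h.PP_le_KK h.PP_le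
  have h2 := card_le_card h1
  have h3 := h.card_PP
  have h4 := h.card_lt
  obtain ⟨h5, h6⟩ := hM.frattini h.KK_le h.ND_le h.KK_U h.U_le (by omega)
    (fun hle => h.gam_notMem (hle h.gamN))
  have h7 : h.PP = h.KK ⊓ (S : Subgroup G) := Subgroup.eq_of_le_of_card_ge h1 (by omega)
  obtain ⟨m, hm, hmax⟩ := h6 (by omega)
  refine ⟨m, hm, ?_⟩
  rw [h7]
  exact hmax

/-- an element of `T ∩ A*` lies in `U` if `U ≤ A*`, `A* ≠ A` -/
theorem inf_U [Finite G] {B : Subgroup G} (hB : Oct B) (hUB : U ≤ B) (hne : B ≠ A) {y : G} (hy : y ∈ B)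
    (hyT : y ∈ TT S A) : y ∈ U := by
  have hF := h.fr
  have hyA : y ∈ A := hF.mem_A_of_sq hyT (hB.sq y hy)
  rcases hF.mem_A hyA with h1 | h1
  · exact h1
  · exfalso
    apply hne
    -- `A = U ∪ yU ≤ B`
    refine (Subgroup.eq_of_le_of_card_ge ?_ ?_).symm
    · intro a ha
      rcases hF.mem_A ha with h2 | h2
      · exact hUB h2
      · have h3 : a * y⁻¹ ∈ U := by
          have h4 := mul_mem h2 (inv_mem h1)
          have e1 : f * a * (f * y)⁻¹ = f * (a * y⁻¹) * f⁻¹ := by group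
          rw [e1, hF.commA hF.fA (mul_mem ha (inv_mem hyA)), mul_inv_cancel_right] at h4
          exact h4
        have h5 := mul_mem (hUB h3) hy
        rwa [inv_mul_cancel_right] at h5
    · rw [hB.card, hF.hyp.oct.card]

/-- `P'' ∩ T` has commutators in `⟨z⟩` with an element `q` of `A*` -/
theorem comm_T [Finite G] {B : Subgroup G} (hB : Oct B) (hUB : U ≤ B) (hne : B ≠ A)
    (hBP : B ≤ h.PP) (hN : h.PP ≤ normalizer (B : Set G)) {q g : G} (hq : q ∈ B) (hg : g ∈ h.PP) (hgT : g ∈ TT S A) :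
    RR z g q := by
  have hF := h.fr
  have hqS := h.PP_le (hBP hq)
  have hqe : RR z q e := (h.PP_e (hBP hq)).2
  have hge : RR z g e := (h.PP_e hg).2
  have hgz := hF.zc g hgT.1
  have hqz := hF.zc q hqS
  have hez := h.ez
  have hqe' : RR z e q := RR.symm h.zz hqz hez hqe
  have hge' : RR z e g := RR.symm h.zz hgz hez hge
  obtain ⟨c, hc⟩ : ∃ c, c = g * q * g⁻¹ * q⁻¹ := ⟨_, rfl⟩
  have hcB : c ∈ B := by
    rw [hc]; exact mul_mem (mem_norm (hN hg) hq) (inv_mem hq)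
  have hcT : c ∈ TT S A := by
    rw [hc]
    have e1 : g * q * g⁻¹ * q⁻¹ = g * (q * g⁻¹ * q⁻¹) := by group
    rw [e1]
    exact mul_mem hgT (mem_norm (hF.SnT hqS) (inv_mem hgT))
  have hcU := h.inf_U hB hUB hne hcB hcT
  have hec : e * c * e⁻¹ = c := by
    have e1 : e * c * e⁻¹ = (e * g * e⁻¹) * (e * q * e⁻¹) * (e * g * e⁻¹)⁻¹ * (e * q * e⁻¹)⁻¹ := by
      rw [hc]; group
    have c1 : Commute g z := hgz
    have c2 : Commute q z := hqz
    rw [e1]
    rcases hge' with h3 | h3 <;> rcases hqe' with h4 | h4 <;> rw [h3, h4, hc]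
    · calc g * (z * q) * g⁻¹ * (z * q)⁻¹ = (g * z) * q * g⁻¹ * q⁻¹ * z⁻¹ := by group
        _ = z * (g * q * g⁻¹ * q⁻¹) * z⁻¹ := by rw [hgz]; group
        _ = g * q * g⁻¹ * q⁻¹ := by
          rw [← hc, hF.commA hF.zA (hF.UA hcU), mul_inv_cancel_right]
    · calc z * g * q * (z * g)⁻¹ * q⁻¹ = z * (g * q * g⁻¹) * (z⁻¹ * q⁻¹) := by group
        _ = z * (g * q * g⁻¹) * (q⁻¹ * z⁻¹) := by rw [(c2.inv_inv).eq]
        _ = z * (g * q * g⁻¹ * q⁻¹) * z⁻¹ := by group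
        _ = g * q * g⁻¹ * q⁻¹ := by
          rw [← hc, hF.commA hF.zA (hF.UA hcU), mul_inv_cancel_right]
    · calc z * g * (z * q) * (z * g)⁻¹ * (z * q)⁻¹ = z * (g * z) * q * g⁻¹ * (z⁻¹ * q⁻¹) * z⁻¹ := by group
        _ = z * (z * g) * q * g⁻¹ * (q⁻¹ * z⁻¹) * z⁻¹ := by rw [hgz, (c2.inv_inv).eq]
        _ = (z * z) * (g * q * g⁻¹ * q⁻¹) * (z * z)⁻¹ := by group
        _ = g * q * g⁻¹ * q⁻¹ := by rw [h.zz]; group
  have h5 : c = 1 ∨ c = z := hF.fix_s hcU (conj_eq_iff.1 hec)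
  rw [hc] at h5
  rcases h5 with h5 | h5
  · left; exact mul_inv_eq_one.1 h5
  · right; rw [← h5]; group

/-- **(10.6)**: `[A*, P''] ≤ ⟨z⟩` for `A* ≤ P''` normal of type `E₈` containing `U`. -/
theorem comm_B [Finite G] {B : Subgroup G} (hB : Oct B) (hUB : U ≤ B)
    (hBP : B ≤ h.PP) (hN : h.PP ≤ normalizer (B : Set G)) {q g : G} (hq : q ∈ B) (hg : g ∈ h.PP) :
    RR z g q := by
  have hF := h.fr
  have hci := h.ci
  by_cases hne : B = A
  · rw [hne] at hq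
    exact (h.PP_A hq hg).2
  have hqS := h.PP_le (hBP hq)
  have hqz := hF.zc q hqS
  -- `q ∈ P₀`
  have hqP0 : q ∈ P0 := by
    rcases h.mem_PP (hBP hq) with h1 | ⟨y0, hy0, h1⟩
    · exact h1
    · exfalso
      -- `[q, b] ∈ B` has order 4
      have hbPP : b ∈ h.PP := h.P0_le h.pz.bP
      obtain ⟨m, hm⟩ : ∃ m, m = n * b * n⁻¹ * b⁻¹ := ⟨_, rfl⟩
      have hmm := h.nb_sq
      rw [← hm] at hmm
      have hcB : q * b * q⁻¹ * b⁻¹ ∈ B := by
        have e1 : q * b * q⁻¹ * b⁻¹ = q * (b * q⁻¹ * b⁻¹) := by group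
        rw [e1]
        exact mul_mem hq (mem_norm (hN hbPP) (inv_mem hq))
      have h2 := hB.sq _ hcB
      have hyS := h.pz.PS hy0
      have hmS : m ∈ (S : Subgroup G) := by
        rw [hm]
        exact mul_mem (mul_mem (mul_mem h.nT.1 hci.bQ.1) (inv_mem h.nT.1)) (inv_mem hci.bQ.1)
      have e2 : q * b * q⁻¹ * b⁻¹ = (y0 * m * y0⁻¹) * (y0 * b * y0⁻¹ * b⁻¹) := by
        rw [h1, hm]; group
      have h3 : y0 * b * y0⁻¹ * b⁻¹ = 1 ∨ y0 * b * y0⁻¹ * b⁻¹ = z := by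
        rcases h.pz.Pb y0 hy0 with h4 | h4
        · left; rw [h4, mul_inv_cancel]
        · right; rw [h4, mul_inv_cancel_right]
      have h5 : (y0 * m * y0⁻¹) * (y0 * m * y0⁻¹) = z := by
        calc (y0 * m * y0⁻¹) * (y0 * m * y0⁻¹) = y0 * (m * m) * y0⁻¹ := by group
          _ = z := by rw [hmm]; exact hF.zSc hyS
      obtain ⟨w, hw⟩ : ∃ w, w = y0 * m * y0⁻¹ := ⟨_, rfl⟩
      have hwS : w ∈ (S : Subgroup G) := by
        rw [hw]; exact mul_mem (mul_mem hyS hmS) (inv_mem hyS)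
      rw [← hw] at h5 e2
      rw [e2] at h2
      rcases h3 with h3 | h3 <;> rw [h3] at h2
      · rw [mul_one, h5] at h2
        exact hF.z1 h2
      · have hwz := hF.zc w hwS
        have h6 : w * z * (w * z) = (w * w) * (z * z) := by
          calc w * z * (w * z) = w * (z * w) * z := by group
            _ = w * (w * z) * z := by rw [hwz]
            _ = _ := by group
        rw [h6, h5, h.zz, mul_one] at h2
        exact hF.z1 h2
  have hqb : RR z q b := h.pz.Pb q hqP0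
  have hqe : RR z q e := h.pz.Pe q hqP0
  have hb : b ∈ ZE z q h.zz := ⟨hci.bz, RR.symm h.zz hqz hci.bz hqb⟩
  have he : e ∈ ZE z q h.zz := ⟨h.ez, RR.symm h.zz hqz h.ez hqe⟩
  have hT : ∀ y ∈ h.PP, y ∈ TT S A → y ∈ ZE z q h.zz := fun y hy hyT =>
    ⟨hF.zc y hyT.1, h.comm_T hB hUB hne hBP hN hq hy hyT⟩
  have hP0 : P0 ≤ ZE z q h.zz := by
    intro y hy
    obtain ⟨w, hw, hyw⟩ := h.pz.exists_T hy
    have h1 : w ∈ P0 ∧ w ∈ ZE z q h.zz := by
      rcases hw with rfl | rfl | rfl | rfl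
      · exact ⟨one_mem _, one_mem _⟩
      · exact ⟨h.pz.bP, hb⟩
      · exact ⟨h.pz.eP, he⟩
      · exact ⟨mul_mem h.pz.bP h.pz.eP, mul_mem hb he⟩
    have h2 := mul_mem (hT _ (h.P0_le (mul_mem hy h1.1)) hyw) (inv_mem h1.2)
    rwa [mul_inv_cancel_right] at h2
  have hPP : h.PP ≤ ZE z q h.zz := by
    refine sup_le hP0 ?_
    rw [zpowers_le]
    exact hT n h.n_mem h.nT
  exact (hPP hg).2

/-- **(10.5), (10.6)**: there is a small maximal choice. -/
theorem exists_small [Finite G] {P : Subgroup G} (hM : Choice.Max S U P) (hc : Nat.card P = 2 * Nat.card P0) :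
    ∃ P' : Subgroup G, Choice.Max S U P' ∧
      ∀ g ∈ P', ∀ a ∈ A, g * a * g⁻¹ = a ∨ g * a * g⁻¹ = z * a := by
  have hF := h.fr
  obtain ⟨m, hm, hmax⟩ := h.exists_max hM hc
  refine ⟨_, hmax, ?_⟩
  have hAP := hF.A_le_ess hmax.ess
  have hPS : cj m h.PP ≤ (S : Subgroup G) := hmax.ess.lt.le
  have hmi : m⁻¹ ∈ normalizer (U : Set G) := inv_mem hm
  -- `A* = A^{m⁻¹}`
  have hB : Oct (cj m⁻¹ A) := RankThreeFus.Oct.cj hF.hyp.oct m⁻¹
  have hUB : U ≤ cj m⁻¹ A := by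
    intro u hu
    rw [mem_cj, inv_inv]
    exact hF.UA (mem_norm hm hu)
  have hBP : cj m⁻¹ A ≤ h.PP := by
    intro y hy
    rw [mem_cj, inv_inv] at hy
    have h1 := hAP hy
    rw [mem_cj] at h1
    have e1 : m⁻¹ * (m * y * m⁻¹) * m = y := by group
    rwa [e1] at h1
  have hN : h.PP ≤ normalizer (cj m⁻¹ A : Set G) := by
    intro g hg
    refine mem_norm_of_conj fun y hy => ?_
    rw [mem_cj, inv_inv] at hy ⊢
    have h1 : m * g * m⁻¹ ∈ (S : Subgroup G) := by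
      apply hPS
      rw [mem_cj]
      have e1 : m⁻¹ * (m * g * m⁻¹) * m = g := by group
      rwa [e1]
    have h2 := mem_norm (hF.hyp.norm h1) hy
    have e2 : m * g * m⁻¹ * (m * y * m⁻¹) * (m * g * m⁻¹)⁻¹ = m * (g * y * g⁻¹) * m⁻¹ := by group
    rwa [e2] at h2
  -- `m` centralises `z`
  have hmz : m * z * m⁻¹ = z := by
    have heS : m * e * m⁻¹ ∈ (S : Subgroup G) := by
      apply hPS
      rw [mem_cj]
      have e1 : m⁻¹ * (m * e * m⁻¹) * m = e := by group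
      rw [e1]; exact h.P0_le h.pz.eP
    have hpU : m * p * m⁻¹ ∈ U := mem_norm hm h.pU
    have h4 : (m * e * m⁻¹) * (m * p * m⁻¹) * (m * e * m⁻¹)⁻¹ = (m * z * m⁻¹) * (m * p * m⁻¹) := by
      calc (m * e * m⁻¹) * (m * p * m⁻¹) * (m * e * m⁻¹)⁻¹ = m * (e * p * e⁻¹) * m⁻¹ := by group
        _ = m * (z * p) * m⁻¹ := by rw [h.ep]
        _ = _ := by group
    rcases hF.U_or hpU heS with h3 | h3 <;> rw [h4] at h3
    · exfalso
      have h5 : m * z * m⁻¹ = 1 := mul_eq_right.1 h3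
      apply hF.z1
      have : z = m⁻¹ * (m * z * m⁻¹) * m := by group
      rw [this, h5]; group
    · exact mul_right_cancel h3
  intro g hg a ha
  rw [mem_cj] at hg
  have ha' : m⁻¹ * a * m ∈ cj m⁻¹ A := by
    rw [mem_cj, inv_inv]
    have e1 : m * (m⁻¹ * a * m) * m⁻¹ = a := by group
    rwa [e1]
  have h1 := h.comm_B hB hUB hBP hN ha' hg
  have e1 : g * a * g⁻¹ = m * ((m⁻¹ * g * m) * (m⁻¹ * a * m) * (m⁻¹ * g * m)⁻¹) * m⁻¹ := by group
  rw [e1]
  rcases h1 with h1 | h1 <;> rw [h1]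
  · left; group
  · right
    calc m * (z * (m⁻¹ * a * m)) * m⁻¹ = (m * z * m⁻¹) * a := by group
      _ = z * a := by rw [hmz]

end Gm

end Cfsg.Agent.RankThreeFus
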