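import Cfsg.Agent.RankThreeFus.Setup

/-!
# S1730, branch (B): `Ω₁(Z(S))` has order at most two

`PartOne.false_of_card` : under `Hyp S A`, the subgroup `U = C_A(S) = Ω₁(Z(S))` does not have order
four or more.
-/

set_option autoImplicit false
set_option linter.style.haveILetI false

namespace Cfsg.Agent.RankThreeFus

open Subgroup Cfsg.Agent.Lib.GoldschmidtFusion Cfsg.Agent.StdL2.G23Aut

variable {G : Type*} [Group G] {S : Sylow 2 G} {A : Subgroup G}

/-- `C_A(S)`, which is `Ω₁(Z(S))` under `Hyp S A`. -/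
abbrev UU (S : Sylow 2 G) (A : Subgroup G) : Subgroup G := A ⊓ centralizer ((S : Subgroup G) : Set G)

theorem Hyp.U_le_S (h : Hyp S A) : UU S A ≤ S := inf_le_left.trans h.le

theorem Hyp.U_sq (h : Hyp S A) {u : G} (hu : u ∈ UU S A) : u * u = 1 := h.oct.sq u hu.1

theorem U_comm {u s : G} (hu : u ∈ UU S A) (hs : s ∈ (S : Subgroup G)) : u * s = s * u :=
  mem_cent_iff.1 hu.2 s hs

theorem U_conj {u s : G} (hu : u ∈ UU S A) (hs : s ∈ (S : Subgroup G)) : s * u * s⁻¹ = u := by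
  rw [← U_comm hu hs]; group

section

variable [Finite G]

theorem Hyp.mem_U (h : Hyp S A) {x : G} (hx : x * x = 1)
    (hc : ∀ s ∈ (S : Subgroup G), x * s = s * x) : x ∈ UU S A :=
  ⟨Oct.mem_of_comm h.rank h.oct hx (fun e he => hc e (h.le he)), mem_cent_iff.2 hc⟩

theorem Hyp.U_le (h : Hyp S A) {E : Subgroup G} (hE : Oct E) (hES : E ≤ S) : UU S A ≤ E :=
  fun _ hu => Oct.mem_of_comm h.rank hE (h.U_sq hu) (fun _ he => U_comm hu (hES he))

/-- `N(S)` normalises `U`. -/
theorem Hyp.norm_S (h : Hyp S A) {n : G} (hn : n ∈ normalizer ((S : Subgroup G) : Set G)) :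
    n ∈ normalizer (UU S A : Set G) := by
  apply mem_norm_of_conj
  intro u hu
  apply h.mem_U
  · have e : n * u * n⁻¹ * (n * u * n⁻¹) = n * (u * u) * n⁻¹ := by group
    rw [e, h.U_sq hu]; group
  · intro s hs
    have h1 : n⁻¹ * s * n ∈ (S : Subgroup G) := mem_norm' hn hs
    have h2 := U_comm hu h1
    calc n * u * n⁻¹ * s = n * (u * (n⁻¹ * s * n)) * n⁻¹ := by group
      _ = n * ((n⁻¹ * s * n) * u) * n⁻¹ := by rw [h2]
      _ = s * (n * u * n⁻¹) := by group

end

/-- The hypothesis of Part I. -/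
structure One (S : Sylow 2 G) (A : Subgroup G) : Prop extends Hyp S A where
  four : Nat.card (UU S A) = 4

namespace One

variable [Finite G]

theorem two (h : One S A) {E : Subgroup G} (hE : Oct E) (hES : E ≤ S) {x y : G} (hx : x ∈ E) (hy : y ∈ E)
    (hx' : x ∉ UU S A) (hy' : y ∉ UU S A) : x * y ∈ UU S A :=
  mul_mem_of_index_two (h.U_le hE hES) (by rw [hE.card, h.four]) hx hy hx' hy'

/-- An element commuting with `U` and an element of `E - U` commutes with `E`. -/
theorem comm_of (h : One S A) {E : Subgroup G} (hE : Oct E) (hES : E ≤ S) {x : G} (hx : x ∈ E)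
    (hx' : x ∉ UU S A) {s : G} (hsU : ∀ u ∈ UU S A, s * u = u * s) (hsx : s * x = x * s) :
    ∀ e ∈ E, s * e = e * s := by
  intro e he
  by_cases heU : e ∈ UU S A
  · exact hsU e heU
  · have h1 := h.two hE hES hx he hx' heU
    have h2 : e = x * (x * e) := by rw [← mul_assoc, hE.sq x hx, one_mul]
    have h3 := hsU _ h1
    calc s * e = s * (x * (x * e)) := by rw [← h2]
      _ = (s * x) * (x * e) := by group
      _ = x * (s * (x * e)) := by rw [hsx]; group
      _ = x * ((x * e) * s) := by rw [h3]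
      _ = (x * (x * e)) * s := by group
      _ = e * s := by rw [← h2]

theorem eq_of_mem (h : One S A) {E E' : Subgroup G} (hE : Oct E) (hES : E ≤ S) (hE' : Oct E')
    (hES' : E' ≤ S) {x : G} (hx : x ∈ E) (hx2 : x ∈ E') (hxU : x ∉ UU S A) : E = E' := by
  refine Oct.eq_of_comm h.rank hE hE' ?_
  intro a ha b hb
  exact (h.comm_of hE hES hx hxU (fun u hu => (U_comm hu (hES' hb)).symm) (hE'.comm hb hx2) a ha).symm

omit [Finite G] in
theorem conj_notMem {x s : G} (hs : s ∈ (S : Subgroup G)) (hx : x ∉ UU S A) : s * x * s⁻¹ ∉ UU S A := by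
  intro h1
  apply hx
  have h2 := U_conj h1 (inv_mem hs)
  have h3 : s⁻¹ * (s * x * s⁻¹) * s⁻¹⁻¹ = x := by group
  rw [h3] at h2
  rw [h2]
  exact h1

theorem comm_mem (h : One S A) {E : Subgroup G} (hE : Oct E) (hES : E ≤ S) {s : G}
    (hs : s ∈ (S : Subgroup G)) (hsE : s ∈ normalizer (E : Set G)) {e : G} (he : e ∈ E) :
    s * e * s⁻¹ * e⁻¹ ∈ UU S A := by
  by_cases heU : e ∈ UU S A
  · rw [U_conj heU hs, mul_inv_cancel]
    exact one_mem _
  · rw [hE.inv he]
    exact h.two hE hES (mem_norm hsE he) he (conj_notMem hs heU) heU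

theorem A_le (h : One S A) {E : Subgroup G} (hE : Oct E) (hES : E ≤ S) :
    A ≤ normalizer (E : Set G) := by
  intro a ha
  apply mem_norm_of_conj
  intro e he
  have h1 := h.comm_mem h.oct h.le (hES he) (h.norm (hES he)) ha
  have h2 : a * e * a⁻¹ = (e * a * e⁻¹ * a⁻¹)⁻¹ * e := by group
  rw [h2]
  exact mul_mem (inv_mem (h.U_le hE hES h1)) he

theorem exists_act (h : One S A) {E : Subgroup G} (hE : Oct E) (hES : E ≤ S) :
    ∃ s ∈ (S : Subgroup G), s ∈ normalizer (E : Set G) ∧ ∃ e ∈ E, s * e ≠ e * s := by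
  by_contra hcon
  push Not at hcon
  by_cases hEA : E = A
  · subst hEA
    have h1 : E ≤ UU S E := fun e he => ⟨he, mem_cent_iff.2 fun s hs => (hcon s hs (h.norm hs) e he).symm⟩
    have h2 := Subgroup.card_le_of_le h1
    rw [hE.card, h.four] at h2
    omega
  · exact hEA (Oct.eq_of_comm h.rank hE h.oct (fun e he a ha =>
      (hcon a (h.le ha) (h.A_le hE hES ha) e he).symm))

omit [Finite G] in
theorem notMem_of_ne {E : Subgroup G} (hES : E ≤ S) {s e : G} (hs : s ∈ (S : Subgroup G)) (_he : e ∈ E)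
    (hse : s * e ≠ e * s) : e ∉ UU S A ∧ s ∉ UU S A :=
  ⟨fun h1 => hse (U_comm h1 hs).symm, fun h1 => hse (U_comm h1 (hES _he))⟩

/-- A conjugation between two such subgroups carrying `N_S(E)` into `S` normalises `U`. -/
theorem norm_of_map (h : One S A) {E : Subgroup G} (hE : Oct E) (hES : E ≤ S) {g : G}
    (hg : cj g E ≤ S) (hN : cj g ((S : Subgroup G) ⊓ normalizer (E : Set G)) ≤ S) :
    g ∈ normalizer (UU S A : Set G) := by
  obtain ⟨s, hs, hsE, e, he, hse⟩ := h.exists_act hE hES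
  have h0 : s ∈ (S : Subgroup G) ⊓ normalizer (E : Set G) := ⟨hs, hsE⟩
  have h1 : g * s * g⁻¹ ∈ (S : Subgroup G) := hN (conj_mem_cj h0 g)
  have hU' := h.U_le (Oct.cj hE g) hg
  rw [← inv_mem_iff]
  apply mem_norm_of_conj
  intro u hu
  by_contra hcon
  rw [inv_inv] at hcon
  have h2 : g⁻¹ * u * g ∈ E := mem_cj.1 (hU' hu)
  refine hse (h.comm_of hE hES h2 hcon (fun u hu => (U_comm hu hs).symm) ?_ e he)
  have h3 := U_comm hu h1
  calc s * (g⁻¹ * u * g) = g⁻¹ * ((g * s * g⁻¹) * u) * g := by group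
    _ = g⁻¹ * (u * (g * s * g⁻¹)) * g := by rw [h3]
    _ = g⁻¹ * u * g * s := by group

/-- `E` is moving: its normaliser does not normalise `U`. -/
def Mov (S : Sylow 2 G) (A E : Subgroup G) : Prop :=
  ∃ n ∈ normalizer (E : Set G), n ∉ normalizer (UU S A : Set G)

/-- `E` is fully normalised. -/
def FN (S : Sylow 2 G) (E : Subgroup G) : Prop :=
  ¬ 2 ∣ ((S : Subgroup G) ⊓ normalizer (E : Set G)).relIndex (normalizer (E : Set G))

theorem exists_fn (h : One S A) {E : Subgroup G} (hE : Oct E) (hES : E ≤ S) (hM : Mov S A E) :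
    ∃ g ∈ normalizer (UU S A : Set G), cj g E ≤ S ∧ Mov S A (cj g E) ∧ FN S (cj g E) := by
  haveI : Fact (Nat.Prime 2) := ⟨Nat.prime_two⟩
  obtain ⟨k, hk, hkN⟩ := exists_fullyNormalized S hES
  obtain ⟨g, hg, hgN⟩ := exists_extension S (rfl : cj k E = cj k E) hkN
  have hg' : cj g E = cj k E := hg
  have h1 : g ∈ normalizer (UU S A : Set G) :=
    h.norm_of_map hE hES (by rw [hg']; exact hk) (hgN.trans inf_le_left)
  refine ⟨g, h1, by rw [hg']; exact hk, ?_, by rw [hg']; exact hkN⟩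
  obtain ⟨n, hn, hnU⟩ := hM
  refine ⟨g * n * g⁻¹, ?_, ?_⟩
  · rw [← cj_eq_iff, cj_cj]
    have : g * n * g⁻¹ * g = g * n := by group
    rw [this, ← cj_cj, cj_eq_iff.2 hn]
  · intro h2
    apply hnU
    have h3 := mul_mem (mul_mem (inv_mem h1) h2) h1
    have h4 : g⁻¹ * (g * n * g⁻¹) * g = n := by group
    rwa [h4] at h3

/-- For a centric subgroup `X` and `n ∈ N(X)` moving `u ∈ U` out of `U`, the group `⟨U, nun⁻¹⟩` is
moving. -/
theorem mov_of_centric (h : One S A) {X : Subgroup G} (hXS : X ≤ S)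
    (hc : centralizer (X : Set G) ⊓ S ≤ X) {n u : G} (hn : n ∈ normalizer (X : Set G))
    (hu : u ∈ UU S A) (hnu : n * u * n⁻¹ ∉ UU S A) :
    ∃ E : Subgroup G, Oct E ∧ E ≤ S ∧ n ∈ normalizer (E : Set G) ∧ Mov S A E := by
  have hUX : UU S A ≤ X := fun v hv => hc ⟨mem_cent_iff.2 fun x hx => U_comm hv (hXS hx), h.U_le_S hv⟩
  set w := n * u * n⁻¹ with hw
  have hwX : w ∈ X := mem_norm hn (hUX hu)
  have hww : w * w = 1 := by
    have e : w * w = n * (u * u) * n⁻¹ := by rw [hw]; group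
    rw [e, h.U_sq hu]; group
  have hwc : ∀ x ∈ X, w * x = x * w := by
    intro x hx
    have h1 : n⁻¹ * x * n ∈ X := mem_norm' hn hx
    have h2 := U_comm hu (hXS h1)
    calc w * x = n * (u * (n⁻¹ * x * n)) * n⁻¹ := by rw [hw]; group
      _ = n * ((n⁻¹ * x * n) * u) * n⁻¹ := by rw [h2]
      _ = x * w := by rw [hw]; group
  set E := UU S A ⊔ zpowers w with hE
  have hEX : E ≤ X := sup_le hUX (by rw [zpowers_le]; exact hwX)
  have hel := sup_elem (X := UU S A) (Y := zpowers w) (fun u hu => h.U_sq hu) (zpowers_sq hww)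
    (comm_of_sq' fun u hu => h.U_sq hu) (comm_of_sq' (zpowers_sq hww)) (by
      intro v hv y hy
      rcases zpowers_cases hww y hy with rfl | rfl
      · simp
      · exact U_comm hv (hXS hwX))
  have hcard : Nat.card E = 8 := by
    have h1 := card_le h.rank hel.2
    have h2 : UU S A < E := by
      refine lt_of_le_of_ne le_sup_left ?_
      intro h3
      apply hnu
      rw [h3]
      exact le_sup_right (a := UU S A) (mem_zpowers w)
    have h3 := card_subgroup_dvd_card ((UU S A).subgroupOf E)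
    rw [Nat.card_congr (subgroupOfEquivOfLe h2.le).toEquiv, h.four] at h3
    have h4 : Nat.card (UU S A) < Nat.card E := Set.Finite.card_lt_card (Set.toFinite _) h2
    rw [h.four] at h4
    obtain ⟨k, hk⟩ := h3
    change Nat.card E ≤ 8 at h1
    omega
  have hO : Oct E := ⟨hcard, hel.2⟩
  have hEc : ∀ e ∈ E, ∀ x ∈ X, e * x = x * e := by
    have h1 : E ≤ centralizer (X : Set G) := sup_le
      (fun v hv => mem_cent_iff.2 fun x hx => U_comm hv (hXS hx))
      (by rw [zpowers_le]; exact mem_cent_iff.2 hwc)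
    intro e he
    exact mem_cent_iff.1 (h1 he)
  have hnE : n ∈ normalizer (E : Set G) := by
    apply mem_norm_of_conj
    intro e he
    refine Oct.mem_of_comm h.rank hO ?_ ?_
    · have e1 : n * e * n⁻¹ * (n * e * n⁻¹) = n * (e * e) * n⁻¹ := by group
      rw [e1, hO.sq e he]; group
    · intro f hf
      have h1 : n⁻¹ * f * n ∈ X := mem_norm' hn (hEX hf)
      have h2 := hEc e he _ h1
      calc n * e * n⁻¹ * f = n * (e * (n⁻¹ * f * n)) * n⁻¹ := by group
        _ = n * ((n⁻¹ * f * n) * e) * n⁻¹ := by rw [h2]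
        _ = f * (n * e * n⁻¹) := by group
  exact ⟨E, hO, hEX.trans hXS, hnE, n, hnE, fun h1 => hnu (mem_norm h1 hu)⟩

/-- Some elementary abelian subgroup of order 8 of `S` is moving. -/
theorem exists_mov (h : One S A) : ∃ E : Subgroup G, Oct E ∧ E ≤ S ∧ Mov S A E := by
  haveI : Fact (Nat.Prime 2) := ⟨Nat.prime_two⟩
  by_contra hcon
  push Not at hcon
  have hU : UU S A = ⊥ := by
    apply h.noSC
    · intro x hx y hy
      exact h.oct.comm hx.1 hy.1
    · refine ⟨h.U_le_S, ?_⟩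
      intro u hu g hg
      have h1 : (zpowers u).map (MulAut.conj g).toMonoidHom ≤ (S : Subgroup G) := zpowers_map_conj_le hg
      have h2 := gen_of_conj S (fun X => normalizer (X : Set G) ≤ normalizer (UU S A : Set G))
        (fun n hn => h.norm_S hn) ?_ (by rw [zpowers_le]; exact h.U_le_S hu) h1
      · obtain ⟨m, hm, c, hc, rfl⟩ := h2.exists_mul (M := normalizer (UU S A : Set G)) (fun X _ hX => hX)
        have h3 : c * u * c⁻¹ = u := conj_eq_of_mem_centralizer hc (mem_zpowers u)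
        have h4 : m * c * u * (m * c)⁻¹ = m * (c * u * c⁻¹) * m⁻¹ := by group
        rw [h4, h3]
        exact mem_norm hm hu
      · intro X hXS _ hcen _ n hn
        apply mem_norm_of_conj
        intro v hv
        by_contra hnv
        obtain ⟨E, hE, hES, -, hM⟩ := h.mov_of_centric hXS.le hcen hn hv hnv
        exact hcon E hE hES hM
  have h1 := h.four
  rw [hU] at h1
  simp at h1

/-! ### The structure of fully normalised moving subgroups -/

omit [Finite G] in
theorem card_two_cases {H : Subgroup G} [Finite H] (h : Nat.card H = 2) {d : G} (hd : d ∈ H) (hd1 : d ≠ 1) :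
    ∀ x ∈ H, x = 1 ∨ x = d := by
  intro x hx
  by_contra hcon
  push Not at hcon
  have h2 : (({⟨1, one_mem H⟩, ⟨d, hd⟩, ⟨x, hx⟩} : Set H)).ncard = 3 := by
    rw [Set.ncard_eq_three]
    refine ⟨_, _, _, ?_, ?_, ?_, rfl⟩
    · intro hh; exact hd1 (congrArg Subtype.val hh).symm
    · intro hh; exact hcon.1 (congrArg Subtype.val hh).symm
    · intro hh; exact hcon.2 (congrArg Subtype.val hh).symm
  have h3 := Set.ncard_le_ncard (Set.subset_univ ({⟨1, one_mem H⟩, ⟨d, hd⟩, ⟨x, hx⟩} : Set H)) (Set.toFinite _)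
  rw [h2, Set.ncard_univ, h] at h3
  omega

/-- Pigeonhole for the cosets of a subgroup of index three. -/
theorem exists_same_coset {K Y : Subgroup G} (h3 : K.relIndex Y = 3) (f : Fin 4 → G) (hf : ∀ i, f i ∈ Y) :
    ∃ i j, i ≠ j ∧ (f i)⁻¹ * f j ∈ K := by
  have h1 : Nat.card (Y ⧸ K.subgroupOf Y) = 3 := h3
  haveI : Fintype (Y ⧸ K.subgroupOf Y) := Fintype.ofFinite _
  have h2 : Fintype.card (Y ⧸ K.subgroupOf Y) < Fintype.card (Fin 4) := by
    rw [← Nat.card_eq_fintype_card, h1]; simp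
  obtain ⟨i, j, hij, he⟩ := Fintype.exists_ne_map_eq_of_card_lt
    (fun i => (QuotientGroup.mk (⟨f i, hf i⟩ : Y) : Y ⧸ K.subgroupOf Y)) h2
  refine ⟨i, j, hij, ?_⟩
  have h4 := QuotientGroup.eq.1 he
  simpa [mem_subgroupOf] using h4

/-- The data attached to a fully normalised moving subgroup. -/
structure Dat (S : Sylow 2 G) (A E : Subgroup G) (z d : G) : Prop where
  oct : Oct E
  le : E ≤ S
  d_mem : d ∈ UU S A
  d_ne : d ≠ 1
  z_mem : z ∈ UU S A
  z_ne : z ≠ 1
  zd : z ≠ d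
  fixd : ∀ n ∈ normalizer (E : Set G), n * d * n⁻¹ = d
  comm : ∀ s ∈ (S : Subgroup G), s ∈ normalizer (E : Set G) → s ∉ centralizer (E : Set G) →
    ∀ e ∈ E, e ∉ UU S A → s * e * s⁻¹ * e⁻¹ = z
  idx : ∀ s ∈ (S : Subgroup G), s ∈ normalizer (E : Set G) → s ∉ centralizer (E : Set G) →
    ∀ t ∈ (S : Subgroup G), t ∈ normalizer (E : Set G) → t ∉ centralizer (E : Set G) →
      s⁻¹ * t ∈ centralizer (E : Set G)
  ex : ∃ n ∈ normalizer (E : Set G),
    n ∈ normalizer ((centralizer (E : Set G) ⊓ S : Subgroup G) : Set G) ∧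
    ∀ u ∈ UU S A, n⁻¹ * u * n ∈ UU S A → u = 1 ∨ u = d

theorem arith {a b : ℕ} (h : a * b ∣ 168) (h7 : ¬ 7 ∣ a * b) (h2 : ¬ 2 ∣ b) (h1 : b ≠ 1) :
    b = 3 ∧ a ∣ 8 := by
  have key : ∀ a ∈ Nat.divisors 168, ∀ b ∈ Nat.divisors 168, a * b ∣ 168 → ¬ 7 ∣ a * b → ¬ 2 ∣ b → b ≠ 1 →
      b = 3 ∧ a ∣ 8 := by decide
  exact key a (Nat.mem_divisors.2 ⟨(dvd_mul_right a b).trans h, by norm_num⟩) b
    (Nat.mem_divisors.2 ⟨(dvd_mul_left b a).trans h, by norm_num⟩) h h7 h2 h1

theorem exists_dat (h : One S A) {E : Subgroup G} (hE : Oct E) (hES : E ≤ S) (hM : Mov S A E)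
    (hF : FN S E) : ∃ z d, Dat S A E z d := by
  haveI : Fact (Nat.Prime 2) := ⟨Nat.prime_two⟩
  obtain ⟨n, hnY, hnU⟩ := hM
  set Y := normalizer (E : Set G) with hY
  set C := centralizer (E : Set G) with hC
  set K : Subgroup G := Y ⊓ normalizer (UU S A : Set G) with hK
  have hUE := h.U_le hE hES
  have hCY : C ≤ Y := centralizer_le_normalizer _
  have hCK : C ≤ K := by
    intro c hc
    refine ⟨hCY hc, mem_norm_of_conj fun u hu => ?_⟩
    rw [conj_eq_of_mem_centralizer hc (hUE hu)]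
    exact hu
  have hRK : (S : Subgroup G) ⊓ Y ≤ K := by
    rintro s ⟨hs, hsY⟩
    refine ⟨hsY, mem_norm_of_conj fun u hu => ?_⟩
    rw [U_conj hu hs]
    exact hu
  have hKY : K ≤ Y := inf_le_left
  have hnK : n ∉ K := fun h1 => hnU h1.2
  -- numbers
  have hodd : ¬ 2 ∣ K.relIndex Y := fun h1 => hF (h1.trans (relIndex_dvd_of_le_left _ hRK))
  have hmul := relIndex_mul_relIndex C K Y hCK hKY
  have h168 := Oct.relIndex_dvd hE
  have h7 := h.no7 E hE
  rw [← hC, ← hY, ← hmul] at h168 h7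
  have hne1 : K.relIndex Y ≠ 1 := by
    intro h1
    rw [relIndex_eq_one] at h1
    exact hnK (h1 hnY)
  obtain ⟨h3, h8⟩ := arith h168 h7 hodd hne1
  -- `K` centralises `U`
  have hKU : K ≤ centralizer (UU S A : Set G) := by
    have h1 : (K ⊓ centralizer (UU S A : Set G)).relIndex K = 1 := by
      have e1 : (K ⊓ centralizer (UU S A : Set G)).relIndex K ∣ C.relIndex K :=
        relIndex_dvd_of_le_left _ (le_inf hCK (centralizer_le (by exact_mod_cast hUE)))
      have e2 : (K ⊓ centralizer (UU S A : Set G)).relIndex K ∣ ((S : Subgroup G) ⊓ Y).relIndex K := by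
        apply relIndex_dvd_of_le_left
        refine le_inf hRK ?_
        rintro s ⟨hs, -⟩
        exact mem_cent_iff.2 fun u hu => (U_comm hu hs).symm
      have e3 : ¬ 2 ∣ ((S : Subgroup G) ⊓ Y).relIndex K :=
        Cfsg.Agent.Lib.EssentialFusion.not_dvd_relIndex_of_le hRK hKY hF
      have e4 : (K ⊓ centralizer (UU S A : Set G)).relIndex K ∣ 2 ^ 3 := by
        have := e1.trans h8
        simpa using this
      obtain ⟨j, -, hj⟩ := (Nat.dvd_prime_pow Nat.prime_two).1 e4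
      rcases Nat.eq_zero_or_pos j with h0 | h0
      · rw [hj, h0, pow_zero]
      · exfalso
        apply e3
        refine dvd_trans ?_ e2
        rw [hj]
        exact dvd_pow_self 2 h0.ne'
    rw [relIndex_eq_one] at h1
    exact h1.trans inf_le_right
  -- `K ∩ K^n = C` for every `n ∉ K`
  have hKK : ∀ n ∈ Y, n ∉ K → ∀ x ∈ K, n⁻¹ * x * n ∈ K → x ∈ C := by
    intro n hnY hnK x hx hx'
    have h1 : ∃ u ∈ UU S A, n * u * n⁻¹ ∉ UU S A := by
      by_contra hcon
      push Not at hcon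
      exact hnK ⟨hnY, mem_norm_of_conj hcon⟩
    obtain ⟨u, hu, hnu⟩ := h1
    rw [hC, mem_cent_iff]
    refine h.comm_of hE hES (mem_norm hnY (hUE hu)) hnu (fun v hv => mem_cent_iff.1 (hKU hx) v hv) ?_
    have h2 := mem_cent_iff.1 (hKU hx') u hu
    calc x * (n * u * n⁻¹) = n * ((n⁻¹ * x * n) * u) * n⁻¹ := by group
      _ = n * (u * (n⁻¹ * x * n)) * n⁻¹ := by rw [h2]
      _ = n * u * n⁻¹ * x := by group
  -- an element acting
  obtain ⟨a, haS, haY, e₁, he₁, hae⟩ := h.exists_act hE hES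
  have haC : a ∉ C := fun h1 => hae (mem_cent_iff.1 h1 e₁ he₁)
  have haK : a ∈ K := hRK ⟨haS, haY⟩
  have hanK : ∀ s ∈ K, s ∉ C → n⁻¹ * s * n ∉ K := fun s hs hsC h1 => hsC (hKK n hnY hnK s hs h1)
  have hcos : ∀ y ∈ Y, y ∈ K ∨ n⁻¹ * y ∈ K ∨ n⁻¹ * a⁻¹ * y ∈ K := by
    intro y hy
    obtain ⟨i, j, hij, hm⟩ := exists_same_coset h3 ![1, n, a * n, y] (by
      intro i; fin_cases i
      · exact one_mem _
      · exact hnY
      · exact mul_mem haY hnY
      · exact hy)
    have hinv : ∀ {p q : G}, p⁻¹ * q ∈ K → q⁻¹ * p ∈ K := by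
      intro p q hpq
      have := inv_mem hpq
      simpa using this
    have q01 : (1 : G)⁻¹ * n ∉ K := by simpa using hnK
    have q02 : (1 : G)⁻¹ * (a * n) ∉ K := by
      intro h1
      apply hnK
      have := mul_mem (inv_mem haK) h1
      simpa using this
    have q12 : n⁻¹ * (a * n) ∉ K := by
      intro h1
      exact hanK a haK haC (by simpa [mul_assoc] using h1)
    fin_cases i <;> fin_cases j <;> simp only [Fin.zero_eta, Fin.mk_one, Fin.reduceFinMk, Matrix.cons_val_zero,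
      Matrix.cons_val_one, Matrix.cons_val, ne_eq, not_true_eq_false] at hij hm
    · exact absurd hm q01
    · exact absurd hm q02
    · left; simpa using hm
    · exact absurd (hinv hm) q01
    · exact absurd hm q12
    · right; left; exact hm
    · exact absurd (hinv hm) q02
    · exact absurd (hinv hm) q12
    · right; right; simpa [mul_assoc] using hm
    · left; simpa using hinv hm
    · right; left; exact hinv hm
    · right; right; simpa [mul_assoc] using hinv hm
  have hidx : ∀ s ∈ K, s ∉ C → ∀ t ∈ K, t ∉ C → s⁻¹ * t ∈ C := by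
    intro s hs hsC t ht htC
    have hsn := hcos (s * n) (mul_mem (hKY hs) hnY)
    have htn := hcos (t * n) (mul_mem (hKY ht) hnY)
    have hr : ∀ r ∈ K, r ∉ C → n⁻¹ * a⁻¹ * (r * n) ∈ K := by
      intro r hr hrC
      rcases hcos (r * n) (mul_mem (hKY hr) hnY) with h1 | h1 | h1
      · exfalso
        apply hnK
        have := mul_mem (inv_mem hr) h1
        simpa using this
      · exfalso
        exact hanK r hr hrC (by simpa [mul_assoc] using h1)
      · exact h1
    have h1 := mul_mem (inv_mem (hr s hs hsC)) (hr t ht htC)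
    have h2 : (n⁻¹ * a⁻¹ * (s * n))⁻¹ * (n⁻¹ * a⁻¹ * (t * n)) = n⁻¹ * (s⁻¹ * t) * n := by group
    rw [h2] at h1
    exact hKK n hnY hnK _ (mul_mem (inv_mem hs) ht) h1
  -- the element `d`
  have hnU' : cj n (UU S A) ≠ UU S A := fun h1 => hnU (cj_eq_iff.1 h1)
  have hUn_le : cj n (UU S A) ≤ E := by
    have h1 : cj n (UU S A) ≤ cj n E := map_conj_mono hUE n
    rwa [cj_eq_iff.2 hnY] at h1
  have hUncard : Nat.card (cj n (UU S A) : Subgroup G) = 4 := by rw [card_cj, h.four]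
  have hVlt : UU S A ⊓ cj n (UU S A) < UU S A := by
    refine lt_of_le_of_ne inf_le_left ?_
    intro h1
    apply hnU'
    exact (Subgroup.eq_of_le_of_card_ge (inf_eq_left.1 h1) (by rw [hUncard, h.four])).symm
  have hVcard : Nat.card (UU S A ⊓ cj n (UU S A) : Subgroup G) = 2 := by
    have h1 : Nat.card (UU S A ⊓ cj n (UU S A) : Subgroup G) < Nat.card (UU S A) :=
      Set.Finite.card_lt_card (Set.toFinite _) hVlt
    have h2 : Nat.card (UU S A ⊓ cj n (UU S A) : Subgroup G) ∣ Nat.card (UU S A) :=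
      card_dvd_of_le inf_le_left
    rw [h.four] at h1 h2
    have h3 : Nat.card (UU S A ⊓ cj n (UU S A) : Subgroup G) ≠ 1 := by
      intro h4
      -- two elements of `U` outside `U^n`
      obtain ⟨u, huU, huV⟩ := SetLike.exists_of_lt hVlt
      have h5 : ∃ v ∈ UU S A, v ≠ 1 ∧ v ≠ u := by
        by_contra hcon
        push Not at hcon
        have h6 : ((UU S A : Subgroup G) : Set G) ⊆ ({1, u} : Set G) := by
          intro v hv
          by_cases hv1 : v = 1
          · simp [hv1]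
          · simp [hcon v hv hv1]
        have h7 := Set.ncard_le_ncard h6 (Set.toFinite _)
        have h8 : ((UU S A : Subgroup G) : Set G).ncard = 4 := h.four
        have h9 := Set.ncard_insert_le (1 : G) {u}
        rw [Set.ncard_singleton] at h9
        omega
      obtain ⟨v, hvU, hv1, hvu⟩ := h5
      have h6 : UU S A ⊓ cj n (UU S A) = ⊥ := Subgroup.card_eq_one.1 h4
      have h7 : ∀ x ∈ UU S A, x ∈ cj n (UU S A) → x = 1 := by
        intro x hx hx'
        have : x ∈ UU S A ⊓ cj n (UU S A) := ⟨hx, hx'⟩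
        rw [h6] at this
        exact mem_bot.1 this
      have h8 : u ∉ cj n (UU S A) := fun h9 => huV ⟨huU, h9⟩
      have h9 : v ∉ cj n (UU S A) := fun h9 => hv1 (h7 v hvU h9)
      have h10 := mul_mem_of_index_two hUn_le (by rw [hE.card, hUncard]) (hUE huU) (hUE hvU) h8 h9
      have h11 := h7 _ (mul_mem huU hvU) h10
      apply hvu
      rw [eq_inv_of_mul_eq_one_right h11]
      exact inv_eq_of_mul_eq_one_left (h.U_sq huU)
    have h4 : Nat.card (UU S A ⊓ cj n (UU S A) : Subgroup G) ≤ 4 := by omega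
    interval_cases hc : Nat.card (UU S A ⊓ cj n (UU S A) : Subgroup G) <;> simp_all
  obtain ⟨d, hdV, hd1⟩ : ∃ d ∈ UU S A ⊓ cj n (UU S A), d ≠ 1 := by
    by_contra hcon
    push Not at hcon
    have h1 : UU S A ⊓ cj n (UU S A) = ⊥ := by
      rw [eq_bot_iff]
      intro x hx
      exact mem_bot.2 (hcon x hx)
    rw [h1] at hVcard
    simp at hVcard
  have hVd : ∀ u ∈ UU S A, n⁻¹ * u * n ∈ UU S A → u = 1 ∨ u = d := fun u hu hu' =>
    card_two_cases hVcard hdV hd1 u ⟨hu, mem_cj.2 hu'⟩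
  have hdU := hdV.1
  have hdn : n⁻¹ * d * n ∈ UU S A := mem_cj.1 hdV.2
  have hall : ∀ w ∈ Y, w⁻¹ * d * w ∈ UU S A := by
    intro w hw
    rcases hcos w hw with h1 | h1 | h1
    · exact mem_norm' h1.2 hdU
    · have h2 := mem_norm' h1.2 hdn
      have h3 : (n⁻¹ * w)⁻¹ * (n⁻¹ * d * n) * (n⁻¹ * w) = w⁻¹ * d * w := by group
      rwa [h3] at h2
    · have h2 := mem_norm' h1.2 hdn
      have h4 : a * d * a⁻¹ = d := U_conj hdU haS
      have h3 : (n⁻¹ * a⁻¹ * w)⁻¹ * (n⁻¹ * d * n) * (n⁻¹ * a⁻¹ * w) = w⁻¹ * (a * d * a⁻¹) * w := by group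
      rwa [h3, h4] at h2
  have hfix : ∀ y ∈ Y, y * d * y⁻¹ = d := by
    intro y hy
    have h1 : y * d * y⁻¹ ∈ UU S A := by
      have := hall y⁻¹ (inv_mem hy)
      simpa using this
    have h2 : n⁻¹ * (y * d * y⁻¹) * n ∈ UU S A := by
      have := hall (y⁻¹ * n) (mul_mem (inv_mem hy) hnY)
      have h3 : (y⁻¹ * n)⁻¹ * d * (y⁻¹ * n) = n⁻¹ * (y * d * y⁻¹) * n := by group
      rwa [h3] at this
    rcases hVd _ h1 h2 with h3 | h3
    · exfalso
      apply hd1
      have h4 : d = y⁻¹ * (y * d * y⁻¹) * y := by group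
      rw [h4, h3]; group
    · exact h3
  -- the element `z`
  have he₁U : e₁ ∉ UU S A := fun h1 => hae (U_comm h1 haS).symm
  set z := a * e₁ * a⁻¹ * e₁⁻¹ with hz
  have hcomm : ∀ s ∈ (S : Subgroup G), s ∈ Y → s ∉ C → ∀ e ∈ E, e ∉ UU S A → s * e * s⁻¹ * e⁻¹ = z := by
    intro s hs hsY hsC e he heU
    have h1 := hidx a haK haC s (hRK ⟨hs, hsY⟩) hsC
    have h2 : s * e * s⁻¹ = a * e * a⁻¹ := by
      have h3 := conj_eq_of_mem_centralizer h1 he
      have h4 : s * e * s⁻¹ = a * ((a⁻¹ * s) * e * (a⁻¹ * s)⁻¹) * a⁻¹ := by group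
      rw [h4, h3]
    rw [h2, hz]
    have h5 := h.two hE hES he₁ he he₁U heU
    have h6 : e = e₁ * (e₁ * e) := by rw [← mul_assoc, hE.sq e₁ he₁, one_mul]
    have h7 := U_conj h5 haS
    calc a * e * a⁻¹ * e⁻¹ = a * (e₁ * (e₁ * e)) * a⁻¹ * (e₁ * (e₁ * e))⁻¹ := by rw [← h6]
      _ = a * e₁ * a⁻¹ * (a * (e₁ * e) * a⁻¹) * (e₁ * e)⁻¹ * e₁⁻¹ := by group
      _ = a * e₁ * a⁻¹ * (e₁ * e) * (e₁ * e)⁻¹ * e₁⁻¹ := by rw [h7]
      _ = a * e₁ * a⁻¹ * e₁⁻¹ := by group
  have hz1 : z ≠ 1 := by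
    intro h1
    apply hae
    have h2 : a * e₁ = z * (e₁ * a) := by rw [hz]; group
    rw [h2, h1, one_mul]
  have hzU : z ∈ UU S A := h.comm_mem hE hES haS haY he₁
  have hzd : z ≠ d := by
    intro h1
    apply hanK a haK haC
    have hmem : n⁻¹ * a * n ∈ Y := mul_mem (mul_mem (inv_mem hnY) haY) hnY
    refine ⟨hmem, mem_norm_of_conj fun u hu => ?_⟩
    have hv : n * u * n⁻¹ ∈ E := mem_norm hnY (hUE hu)
    have e1 : n⁻¹ * a * n * u * (n⁻¹ * a * n)⁻¹ = n⁻¹ * (a * (n * u * n⁻¹) * a⁻¹) * n := by group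
    rw [e1]
    by_cases hvU : n * u * n⁻¹ ∈ UU S A
    · rw [U_conj hvU haS]
      have e2 : n⁻¹ * (n * u * n⁻¹) * n = u := by group
      rw [e2]; exact hu
    · have h2 := hcomm a haS haY haC _ hv hvU
      have h3 : a * (n * u * n⁻¹) * a⁻¹ = d * (n * u * n⁻¹) := by
        rw [← h1, ← h2]; group
      rw [h3]
      have e2 : n⁻¹ * (d * (n * u * n⁻¹)) * n = (n⁻¹ * d * n) * u := by group
      rw [e2]
      exact mul_mem hdn hu
  -- Frattini
  have hex : ∃ n ∈ Y, n ∈ normalizer ((C ⊓ S : Subgroup G) : Set G) ∧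
      ∀ u ∈ UU S A, n⁻¹ * u * n ∈ UU S A → u = 1 ∨ u = d := by
    have hCS : ¬ 2 ∣ (C ⊓ (S : Subgroup G)).relIndex C := not_dvd_relIndex_centralizer S hF
    have hCSp : IsPGroup 2 (C ⊓ (S : Subgroup G) : Subgroup G) := S.isPGroup'.to_le inf_le_right
    have hle : cj n (C ⊓ (S : Subgroup G)) ≤ C := by
      rintro _ ⟨t, ht, rfl⟩
      have h1 : t ∈ C := ht.1
      have h2 : n * t * n⁻¹ ∈ C := by
        rw [hC, ← mem_normalizer_iff_map_conj.1 hnY, mem_centralizer_map_conj]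
        simpa [mul_assoc] using h1
      simpa using h2
    obtain ⟨c, hc, hcle⟩ := exists_conj_le_in (p := 2) hCSp hCS hle (hCSp.map _)
    rw [map_conj_map_conj] at hcle
    refine ⟨c * n, mul_mem (hCY hc) hnY, ?_, ?_⟩
    · rw [mem_normalizer_iff_map_conj]
      exact map_conj_le_of_le_normalizer hcle
    · intro u hu hu'
      apply hVd u hu
      have h1 : (c * n)⁻¹ * u * (c * n) = n⁻¹ * (c⁻¹ * u * c) * n := by group
      have hc' : c⁻¹ ∈ C := C.inv_mem hc
      have h2 : c⁻¹ * u * c = u := by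
        have := conj_eq_of_mem_centralizer (A := E) (c := c⁻¹) hc' (hUE hu)
        simpa using this
      rwa [h1, h2] at hu'
  exact ⟨z, d, hE, hES, hdU, hd1, hzU, hz1, hzd, hfix, hcomm,
    fun s hs hsY hsC t ht htY htC => hidx s (hRK ⟨hs, hsY⟩) hsC t (hRK ⟨ht, htY⟩) htC, hex⟩

end One

end Cfsg.Agent.RankThreeFus
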