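import Cfsg.Agent.RankThreeFus.PartOne
import Cfsg.Agent.Lib.NormalAbelian

/-!
# S1730, branch (B), Part I, second half: the isolated involution
-/

set_option autoImplicit false
set_option linter.style.haveILetI false

namespace Cfsg.Agent.RankThreeFus

open Subgroup Cfsg.Agent.Lib.GoldschmidtFusion Cfsg.Agent.StdL2.G23Aut

variable {G : Type*} [Group G] {S : Sylow 2 G} {A : Subgroup G}

namespace One

variable [Finite G]

/-- The squares of `C_S(E)` lying in `E`. -/
theorem Dat.sq_eq (h : One S A) {E : Subgroup G} {z d : G} (D : Dat S A E z d) {b : G}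
    (hb : b ∈ (S : Subgroup G)) (hbC : b ∉ centralizer (E : Set G))
    (hbx : ∀ x ∈ centralizer (E : Set G) ⊓ (S : Subgroup G), b * x * b⁻¹ * x⁻¹ ∈ E)
    {f : G} (hf : f ∈ centralizer (E : Set G) ⊓ (S : Subgroup G)) (hff : f * f ∈ E) :
    f * f = 1 ∨ f * f = d := by
  have key : ∀ f ∈ centralizer (E : Set G) ⊓ (S : Subgroup G), f * f ∈ E → f * f ∈ UU S A := by
    intro f hf hff
    by_contra hcon
    apply hbC
    rw [mem_cent_iff]
    refine h.comm_of D.oct D.le hff hcon (fun u hu => (U_comm hu hb).symm) ?_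
    have he := hbx f hf
    set e := b * f * b⁻¹ * f⁻¹ with hedef
    have h1 : b * f * b⁻¹ = e * f := by rw [hedef]; group
    have h2 : f * e = e * f := mem_cent_iff.1 hf.1 e he
    have h3 : b * (f * f) * b⁻¹ = f * f := by
      calc b * (f * f) * b⁻¹ = (b * f * b⁻¹) * (b * f * b⁻¹) := by group
        _ = e * (f * e) * f := by rw [h1]; group
        _ = (e * e) * (f * f) := by rw [h2]; group
        _ = f * f := by rw [D.oct.sq e he, one_mul]
    exact conj_eq_iff.1 h3
  obtain ⟨n, hnE, hnC, hn⟩ := D.ex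
  refine hn _ (key f hf hff) ?_
  have h1 : n⁻¹ * f * n ∈ centralizer (E : Set G) ⊓ (S : Subgroup G) := mem_norm' hnC hf
  have h2 : n⁻¹ * (f * f) * n ∈ E := mem_norm' hnE hff
  have h3 : n⁻¹ * (f * f) * n = (n⁻¹ * f * n) * (n⁻¹ * f * n) := by group
  rw [h3] at h2 ⊢
  exact key _ h1 h2

/-- `d` is a square in `C_S(E)`. -/
theorem Dat.exists_sq (h : One S A) {E : Subgroup G} {z d : G} (D : Dat S A E z d) {b : G}
    (hb : b ∈ (S : Subgroup G)) (hbC : b ∉ centralizer (E : Set G))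
    (hbx : ∀ x ∈ centralizer (E : Set G) ⊓ (S : Subgroup G), b * x * b⁻¹ * x⁻¹ ∈ E) :
    ∃ f ∈ centralizer (E : Set G) ⊓ (S : Subgroup G), f * f = d := by
  classical
  obtain ⟨x, hxS, hxc, hxE⟩ := h.nsc E D.le D.oct
  have hxC : x ∈ centralizer (E : Set G) ⊓ (S : Subgroup G) := ⟨mem_cent_iff.2 hxc, hxS⟩
  have hex : ∃ j : ℕ, x ^ 2 ^ j ∈ E := by
    obtain ⟨k, hk⟩ := S.isPGroup' ⟨x, hxS⟩
    refine ⟨k, ?_⟩
    have : x ^ 2 ^ k = 1 := by simpa using congrArg Subtype.val hk
    rw [this]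
    exact one_mem _
  set j := Nat.find hex with hj
  have hjE : x ^ 2 ^ j ∈ E := Nat.find_spec hex
  have hj0 : j ≠ 0 := by
    intro h0
    rw [h0] at hjE
    exact hxE (by simpa using hjE)
  obtain ⟨i, hi⟩ := Nat.exists_eq_succ_of_ne_zero hj0
  have hiE : x ^ 2 ^ i ∉ E := Nat.find_min hex (by omega)
  have hyC : x ^ 2 ^ i ∈ centralizer (E : Set G) ⊓ (S : Subgroup G) := pow_mem hxC _
  have hyy : x ^ 2 ^ i * x ^ 2 ^ i = x ^ 2 ^ j := by
    rw [← pow_add, hi, Nat.succ_eq_add_one, pow_succ]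
    congr 1
    ring
  refine ⟨x ^ 2 ^ i, hyC, ?_⟩
  rcases Dat.sq_eq h D hb hbC hbx hyC (by rw [hyy]; exact hjE) with h1 | h1
  · exact absurd (Oct.mem_of_comm h.rank D.oct h1 (mem_cent_iff.1 hyC.1)) hiE
  · exact h1

/-- Lemma 2: a fully normalised moving `E ≠ A` is normal in `S`. -/
theorem Dat.normal (h : One S A) {E : Subgroup G} {z d : G} (D : Dat S A E z d) (hEA : E ≠ A) :
    (S : Subgroup G) ≤ normalizer (E : Set G) := by
  haveI : Fact (Nat.Prime 2) := ⟨Nat.prime_two⟩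
  by_contra hcon
  set R : Subgroup G := (S : Subgroup G) ⊓ normalizer (E : Set G) with hR
  have hRlt : R < (S : Subgroup G) := by
    refine lt_of_le_of_ne inf_le_left ?_
    intro h1
    exact hcon (inf_eq_left.1 h1)
  obtain ⟨y, ⟨hyS, hyR⟩, hyR'⟩ := SetLike.exists_of_lt (lt_inf_normalizer S.isPGroup' hRlt)
  have hyE : y ∉ normalizer (E : Set G) := fun h1 => hyR' ⟨hyS, h1⟩
  -- an element of `A`
  obtain ⟨b, hbA, hbC⟩ : ∃ b ∈ A, b ∉ centralizer (E : Set G) := by
    by_contra hc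
    push Not at hc
    exact hEA (Oct.eq_of_comm h.rank D.oct h.oct fun e he a ha => (mem_cent_iff.1 (hc a ha) e he).symm)
  have hbS := h.le hbA
  have hbE : b ∈ normalizer (E : Set G) := h.A_le D.oct D.le hbA
  have hUE := h.U_le D.oct D.le
  have hbx : ∀ x ∈ centralizer (E : Set G) ⊓ (S : Subgroup G), b * x * b⁻¹ * x⁻¹ ∈ E := by
    intro x hx
    have h1 := h.comm_mem h.oct h.le hx.2 (h.norm hx.2) hbA
    have h2 : b * x * b⁻¹ * x⁻¹ = (x * b * x⁻¹ * b⁻¹)⁻¹ := by group
    rw [h2]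
    exact inv_mem (hUE h1)
  have hER : E ≤ R := le_inf D.le le_normalizer
  set E' := cj y E with hE'
  have hE'R : E' ≤ R := by
    rintro _ ⟨x, hx, rfl⟩
    simpa using mem_norm hyR (hER hx)
  have hE'O : Oct E' := Oct.cj D.oct y
  have hE'S : E' ≤ S := hE'R.trans inf_le_left
  have hRE' : R ≤ normalizer (E' : Set G) := by
    intro r hr
    rw [← cj_eq_iff, hE', cj_cj]
    have h1 : r * y = y * (y⁻¹ * r * y) := by group
    have h2 : y⁻¹ * r * y ∈ R := mem_norm' hyR hr
    rw [h1, ← cj_cj, cj_eq_iff.2 h2.2]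
  have hidx' : ∀ s ∈ R, s ∉ centralizer (E' : Set G) → ∀ t ∈ R, t ∉ centralizer (E' : Set G) →
      s⁻¹ * t ∈ centralizer (E' : Set G) := by
    intro s hs hsC t ht htC
    rw [hE', mem_centralizer_map_conj] at hsC htC ⊢
    have h1 : y⁻¹ * s * y ∈ R := mem_norm' hyR hs
    have h2 : y⁻¹ * t * y ∈ R := mem_norm' hyR ht
    have h3 := D.idx _ h1.1 h1.2 hsC _ h2.1 h2.2 htC
    have h4 : y⁻¹ * (s⁻¹ * t) * y = (y⁻¹ * s * y)⁻¹ * (y⁻¹ * t * y) := by group
    rw [h4]
    exact h3
  have hne : E ≠ E' := fun h1 => hyE (cj_eq_iff.1 h1.symm)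
  obtain ⟨e, he, t, ht, het⟩ : ∃ e ∈ E, ∃ t ∈ E', e * t ≠ t * e := by
    by_contra hc
    push Not at hc
    exact hne (Oct.eq_of_comm h.rank D.oct hE'O hc)
  have htC : t ∉ centralizer (E : Set G) := fun h1 => het (mem_cent_iff.1 h1 e he).symm
  have heC : e ∉ centralizer (E' : Set G) := fun h1 => het (mem_cent_iff.1 h1 t ht)
  have htR := hE'R ht
  have heR := hER he
  have heU : e ∉ UU S A := fun h1 => het (U_comm h1 htR.1)
  have hEC : E ≤ centralizer (E : Set G) := fun x hx => mem_cent_iff.2 fun y hy => D.oct.comm hx hy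
  have hinvol : ∀ x ∈ R, x ∉ centralizer (E : Set G) → x * x = 1 → x ∈ E' := by
    intro x hx hxC hxx
    set c := t⁻¹ * x with hc
    have hcC : c ∈ centralizer (E : Set G) := D.idx t htR.1 htR.2 htC x hx.1 hx.2 hxC
    have hcR : c ∈ R := mul_mem (inv_mem htR) hx
    have hxe : x = t * c := by rw [hc]; group
    have htt : t * t = 1 := hE'O.sq t ht
    by_cases hcE' : c ∈ centralizer (E' : Set G)
    · have hct : c * t = t * c := mem_cent_iff.1 hcE' t ht
      have h1 : c * c = 1 := by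
        calc c * c = (t * t) * (c * c) := by rw [htt, one_mul]
          _ = t * (t * c) * c := by group
          _ = t * (c * t) * c := by rw [hct]
          _ = (t * c) * (t * c) := by group
          _ = 1 := by rw [← hxe, hxx]
      have h2 : c ∈ E' := Oct.mem_of_comm h.rank hE'O h1 (mem_cent_iff.1 hcE')
      rw [hxe]
      exact mul_mem ht h2
    · exfalso
      set δ := e⁻¹ * c with hδ
      have hδE' : δ ∈ centralizer (E' : Set G) := hidx' e heR heC c hcR hcE'
      have hδE : δ ∈ centralizer (E : Set G) := mul_mem (inv_mem (hEC he)) hcC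
      have hδS : δ ∈ (S : Subgroup G) := mul_mem (inv_mem heR.1) hcR.1
      have hce : c = e * δ := by rw [hδ]; group
      have h1 : δ * t = t * δ := mem_cent_iff.1 hδE' t ht
      have h2 : δ * e = e * δ := mem_cent_iff.1 hδE e he
      have h3 := D.comm t htR.1 htR.2 htC e he heU
      rw [hE'O.inv ht, D.oct.inv he] at h3
      have h4 : z * (δ * δ) = 1 := by
        calc z * (δ * δ) = t * e * t * e * δ * δ := by rw [← h3]; group
          _ = t * e * t * (e * δ) * δ := by group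
          _ = t * e * (t * δ) * e * δ := by rw [← h2]; group
          _ = t * (e * δ) * t * e * δ := by rw [← h1]; group
          _ = (t * c) * (t * c) := by rw [hce]; group
          _ = 1 := by rw [← hxe, hxx]
      have h5 : δ * δ = z := by
        rw [eq_comm, ← inv_inj, eq_comm] 
        have h6 := eq_inv_of_mul_eq_one_right h4
        rw [h6, inv_inv]
        exact (inv_eq_of_mul_eq_one_left (h.U_sq D.z_mem)).symm
      rcases Dat.sq_eq h D hbS hbC hbx (f := δ) ⟨hδE, hδS⟩ (by rw [h5]; exact hUE D.z_mem) with h6 | h6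
      · exact D.z_ne (by rw [← h5, h6])
      · exact D.zd (by rw [← h5, h6])
  have hbE' : b ∈ E' := hinvol b ⟨hbS, hbE⟩ hbC (h.oct.sq b hbA)
  have hbU : b ∉ UU S A := fun h1 => hbC (mem_cent_iff.2 fun e he => U_comm h1 (D.le he))
  have hAE' : A = E' := h.eq_of_mem h.oct h.le hE'O hE'S hbA hbE' hbU
  apply hEA
  have h1 : cj y⁻¹ E' = E := cj_inv_eq hE'.symm
  rw [← hAE', cj_eq_iff.2 (inv_mem (h.norm hyS))] at h1
  exact h1.symm

theorem Dat.norm (h : One S A) {E : Subgroup G} {z d : G} (D : Dat S A E z d) :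
    (S : Subgroup G) ≤ normalizer (E : Set G) := by
  by_cases hEA : E = A
  · rw [hEA]; exact h.norm
  · exact Dat.normal h D hEA

theorem Dat.unique (h : One S A) {E E' : Subgroup G} {z d z' d' : G} (D : Dat S A E z d)
    (D' : Dat S A E' z' d') : z = z' ∧ d = d' := by
  by_cases hEE : E = E'
  · subst hEE
    constructor
    · obtain ⟨s, hs, hsE, e, he, hse⟩ := h.exists_act D.oct D.le
      have hsC : s ∉ centralizer (E : Set G) := fun h1 => hse (mem_cent_iff.1 h1 e he)
      have heU : e ∉ UU S A := fun h1 => hse (U_comm h1 hs).symm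
      rw [← D.comm s hs hsE hsC e he heU, D'.comm s hs hsE hsC e he heU]
    · obtain ⟨n, hnE, -, hn⟩ := D.ex
      have h1 : n⁻¹ * d' * n = d' := by
        have := D'.fixd n⁻¹ (inv_mem hnE)
        simpa using this
      rcases hn d' D'.d_mem (by rw [h1]; exact D'.d_mem) with h2 | h2
      · exact absurd h2 D'.d_ne
      · exact h2.symm
  · have hSE := Dat.norm h D
    have hSE' := Dat.norm h D'
    obtain ⟨e, he, t, ht, het⟩ : ∃ e ∈ E, ∃ t ∈ E', e * t ≠ t * e := by
      by_contra hc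
      push Not at hc
      exact hEE (Oct.eq_of_comm h.rank D.oct D'.oct hc)
    have htC : t ∉ centralizer (E : Set G) := fun h1 => het (mem_cent_iff.1 h1 e he).symm
    have heC : e ∉ centralizer (E' : Set G) := fun h1 => het (mem_cent_iff.1 h1 t ht)
    have htS := D'.le ht
    have heS := D.le he
    have heU : e ∉ UU S A := fun h1 => het (U_comm h1 htS)
    have htU : t ∉ UU S A := fun h1 => het (U_comm h1 heS).symm
    have h1 := D.comm t htS (hSE htS) htC e he heU
    have h2 := D'.comm e heS (hSE' heS) heC t ht htU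
    have hzz : z = z' := by
      have h3 : z' = z⁻¹ := by rw [← h1, ← h2]; group
      rw [h3]
      exact (inv_eq_of_mul_eq_one_left (h.U_sq D.z_mem)).symm
    refine ⟨hzz, ?_⟩
    -- general: `t` centralises `C_S(E)/E`
    have key : ∀ {E E' : Subgroup G} {z d z' d' : G}, Dat S A E z d → Dat S A E' z' d' → ∀ t ∈ E',
        ∀ x ∈ centralizer (E : Set G) ⊓ (S : Subgroup G), t * x * t⁻¹ * x⁻¹ ∈ E := by
      intro E E' z d z' d' D D' t ht x hx
      have hSE := Dat.norm h D
      have hSE' := Dat.norm h D'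
      have e1 : t * x * t⁻¹ * x⁻¹ ∈ E' := by
        have h3 := mul_mem ht (mem_norm (hSE' hx.2) (inv_mem ht))
        have h4 : t * (x * t⁻¹ * x⁻¹) = t * x * t⁻¹ * x⁻¹ := by group
        rwa [h4] at h3
      have e2 : t * x * t⁻¹ * x⁻¹ ∈ centralizer (E : Set G) := by
        have h3 : t * x * t⁻¹ ∈ centralizer (E : Set G) := by
          rw [← cj_eq_iff.2 (hSE (D'.le ht)), mem_centralizer_map_conj]
          have h4 : t⁻¹ * (t * x * t⁻¹) * t = x := by group
          rw [h4]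
          exact hx.1
        have h5 : x⁻¹ ∈ centralizer (E : Set G) := (centralizer (E : Set G)).inv_mem hx.1
        exact mul_mem h3 h5
      exact Oct.mem_of_comm h.rank D.oct (D'.oct.sq _ e1) (mem_cent_iff.1 e2)
    obtain ⟨f, hf, hff⟩ := Dat.exists_sq h D htS htC (key D D' t ht)
    have hUE' := h.U_le D'.oct D'.le
    have fin : ∀ g ∈ centralizer (E' : Set G) ⊓ (S : Subgroup G), g * g = d → d = d' := by
      intro g hg hgg
      rcases Dat.sq_eq h D' heS heC (key D' D e he) hg (by rw [hgg]; exact hUE' D.d_mem) with h3 | h3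
      · exact absurd (hgg.symm.trans h3) D.d_ne
      · rw [← hgg, h3]
    by_cases hfE' : f ∈ centralizer (E' : Set G)
    · exact fin f ⟨hfE', hf.2⟩ hff
    · have h3 := D'.idx e heS (hSE' heS) heC f hf.2 (hSE' hf.2) hfE'
      have h5 : e⁻¹ * f ∈ (S : Subgroup G) := mul_mem (inv_mem heS) hf.2
      refine fin (e⁻¹ * f) ⟨h3, h5⟩ ?_
      have h4 : f * e = e * f := mem_cent_iff.1 hf.1 e he
      rw [D.oct.inv he]
      calc e * f * (e * f) = e * (f * e) * f := by group
        _ = (e * e) * (f * f) := by rw [h4]; group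
        _ = d := by rw [D.oct.sq e he, one_mul, hff]

theorem Dat.conj (h : One S A) {E : Subgroup G} {z d : G} (D : Dat S A E z d) {n : G}
    (hn : n ∈ normalizer ((S : Subgroup G) : Set G)) :
    Dat S A (cj n E) (n * z * n⁻¹) (n * d * n⁻¹) := by
  have hnU := h.norm_S hn
  have hN : ∀ {m : G}, m ∈ normalizer ((cj n E : Subgroup G) : Set G) → n⁻¹ * m * n ∈ normalizer (E : Set G) := by
    intro m hm
    rw [← cj_eq_iff] at hm ⊢
    have h1 : n⁻¹ * m * n = n⁻¹ * (m * n) := by group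
    rw [h1, ← cj_cj, ← cj_cj, hm, cj_cj, inv_mul_cancel, cj_one]
  have hN' : ∀ {m : G}, m ∈ normalizer (E : Set G) → n * m * n⁻¹ ∈ normalizer ((cj n E : Subgroup G) : Set G) := by
    intro m hm
    rw [← cj_eq_iff] at hm ⊢
    have h1 : n * m * n⁻¹ * n = n * m := by group
    rw [cj_cj, h1, ← cj_cj, hm]
  have hU1 : ∀ {e : G}, e ∉ UU S A → n⁻¹ * e * n ∉ UU S A := by
    intro e he h1
    apply he
    have := mem_norm hnU h1
    have h2 : n * (n⁻¹ * e * n) * n⁻¹ = e := by group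
    rwa [h2] at this
  refine ⟨Oct.cj D.oct n, ?_, mem_norm hnU D.d_mem, ?_, mem_norm hnU D.z_mem, ?_, ?_, ?_, ?_, ?_, ?_⟩
  · rintro _ ⟨x, hx, rfl⟩
    simpa using mem_norm hn (D.le hx)
  · intro h1
    exact D.d_ne (conj_eq_one_iff.1 h1)
  · intro h1
    exact D.z_ne (conj_eq_one_iff.1 h1)
  · intro h1
    exact D.zd (by simpa using h1)
  · intro m hm
    have h1 := D.fixd _ (hN hm)
    calc m * (n * d * n⁻¹) * m⁻¹ = n * ((n⁻¹ * m * n) * d * (n⁻¹ * m * n)⁻¹) * n⁻¹ := by group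
      _ = n * d * n⁻¹ := by rw [h1]
  · intro s hs hsN hsC e he heU
    rw [mem_centralizer_map_conj] at hsC
    have h1 := D.comm (n⁻¹ * s * n) (mem_norm' hn hs) (hN hsN) hsC (n⁻¹ * e * n) (mem_cj.1 he) (hU1 heU)
    rw [← h1]
    group
  · intro s hs hsN hsC t ht htN htC
    rw [mem_centralizer_map_conj] at hsC htC ⊢
    have h1 := D.idx _ (mem_norm' hn hs) (hN hsN) hsC _ (mem_norm' hn ht) (hN htN) htC
    have h2 : n⁻¹ * (s⁻¹ * t) * n = (n⁻¹ * s * n)⁻¹ * (n⁻¹ * t * n) := by group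
    rw [h2]
    exact h1
  · obtain ⟨m, hm, hmC, hmU⟩ := D.ex
    refine ⟨n * m * n⁻¹, hN' hm, ?_, ?_⟩
    · apply mem_norm_of_conj
      rintro x ⟨hx, hxS⟩
      have h0 : x ∈ centralizer ((cj n E : Subgroup G) : Set G) := hx
      rw [mem_centralizer_map_conj] at h0
      have h1 : n⁻¹ * x * n ∈ centralizer (E : Set G) ⊓ (S : Subgroup G) := ⟨h0, mem_norm' hn hxS⟩
      have h2 := mem_norm hmC h1
      have h3 : n * m * n⁻¹ * x * (n * m * n⁻¹)⁻¹ = n * (m * (n⁻¹ * x * n) * m⁻¹) * n⁻¹ := by group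
      rw [h3]
      refine ⟨?_, mem_norm hn h2.2⟩
      have h4 : n * (m * (n⁻¹ * x * n) * m⁻¹) * n⁻¹ ∈ centralizer ((cj n E : Subgroup G) : Set G) := by
        rw [mem_centralizer_map_conj]
        have h5 : n⁻¹ * (n * (m * (n⁻¹ * x * n) * m⁻¹) * n⁻¹) * n = m * (n⁻¹ * x * n) * m⁻¹ := by group
        rw [h5]
        exact h2.1
      exact h4
    · intro u hu hu'
      have h1 : n⁻¹ * u * n ∈ UU S A := mem_norm' hnU hu
      have h2 : m⁻¹ * (n⁻¹ * u * n) * m ∈ UU S A := by
        have h3 := mem_norm' hnU hu'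
        have h4 : n⁻¹ * ((n * m * n⁻¹)⁻¹ * u * (n * m * n⁻¹)) * n = m⁻¹ * (n⁻¹ * u * n) * m := by group
        rwa [h4] at h3
      rcases hmU _ h1 h2 with h3 | h3
      · left
        have h4 : u = n * (n⁻¹ * u * n) * n⁻¹ := by group
        rw [h4, h3]; group
      · right
        rw [← h3]; group

/-- `U = {1, z, d, zd}`. -/
theorem Dat.U_cases (h : One S A) {E : Subgroup G} {z d : G} (D : Dat S A E z d) {u : G}
    (hu : u ∈ UU S A) : u = 1 ∨ u = d ∨ u = z ∨ u = z * d := by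
  have hdd := h.U_sq D.d_mem
  have hle : zpowers d ≤ UU S A := by rw [zpowers_le]; exact D.d_mem
  have hcard : Nat.card (zpowers d) = 2 := by
    rw [Nat.card_zpowers]
    exact orderOf_eq_prime (by rw [pow_two, hdd]) D.d_ne
  have hz : z ∉ zpowers d := by
    intro h1
    rcases zpowers_cases hdd z h1 with h2 | h2
    · exact D.z_ne h2
    · exact D.zd h2
  by_cases hud : u ∈ zpowers d
  · rcases zpowers_cases hdd u hud with h2 | h2
    · exact Or.inl h2
    · exact Or.inr (Or.inl h2)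
  · have h1 := mul_mem_of_index_two hle (by rw [h.four, hcard]) D.z_mem hu hz hud
    have h2 : u = z * (z * u) := by rw [← mul_assoc, h.U_sq D.z_mem, one_mul]
    rcases zpowers_cases hdd _ h1 with h3 | h3
    · rw [h3, mul_one] at h2
      exact Or.inr (Or.inr (Or.inl h2))
    · rw [h3] at h2
      exact Or.inr (Or.inr (Or.inr h2))

/-- No fusion inside `U`. -/
theorem Dat.burnside (h : One S A) {E : Subgroup G} {z d : G} (D : Dat S A E z d) {g u : G}
    (hu : u ∈ UU S A) (hgu : g * u * g⁻¹ ∈ UU S A) : g * u * g⁻¹ = u := by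
  haveI : Fact (Nat.Prime 2) := ⟨Nat.prime_two⟩
  have hN : ∀ n ∈ normalizer ((S : Subgroup G) : Set G), ∀ u ∈ UU S A, n * u * n⁻¹ = u := by
    intro n hn u hu
    obtain ⟨hz, hd⟩ := Dat.unique h D (Dat.conj h D hn)
    rcases Dat.U_cases h D hu with rfl | rfl | rfl | rfl
    · group
    · exact hd.symm
    · exact hz.symm
    · calc n * (z * d) * n⁻¹ = (n * z * n⁻¹) * (n * d * n⁻¹) := by group
        _ = z * d := by rw [← hz, ← hd]
  have h1 := hgu.2
  have h2 : g⁻¹⁻¹ * u * g⁻¹ ∈ centralizer ((S : Subgroup G) : Set G) := by simpa using h1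
  obtain ⟨n, hn, hne⟩ := Sylow.conj_eq_normalizer_conj_of_mem_centralizer S u g⁻¹ hu.2 h2
  have h3 := hN n⁻¹ (inv_mem hn) u hu
  rw [inv_inv] at hne h3
  rw [hne, h3]

/-- **Part I**: `Ω₁(Z(S))` has order different from 4. -/
theorem false (h : One S A) : False := by
  haveI : Fact (Nat.Prime 2) := ⟨Nat.prime_two⟩
  obtain ⟨E₀, hE₀, hE₀S, hM₀⟩ := h.exists_mov
  obtain ⟨g₀, -, hg₀S, hM, hF⟩ := h.exists_fn hE₀ hE₀S hM₀
  obtain ⟨z, d, D⟩ := h.exists_dat (Oct.cj hE₀ g₀) hg₀S hM hF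
  -- the normaliser of `E` fixes `d` for every `E`
  have key : ∀ E : Subgroup G, Oct E → E ≤ S → Mov S A E → ∀ n ∈ normalizer (E : Set G), n * d * n⁻¹ = d := by
    intro E hE hES hME n hn
    obtain ⟨g, hgU, hgS, hM, hF⟩ := h.exists_fn hE hES hME
    obtain ⟨z', d', D'⟩ := h.exists_dat (Oct.cj hE g) hgS hM hF
    obtain ⟨-, hd⟩ := Dat.unique h D D'
    subst hd
    have h1 : g * d * g⁻¹ = d := Dat.burnside h D D.d_mem (mem_norm hgU D.d_mem)
    have h2 : g * n * g⁻¹ ∈ normalizer ((cj g E : Subgroup G) : Set G) := by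
      rw [← cj_eq_iff] at hn ⊢
      have h1 : g * n * g⁻¹ * g = g * n := by group
      rw [cj_cj, h1, ← cj_cj, hn]
    have h3 := D'.fixd _ h2
    have h4 : g⁻¹ * d * g = d := by
      have h5 : g⁻¹ * (g * d * g⁻¹) * g = d := by group
      rwa [h1] at h5
    calc n * d * n⁻¹ = n * (g⁻¹ * d * g) * n⁻¹ := by rw [h4]
      _ = g⁻¹ * (g * n * g⁻¹ * d * (g * n * g⁻¹)⁻¹) * g := by group
      _ = d := by rw [h3, h4]
  obtain ⟨g, hg, hgd⟩ := h.noIso d (h.U_le_S D.d_mem) D.d_ne (h.U_sq D.d_mem)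
  apply hgd
  have h1 : (zpowers d).map (MulAut.conj g).toMonoidHom ≤ (S : Subgroup G) := zpowers_map_conj_le hg
  have hcen : ∀ m : G, m * d * m⁻¹ = d → m ∈ centralizer ({d} : Set G) := by
    intro m hm
    rw [mem_centralizer_singleton_iff]
    exact (conj_eq_iff.1 hm)
  have hcen' : ∀ m : G, m ∈ centralizer ({d} : Set G) → m * d * m⁻¹ = d := by
    intro m hm
    rw [mem_centralizer_singleton_iff] at hm
    exact conj_eq_iff.2 hm
  have h2 := gen_of_conj S (fun X => normalizer (X : Set G) ≤ centralizer ({d} : Set G)) ?_ ?_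
    (by rw [zpowers_le]; exact h.U_le_S D.d_mem) h1
  · obtain ⟨m, hm, c, hc, rfl⟩ := h2.exists_mul (M := centralizer ({d} : Set G)) (fun X _ hX => hX)
    have h3 : c * d * c⁻¹ = d := conj_eq_of_mem_centralizer hc (mem_zpowers d)
    have h4 : m * c * d * (m * c)⁻¹ = m * (c * d * c⁻¹) * m⁻¹ := by group
    rw [h4, h3]
    exact hcen' m hm
  · intro n hn
    exact hcen n (Dat.burnside h D D.d_mem (mem_norm (h.norm_S hn) D.d_mem))
  · intro X hXS _ hcX _ n hn
    apply hcen
    by_cases hnd : n * d * n⁻¹ ∈ UU S A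
    · exact Dat.burnside h D D.d_mem hnd
    · obtain ⟨E, hE, hES, hnE, hME⟩ := h.mov_of_centric hXS.le hcX hn D.d_mem hnd
      exact key E hE hES hME n hnE

end One

/-- `Ω₁(Z(S))` is not `A`. -/
theorem Hyp.U_ne [Finite G] (h : Hyp S A) : Nat.card (UU S A) ≠ 8 := by
  intro h8
  have h1 : UU S A = A := Subgroup.eq_of_le_of_card_ge inf_le_left (by rw [h8, h.oct.card])
  have hc : ∀ a ∈ A, ∀ s ∈ (S : Subgroup G), a * s = s * a := by
    intro a ha
    rw [← h1] at ha
    exact fun s hs => U_comm ha hs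
  have h2 : A = ⊥ := by
    apply h.noSC
    · intro x hx y hy
      exact h.oct.comm hx hy
    · refine ⟨h.le, fun a ha g hg => ?_⟩
      refine Oct.mem_of_comm h.rank h.oct ?_ fun e he => (hc e he _ hg).symm
      have e1 : g * a * g⁻¹ * (g * a * g⁻¹) = g * (a * a) * g⁻¹ := by group
      rw [e1, h.oct.sq a ha]; group
  have h3 := h.oct.card
  rw [h2] at h3
  simp at h3

/-- **Part I**: `Ω₁(Z(S))` has order two. -/
theorem Hyp.card_U [Finite G] (h : Hyp S A) : Nat.card (UU S A) = 2 := by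
  haveI : Fact (Nat.Prime 2) := ⟨Nat.prime_two⟩
  have h1 : Nat.card (UU S A) ∣ 2 ^ 3 := by
    have := card_dvd_of_le (inf_le_left : UU S A ≤ A)
    rw [h.oct.card] at this
    simpa using this
  obtain ⟨k, hk, hk'⟩ := (Nat.dvd_prime_pow Nat.prime_two).1 h1
  have h4 : Nat.card (UU S A) ≠ 4 := fun h4 => One.false ⟨h, h4⟩
  have h8 := h.U_ne
  have h0 : Nat.card (UU S A) ≠ 1 := by
    intro h0
    -- `S` acts on `A` with a nontrivial fixed point
    have hS : IsPGroup 2 (S : Subgroup G) := S.isPGroup'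
    let N : Subgroup (S : Subgroup G) := A.subgroupOf S
    haveI : N.Normal := (normal_subgroupOf_iff_le_normalizer h.le).2 h.norm
    haveI : Group.IsNilpotent (S : Subgroup G) := hS.isNilpotent
    have hN : N ≠ ⊥ := by
      intro h3
      have h5 := Nat.card_congr (subgroupOfEquivOfLe h.le).toEquiv
      rw [h.oct.card] at h5
      change Nat.card N = 8 at h5
      rw [h3] at h5
      simp at h5
    have h3 := Cfsg.Agent.Lib.NormalAbelian.normal_inf_center_ne_bot N hN
    obtain ⟨x, hx, hx1⟩ : ∃ x ∈ N ⊓ center (S : Subgroup G), x ≠ 1 := by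
      by_contra hcon
      push Not at hcon
      apply h3
      rw [eq_bot_iff]
      intro x hx
      exact mem_bot.2 (hcon x hx)
    have hxU : (x : G) ∈ UU S A := by
      refine ⟨hx.1, mem_cent_iff.2 fun s hs => ?_⟩
      have := (mem_center_iff.1 hx.2) ⟨s, hs⟩
      exact (congrArg Subtype.val this).symm
    have h2 : UU S A = ⊥ := Subgroup.card_eq_one.1 h0
    rw [h2, mem_bot] at hxU
    exact hx1 (Subtype.ext hxU)
  interval_cases k
  · exact absurd hk' h0
  · simpa using hk'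
  · exact absurd hk' h4
  · exact absurd hk' h8

/-- The unique involution of `Z(S)`. -/
theorem Hyp.exists_z [Finite G] (h : Hyp S A) : ∃ z ∈ UU S A, z ≠ 1 ∧ ∀ u ∈ UU S A, u = 1 ∨ u = z := by
  have h2 := h.card_U
  obtain ⟨z, hz, hz1⟩ : ∃ z ∈ UU S A, z ≠ 1 := by
    by_contra hcon
    push Not at hcon
    have h1 : UU S A = ⊥ := by
      rw [eq_bot_iff]
      intro x hx
      exact mem_bot.2 (hcon x hx)
    rw [h1] at h2
    simp at h2
  exact ⟨z, hz, hz1, One.card_two_cases h2 hz hz1⟩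

end Cfsg.Agent.RankThreeFus
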