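import Cfsg.Agent.RankThreeFus.LemTwo

/-!
# S1730, branch (B), (II.1)

If `⟨z⟩ = Ω₁(Z(S))` and `F` is essential with `N_G(F) ≤ C_G(z)` then `A ≤ F`.
-/

set_option autoImplicit false
set_option linter.style.haveILetI false

namespace Cfsg.Agent.RankThreeFus

open Subgroup Cfsg.Agent.Lib.GoldschmidtFusion Cfsg.Agent.Lib.EssentialFusion Cfsg.Agent.StdL2.G23Aut

variable {G : Type*} [Group G] [Finite G]

omit [Finite G] in
theorem of_four {X : Subgroup G} {z w : G} (hX : ∀ x ∈ X, x = 1 ∨ x = z ∨ x = w ∨ x = z * w) {P : G → Prop}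
    (h1 : P 1) (hz : P z) (hw : P w) (hzw : P (z * w)) : ∀ x ∈ X, P x := by
  intro x hx
  rcases hX x hx with rfl | rfl | rfl | rfl <;> assumption

/-- The situation of (II.1): `A` not in `F`. -/
theorem exists_a {S : Sylow 2 G} {A : Subgroup G} (h : Hyp S A) {F : Subgroup G} (hF : Ess S F) (hAF : ¬ A ≤ F) :
    ∃ a ∈ A, a ∈ normalizer (F : Set G) ∧ a ∉ F := by
  have hFS := hF.lt.le
  have hFA : F < F ⊔ A := lt_of_le_of_ne le_sup_left fun e => hAF (by rw [e]; exact le_sup_right)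
  have hle : F ⊔ A ≤ S := sup_le hFS h.le
  obtain ⟨y, hy, hyF⟩ := SetLike.exists_of_lt (lt_inf_normalizer (S.isPGroup'.to_le hle) hFA)
  have hy1 : y ∈ ((F ⊔ A : Subgroup G) : Set G) := hy.1
  rw [coe_mul_of_left_le_normalizer_right _ _ (hFS.trans h.norm)] at hy1
  obtain ⟨f, hf, a, ha, rfl⟩ := Set.mem_mul.1 hy1
  refine ⟨a, ha, ?_, fun h' => hyF (mul_mem hf h')⟩
  have := mul_mem (inv_mem (le_normalizer hf)) hy.2
  simpa using this

/-- **(II.1)** -/
theorem le_of_fix {S : Sylow 2 G} {A : Subgroup G} (h : Hyp S A) {z : G} (hzS : z ∈ (S : Subgroup G))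
    (hz1 : z ≠ 1) (hz2 : z * z = 1) (hzc : ∀ s ∈ (S : Subgroup G), z * s = s * z)
    (huniq : ∀ w ∈ (S : Subgroup G), w * w = 1 → (∀ s ∈ (S : Subgroup G), w * s = s * w) → w = 1 ∨ w = z)
    {F : Subgroup G} (hF : Ess S F) (hfix : ∀ n ∈ normalizer (F : Set G), n * z * n⁻¹ = z) : A ≤ F := by
  by_contra hAF
  have hFS := hF.lt.le
  have hFp : IsPGroup 2 F := S.isPGroup'.to_le hFS
  obtain ⟨a, haA, haN, haF⟩ := exists_a h hF hAF
  have haS := h.le haA
  have ha2 : a * a = 1 := h.oct.sq a haA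
  have hzA : z ∈ A := Oct.mem_of_comm h.rank h.oct hz2 fun e he => hzc e (h.le he)
  have hzF : z ∈ F := hF.centric ⟨mem_cent_iff.2 fun x hx => hzc x (hFS hx), hzS⟩
  have hFa : ∀ x ∈ F, a * x * a⁻¹ * x⁻¹ ∈ A ⊓ F := by
    intro x hx
    refine mem_inf.2 ⟨?_, ?_⟩
    · have h1 : a * x * a⁻¹ * x⁻¹ = a * (x * a⁻¹ * x⁻¹) := by group
      rw [h1]
      exact mul_mem haA (mem_norm (h.norm (hFS hx)) (inv_mem haA))
    · exact mul_mem (mem_norm haN hx) (inv_mem hx)
  have hzinv : z⁻¹ = z := inv_eq_of_mul_eq_one_left hz2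
  -- an element `w` of `A ∩ F`, not in `⟨z⟩`
  obtain ⟨w, hw, hw1, hwz⟩ : ∃ w ∈ A ⊓ F, w ≠ 1 ∧ w ≠ z := by
    by_contra hcon
    push Not at hcon
    have hW : ∀ w ∈ A ⊓ F, w ∈ zpowers z := by
      intro w hw
      rw [mem_zp hz2]
      by_cases h1 : w = 1
      · exact Or.inl h1
      · exact Or.inr (hcon w hw h1)
    apply haF
    refine hF.mem_of_chain (fun i => if i = 0 then F else if i = 1 then zpowers z else ⊥) 2
      (by simp) (by simp) ?_ ?_ haS haN ?_
    · intro i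
      rcases i with _ | _ | i
      · simpa using hzF
      · simp
      · simp
    · intro i
      rcases i with _ | _ | i
      · simp
      · simp only [Nat.reduceAdd, one_ne_zero, ↓reduceIte]
        rw [le_normalizer_iff]
        intro n hn e he
        rcases zpowers_cases hz2 e he with rfl | rfl
        · simp
        · rw [hfix n hn]; exact mem_zpowers _
      · have e1 : (if i + 1 + 1 = 0 then F else if i + 1 + 1 = 1 then zpowers z else ⊥) = (⊥ : Subgroup G) := by simp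
        change normalizer (F : Set G) ≤ normalizer ((if i + 1 + 1 = 0 then F else if i + 1 + 1 = 1 then
          zpowers z else ⊥ : Subgroup G) : Set G)
        rw [e1, le_normalizer_iff]
        intro n _ e he
        rw [mem_bot] at he ⊢
        rw [he]; group
    · intro i e he
      rcases i with _ | _ | i
      · simpa using hW _ (hFa e (by simpa using he))
      · have he' : e ∈ zpowers z := by simpa using he
        rcases zpowers_cases hz2 e he' with rfl | rfl
        · simp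
        · simp [hfix a haN]
      · have he' : e = 1 := by simpa using he
        simp [he']
  have hwA : w ∈ A := hw.1
  have hwF : w ∈ F := hw.2
  have hw2 : w * w = 1 := h.oct.sq w hwA
  have hwinv : w⁻¹ = w := inv_eq_of_mul_eq_one_left hw2
  have hzw : z * w = w * z := h.oct.comm hzA hwA
  set W : Subgroup G := Cfsg.Agent.GTwoFour.OuterSyl.four z w hz2 hw2 hzw with hWdef
  have hWmem : ∀ x, x ∈ W ↔ x = 1 ∨ x = z ∨ x = w ∨ x = z * w := fun x =>
    Cfsg.Agent.GTwoFour.OuterSyl.mem_four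
  have hW4 : Nat.card W = 4 := Cfsg.Agent.GTwoFour.OuterSyl.card_four hz1 hw1 (Ne.symm hwz)
  have hWA : W ≤ A := of_four (fun x hx => (hWmem x).1 hx) (one_mem _) hzA hwA (mul_mem hzA hwA)
  have hWF : W ≤ F := of_four (fun x hx => (hWmem x).1 hx) (one_mem _) hzF hwF (mul_mem hzF hwF)
  have hzW : z ∈ W := (hWmem z).2 (Or.inr (Or.inl rfl))
  have hwW : w ∈ W := (hWmem w).2 (Or.inr (Or.inr (Or.inl rfl)))
  have hWeq : A ⊓ F = W := by
    symm
    apply Subgroup.eq_of_le_of_card_ge (le_inf hWA hWF)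
    have h1 : A ⊓ F < A := lt_of_le_of_ne inf_le_left fun e => haF (by rw [← e] at haA; exact haA.2)
    have h2 := relIndex_mul_card' h1.le
    have h3 : (A ⊓ F).relIndex A ≠ 1 := by
      intro h4
      exact h1.not_ge (relIndex_eq_one.1 h4)
    have h4 : (A ⊓ F).relIndex A ≠ 0 := by
      intro h0
      rw [h0, zero_mul] at h2
      exact (Nat.card_pos (α := A)).ne h2
    rw [h.oct.card] at h2
    rw [hW4]
    have h5 : 2 ≤ (A ⊓ F).relIndex A := by omega
    nlinarith [Nat.mul_le_mul_right (Nat.card (A ⊓ F : Subgroup G)) h5]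
  have hAidx : ∀ x ∈ A, x ∉ W → a * x ∈ W := by
    intro x hx hxW
    refine mul_mem_of_index_two hWA (by rw [h.oct.card, hW4]) haA hx (fun h' => haF (hWF h')) hxW
  have hAN : A ≤ normalizer (F : Set G) := by
    intro x hx
    by_cases hxW : x ∈ W
    · exact le_normalizer (hWF hxW)
    · have h1 := hAidx x hx hxW
      have h2 := mul_mem (inv_mem haN) (le_normalizer (hWF h1))
      simpa using h2
  rw [hWeq] at hFa
  -- `[F, w] ≤ ⟨z⟩`
  have hFw : ∀ x ∈ F, x * w * x⁻¹ = w ∨ x * w * x⁻¹ = z * w := by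
    intro x hx
    have h1 : x * w * x⁻¹ ∈ W := by
      rw [← hWeq]
      exact mem_inf.2 ⟨mem_norm (h.norm (hFS hx)) hwA, mul_mem (mul_mem hx hwF) (inv_mem hx)⟩
    rcases (hWmem _).1 h1 with h2 | h2 | h2 | h2
    · exfalso
      apply hw1
      have : w = x⁻¹ * (x * w * x⁻¹) * x := by group
      rw [this, h2]; group
    · exfalso
      apply hwz
      have : w = x⁻¹ * (x * w * x⁻¹) * x := by group
      rw [this, h2]
      have h3 := hzc x (hFS hx)
      calc x⁻¹ * z * x = x⁻¹ * (z * x) := by group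
        _ = z := by rw [h3]; group
    · exact Or.inl h2
    · exact Or.inr h2
  obtain ⟨σ, hσ, hodd, hnt, hinv, κ, hκ, hσκ⟩ := exists_sigma hF haS haN ha2 haF
  have hWnorm : ∀ x ∈ F, ∀ u ∈ W, x * u * x⁻¹ ∈ W := by
    intro x hx u hu
    rw [← hWeq]
    exact mem_inf.2 ⟨mem_norm (h.norm (hFS hx)) (hWA hu), mul_mem (mul_mem hx (hWF hu)) (inv_mem hx)⟩
  have hzW' : ∀ x ∈ zpowers z, x ∈ W := fun x hx => by
    rcases zpowers_cases hz2 x hx with rfl | rfl
    · exact one_mem _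
    · exact hzW
  -- the conjugate `W'`
  set w' := κ⁻¹ * w * κ with hw'
  have hw'2 : w' * w' = 1 := by
    rw [hw']
    calc κ⁻¹ * w * κ * (κ⁻¹ * w * κ) = κ⁻¹ * (w * w) * κ := by group
      _ = 1 := by rw [hw2]; group
  have hw'inv : w'⁻¹ = w' := inv_eq_of_mul_eq_one_left hw'2
  have hw'F : w' ∈ F := mem_norm' hκ hwF
  have hκz : κ⁻¹ * z * κ = z := by
    have := hfix κ⁻¹ (inv_mem hκ)
    simpa using this
  let E : Subgroup G :=
    { carrier := {x | x ∈ W ∨ x * w' ∈ W}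
      one_mem' := Or.inl (one_mem _)
      mul_mem' := by
        have key : ∀ {y : G}, y * w' ∈ W → w' * y ∈ W := by
          intro y hy
          have h1 := hWnorm w' hw'F _ hy
          have h2 : w' * (y * w') * w'⁻¹ = w' * y := by group
          rwa [h2] at h1
        rintro x y (hx | hx) (hy | hy)
        · exact Or.inl (mul_mem hx hy)
        · right
          rw [mul_assoc]
          exact mul_mem hx hy
        · right
          have h1 := hWnorm w' hw'F _ hy
          have h2 : x * y * w' = x * w' * (w' * y * w'⁻¹) := by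
            calc x * y * w' = x * (w' * w') * y * w' := by rw [hw'2, mul_one]
              _ = x * w' * (w' * y * w') := by group
              _ = x * w' * (w' * y * w'⁻¹) := by rw [hw'inv]
          rw [h2]
          exact mul_mem hx h1
        · left
          have h2 : x * y = x * w' * (w' * y) := by
            calc x * y = x * (w' * w') * y := by rw [hw'2, mul_one]
              _ = x * w' * (w' * y) := by group
          rw [h2]
          exact mul_mem hx (key hy)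
      inv_mem' := by
        rintro x (hx | hx)
        · exact Or.inl (inv_mem hx)
        · right
          have h1 := inv_mem (hWnorm w' hw'F _ hx)
          have h2 : (w' * (x * w') * w'⁻¹)⁻¹ = x⁻¹ * w' := by
            calc (w' * (x * w') * w'⁻¹)⁻¹ = x⁻¹ * w'⁻¹ := by group
              _ = x⁻¹ * w' := by rw [hw'inv]
          rwa [h2] at h1 }
  have hE : ∀ x, x ∈ E ↔ x ∈ W ∨ x * w' ∈ W := fun x => Iff.rfl
  have hWE : W ≤ E := fun x hx => Or.inl hx
  have hw'E : w' ∈ E := Or.inr (by rw [hw'2]; exact one_mem _)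
  have hEF : E ≤ F := by
    rintro x (hx | hx)
    · exact hWF hx
    · have := mul_mem (hWF hx) (inv_mem hw'F)
      simpa using this
  have hidx : ∀ x ∈ E, ∀ y ∈ E, x ∉ W → y ∉ W → x * y ∈ W := by
    intro x hx y hy hx' hy'
    have h1 := (hE x).1 hx |>.resolve_left hx'
    have h2 := (hE y).1 hy |>.resolve_left hy'
    have h3 := hWnorm w' hw'F _ h2
    have h4 : x * y = x * w' * (w' * (y * w') * w'⁻¹) := by
      calc x * y = x * (w' * w') * y := by rw [hw'2, mul_one]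
        _ = x * w' * (w' * (y * w') * w'⁻¹) := by group
    rw [h4]
    exact mul_mem h1 h3
  have hσE : ∀ x ∈ F, σ * x * σ⁻¹ * x⁻¹ ∈ E := by
    intro x hx
    rw [hσκ x hx]
    set b := κ⁻¹ * a * κ with hb
    have hW' : ∀ u ∈ W, κ⁻¹ * u * κ ∈ E := by
      refine of_four (fun x hx => (hWmem x).1 hx) (by simp) (by rw [hκz]; exact hWE hzW) hw'E ?_
      have : κ⁻¹ * (z * w) * κ = (κ⁻¹ * z * κ) * (κ⁻¹ * w * κ) := by group
      rw [this, hκz]
      exact mul_mem (hWE hzW) hw'E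
    have h1 := hW' _ (hFa _ (mem_norm hκ hx))
    have h2 : κ⁻¹ * (a * (κ * x * κ⁻¹) * a⁻¹ * (κ * x * κ⁻¹)⁻¹) * κ = b * x * b⁻¹ * x⁻¹ := by
      rw [hb]; group
    rw [h2] at h1
    have h3 : a * b * x * (a * b)⁻¹ * x⁻¹ =
        (a * (b * x * b⁻¹ * x⁻¹) * a⁻¹ * (b * x * b⁻¹ * x⁻¹)⁻¹) * (b * x * b⁻¹ * x⁻¹) * (a * x * a⁻¹ * x⁻¹) := by
      group
    rw [h3]
    exact mul_mem (mul_mem (hWE (hFa _ (hEF h1))) h1) (hWE (hFa x hx))
  have hfixz : ∀ {n : G}, n ∈ normalizer (F : Set G) → n⁻¹ * z * n = z := by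
    intro n hn
    have := hfix n⁻¹ (inv_mem hn)
    simpa using this
  -- an element of odd order normalising `W` centralises `F`
  have hC1 : ∀ τ ∈ normalizer (F : Set G), Odd (orderOf τ) → (∀ x ∈ F, τ * x * τ⁻¹ * x⁻¹ ∈ E) →
      τ * w * τ⁻¹ ∈ W → τ ∈ centralizer (F : Set G) := by
    intro τ hτ hτo hτE hτw
    have hτz : τ * z * τ⁻¹ = z := hfix τ hτ
    have hτw' : τ * w * τ⁻¹ = w ∨ τ * w * τ⁻¹ = z * w := by
      rcases (hWmem _).1 hτw with h2 | h2 | h2 | h2
      · exfalso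
        apply hw1
        have : w = τ⁻¹ * (τ * w * τ⁻¹) * τ := by group
        rw [this, h2]; group
      · exfalso
        apply hwz
        have : w = τ⁻¹ * (τ * w * τ⁻¹) * τ := by group
        rw [this, h2]
        exact hfixz hτ
      · exact Or.inl h2
      · exact Or.inr h2
    have hτW : ∀ u ∈ W, τ * u * τ⁻¹ * u⁻¹ ∈ zpowers z := by
      have h5 : τ * w * τ⁻¹ * w⁻¹ ∈ zpowers z := by
        rcases hτw' with h2 | h2 <;> rw [h2]
        · simp
        · simp
      refine of_four (fun x hx => (hWmem x).1 hx) (by simp) (by rw [hτz]; simp) h5 ?_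
      have h6 : τ * (z * w) * τ⁻¹ * (z * w)⁻¹ = (τ * z * τ⁻¹) * (τ * w * τ⁻¹ * w⁻¹) * z⁻¹ := by group
      rw [h6, hτz]
      exact mul_mem (mul_mem (mem_zpowers z) h5) (inv_mem (mem_zpowers z))
    have hτW2 : ∀ u ∈ W, τ * u * τ⁻¹ ∈ W := by
      intro u hu
      have := mul_mem (hzW' _ (hτW u hu)) hu
      simpa using this
    have hτWn : τ ∈ normalizer (W : Set G) := mem_norm_of_conj hτW2
    have hτE2 : ∀ x ∈ E, τ * x * τ⁻¹ ∈ E := by
      intro x hx
      have := mul_mem (hτE x (hEF hx)) hx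
      simpa using this
    refine mem_centralizer_of_chain hFp
      (fun i => if i = 0 then F else if i = 1 then E else if i = 2 then W else if i = 3 then zpowers z else ⊥) 4
      (by simp) (by simp) ?_ ((Nat.coprime_two_right).2 hτo) ?_
    · intro i
      rcases i with _ | _ | _ | _ | i
      · simpa using hEF
      · simpa using hWE
      · simpa using hzW
      · simp
      · simp
    · intro i e he
      rcases i with _ | _ | _ | _ | i
      · simpa using hτE e (by simpa using he)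
      · have he' : e ∈ E := by simpa using he
        simp only [Nat.reduceAdd, OfNat.ofNat_ne_zero, ↓reduceIte, OfNat.ofNat_ne_one]
        by_cases heW : e ∈ W
        · exact mul_mem (hτW2 e heW) (inv_mem heW)
        · refine hidx _ (hτE2 e he') _ (inv_mem he') (fun h6 => heW ?_) (fun h6 => heW (by simpa using inv_mem h6))
          have := mem_norm' hτWn h6
          have h7 : τ⁻¹ * (τ * e * τ⁻¹) * τ = e := by group
          rwa [h7] at this
      · have he' : e ∈ W := by simpa using he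
        simpa using hτW e he'
      · have he' : e ∈ zpowers z := by simpa using he
        rcases zpowers_cases hz2 e he' with rfl | rfl
        · simp
        · simp [hτz]
      · have he' : e = 1 := by simpa using he
        simp [he']
  have hnc : σ ∉ centralizer (F : Set G) := by
    intro h1
    obtain ⟨x, hx, hx'⟩ := hnt
    exact hx' (conj_eq_iff.2 (mem_cent_iff.1 h1 x hx))
  set w₁ := σ * w * σ⁻¹ with hw₁
  set w₂ := σ * w₁ * σ⁻¹ with hw₂
  have hw₁W : w₁ ∉ W := fun h1 => hnc (hC1 σ hσ hodd hσE h1)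
  have hσE2 : ∀ x ∈ E, σ * x * σ⁻¹ ∈ E := by
    intro x hx
    have := mul_mem (hσE x (hEF hx)) hx
    simpa using this
  have hw₂W : w₂ ∉ W := by
    intro h1
    apply hnc
    have h2 : σ * σ ∈ centralizer (F : Set G) := by
      refine hC1 (σ * σ) (mul_mem hσ hσ) ?_ ?_ ?_
      · refine Odd.of_dvd_nat hodd (orderOf_dvd_of_pow_eq_one ?_)
        rw [← pow_two, ← pow_mul, mul_comm, pow_mul, pow_orderOf_eq_one, one_pow]
      · intro x hx
        have h3 : σ * σ * x * (σ * σ)⁻¹ * x⁻¹ = (σ * (σ * x * σ⁻¹ * x⁻¹) * σ⁻¹) * (σ * x * σ⁻¹ * x⁻¹) := by group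
        rw [h3]
        exact mul_mem (hσE2 _ (hσE x hx)) (hσE x hx)
      · have h3 : σ * σ * w * (σ * σ)⁻¹ = w₂ := by rw [hw₂, hw₁]; group
        rw [h3]; exact h1
    obtain ⟨m, hm⟩ := hodd
    have h3 : σ = ((σ * σ) ^ m)⁻¹ := by
      have h4 : σ * (σ * σ) ^ m = 1 := by
        rw [← pow_two, ← pow_mul, ← pow_succ', ← hm, pow_orderOf_eq_one]
      exact eq_inv_of_mul_eq_one_left h4
    rw [h3]
    exact inv_mem (pow_mem h2 m)
  have hw₁E : w₁ ∈ E := hσE2 w (hWE hwW)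
  have hw₂E : w₂ ∈ E := hσE2 w₁ hw₁E
  have hw₁2 : w₁ * w₁ = 1 := by
    rw [hw₁]
    calc σ * w * σ⁻¹ * (σ * w * σ⁻¹) = σ * (w * w) * σ⁻¹ := by group
      _ = 1 := by rw [hw2]; group
  have hw₂2 : w₂ * w₂ = 1 := by
    rw [hw₂]
    calc σ * w₁ * σ⁻¹ * (σ * w₁ * σ⁻¹) = σ * (w₁ * w₁) * σ⁻¹ := by group
      _ = 1 := by rw [hw₁2]; group
  have hzS' : ∀ x ∈ F, z * x = x * z := fun x hx => hzc x (hFS hx)
  have hσz' := hfixz hσ
  -- `w₂ = w₁ v` with `v = w` or `z w`
  have hv : w₁ * w₂ = w ∨ w₁ * w₂ = z * w := by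
    have h1 := hidx w₁ hw₁E w₂ hw₂E hw₁W hw₂W
    have h0 : σ⁻¹ * w₂ * σ = w₁ := by rw [hw₂]; group
    have h0' : σ⁻¹ * w₁ * σ = w := by rw [hw₁]; group
    rcases (hWmem _).1 h1 with h2 | h2 | h2 | h2
    · exfalso
      have h3 : w₂ = w₁ := by
        calc w₂ = w₁ * (w₁ * w₂) := by rw [← mul_assoc, hw₁2, one_mul]
          _ = w₁ := by rw [h2, mul_one]
      rw [h3, h0'] at h0
      exact hw₁W (by rw [← h0]; exact hwW)
    · exfalso
      have h3 : w₂ = w₁ * z := by
        calc w₂ = w₁ * (w₁ * w₂) := by rw [← mul_assoc, hw₁2, one_mul]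
          _ = w₁ * z := by rw [h2]
      have h4 : σ⁻¹ * (w₁ * z) * σ = (σ⁻¹ * w₁ * σ) * (σ⁻¹ * z * σ) := by group
      rw [h3, h4, h0', hσz'] at h0
      exact hw₁W (by rw [← h0]; exact mul_mem hwW hzW)
    · exact Or.inl h2
    · exact Or.inr h2
  have hcomm : w₁ * w = w * w₁ := by
    have h1 : (w₁ * w) * (w₁ * w) = 1 := by
      rcases hv with h2 | h2
      · have h3 : w₂ = w₁ * w := by
          calc w₂ = w₁ * (w₁ * w₂) := by rw [← mul_assoc, hw₁2, one_mul]
            _ = w₁ * w := by rw [h2]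
        rw [← h3]; exact hw₂2
      · have h3 : w₂ = w₁ * (z * w) := by
          calc w₂ = w₁ * (w₁ * w₂) := by rw [← mul_assoc, hw₁2, one_mul]
            _ = w₁ * (z * w) := by rw [h2]
        rw [h3] at hw₂2
        have h4 : w₁ * (z * w) * (w₁ * (z * w)) = (w₁ * w) * (w₁ * w) := by
          have h5 := hzS' _ (hEF hw₁E)
          calc w₁ * (z * w) * (w₁ * (z * w)) = (w₁ * z) * w * (w₁ * z) * w := by group
            _ = (z * w₁) * w * (z * w₁) * w := by rw [← h5]
            _ = z * (w₁ * (w * z)) * w₁ * w := by group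
            _ = z * (w₁ * z) * w * w₁ * w := by rw [← hzw]; group
            _ = (z * z) * (w₁ * w) * (w₁ * w) := by rw [← h5]; group
            _ = (w₁ * w) * (w₁ * w) := by rw [hz2]; group
        rw [← h4]; exact hw₂2
    calc w₁ * w = (w₁ * w)⁻¹ := (inv_eq_of_mul_eq_one_left h1).symm
      _ = w⁻¹ * w₁⁻¹ := by rw [mul_inv_rev]
      _ = w * w₁ := by rw [hwinv, inv_eq_of_mul_eq_one_left hw₁2]
  have hWc : ∀ u ∈ W, ∀ v ∈ W, u * v = v * u := fun u hu v hv => h.oct.comm (hWA hu) (hWA hv)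
  have hWw₁ : ∀ u ∈ W, u * w₁ = w₁ * u := by
    refine of_four (fun x hx => (hWmem x).1 hx) (by simp) (hzS' _ (hEF hw₁E)) hcomm.symm ?_
    rw [mul_assoc, ← hcomm, ← mul_assoc, hzS' _ (hEF hw₁E), mul_assoc]
  have hEmem : ∀ d ∈ E, d ∉ W → ∃ u ∈ W, d = u * w₁ := by
    intro d hd hdW
    exact ⟨d * w₁, hidx d hd w₁ hw₁E hdW hw₁W, by rw [mul_assoc, hw₁2, mul_one]⟩
  have hEw : ∀ d ∈ E, d * w = w * d := by
    intro d hd
    by_cases hdW : d ∈ W
    · exact hWc d hdW w hwW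
    · obtain ⟨u, hu, rfl⟩ := hEmem d hd hdW
      rw [mul_assoc, hcomm, ← mul_assoc, hWc u hu w hwW, mul_assoc]
  have hEw₁ : ∀ d ∈ E, d * w₁ = w₁ * d := by
    intro d hd
    by_cases hdW : d ∈ W
    · exact hWw₁ d hdW
    · obtain ⟨u, hu, hdu⟩ := hEmem d hd hdW
      rw [hdu]
      calc u * w₁ * w₁ = (w₁ * u) * w₁ := by rw [hWw₁ u hu]
        _ = w₁ * (u * w₁) := by rw [mul_assoc]
  -- the form `[x, ·]`
  have hstep : ∀ x ∈ F, ∀ v ∈ E, (∀ y ∈ F, y * v * y⁻¹ * v⁻¹ ∈ zpowers z) → (∀ d ∈ E, d * v = v * d) →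
      x * (σ * v * σ⁻¹) * x⁻¹ * (σ * v * σ⁻¹)⁻¹ = x * v * x⁻¹ * v⁻¹ := by
    intro x hx v hvE hvz hvc
    set y := σ⁻¹ * x * σ with hy
    have hyF : y ∈ F := mem_norm' hσ hx
    have h1 : x * (σ * v * σ⁻¹) * x⁻¹ * (σ * v * σ⁻¹)⁻¹ = σ * (y * v * y⁻¹ * v⁻¹) * σ⁻¹ := by
      rw [hy]; group
    have h2 : σ * (y * v * y⁻¹ * v⁻¹) * σ⁻¹ = y * v * y⁻¹ * v⁻¹ := by
      rcases zpowers_cases hz2 _ (hvz y hyF) with h3 | h3 <;> rw [h3]
      · simp
      · exact hfix σ hσ
    rw [h1, h2]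
    set d := σ * y * σ⁻¹ * y⁻¹ with hd
    have hdE : d ∈ E := hσE y hyF
    have hx' : x = d * y := by rw [hd, hy]; group
    have h4 : x * v * x⁻¹ * v⁻¹ = d * ((y * v * y⁻¹ * v⁻¹) * v) * d⁻¹ * v⁻¹ := by rw [hx']; group
    rw [h4]
    have h5 : d * (y * v * y⁻¹ * v⁻¹) = (y * v * y⁻¹ * v⁻¹) * d := by
      rcases zpowers_cases hz2 _ (hvz y hyF) with h3 | h3 <;> rw [h3]
      · simp
      · exact (hzS' d (hEF hdE)).symm
    calc y * v * y⁻¹ * v⁻¹ = (y * v * y⁻¹ * v⁻¹) * (d * v) * d⁻¹ * v⁻¹ := by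
          rw [hvc d hdE]; group
      _ = (y * v * y⁻¹ * v⁻¹) * d * v * d⁻¹ * v⁻¹ := by group
      _ = d * (y * v * y⁻¹ * v⁻¹) * v * d⁻¹ * v⁻¹ := by rw [h5]
      _ = d * ((y * v * y⁻¹ * v⁻¹) * v) * d⁻¹ * v⁻¹ := by group
  have hwzp : ∀ y ∈ F, y * w * y⁻¹ * w⁻¹ ∈ zpowers z := by
    intro y hy
    rcases hFw y hy with h1 | h1 <;> rw [h1] <;> simp
  have hs1 : ∀ x ∈ F, x * w₁ * x⁻¹ * w₁⁻¹ = x * w * x⁻¹ * w⁻¹ := fun x hx =>
    hstep x hx w (hWE hwW) hwzp hEw
  have hw₁zp : ∀ y ∈ F, y * w₁ * y⁻¹ * w₁⁻¹ ∈ zpowers z := fun y hy => by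
    rw [hs1 y hy]; exact hwzp y hy
  have hs2 : ∀ x ∈ F, x * w₂ * x⁻¹ * w₂⁻¹ = x * w₁ * x⁻¹ * w₁⁻¹ := fun x hx =>
    hstep x hx w₁ hw₁E hw₁zp hEw₁
  have hFcw : ∀ x ∈ F, x * w * x⁻¹ = w := by
    intro x hx
    have h1 := hs1 x hx
    have h2 := hs2 x hx
    rw [h1] at h2
    set ε := x * w * x⁻¹ * w⁻¹ with hε
    have hεz : ε = 1 ∨ ε = z := zpowers_cases hz2 _ (hwzp x hx)
    have hεε : ε * ε = 1 := by rcases hεz with h3 | h3 <;> rw [h3]; simp; exact hz2
    have hεc : ∀ y ∈ F, ε * y = y * ε := by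
      intro y hy
      rcases hεz with h3 | h3 <;> rw [h3]
      · simp
      · exact hzS' y hy
    have e1 : x * w * x⁻¹ = ε * w := by rw [hε]; group
    have e2 : x * w₁ * x⁻¹ = ε * w₁ := by rw [← h1]; group
    have e3 : x * w₂ * x⁻¹ = ε * w₂ := by rw [← h2]; group
    have hxz : x * z * x⁻¹ = z := conj_eq_iff.2 (hzS' x hx).symm
    have e4 : x * (w₁ * w₂) * x⁻¹ = w₁ * w₂ := by
      calc x * (w₁ * w₂) * x⁻¹ = (x * w₁ * x⁻¹) * (x * w₂ * x⁻¹) := by group
        _ = ε * (w₁ * ε) * w₂ := by rw [e2, e3]; group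
        _ = (ε * ε) * (w₁ * w₂) := by rw [← hεc w₁ (hEF hw₁E)]; group
        _ = w₁ * w₂ := by rw [hεε, one_mul]
    rcases hv with h3 | h3
    · rw [h3] at e4; exact e4
    · rw [h3] at e4
      have e5 : x * (z * w) * x⁻¹ = (x * z * x⁻¹) * (x * w * x⁻¹) := by group
      rw [e5, hxz] at e4
      exact mul_left_cancel e4
  have hcen : ∀ e ∈ E, ∀ x ∈ F, e * x = x * e := by
    have hWF' : ∀ u ∈ W, ∀ x ∈ F, u * x = x * u := by
      intro u hu x hx
      have hxw : x * w = w * x := conj_eq_iff.1 (hFcw x hx)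
      rcases (hWmem u).1 hu with rfl | rfl | rfl | rfl
      · simp
      · exact hzS' x hx
      · exact hxw.symm
      · rw [mul_assoc, ← hxw, ← mul_assoc, hzS' x hx, mul_assoc]
    intro e he x hx
    by_cases heW : e ∈ W
    · exact hWF' e heW x hx
    · obtain ⟨u, hu, rfl⟩ := hEmem e he heW
      have h1 : w₁ * x = x * w₁ := by
        have h2 := hWF' w hwW _ (mem_norm' hσ hx)
        calc w₁ * x = σ * (w * (σ⁻¹ * x * σ)) * σ⁻¹ := by rw [hw₁]; group
          _ = x * w₁ := by rw [h2, hw₁]; group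
      rw [mul_assoc, h1, ← mul_assoc, hWF' u hu x hx, mul_assoc]
  have hEoct : Oct E := by
    refine ⟨?_, ?_⟩
    · have h2 : (W.subgroupOf E).index = 2 := by
        rw [Subgroup.index_eq_two_iff]
        refine ⟨⟨w₁, hw₁E⟩, fun b => ?_⟩
        by_cases hb : (b : G) ∈ W
        · right
          refine ⟨hb, fun h => hw₁W ?_⟩
          have h8 : (b : G) * w₁ ∈ W := h
          have h9 := mul_mem (inv_mem hb) h8
          simpa using h9
        · left
          exact ⟨hidx _ b.2 _ hw₁E hb hw₁W, hb⟩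
      have h3 := relIndex_mul_card' hWE
      rw [← h3, hW4]
      have h4 : W.relIndex E = 2 := h2
      rw [h4]
    · intro e he
      by_cases heW : e ∈ W
      · exact h.oct.sq e (hWA heW)
      · obtain ⟨u, hu, rfl⟩ := hEmem e he heW
        calc u * w₁ * (u * w₁) = u * (w₁ * u) * w₁ := by group
          _ = (u * u) * (w₁ * w₁) := by rw [← hWw₁ u hu]; group
          _ = 1 := by rw [h.oct.sq u (hWA hu), hw₁2, one_mul]
  have hEA : E ≠ A := fun e => hAF (by rw [← e]; exact hEF)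
  have hfinal := h.central hF hEoct hEF hcen hAN haA haF (fun x hx => hWE (hFa x hx)) hEA w hwA (hWE hwW)
  rcases huniq w (h.le hwA) hw2 hfinal with h1 | h1
  · exact hw1 h1
  · exact hwz h1

end Cfsg.Agent.RankThreeFus
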