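import Cfsg.Agent.RankThreeFus.SecOne
import Cfsg.Agent.RankThreeFus.MaxChoice
import Cfsg.Agent.RankThreeFus.NoZ

/-!
# S1730, branch (B), (B8*), CASE I, non-small maximal choice (`PT = S`): the group `W`

`Bg S A U z f x s P l`: a maximal choice `P` with `[A, P]` not contained in `⟨z⟩` and `l ∈ N_G(P)` with
`A ∩ A^l = ⟨z⟩`.  Then `W := ⟨U^{N_G(P)}⟩` is elementary abelian of order 8, contained in `Q`, `W ∩ T = U`.
-/

set_option autoImplicit false
set_option linter.style.haveILetI false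
set_option linter.unusedSectionVars false
set_option linter.unusedVariables false

namespace Cfsg.Agent.RankThreeFus

open Subgroup Cfsg.Agent.Lib.GoldschmidtFusion Cfsg.Agent.Lib.EssentialFusion Cfsg.Agent.StdL2.G23Aut

variable {G : Type*} [Group G]

/-- non-small maximal choice in CASE I -/
structure Bg (S : Sylow 2 G) (A U : Subgroup G) (z f x s : G) (P : Subgroup G) (l : G) : Prop where
  fr : Fr S A U z f x s
  max : Choice.Max S U P
  AP : A ≤ P
  Lz : ∀ l ∈ normalizer (P : Set G), l * z = z * l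
  ns : ¬ ∀ g ∈ P, ∀ a ∈ A, g * a * g⁻¹ = a ∨ g * a * g⁻¹ = z * a
  lN : l ∈ normalizer (P : Set G)
  lA : A ⊓ cj l A = zpowers z

/-- `W = ⟨U^{N(P)}⟩` -/
def WW (P U : Subgroup G) : Subgroup G :=
  closure {w | ∃ m ∈ normalizer (P : Set G), ∃ u ∈ U, w = m * u * m⁻¹}

namespace Bg

variable {S : Sylow 2 G} {A U : Subgroup G} {z f x s : G} {P : Subgroup G} {l : G}
  (h : Bg S A U z f x s P l)

include h

theorem PS : P ≤ (S : Subgroup G) := h.max.ess.lt.le

theorem UP : U ≤ P := h.max.le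

theorem zz : z * z = 1 := h.fr.sqA h.fr.zA

theorem zS {g : G} (hg : g ∈ (S : Subgroup G)) : g * z = z * g := h.fr.zc g hg

/-- small elements form a group -/
theorem small_mul [Finite G] {g g' : G} (hg' : g' ∈ P) (hg : g ∈ P)
    (h1 : ∀ a ∈ A, g * a * g⁻¹ = a ∨ g * a * g⁻¹ = z * a)
    (h2 : ∀ a ∈ A, g' * a * g'⁻¹ = a ∨ g' * a * g'⁻¹ = z * a) :
    ∀ a ∈ A, (g * g') * a * (g * g')⁻¹ = a ∨ (g * g') * a * (g * g')⁻¹ = z * a := by
  intro a ha
  have e1 : (g * g') * a * (g * g')⁻¹ = g * (g' * a * g'⁻¹) * g⁻¹ := by group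
  have hgz : g * z * g⁻¹ = z := conj_eq_iff.2 (h.zS (h.PS hg))
  rw [e1]
  rcases h2 a ha with h3 | h3 <;> rw [h3]
  · exact h1 a ha
  · have e2 : g * (z * a) * g⁻¹ = (g * z * g⁻¹) * (g * a * g⁻¹) := by group
    rw [e2, hgz]
    rcases h1 a ha with h4 | h4 <;> rw [h4]
    · right; rfl
    · left; rw [← mul_assoc, h.zz, one_mul]

/-- conjugates of `U` are centralised by `P` modulo `z` -/
theorem PU [Finite G] {m u g : G} (hm : m ∈ normalizer (P : Set G)) (hu : u ∈ U) (hg : g ∈ P) :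
    g * (m * u * m⁻¹) * g⁻¹ = m * u * m⁻¹ ∨ g * (m * u * m⁻¹) * g⁻¹ = z * (m * u * m⁻¹) := by
  have h1 := mem_norm' hm hg
  have e1 : g * (m * u * m⁻¹) * g⁻¹ = m * ((m⁻¹ * g * m) * u * (m⁻¹ * g * m)⁻¹) * m⁻¹ := by group
  rw [e1]
  rcases h.fr.U_or hu (h.PS h1) with h2 | h2 <;> rw [h2]
  · left; rfl
  · right
    have h3 := h.Lz m hm
    calc m * (z * u) * m⁻¹ = (m * z) * u * m⁻¹ := by group
      _ = (z * m) * u * m⁻¹ := by rw [h3]
      _ = _ := by group

/-- there is a non-small element in `P ∩ Q` -/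
theorem exists_g [Finite G] : ∃ g ∈ P, g ∈ QQ S U ∧ ∃ u ∈ U, u ≠ 1 ∧ u ≠ z ∧ g * f * g⁻¹ = f * u := by
  have hF := h.fr
  obtain ⟨b, hb, e, he, hbQ, hbT, hbf, heS, heU, hbb, hee, hbe, -⟩ := hF.exists_be h.PS h.AP h.lN h.lA
  have hns := h.ns
  push Not at hns
  obtain ⟨g, hg, a, ha, h1, h2⟩ := hns
  have heP : e ∈ P := Fr.cj_le_of_norm h.lN h.AP he
  obtain ⟨g', hg', hgQ, hgs⟩ : ∃ g' ∈ P, g' ∈ QQ S U ∧
      ¬ ∀ a ∈ A, g' * a * g'⁻¹ = a ∨ g' * a * g'⁻¹ = z * a := by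
    by_cases hgQ : g ∈ QQ S U
    · refine ⟨g, hg, hgQ, fun h3 => ?_⟩
      rcases h3 a ha with h4 | h4
      · exact h1 h4
      · exact h2 h4
    · refine ⟨g * e, mul_mem hg heP, hF.mul_mem_Q (h.PS hg) heS hgQ (fun h3 => heU h3.2), fun h3 => ?_⟩
      have h4 : ∀ a ∈ A, e⁻¹ * a * e⁻¹⁻¹ = a ∨ e⁻¹ * a * e⁻¹⁻¹ = z * a := by
        intro a ha
        exact hF.comm_cases h.PS h.AP h.lN h.lA ha (inv_mem he)
      have h5 := h.small_mul (inv_mem heP) (mul_mem hg heP) h3 h4 a ha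
      have e1 : g * e * e⁻¹ = g := by group
      rw [e1] at h5
      rcases h5 with h5 | h5
      · exact h1 h5
      · exact h2 h5
  obtain ⟨u, hu, hgu⟩ := hF.Qf hgQ
  refine ⟨g', hg', hgQ, u, hu, ?_, ?_, hgu⟩
  · rintro rfl
    apply hgs
    intro a ha
    left
    exact conj_eq_iff.2 (mem_cent_iff.1 (hF.mem_T_of_fix hgQ (by rw [hgu, mul_one])).2 a ha)
  · intro huz
    rw [huz] at hgu
    apply hgs
    intro a ha
    rcases hF.mem_A ha with h3 | h3
    · left; exact conj_eq_iff.2 (hF.Q_comm hgQ h3)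
    · right
      have h4 : g' * (f * a) * g'⁻¹ = f * a := conj_eq_iff.2 (hF.Q_comm hgQ h3)
      have e1 : g' * a * g'⁻¹ = (g' * f * g'⁻¹)⁻¹ * (g' * (f * a) * g'⁻¹) := by group
      rw [e1, hgu, h4, mul_inv_rev, hF.zi, hF.fi]
      calc z * f * (f * a) = z * (f * f) * a := by group
        _ = z * a := by rw [hF.f2, mul_one]

/-- (8.2) -/
theorem mem_Q [Finite G] {m u : G} (hm : m ∈ normalizer (P : Set G)) (hu : u ∈ U) :
    m * u * m⁻¹ ∈ QQ S U := by
  have hF := h.fr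
  by_contra hwQ
  obtain ⟨w, hw⟩ : ∃ w, w = m * u * m⁻¹ := ⟨_, rfl⟩
  have hwP : w ∈ P := by rw [hw]; exact mem_norm hm (h.UP hu)
  have hwS := h.PS hwP
  rw [← hw] at hwQ
  obtain ⟨g, hgP, hgQ, v, hv, hv1, hvz, hgf⟩ := h.exists_g
  have h1 : g * w * g⁻¹ = w ∨ g * w * g⁻¹ = z * w := by rw [hw]; exact h.PU hm hu hgP
  have hgz : g * z = z * g := h.zS (h.PS hgP)
  have hwz : w * z = z * w := h.zS hwS
  have h2 : w * g * w⁻¹ = g ∨ w * g * w⁻¹ = z * g := by
    rcases h1 with h1 | h1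
    · left
      rw [conj_eq_iff] at h1 ⊢
      exact h1.symm
    · right
      have h3 : g * w = z * w * g := mul_inv_eq_iff_eq_mul.1 h1
      have h4 : w * g = z * (g * w) := by
        rw [h3]
        calc w * g = (z * z) * (w * g) := by rw [h.zz, one_mul]
          _ = _ := by group
      rw [h4]; group
  have h3 : (w * g * w⁻¹) * f * (w * g * w⁻¹)⁻¹ = f * v := by
    rcases h2 with h2 | h2 <;> rw [h2]
    · exact hgf
    · have e1 : z * g * f * (z * g)⁻¹ = z * (g * f * g⁻¹) * z⁻¹ := by group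
      rw [e1, hgf]
      have h5 := hF.commA hF.zA (mul_mem hF.fA (hF.UA hv))
      rw [h5]; group
  obtain ⟨f₁, hf₁⟩ : ∃ f₁, f₁ = w⁻¹ * f * w := ⟨_, rfl⟩
  have hf₁A : f₁ ∈ A := by rw [hf₁]; exact mem_norm' (hF.hyp.norm hwS) hF.fA
  have hf₁U : f * f₁ ∈ U := by
    rcases hF.mem_A hf₁A with h5 | h5
    · exfalso
      apply hF.fU
      have h6 := mem_norm (hF.SnU hwS) h5
      have e1 : w * f₁ * w⁻¹ = f := by rw [hf₁]; group
      rwa [e1] at h6
    · exact h5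
  have h4 : g * f₁ * g⁻¹ = f₁ * v := by
    have e0 : f₁ = f * (f * f₁) := by rw [← mul_assoc, hF.f2, one_mul]
    have h5 : g * (f * f₁) * g⁻¹ = f * f₁ := conj_eq_iff.2 (hF.Q_comm hgQ hf₁U)
    have e1 : g * f₁ * g⁻¹ = (g * f * g⁻¹) * (g * (f * f₁) * g⁻¹) := by
      conv_lhs => rw [e0]
      group
    rw [e1, hgf, h5]
    calc f * v * (f * f₁) = f * (v * (f * f₁)) := by group
      _ = f * ((f * f₁) * v) := by rw [hF.commA (hF.UA hv) (hF.UA hf₁U)]
      _ = (f * f) * f₁ * v := by group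
      _ = f₁ * v := by rw [hF.f2, one_mul]
  have h5 : (w * g * w⁻¹) * f * (w * g * w⁻¹)⁻¹ = f * (w * v * w⁻¹) := by
    have e1 : (w * g * w⁻¹) * f * (w * g * w⁻¹)⁻¹ = w * (g * (w⁻¹ * f * w) * g⁻¹) * w⁻¹ := by group
    rw [e1, ← hf₁, h4, hf₁]; group
  rw [h5] at h3
  have h6 := mul_left_cancel h3
  rcases hF.fix_U_of_notMem hwS hwQ hv (conj_eq_iff.1 h6) with h7 | h7
  · exact hv1 h7
  · exact hvz h7

theorem gen_comm [Finite G] {m m' u u' : G} (hm : m ∈ normalizer (P : Set G))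
    (hm' : m' ∈ normalizer (P : Set G)) (hu : u ∈ U) (hu' : u' ∈ U) :
    (m * u * m⁻¹) * (m' * u' * m'⁻¹) = (m' * u' * m'⁻¹) * (m * u * m⁻¹) := by
  have h1 := h.fr.Q_comm (h.mem_Q (mul_mem (inv_mem hm) hm') hu') hu
  calc (m * u * m⁻¹) * (m' * u' * m'⁻¹) = m * (u * (m⁻¹ * m' * u' * (m⁻¹ * m')⁻¹)) * m⁻¹ := by group
    _ = m * ((m⁻¹ * m' * u' * (m⁻¹ * m')⁻¹) * u) * m⁻¹ := by rw [h1]
    _ = _ := by group

theorem WW_comm [Finite G] : ∀ v ∈ WW P U, ∀ w ∈ WW P U, v * w = w * v := by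
  have h1 : ∀ m ∈ normalizer (P : Set G), ∀ u ∈ U, ∀ w ∈ WW P U, w * (m * u * m⁻¹) = (m * u * m⁻¹) * w := by
    intro m hm u hu w hw
    have h2 : WW P U ≤ centralizer ({m * u * m⁻¹} : Set G) := by
      unfold WW
      rw [closure_le]
      rintro w ⟨m', hm', u', hu', rfl⟩
      rw [SetLike.mem_coe, mem_centralizer_singleton_iff]
      exact h.gen_comm hm' hm hu' hu
    exact mem_centralizer_singleton_iff.1 (h2 hw)
  intro v hv w hw
  have h2 : WW P U ≤ centralizer ({v} : Set G) := by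
    unfold WW
    rw [closure_le]
    rintro w ⟨m', hm', u', hu', rfl⟩
    rw [SetLike.mem_coe, mem_centralizer_singleton_iff]
    exact (h1 m' hm' u' hu' v hv).symm
  exact (mem_centralizer_singleton_iff.1 (h2 hw)).symm

theorem WW_sq [Finite G] : ∀ w ∈ WW P U, w * w = 1 := by
  intro w hw
  unfold WW at hw
  induction hw using closure_induction with
  | mem w h1 =>
    obtain ⟨m, hm, u, hu, rfl⟩ := h1
    calc (m * u * m⁻¹) * (m * u * m⁻¹) = m * (u * u) * m⁻¹ := by group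
      _ = 1 := by rw [h.fr.sqA (h.fr.UA hu)]; group
  | one => simp
  | mul v w hv hw ihv ihw =>
    have h2 := h.WW_comm v hv w hw
    calc v * w * (v * w) = v * (w * v) * w := by group
      _ = v * (v * w) * w := by rw [h2]
      _ = (v * v) * (w * w) := by group
      _ = 1 := by rw [ihv, ihw, one_mul]
  | inv w hw ih =>
    rw [← mul_inv_rev, ih, inv_one]

theorem U_le_WW : U ≤ WW P U := fun u hu => subset_closure ⟨1, one_mem _, u, hu, by group⟩

theorem conj_mem_WW {m u : G} (hm : m ∈ normalizer (P : Set G)) (hu : u ∈ U) : m * u * m⁻¹ ∈ WW P U :=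
  subset_closure ⟨m, hm, u, hu, rfl⟩

theorem WW_oct [Finite G] : Oct (WW P U) := by
  refine ⟨?_, h.WW_sq⟩
  have h1 := card_le h.fr.hyp.rank h.WW_sq
  have h2 : U ≠ WW P U := by
    intro h3
    apply h.max.not
    intro m hm
    refine mem_norm_of_conj fun u hu => ?_
    rw [h3]
    exact h.conj_mem_WW hm hu
  have h3 := card_dvd_of_le h.U_le_WW
  rw [h.fr.cardU] at h3
  have h4 : Nat.card (WW P U) ≠ 4 := by
    intro h5
    exact h2 (Subgroup.eq_of_le_of_card_ge h.U_le_WW (by rw [h5, h.fr.cardU]))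
  have h5 : 0 < Nat.card (WW P U) := Nat.card_pos
  omega

theorem WW_norm [Finite G] : normalizer (P : Set G) ≤ normalizer (WW P U : Set G) := by
  intro m hm
  refine mem_norm_of_conj fun w hw => ?_
  unfold WW at hw
  induction hw using closure_induction with
  | mem w h1 =>
    obtain ⟨m', hm', u, hu, rfl⟩ := h1
    have e1 : m * (m' * u * m'⁻¹) * m⁻¹ = (m * m') * u * (m * m')⁻¹ := by group
    rw [e1]
    exact h.conj_mem_WW (mul_mem hm hm') hu
  | one => simp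
  | mul v w _ _ ihv ihw =>
    have e1 : m * (v * w) * m⁻¹ = (m * v * m⁻¹) * (m * w * m⁻¹) := by group
    rw [e1]; exact mul_mem ihv ihw
  | inv w _ ih =>
    have e1 : m * w⁻¹ * m⁻¹ = (m * w * m⁻¹)⁻¹ := by group
    rw [e1]; exact inv_mem ih

theorem WW_le_P : WW P U ≤ P := by
  unfold WW
  rw [closure_le]
  rintro w ⟨m, hm, u, hu, rfl⟩
  exact mem_norm hm (h.UP hu)

theorem WW_le_Q [Finite G] : WW P U ≤ QQ S U := by
  unfold WW
  rw [closure_le]
  rintro w ⟨m, hm, u, hu, rfl⟩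
  exact h.mem_Q hm hu

theorem PW [Finite G] {g : G} (hg : g ∈ P) {w : G} (hw : w ∈ WW P U) : g * w * g⁻¹ = w ∨ g * w * g⁻¹ = z * w := by
  have hgz : g * z * g⁻¹ = z := conj_eq_iff.2 (h.zS (h.PS hg))
  have hzW : z ∈ WW P U := h.U_le_WW h.fr.zU
  unfold WW at hw
  induction hw using closure_induction with
  | mem w h1 =>
    obtain ⟨m', hm', u, hu, rfl⟩ := h1
    exact h.PU hm' hu hg
  | one => left; simp
  | mul v w hv hw ihv ihw =>
    have e1 : g * (v * w) * g⁻¹ = (g * v * g⁻¹) * (g * w * g⁻¹) := by group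
    have h2 := h.WW_comm v hv z hzW
    rw [e1]
    rcases ihv with ihv | ihv <;> rcases ihw with ihw | ihw <;> rw [ihv, ihw]
    · left; rfl
    · right; rw [← mul_assoc, h2, mul_assoc]
    · right; rw [mul_assoc]
    · left
      calc z * v * (z * w) = z * (v * z) * w := by group
        _ = z * (z * v) * w := by rw [h2]
        _ = (z * z) * (v * w) := by group
        _ = v * w := by rw [h.zz, one_mul]
  | inv w hw ih =>
    have hw2 : w⁻¹ = w := inv_eq_of_mul_eq_one_right (h.WW_sq w hw)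
    rw [hw2]; exact ih

theorem not_A_le [Finite G] : ¬ A ≤ WW P U := by
  intro h1
  have h2 := RankThreeFus.Oct.eq_of_le h.fr.hyp.oct h.WW_oct h1
  apply h.max.not
  have h3 := h.WW_norm
  rw [← h2] at h3
  exact h3.trans h.fr.nU

theorem WA [Finite G] {w : G} (hw : w ∈ WW P U) (hwA : w ∈ A) : w ∈ U := by
  have hF := h.fr
  rcases hF.mem_A hwA with h1 | h1
  · exact h1
  · exfalso
    apply h.not_A_le
    have hf : f ∈ WW P U := by
      have e1 : f = (f * w) * w⁻¹ := by group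
      rw [e1]
      exact mul_mem (h.U_le_WW h1) (inv_mem hw)
    intro a ha
    rcases hF.mem_A ha with h2 | h2
    · exact h.U_le_WW h2
    · have e1 : a = f⁻¹ * (f * a) := by group
      rw [e1]
      exact mul_mem (inv_mem hf) (h.U_le_WW h2)

theorem WT [Finite G] {w : G} (hw : w ∈ WW P U) (hwT : w ∈ TT S A) : w ∈ U :=
  h.WA hw (h.fr.mem_A_of_sq hwT (h.WW_sq w hw))

end Bg

end Cfsg.Agent.RankThreeFus
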