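import Cfsg.Agent.RankThreeFus.PartOneB

/-!
# S1730, branch (B), (II.2): an essential subgroup whose normaliser moves `z` contains `A`

`Hyp.omega_le` : if `F` is essential and `N(F)` moves the involution `z` of `Z(S)` then
`Ω₁(Z(F)) ≤ A ≤ F`.
-/

set_option autoImplicit false
set_option linter.style.haveILetI false

namespace Cfsg.Agent.RankThreeFus

open Subgroup Cfsg.Agent.Lib.GoldschmidtFusion Cfsg.Agent.Lib.EssentialFusion Cfsg.Agent.StdL2.G23Aut

variable {G : Type*} [Group G] {S : Sylow 2 G} {A : Subgroup G}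

/-- `Ω₁(Z(F))`. -/
def OZ (F : Subgroup G) : Subgroup G where
  carrier := {x | x ∈ F ∧ (∀ y ∈ F, x * y = y * x) ∧ x * x = 1}
  one_mem' := ⟨one_mem _, fun y _ => by simp, by simp⟩
  mul_mem' := by
    rintro a b ⟨ha, hac, haa⟩ ⟨hb, hbc, hbb⟩
    refine ⟨mul_mem ha hb, fun y hy => ?_, ?_⟩
    · calc a * b * y = a * (b * y) := by group
        _ = a * y * b := by rw [hbc y hy]; group
        _ = y * (a * b) := by rw [hac y hy]; group
    · calc a * b * (a * b) = a * (b * a) * b := by group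
        _ = (a * a) * (b * b) := by rw [hbc a ha]; group
        _ = 1 := by rw [haa, hbb, one_mul]
  inv_mem' := by
    rintro a ⟨ha, hac, haa⟩
    have h1 : a⁻¹ = a := inv_eq_of_mul_eq_one_left haa
    rw [h1]
    exact ⟨ha, hac, haa⟩

theorem mem_OZ {F : Subgroup G} {x : G} : x ∈ OZ F ↔ x ∈ F ∧ (∀ y ∈ F, x * y = y * x) ∧ x * x = 1 := Iff.rfl

theorem OZ_le (F : Subgroup G) : OZ F ≤ F := fun _ hx => hx.1

theorem OZ_norm [Finite G] (F : Subgroup G) : normalizer (F : Set G) ≤ normalizer (OZ F : Set G) := by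
  intro n hn
  apply mem_norm_of_conj
  rintro x ⟨hx, hxc, hxx⟩
  refine ⟨mem_norm hn hx, fun y hy => ?_, ?_⟩
  · have h1 := hxc _ (mem_norm' hn hy)
    calc n * x * n⁻¹ * y = n * (x * (n⁻¹ * y * n)) * n⁻¹ := by group
      _ = y * (n * x * n⁻¹) := by rw [h1]; group
  · have e1 : n * x * n⁻¹ * (n * x * n⁻¹) = n * (x * x) * n⁻¹ := by group
    rw [e1, hxx]; group

section

variable [Finite G]

/-- The two step chain `F ≥ Ω₁(Z(F)) ≥ 1`. -/
theorem chain_OZ {F : Subgroup G} (hF : Ess S F) {x : G} (hxS : x ∈ (S : Subgroup G))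
    (hxN : x ∈ normalizer (F : Set G)) (h1 : ∀ e ∈ F, x * e * x⁻¹ * e⁻¹ ∈ OZ F)
    (h2 : ∀ e ∈ OZ F, x * e = e * x) : x ∈ F := by
  haveI : Fact (Nat.Prime 2) := ⟨Nat.prime_two⟩
  let c : ℕ → Subgroup G := fun i => match i with
    | 0 => F
    | 1 => OZ F
    | _ + 2 => ⊥
  refine hF.mem_of_chain c 2 rfl rfl ?_ ?_ hxS hxN ?_
  · intro i
    match i with
    | 0 => exact OZ_le F
    | 1 => exact bot_le
    | j + 2 => exact le_rfl
  · intro i
    match i with
    | 0 => exact le_rfl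
    | 1 => exact OZ_norm F
    | j + 2 =>
      intro n _
      apply mem_norm_of_conj
      intro x hx
      have hx' : x = 1 := mem_bot.1 hx
      rw [hx', mul_one, mul_inv_cancel]
      exact one_mem _
  · intro i
    match i with
    | 0 => exact h1
    | 1 =>
      intro e he
      have h3 : x * e * x⁻¹ * e⁻¹ = 1 := by rw [h2 e he]; group
      rw [h3]
      exact one_mem _
    | j + 2 =>
      intro e he
      have he' : e = 1 := mem_bot.1 he
      rw [he']
      simp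

omit [Finite G] in
theorem Ess.z_mem (h : Hyp S A) {F : Subgroup G} (hF : Ess S F) {z : G} (hz : z ∈ UU S A) : z ∈ OZ F := by
  have hFS := hF.lt.le
  refine ⟨hF.centric ⟨mem_cent_iff.2 fun x hx => U_comm hz (hFS hx), h.U_le_S hz⟩,
    fun x hx => U_comm hz (hFS hx), h.U_sq hz⟩

omit [Finite G] in
theorem card_zpowers_two {z : G} (hzz : z * z = 1) (hz1 : z ≠ 1) : Nat.card (zpowers z) = 2 := by
  haveI : Fact (Nat.Prime 2) := ⟨Nat.prime_two⟩
  rw [Nat.card_zpowers]
  exact orderOf_eq_prime (by rw [pow_two, hzz]) hz1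

/-- `u ∉ H`, `H` of index two in `K`, both normalised by `f`, which centralises `H`. -/
theorem conj_mul_mem {H K : Subgroup G} (hHK : H ≤ K) (hc : Nat.card K = 2 * Nat.card H) {f : G}
    (hf : ∀ k ∈ K, f * k * f⁻¹ ∈ K) (hfH : ∀ k ∈ H, f * k = k * f) {k : G} (hk : k ∈ K) (hkk : k * k = 1) :
    f * k * f⁻¹ * k⁻¹ ∈ H := by
  by_cases hkH : k ∈ H
  · rw [hfH k hkH]
    have : k * f * f⁻¹ * k⁻¹ = 1 := by group
    rw [this]
    exact one_mem _
  · have h1 : k⁻¹ = k := inv_eq_of_mul_eq_one_left hkk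
    rw [h1]
    refine mul_mem_of_index_two hHK hc (hf k hk) hk ?_ hkH
    intro h2
    apply hkH
    have h3 := hfH _ h2
    have h4 : f * (f * k * f⁻¹) * f⁻¹ = f * k * f⁻¹ := by rw [h3]; group
    have h5 : f * k * f⁻¹ = k := by
      have h6 : f⁻¹ * (f * (f * k * f⁻¹) * f⁻¹) * f = f⁻¹ * (f * k * f⁻¹) * f := by rw [h4]
      have h7 : f⁻¹ * (f * (f * k * f⁻¹) * f⁻¹) * f = f * k * f⁻¹ := by group
      have h8 : f⁻¹ * (f * k * f⁻¹) * f = k := by group
      rw [h7, h8] at h6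
      exact h6
    rwa [h5] at h2

theorem card_pow_two (h : Hyp S A) {X : Subgroup G} (hXS : X ≤ S) (hX : ∀ x ∈ X, x * x = 1) :
    Nat.card X = 1 ∨ Nat.card X = 2 ∨ Nat.card X = 4 ∨ Nat.card X = 8 := by
  haveI : Fact (Nat.Prime 2) := ⟨Nat.prime_two⟩
  have h1 := card_le h.rank hX
  obtain ⟨k, hk⟩ := IsPGroup.iff_card.1 (S.isPGroup'.to_le hXS)
  rw [hk] at h1 ⊢
  have h2 : k < 4 := by
    by_contra hcon
    have := Nat.pow_le_pow_right (n := 2) (by norm_num) (not_lt.1 hcon)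
    omega
  interval_cases k <;> simp

/-- (II.2) (ii). -/
theorem Hyp.OZ_le_of_four (h : Hyp S A) {F : Subgroup G} (hF : Ess S F) {z : G} (hz : z ∈ UU S A)
    (hz1 : z ≠ 1) {n : G} (hn : n ∈ normalizer (F : Set G)) (hnz : n * z * n⁻¹ ≠ z)
    (h4 : Nat.card (OZ F) = 4) : OZ F ≤ A := by
  by_contra hcon
  obtain ⟨v, hv, hvA⟩ := SetLike.not_le_iff_exists.1 hcon
  have hFS : F ≤ S := hF.lt.le
  have hzF := Ess.z_mem h hF hz
  have hzz := h.U_sq hz
  have hvS : v ∈ (S : Subgroup G) := hFS hv.1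
  have hvv : v * v = 1 := hv.2.2
  have hne : ∃ a ∈ A, v * a * v⁻¹ ≠ a := by
    by_contra hc
    push Not at hc
    exact hvA (Oct.mem_of_comm h.rank h.oct hvv fun e he => conj_eq_iff.1 (hc e he))
  obtain ⟨-, -, -, -, -, hW4⟩ := h.oct.trans (h.norm hvS) (fun a _ => by
    have h1 : v * (v * a * v⁻¹) * v⁻¹ = (v * v) * a * (v * v)⁻¹ := by group
    rw [h1, hvv]; group) hne
  set W : Subgroup G := A ⊓ centralizer ({v} : Set G) with hW
  have hWv : ∀ w ∈ W, w * v = v * w := fun w hw => (mem_centralizer_singleton_iff.1 hw.2)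
  have hzW : z ∈ W := ⟨hz.1, mem_centralizer_singleton_iff.2 (U_comm hz hvS)⟩
  have hzle : zpowers z ≤ W := by rw [zpowers_le]; exact hzW
  have hFW : ∀ f ∈ F, ∀ w ∈ W, f * w * f⁻¹ ∈ W := by
    intro f hf w hw
    refine ⟨mem_norm (h.norm (hFS hf)) hw.1, mem_centralizer_singleton_iff.2 ?_⟩
    have h1 := hv.2.1 f hf
    have h2 := hWv w hw
    have h3 : v * f⁻¹ = f⁻¹ * v := by
      have := hv.2.1 f⁻¹ (inv_mem hf)
      exact this
    calc f * w * f⁻¹ * v = f * w * (f⁻¹ * v) := by group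
      _ = f * (w * v) * f⁻¹ := by rw [← h3]; group
      _ = (f * v) * w * f⁻¹ := by rw [h2]; group
      _ = v * (f * w * f⁻¹) := by rw [← h1]; group
  have hcomm : ∀ f ∈ F, ∀ w ∈ W, f * w * f⁻¹ * w⁻¹ ∈ zpowers z := by
    intro f hf w hw
    refine conj_mul_mem hzle (by rw [hW4, card_zpowers_two hzz hz1]) (hFW f hf) ?_ hw (h.oct.sq w hw.1)
    intro k hk
    rcases zpowers_cases hzz k hk with rfl | rfl
    · simp
    · exact (U_comm hz (hFS hf)).symm
  have hzOZ : zpowers z ≤ OZ F := by rw [zpowers_le]; exact hzF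
  have hcomm' : ∀ f ∈ F, ∀ w ∈ W, w * f * w⁻¹ * f⁻¹ ∈ zpowers z := by
    intro f hf w hw
    have h1 := inv_mem (hcomm f hf w hw)
    have h2 : (f * w * f⁻¹ * w⁻¹)⁻¹ = w * f * w⁻¹ * f⁻¹ := by group
    rwa [h2] at h1
  -- `W ≤ F`
  have hWF : W ≤ F := by
    intro w hw
    have hwN : w ∈ normalizer (F : Set G) := by
      apply mem_norm_of_conj
      intro f hf
      have h1 := mul_mem (OZ_le F (hzOZ (hcomm' f hf w hw))) hf
      have h2 : w * f * w⁻¹ * f⁻¹ * f = w * f * w⁻¹ := by group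
      rwa [h2] at h1
    refine chain_OZ hF (h.le hw.1) hwN (fun e he => hzOZ (hcomm' e he w hw)) ?_
    intro e he
    have hwz : w * z = z * w := h.oct.comm hw.1 hz.1
    have hvz : v ∉ zpowers z := by
      intro h1
      rcases zpowers_cases hzz v h1 with h2 | h2
      · exact hvA (by rw [h2]; exact one_mem _)
      · exact hvA (by rw [h2]; exact hz.1)
    by_cases hez : e ∈ zpowers z
    · rcases zpowers_cases hzz e hez with rfl | rfl
      · simp
      · exact hwz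
    · have h1 := mul_mem_of_index_two hzOZ (by rw [h4, card_zpowers_two hzz hz1]) hv he hvz hez
      have h2 : e = v * (v * e) := by rw [← mul_assoc, hvv, one_mul]
      have h3 : w * (v * e) = (v * e) * w := by
        rcases zpowers_cases hzz _ h1 with h5 | h5
        · rw [h5]; simp
        · rw [h5]; exact hwz
      have h4 := hWv w hw
      calc w * e = w * (v * (v * e)) := by rw [← h2]
        _ = (w * v) * (v * e) := by group
        _ = v * (w * (v * e)) := by rw [h4]; group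
        _ = (v * (v * e)) * w := by rw [h3]; group
        _ = e * w := by rw [← h2]
  -- `B = V W`
  set B : Subgroup G := OZ F ⊔ W with hB
  have hBF : B ≤ F := sup_le (OZ_le F) hWF
  have hel := sup_elem (X := OZ F) (Y := W) (fun x hx => hx.2.2) (fun w hw => h.oct.sq w hw.1)
    (fun x hx y hy => hx.2.1 y hy.1) (fun x hx y hy => h.oct.comm hx.1 hy.1)
    (fun x hx y hy => hx.2.1 y (hWF hy))
  have hvW : v ∉ W := fun h1 => hvA h1.1
  have hvB : v ∈ B := le_sup_left (a := OZ F) hv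
  have hWB : W ≤ B := le_sup_right
  have hB8 : Nat.card B = 8 := by
    rcases card_pow_two h (hBF.trans hFS) hel.2 with h1 | h1 | h1 | h1
    · exfalso
      have := Subgroup.card_le_of_le hWB
      rw [hW4] at this
      change Nat.card B = 1 at h1
      omega
    · exfalso
      have := Subgroup.card_le_of_le hWB
      rw [hW4] at this
      change Nat.card B = 2 at h1
      omega
    · exfalso
      have h2 : W = B := Subgroup.eq_of_le_of_card_ge hWB (by rw [hW4]; exact h1.le)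
      exact hvW (h2 ▸ hvB)
    · exact h1
  have hBO : Oct B := ⟨hB8, hel.2⟩
  have hBz : ∀ f ∈ F, ∀ b ∈ B, f * b * f⁻¹ * b⁻¹ ∈ zpowers z := by
    intro f hf b hb
    by_cases hbW : b ∈ W
    · exact hcomm f hf b hbW
    · have h1 := mul_mem_of_index_two hWB (by rw [hB8, hW4]) hvB hb hvW hbW
      have h2 : b = v * (v * b) := by rw [← mul_assoc, hvv, one_mul]
      have h3 := hv.2.1 f hf
      have h5 := hcomm f hf _ h1
      have h6 : f * b * f⁻¹ * b⁻¹ = f * (v * b) * f⁻¹ * (v * b)⁻¹ := by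
        have h7 := hv.2.1 _ (mul_mem (mul_mem (mul_mem hf (hWF h1)) (inv_mem hf)) (inv_mem (hWF h1)))
        calc f * b * f⁻¹ * b⁻¹ = f * (v * (v * b)) * f⁻¹ * (v * (v * b))⁻¹ := by rw [← h2]
          _ = (f * v) * (v * b) * f⁻¹ * (v * b)⁻¹ * v⁻¹ := by group
          _ = v * (f * (v * b) * f⁻¹ * (v * b)⁻¹) * v⁻¹ := by rw [← h3]; group
          _ = (f * (v * b) * f⁻¹ * (v * b)⁻¹ * v) * v⁻¹ := by rw [h7]
          _ = f * (v * b) * f⁻¹ * (v * b)⁻¹ := by group
      rw [h6]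
      exact h5
  have hone : ∀ x, x ∈ zpowers z → n⁻¹ * x * n ∈ zpowers z → x = 1 := by
    intro x hx hx'
    rcases zpowers_cases hzz x hx with h1 | h1
    · exact h1
    · rcases zpowers_cases hzz _ hx' with h2 | h2
      · have h3 : x = n * (n⁻¹ * x * n) * n⁻¹ := by group
        rw [h3, h2]; group
      · exfalso
        rw [h1] at h2
        apply hnz
        have h3 : n * (n⁻¹ * z * n) * n⁻¹ = z := by group
        rw [h2] at h3
        exact h3
  have hcBF : ∀ f ∈ F, ∀ b ∈ cj n B, n⁻¹ * (f * b * f⁻¹ * b⁻¹) * n ∈ zpowers z := by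
    intro f hf b hb
    have h1 := hBz _ (mem_norm' hn hf) _ (mem_cj.1 hb)
    have h2 : n⁻¹ * f * n * (n⁻¹ * b * n) * (n⁻¹ * f * n)⁻¹ * (n⁻¹ * b * n)⁻¹ = n⁻¹ * (f * b * f⁻¹ * b⁻¹) * n := by
      group
    rwa [h2] at h1
  have hcB : cj n B ≤ F := by
    have h1 : cj n B ≤ cj n F := map_conj_mono hBF n
    rwa [cj_eq_iff.2 hn] at h1
  have hBB : B = cj n B := by
    refine Oct.eq_of_comm h.rank hBO (Oct.cj hBO n) ?_
    intro b hb b' hb'
    have h1 := hBz b' (hcB hb') b hb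
    have h2 := hcBF b (hBF hb) b' hb'
    have h3 : b * b' * b⁻¹ * b'⁻¹ = 1 := by
      apply hone _ ?_ h2
      have h4 := inv_mem h1
      have h5 : (b' * b * b'⁻¹ * b⁻¹)⁻¹ = b * b' * b⁻¹ * b'⁻¹ := by group
      rwa [h5] at h4
    have h4 : b * b' = (b * b' * b⁻¹ * b'⁻¹) * (b' * b) := by group
    rw [h4, h3, one_mul]
  have hBcen : B ≤ OZ F := by
    intro b hb
    refine ⟨hBF hb, fun f hf => ?_, hel.2 b hb⟩
    have h1 := hBz f hf b hb
    have h2 := hcBF f hf b (hBB ▸ hb)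
    have h3 := hone _ h1 h2
    have h4 : f * b = (f * b * f⁻¹ * b⁻¹) * (b * f) := by group
    rw [h4, h3, one_mul]
  have h5 := Subgroup.card_le_of_le hBcen
  rw [hB8, h4] at h5
  omega

/-- (II.2) (i), the case `|A ∩ E| = 2`. -/
theorem Hyp.false_of_two (h : Hyp S A) {F : Subgroup G} (hF : Ess S F) {z : G} (hz : z ∈ UU S A)
    (hz1 : z ≠ 1) {n : G} (hn : n ∈ normalizer (F : Set G)) (hnz : n * z * n⁻¹ ≠ z)
    (h8 : Nat.card (OZ F) = 8) (h2 : ∀ w ∈ A, w ∈ OZ F → w = 1 ∨ w = z) : False := by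
  have hFS : F ≤ S := hF.lt.le
  have hzF := Ess.z_mem h hF hz
  have hzz := h.U_sq hz
  have hE : Oct (OZ F) := ⟨h8, fun x hx => hx.2.2⟩
  have hzS := h.U_le_S hz
  -- `E` acts on `A` with commutators in `⟨z⟩`
  have hcE : ∀ e ∈ OZ F, ∀ a ∈ A, e * a * e⁻¹ = a ∨ e * a * e⁻¹ = a * z := by
    intro e he
    have heN := h.norm (hFS he.1)
    by_cases hne : ∃ a ∈ A, e * a * e⁻¹ ≠ a
    · obtain ⟨c, hc, hc1, hec, hall, -⟩ := h.oct.trans heN (fun a _ => by
        have h1 : e * (e * a * e⁻¹) * e⁻¹ = (e * e) * a * (e * e)⁻¹ := by group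
        rw [h1, he.2.2]; group) hne
      obtain ⟨a, ha, hea⟩ := hne
      have hea' : e * a * e⁻¹ = a * c := (hall a ha).resolve_left hea
      have hcc : ∀ e' ∈ OZ F, e' * c * e'⁻¹ = c := by
        intro e' he'
        have h1 : e' * a * e'⁻¹ ∈ A := mem_norm (h.norm (hFS he'.1)) ha
        have h3 : e * (e' * a * e'⁻¹) * e⁻¹ = e' * (a * c) * e'⁻¹ := by
          have h4 := he.2.1 e' he'.1
          have h5 : e⁻¹ * e' = e' * e⁻¹ := by
            have := (OZ F).inv_mem he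
            exact this.2.1 e' he'.1
          have h6 : e'⁻¹ * e⁻¹ = e⁻¹ * e'⁻¹ := by rw [← mul_inv_rev, h4, mul_inv_rev]
          calc e * (e' * a * e'⁻¹) * e⁻¹ = (e * e') * a * (e'⁻¹ * e⁻¹) := by group
            _ = (e' * e) * a * (e⁻¹ * e'⁻¹) := by rw [h4, h6]
            _ = e' * (e * a * e⁻¹) * e'⁻¹ := by group
            _ = e' * (a * c) * e'⁻¹ := by rw [hea']
        have h7 : e' * (a * c) * e'⁻¹ = (e' * a * e'⁻¹) * (e' * c * e'⁻¹) := by group
        rcases hall _ h1 with h8 | h8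
        · exfalso
          rw [h3, h7] at h8
          exact hc1 (conj_eq_one_iff.1 (mul_eq_left.1 h8))
        · rw [h3, h7] at h8
          exact mul_left_cancel h8
      have hcE' : c ∈ OZ F := Oct.mem_of_comm h.rank hE (h.oct.sq c hc) fun e' he' =>
        (conj_eq_iff.1 (hcc e' he')).symm
      rcases h2 c hc hcE' with h3 | h3
      · exact absurd h3 hc1
      · rw [← h3]; exact hall
    · push Not at hne
      exact fun a ha => Or.inl (hne a ha)
  -- two independent elements of `E` modulo `⟨z⟩`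
  have hzle : zpowers z ≤ OZ F := by rw [zpowers_le]; exact hzF
  obtain ⟨e₁, e₂, B⟩ := hE.exists_bas hzF hz1
  -- `[F, A] ≤ ⟨z⟩`
  have hFA : ∀ f ∈ F, ∀ a ∈ A, f * a * f⁻¹ * a⁻¹ ∈ zpowers z := by
    intro f hf a ha
    have hfz : ∀ k ∈ zpowers z, f * k = k * f := by
      intro k hk
      rcases zpowers_cases hzz k hk with rfl | rfl
      · simp
      · exact (U_comm hz (hFS hf)).symm
    -- an element `e` of `E - ⟨z⟩` commuting with `a`
    obtain ⟨e, he, hez, hea⟩ : ∃ e ∈ OZ F, e ∉ A ∧ e * a * e⁻¹ = a := by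
      have hnA : ∀ e ∈ OZ F, e ≠ 1 → e ≠ z → e ∉ A := by
        intro e he he1 hez heA
        rcases h2 e heA he with h3 | h3
        · exact he1 h3
        · exact hez h3
      rcases hcE e₁ B.hy a ha with h3 | h3
      · exact ⟨e₁, B.hy, hnA _ B.hy B.y1 B.yx, h3⟩
      rcases hcE e₂ B.hw a ha with h4 | h4
      · exact ⟨e₂, B.hw, hnA _ B.hw B.w1 B.wx, h4⟩
      refine ⟨e₁ * e₂, (OZ F).mul_mem B.hy B.hw, hnA _ ((OZ F).mul_mem B.hy B.hw) ?_ ?_, ?_⟩
      · intro h5
        exact B.wy (hE.eq_of_mul B.hw h5).symm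
      · intro h5
        apply B.wxy
        have h6 : e₁ * (e₁ * e₂) = e₁ * z := by rw [h5]
        rw [← mul_assoc, hE.sq e₁ B.hy, one_mul] at h6
        rw [h6]
        exact hE.comm B.hy hzF
      · have h5 := U_conj hz (hFS B.hy.1)
        calc e₁ * e₂ * a * (e₁ * e₂)⁻¹ = e₁ * (e₂ * a * e₂⁻¹) * e₁⁻¹ := by group
          _ = (e₁ * a * e₁⁻¹) * (e₁ * z * e₁⁻¹) := by rw [h4]; group
          _ = a * (z * z) := by rw [h3, h5]; group
          _ = a := by rw [hzz, mul_one]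
    obtain ⟨-, -, -, -, -, hH4⟩ := h.oct.trans (h.norm (hFS he.1)) (fun a _ => by
      have h1 : e * (e * a * e⁻¹) * e⁻¹ = (e * e) * a * (e * e)⁻¹ := by group
      rw [h1, he.2.2]; group) (by
        by_contra hc
        push Not at hc
        exact hez (Oct.mem_of_comm h.rank h.oct he.2.2 fun x hx => conj_eq_iff.1 (hc x hx)))
    refine conj_mul_mem (K := A ⊓ centralizer ({e} : Set G)) ?_ (by rw [hH4, card_zpowers_two hzz hz1]) ?_ hfz ?_
      (h.oct.sq a ha)
    · rw [zpowers_le]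
      exact ⟨hz.1, mem_centralizer_singleton_iff.2 (U_comm hz (hFS he.1))⟩
    · intro k hk
      rw [mem_inf_cent] at hk ⊢
      refine ⟨mem_norm (h.norm (hFS hf)) hk.1, ?_⟩
      have h4 := he.2.1 f hf
      have h6 : f⁻¹ * e⁻¹ = e⁻¹ * f⁻¹ := by rw [← mul_inv_rev, h4, mul_inv_rev]
      calc e * (f * k * f⁻¹) * e⁻¹ = (e * f) * k * (f⁻¹ * e⁻¹) := by group
        _ = (f * e) * k * (e⁻¹ * f⁻¹) := by rw [h4, h6]
        _ = f * (e * k * e⁻¹) * f⁻¹ := by group
        _ = f * k * f⁻¹ := by rw [hk.2]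
    · rw [mem_inf_cent]
      exact ⟨ha, hea⟩
  -- squares
  have hsq : ∀ y ∈ F, y ∉ OZ F → y * y ∈ OZ F → y * y = z := by
    intro y hy hyE hyy
    have h3 : y * y ∈ A := by
      refine Oct.mem_of_comm h.rank h.oct hyy.2.2 fun a ha => ?_
      have h4 := hFA y hy a ha
      have h5 := U_comm hz (hFS hy)
      rcases zpowers_cases hzz _ h4 with h6 | h6
      · have h7 : y * a = a * y := by
          have h8 : y * a = (y * a * y⁻¹ * a⁻¹) * (a * y) := by group
          rw [h8, h6, one_mul]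
        calc y * y * a = y * (y * a) := by group
          _ = y * (a * y) := by rw [h7]
          _ = (y * a) * y := by group
          _ = (a * y) * y := by rw [h7]
          _ = a * (y * y) := by group
      · have h7 : y * a = z * (a * y) := by
          have h8 : y * a = (y * a * y⁻¹ * a⁻¹) * (a * y) := by group
          rw [h8, h6]
        calc y * y * a = y * (y * a) := by group
          _ = y * (z * (a * y)) := by rw [h7]
          _ = (y * z) * (a * y) := by group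
          _ = (z * y) * (a * y) := by rw [h5]
          _ = z * (y * a) * y := by group
          _ = z * (z * (a * y)) * y := by rw [h7]
          _ = (z * z) * (a * (y * y)) := by group
          _ = a * (y * y) := by rw [hzz, one_mul]
    rcases h2 _ h3 hyy with h4 | h4
    · exfalso
      exact hyE (Oct.mem_of_comm h.rank hE h4 fun e he => (he.2.1 y hy).symm)
    · exact h4
  -- a square
  classical
  obtain ⟨x, hxS, hxc, hxE⟩ := h.nsc (OZ F) ((OZ_le F).trans hFS) hE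
  obtain ⟨x, hxF, hxE⟩ : ∃ x ∈ F, x ∉ OZ F := by
    by_contra hcon
    push Not at hcon
    have h3 : F = OZ F := le_antisymm hcon (OZ_le F)
    apply hxE
    rw [← h3]
    refine hF.centric ⟨?_, hxS⟩
    rw [h3]
    exact mem_cent_iff.2 hxc
  have hex : ∃ j : ℕ, x ^ 2 ^ j ∈ OZ F := by
    obtain ⟨k, hk⟩ := S.isPGroup' ⟨x, hFS hxF⟩
    refine ⟨k, ?_⟩
    have : x ^ 2 ^ k = 1 := by simpa using congrArg Subtype.val hk
    rw [this]
    exact one_mem _
  have hjE : x ^ 2 ^ Nat.find hex ∈ OZ F := Nat.find_spec hex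
  have hj0 : Nat.find hex ≠ 0 := by
    intro h0
    rw [h0] at hjE
    exact hxE (by simpa using hjE)
  obtain ⟨i, hi⟩ := Nat.exists_eq_succ_of_ne_zero hj0
  have hiE : x ^ 2 ^ i ∉ OZ F := Nat.find_min hex (by omega)
  have hyF : x ^ 2 ^ i ∈ F := pow_mem hxF _
  have hyy : x ^ 2 ^ i * x ^ 2 ^ i = x ^ 2 ^ Nat.find hex := by
    rw [← pow_add, hi, Nat.succ_eq_add_one, pow_succ]
    congr 1
    ring
  set y := x ^ 2 ^ i with hy
  rw [← hyy] at hjE
  have h3 := hsq y hyF hiE hjE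
  have hnE := OZ_norm F hn
  have h4 := hsq (n⁻¹ * y * n) (mem_norm' hn hyF) (fun h5 => hiE (by
    have h6 := mem_norm hnE h5
    have h7 : n * (n⁻¹ * y * n) * n⁻¹ = y := by group
    rwa [h7] at h6)) (by
    have h6 := mem_norm' hnE hjE
    have h7 : n⁻¹ * (y * y) * n = n⁻¹ * y * n * (n⁻¹ * y * n) := by group
    rwa [h7] at h6)
  apply hnz
  have h5 : n⁻¹ * y * n * (n⁻¹ * y * n) = n⁻¹ * (y * y) * n := by group
  rw [h5, h3] at h4
  have h6 : n * (n⁻¹ * z * n) * n⁻¹ = z := by group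
  rw [h4] at h6
  exact h6

/-- The statement of Lemmas 1-3 used in (II.2): a central (in `F`) elementary abelian `E ≠ A` of order 8,
`A` acting trivially on `F/E`. -/
def Central (S : Sylow 2 G) (A : Subgroup G) : Prop :=
  ∀ F E : Subgroup G, Ess S F → Oct E → E ≤ F → (∀ e ∈ E, ∀ x ∈ F, e * x = x * e) →
    A ≤ normalizer (F : Set G) → (∃ a ∈ A, a ∉ F ∧ ∀ x ∈ F, a * x * a⁻¹ * x⁻¹ ∈ E) → E ≠ A →
    ∀ w ∈ A, w ∈ E → ∀ s ∈ (S : Subgroup G), w * s = s * w

/-- (II.2) (i). -/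
theorem Hyp.OZ_eq_of_eight (h : Hyp S A) (hCen : Central S A) {F : Subgroup G} (hF : Ess S F) {z : G}
    (hz : z ∈ UU S A) (hz1 : z ≠ 1) {n : G} (hn : n ∈ normalizer (F : Set G)) (hnz : n * z * n⁻¹ ≠ z)
    (h8 : Nat.card (OZ F) = 8) : OZ F = A := by
  by_contra hne
  have hFS : F ≤ S := hF.lt.le
  have hzF := Ess.z_mem h hF hz
  have hzz := h.U_sq hz
  have hE : Oct (OZ F) := ⟨h8, fun x hx => hx.2.2⟩
  set W : Subgroup G := A ⊓ OZ F with hW
  have hWlt : W < OZ F := by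
    refine lt_of_le_of_ne inf_le_right ?_
    intro h1
    exact hne (Oct.eq_of_le hE h.oct (inf_eq_right.1 h1))
  have hzW : z ∈ W := ⟨hz.1, hzF⟩
  have hzle : zpowers z ≤ W := by rw [zpowers_le]; exact hzW
  have hc2 := card_zpowers_two hzz hz1
  have hcW := Subgroup.card_le_of_le hzle
  rw [hc2] at hcW
  have hcW' : Nat.card W < 8 := by
    rw [← h8]
    exact Set.Finite.card_lt_card (Set.toFinite _) hWlt
  rcases card_pow_two h ((inf_le_left : W ≤ A).trans h.le) (fun x hx => h.oct.sq x hx.1) with h1 | h1 | h1 | h1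
  · change Nat.card W = 1 at h1; omega
  · refine h.false_of_two hF hz hz1 hn hnz h8 fun w hw hwE => ?_
    have h3 : zpowers z = W := Subgroup.eq_of_le_of_card_ge hzle (by rw [hc2]; exact h1.le)
    have h4 : w ∈ zpowers z := by rw [h3]; exact ⟨hw, hwE⟩
    exact zpowers_cases hzz w h4
  · -- `|W| = 4`
    have h1 : Nat.card W = 4 := h1
    have hcomm : ∀ x ∈ F, ∀ a ∈ A, x * a * x⁻¹ * a⁻¹ ∈ W := by
      intro x hx a ha
      refine conj_mul_mem (K := A) inf_le_left (by rw [h.oct.card, h1]) (fun k hk => mem_norm (h.norm (hFS hx)) hk)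
        (fun k hk => (hk.2.2.1 x hx).symm) ha (h.oct.sq a ha)
    have hcomm' : ∀ x ∈ F, ∀ a ∈ A, a * x * a⁻¹ * x⁻¹ ∈ W := by
      intro x hx a ha
      have h3 := inv_mem (hcomm x hx a ha)
      have h4 : (x * a * x⁻¹ * a⁻¹)⁻¹ = a * x * a⁻¹ * x⁻¹ := by group
      rwa [h4] at h3
    have hAN : A ≤ normalizer (F : Set G) := by
      intro a ha
      apply mem_norm_of_conj
      intro x hx
      have h3 := mul_mem (OZ_le F (hcomm' x hx a ha).2) hx
      have h4 : a * x * a⁻¹ * x⁻¹ * x = a * x * a⁻¹ := by group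
      rwa [h4] at h3
    have hWA : W < A := by
      refine lt_of_le_of_ne inf_le_left ?_
      intro h3
      have := h.oct.card
      rw [← h3, h1] at this
      omega
    obtain ⟨a, ha, haW⟩ := SetLike.exists_of_lt hWA
    have haF : a ∉ F := by
      intro haF
      apply haW
      exact ⟨ha, Oct.mem_of_comm h.rank hE (h.oct.sq a ha) fun e he => (he.2.1 a haF).symm⟩
    have h3 := hCen F (OZ F) hF hE (OZ_le F) (fun e he => he.2.1) hAN
      ⟨a, ha, haF, fun x hx => (hcomm' x hx a ha).2⟩ hne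
    have h4 : W ≤ UU S A := fun w hw => ⟨hw.1, mem_cent_iff.2 (h3 w hw.1 hw.2)⟩
    have h5 := Subgroup.card_le_of_le h4
    rw [h1, h.card_U] at h5
    omega
  · change Nat.card W = 8 at h1; omega

/-- (II.2) (iii). -/
theorem Hyp.A_le_of_OZ_le (h : Hyp S A) {F : Subgroup G} (hF : Ess S F) {z : G} (hz : z ∈ UU S A)
    {n : G} (hn : n ∈ normalizer (F : Set G)) (hnz : n * z * n⁻¹ ≠ z)
    (hle : OZ F ≤ A) : A ≤ F := by
  have hFS : F ≤ S := hF.lt.le
  have hzF := Ess.z_mem h hF hz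
  have hzz := h.U_sq hz
  have hz1 : z ≠ 1 := by rintro rfl; exact hnz (by group)
  have hnzF : n * z * n⁻¹ ∈ OZ F := mem_norm (OZ_norm F hn) hzF
  have hcard : Nat.card (OZ F) ≠ 1 ∧ Nat.card (OZ F) ≠ 2 := by
    refine ⟨fun h1 => ?_, fun h1 => ?_⟩
    · rw [Subgroup.card_eq_one.1 h1, mem_bot] at hzF
      exact hz1 hzF
    · rcases One.card_two_cases h1 hzF hz1 _ hnzF with h3 | h3
      · exact hz1 (conj_eq_one_iff.1 h3)
      · exact hnz h3
  rcases card_pow_two h (hle.trans h.le) (fun x hx => hx.2.2) with h1 | h1 | h1 | h1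
  · exact absurd h1 hcard.1
  · exact absurd h1 hcard.2
  · have h1 : Nat.card (OZ F) = 4 := h1
    have hcomm : ∀ x ∈ F, ∀ a ∈ A, x * a * x⁻¹ * a⁻¹ ∈ OZ F := by
      intro x hx a ha
      refine conj_mul_mem (K := A) hle (by rw [h.oct.card, h1]) (fun k hk => mem_norm (h.norm (hFS hx)) hk)
        (fun k hk => (hk.2.1 x hx).symm) ha (h.oct.sq a ha)
    have hcomm' : ∀ x ∈ F, ∀ a ∈ A, a * x * a⁻¹ * x⁻¹ ∈ OZ F := by
      intro x hx a ha
      have h3 := inv_mem (hcomm x hx a ha)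
      have h4 : (x * a * x⁻¹ * a⁻¹)⁻¹ = a * x * a⁻¹ * x⁻¹ := by group
      rwa [h4] at h3
    intro a ha
    refine chain_OZ hF (h.le ha) ?_ (fun e he => hcomm' e he a ha) fun e he => h.oct.comm ha (hle he)
    apply mem_norm_of_conj
    intro x hx
    have h3 := mul_mem (OZ_le F (hcomm' x hx a ha)) hx
    have h4 : a * x * a⁻¹ * x⁻¹ * x = a * x * a⁻¹ := by group
    rwa [h4] at h3
  · have h3 : OZ F = A := Subgroup.eq_of_le_of_card_ge hle (by rw [h.oct.card]; exact h1.ge)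
    rw [← h3]
    exact OZ_le F

/-- **(II.2)** : if `F` is essential and `N(F)` moves `z` then `Ω₁(Z(F)) ≤ A ≤ F`. -/
theorem Hyp.omega_le (h : Hyp S A) (hCen : Central S A) {F : Subgroup G} (hF : Ess S F) {z : G}
    (hz : z ∈ UU S A) {n : G} (hn : n ∈ normalizer (F : Set G)) (hnz : n * z * n⁻¹ ≠ z) :
    OZ F ≤ A ∧ A ≤ F := by
  have hFS : F ≤ S := hF.lt.le
  have hzF := Ess.z_mem h hF hz
  have hz1 : z ≠ 1 := by rintro rfl; exact hnz (by group)
  have hnzF : n * z * n⁻¹ ∈ OZ F := mem_norm (OZ_norm F hn) hzF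
  have hle : OZ F ≤ A := by
    rcases card_pow_two h ((OZ_le F).trans hFS) (fun x hx => hx.2.2) with h1 | h1 | h1 | h1
    · exfalso
      rw [Subgroup.card_eq_one.1 h1, mem_bot] at hzF
      exact hz1 hzF
    · exfalso
      rcases One.card_two_cases h1 hzF hz1 _ hnzF with h3 | h3
      · exact hz1 (conj_eq_one_iff.1 h3)
      · exact hnz h3
    · exact h.OZ_le_of_four hF hz hz1 hn hnz h1
    · exact (h.OZ_eq_of_eight hCen hF hz hz1 hn hnz h1).le
  exact ⟨hle, h.A_le_of_OZ_le hF hz hn hnz hle⟩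

end

end Cfsg.Agent.RankThreeFus
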