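import Cfsg.Agent.RankThreeFus.Last
import Cfsg.Agent.RankThreeFus.Star
import Cfsg.Agent.RankThreeFus.Claim
import Cfsg.Agent.Lib.NormalAbelian

/-!
# S1730, branch (B), last case: the subgroup `Y₀ ≅ Z₄ × Z₄ × Z₂`

`E0 S A U`: the preimage of `Ω₁(C_{T/A}(Q))`.
-/

set_option autoImplicit false
set_option linter.style.haveILetI false
set_option linter.unusedSectionVars false
set_option linter.unusedVariables false

namespace Cfsg.Agent.RankThreeFus

open Subgroup Cfsg.Agent.Lib.GoldschmidtFusion Cfsg.Agent.StdL2.G23Aut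

variable {G : Type*} [Group G]

namespace Fr

variable {S : Sylow 2 G} {A U : Subgroup G} {z f x s : G} (h : Fr S A U z f x s)

include h

theorem T_comm {t a : G} (ht : t ∈ TT S A) (ha : a ∈ A) : t * a = a * t := mem_cent_iff.1 ht.2 a ha

theorem Q_comm {q u : G} (hq : q ∈ QQ S U) (hu : u ∈ U) : q * u = u * q := mem_cent_iff.1 hq.2 u hu

/-- `C_A(Q) = U` -/
theorem mem_U_of_comm [Finite G] {a : G} (ha : a ∈ A) (hc : ∀ q ∈ QQ S U, q * a = a * q) : a ∈ U := by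
  by_contra haU
  have h1 : f * a ∈ U := (h.mem_A ha).resolve_left haU
  obtain ⟨b, hb, hbf⟩ := h.tv z h.zU
  have h2 : b * f * b⁻¹ = f := by
    have e : f = (f * a) * a := by rw [mul_assoc, h.sqA ha, mul_one]
    have h3 := h.Q_comm hb h1
    have h4 := hc b hb
    rw [conj_eq_iff]
    calc b * f = b * ((f * a) * a) := by rw [← e]
      _ = (b * (f * a)) * a := by group
      _ = (f * a) * (b * a) := by rw [h3]; group
      _ = (f * a) * (a * b) := by rw [h4]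
      _ = ((f * a) * a) * b := by group
      _ = f * b := by rw [← e]
  rw [h2] at hbf
  exact h.z1 (mul_eq_left.1 hbf.symm)

theorem xmem_norm_inv {a : G} (ha : a ∈ A) : x * a * x⁻¹ ∈ A := mem_norm h.xA ha

/-- the preimage of `Ω₁(C_{T/A}(Q))` -/
def E0 : Subgroup G where
  carrier := {t | t ∈ TT S A ∧ t * t ∈ A ∧ ∀ q ∈ QQ S U, q * t * q⁻¹ * t⁻¹ ∈ A}
  one_mem' := ⟨one_mem _, by simp, fun q _ => by simp⟩
  mul_mem' := by
    rintro t r ⟨ht, ht2, htq⟩ ⟨hr, hr2, hrq⟩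
    have htQ : t ∈ QQ S U := h.T_le_Q ht
    refine ⟨mul_mem ht hr, ?_, fun q hq => ?_⟩
    · have e : t * r * (t * r) = (t * r * t⁻¹ * r⁻¹) * (r * (t * t) * r⁻¹) * (r * r) := by group
      rw [e]
      have h1 : r * (t * t) * r⁻¹ = t * t := conj_eq_iff.2 (h.T_comm hr ht2)
      rw [h1]
      exact mul_mem (mul_mem (hrq t htQ) ht2) hr2
    · have e : q * (t * r) * q⁻¹ * (t * r)⁻¹ =
          (q * t * q⁻¹ * t⁻¹) * (t * (q * r * q⁻¹ * r⁻¹) * t⁻¹) := by group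
      rw [e, conj_eq_iff.2 (h.T_comm ht (hrq q hq))]
      exact mul_mem (htq q hq) (hrq q hq)
  inv_mem' := by
    rintro t ⟨ht, ht2, htq⟩
    refine ⟨inv_mem ht, ?_, fun q hq => ?_⟩
    · have e : t⁻¹ * t⁻¹ = (t * t)⁻¹ := by group
      rw [e]; exact inv_mem ht2
    · have e : q * t⁻¹ * q⁻¹ * t⁻¹⁻¹ = t⁻¹ * (q * t * q⁻¹ * t⁻¹)⁻¹ * t⁻¹⁻¹ := by group
      rw [e, conj_eq_iff.2 (h.T_comm (inv_mem ht) (inv_mem (htq q hq)))]
      exact inv_mem (htq q hq)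

theorem mem_E0 {t : G} : t ∈ h.E0 ↔ t ∈ TT S A ∧ t * t ∈ A ∧ ∀ q ∈ QQ S U, q * t * q⁻¹ * t⁻¹ ∈ A := Iff.rfl

theorem A_le_E0 : A ≤ h.E0 := fun a ha => ⟨h.A_le_T ha, mul_mem ha ha, fun q hq =>
  mul_mem (mem_norm (h.hyp.norm hq.1) ha) (inv_mem ha)⟩

/-- commutators in `E0` are in `A` -/
theorem E0_comm {t r : G} (ht : t ∈ h.E0) (hr : r ∈ h.E0) : t * r * t⁻¹ * r⁻¹ ∈ A :=
  hr.2.2 t (h.T_le_Q ht.1)

/-- squares in `E0` are in `U` -/
theorem E0_sq [Finite G] {t : G} (ht : t ∈ h.E0) : t * t ∈ U := by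
  refine h.mem_U_of_comm ht.2.1 fun q hq => ?_
  have h1 := ht.2.2 q hq
  set a := q * t * q⁻¹ * t⁻¹ with ha
  have h2 : q * t * q⁻¹ = a * t := by rw [ha]; group
  rw [← conj_eq_iff]
  have h3 : q * (t * t) * q⁻¹ = (a * t) * (a * t) := by rw [← h2]; group
  have h4 := h.T_comm ht.1 h1
  rw [h3]
  calc (a * t) * (a * t) = a * (t * a) * t := by group
    _ = a * (a * t) * t := by rw [h4]
    _ = (a * a) * (t * t) := by group
    _ = t * t := by rw [h.sqA h1, one_mul]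

theorem E0_sq1 [Finite G] {t : G} (ht : t ∈ h.E0) (h1 : t * t = 1) : t ∈ A := h.mem_A_of_sq ht.1 h1

/-- the square of a product in `E0` -/
theorem E0_mul_sq [Finite G] {t r : G} (ht : t ∈ h.E0) (hr : r ∈ h.E0) :
    (t * r) * (t * r) = (t * r * t⁻¹ * r⁻¹) * ((t * t) * (r * r)) := by
  have h1 := h.E0_sq ht
  have e : t * r * (t * r) = (t * r * t⁻¹ * r⁻¹) * (r * (t * t) * r⁻¹) * (r * r) := by group
  rw [e, conj_eq_iff.2 (h.T_comm hr.1 (h.UA h1)), mul_assoc]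

theorem E0_comm_U [Finite G] {t r : G} (ht : t ∈ h.E0) (hr : r ∈ h.E0) : t * r * t⁻¹ * r⁻¹ ∈ U := by
  have h1 := h.E0_mul_sq ht hr
  have h2 := h.E0_sq (mul_mem ht hr)
  have h3 := mul_mem (h.E0_sq ht) (h.E0_sq hr)
  have h4 : t * r * t⁻¹ * r⁻¹ = (t * r) * (t * r) * ((t * t) * (r * r))⁻¹ := by
    rw [h1]; group
  rw [h4]
  exact mul_mem h2 (inv_mem h3)

theorem E0_norm {n : G} (hnA : n ∈ normalizer (A : Set G)) (hnT : n ∈ normalizer (TT S A : Set G))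
    (hnQ : n ∈ normalizer (QQ S U : Set G)) {t : G} (ht : t ∈ h.E0) : n * t * n⁻¹ ∈ h.E0 := by
  refine ⟨mem_norm hnT ht.1, ?_, fun q hq => ?_⟩
  · have e : n * t * n⁻¹ * (n * t * n⁻¹) = n * (t * t) * n⁻¹ := by group
    rw [e]
    exact mem_norm hnA ht.2.1
  · have h1 := ht.2.2 _ (mem_norm' hnQ hq)
    have e : q * (n * t * n⁻¹) * q⁻¹ * (n * t * n⁻¹)⁻¹ =
        n * ((n⁻¹ * q * n) * t * (n⁻¹ * q * n)⁻¹ * t⁻¹) * n⁻¹ := by group
    rw [e]
    exact mem_norm hnA h1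

theorem E0_x {t : G} (ht : t ∈ h.E0) : x * t * x⁻¹ ∈ h.E0 := h.E0_norm h.xA h.xT h.xQ ht

theorem E0_S {g t : G} (hg : g ∈ (S : Subgroup G)) (ht : t ∈ h.E0) : g * t * g⁻¹ ∈ h.E0 :=
  h.E0_norm (h.hyp.norm hg) (h.SnT hg) (h.SnQ hg) ht

/-- `E0 > A` -/
theorem exists_E0 [Finite G] : ∃ t ∈ h.E0, t ∉ A := by
  haveI : Fact (Nat.Prime 2) := ⟨Nat.prime_two⟩
  obtain ⟨r, hrS, hrc, hrA⟩ := h.hyp.nsc A h.AS h.hyp.oct
  have hrT : r ∈ TT S A := ⟨hrS, mem_cent_iff.2 hrc⟩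
  haveI : Group.IsNilpotent (QQ S U) := (S.2.to_le inf_le_left : IsPGroup 2 (QQ S U)).isNilpotent
  have hA : (A.subgroupOf (QQ S U)).Normal := ⟨fun a ha g => by
    rw [mem_subgroupOf] at ha ⊢
    exact mem_norm (h.hyp.norm g.2.1) ha⟩
  have hT : ((TT S A).subgroupOf (QQ S U)).Normal := ⟨fun a ha g => by
    rw [mem_subgroupOf] at ha ⊢
    exact mem_norm (h.SnT g.2.1) ha⟩
  obtain ⟨t, htT, htA, htg⟩ := Cfsg.Agent.Lib.NormalAbelian.exists_mem_not_mem_central_mod hA hT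
    (fun hle => hrA (mem_subgroupOf.1 (hle (show (⟨r, h.T_le_Q hrT⟩ : QQ S U) ∈ _ from
      mem_subgroupOf.2 hrT))))
  rw [mem_subgroupOf] at htT htA
  have htg' : ∀ q ∈ QQ S U, q * (t : G) * q⁻¹ * (t : G)⁻¹ ∈ A := by
    intro q hq
    have h1 := mem_subgroupOf.1 (htg ⟨q, hq⟩)
    have e : q * (t : G) * q⁻¹ * (t : G)⁻¹ = ((t : G) * q * (t : G)⁻¹ * q⁻¹)⁻¹ := by group
    rw [e]
    exact inv_mem h1
  -- a suitable 2-power
  have key : ∀ k : ℕ, ∀ t : G, t ∈ TT S A → t ∉ A → (∀ q ∈ QQ S U, q * t * q⁻¹ * t⁻¹ ∈ A) →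
      t ^ 2 ^ k = 1 → ∃ t ∈ h.E0, t ∉ A := by
    intro k
    induction k with
    | zero =>
      intro t _ htA _ h1
      exact absurd (by rw [pow_zero, pow_one] at h1; rw [h1]; exact one_mem _) htA
    | succ k ih =>
      intro t htT htA htq h1
      by_cases h2 : t * t ∈ A
      · exact ⟨t, ⟨htT, h2, htq⟩, htA⟩
      · refine ih (t * t) (mul_mem htT htT) h2 (fun q hq => ?_) ?_
        · have e : q * (t * t) * q⁻¹ * (t * t)⁻¹ =
              (q * t * q⁻¹ * t⁻¹) * (t * (q * t * q⁻¹ * t⁻¹) * t⁻¹) := by group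
          rw [e, conj_eq_iff.2 (h.T_comm htT (htq q hq))]
          exact mul_mem (htq q hq) (htq q hq)
        · rw [← pow_two, ← pow_mul, ← pow_succ']
          exact h1
  obtain ⟨k, hk⟩ := S.2 ⟨t, htT.1⟩
  exact key k t htT htA htg' (congrArg Subtype.val hk)

/-! ### The action of `x` on `A` -/

theorem U_cases' [Finite G] {w : G} (hw : w ∈ U) (hw1 : w ≠ 1) (hwz : w ≠ z) :
    ∀ u ∈ U, u = 1 ∨ u = z ∨ u = w ∨ u = z * w := by
  have hz2 := h.sqA h.zA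
  have hw2 := h.sqA (h.UA hw)
  have hc := h.commA (h.UA hw) h.zA
  have h1 : four z w hz2 hw2 hc ≤ U := by
    intro a ha
    rcases mem_four.1 ha with rfl | rfl | rfl | rfl
    · exact one_mem _
    · exact h.zU
    · exact hw
    · exact mul_mem h.zU hw
  have h2 : four z w hz2 hw2 hc = U := Subgroup.eq_of_le_of_card_ge h1
    (by rw [h.cardU, card_four h.z1 hw1 hwz])
  intro u hu
  rw [← h2] at hu
  exact mem_four.1 hu

/-- an element commuting with `x ^ 2` commutes with `x` -/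
theorem comm_of_sq_x [Finite G] {a : G} (ha : x * x * a = a * (x * x)) : x * a = a * x := by
  obtain ⟨k, hk⟩ := h.xo
  have hodd : (3 ^ k) % 2 = 1 := Nat.odd_iff.1 (Odd.pow (by decide))
  have h5 : 2 * ((3 ^ k + 1) / 2) = 3 ^ k + 1 := by omega
  have h7 : x ^ (3 ^ k) = 1 := by rw [← hk]; exact pow_orderOf_eq_one x
  have h6 : x = (x * x) ^ ((3 ^ k + 1) / 2) := by
    rw [← pow_two, ← pow_mul, h5, pow_succ, h7, one_mul]
  rw [h6]
  exact ((show Commute (x * x) a from ha).pow_left _).eq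

theorem z2_mem : x * z * x⁻¹ ∈ U := mem_norm h.xU h.zU

theorem z2_ne_one : x * z * x⁻¹ ≠ 1 := by
  intro h1
  rw [mul_inv_eq_one] at h1
  exact h.z1 (mul_eq_left.1 h1)

theorem z3_eq [Finite G] : x * (x * z * x⁻¹) * x⁻¹ = z * (x * z * x⁻¹) := by
  rcases h.U_cases' h.z2_mem h.z2_ne_one h.xz _ (mem_norm h.xU h.z2_mem) with h1 | h1 | h1 | h1
  · exfalso
    rw [mul_inv_eq_one] at h1
    exact h.z2_ne_one (mul_eq_left.1 h1)
  · exfalso
    apply h.xz
    rw [conj_eq_iff]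
    apply h.comm_of_sq_x
    rw [← conj_eq_iff]
    have e : x * x * z * (x * x)⁻¹ = x * (x * z * x⁻¹) * x⁻¹ := by group
    rw [e, h1]
  · exfalso
    apply h.xz
    exact mul_left_cancel (mul_right_cancel h1)
  · exact h1

theorem xz3 [Finite G] : x * (z * (x * z * x⁻¹)) * x⁻¹ = z := by
  have e : x * (z * (x * z * x⁻¹)) * x⁻¹ = (x * z * x⁻¹) * (x * (x * z * x⁻¹) * x⁻¹) := by group
  rw [e, h.z3_eq, h.commA h.zA (h.UA h.z2_mem), ← mul_assoc, h.sqA (h.UA h.z2_mem), one_mul]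

/-- `x` acts fixed-point-freely on `U` -/
theorem eq_one_of_comm [Finite G] {u : G} (hu : u ∈ U) (hx : x * u = u * x) : u = 1 := by
  have hx' := conj_eq_iff.2 hx
  rcases h.U_cases' h.z2_mem h.z2_ne_one h.xz u hu with rfl | rfl | rfl | rfl
  · rfl
  · exact absurd hx' h.xz
  · exfalso
    rw [h.z3_eq] at hx'
    exact h.z1 (mul_eq_right.1 hx')
  · exfalso
    rw [h.xz3] at hx'
    exact h.z2_ne_one (mul_eq_left.1 hx'.symm)

theorem x3_comm_U [Finite G] {u : G} (hu : u ∈ U) : x ^ 3 * u = u * x ^ 3 := by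
  rw [← conj_eq_iff]
  have e3 : ∀ v : G, x ^ 3 * v * (x ^ 3)⁻¹ = x * (x * (x * v * x⁻¹) * x⁻¹) * x⁻¹ := by
    intro v
    have e4 : x ^ 3 = x * x * x := by rw [pow_succ, pow_two]
    rw [e4]; group
  rw [e3]
  rcases h.U_cases' h.z2_mem h.z2_ne_one h.xz u hu with rfl | rfl | rfl | rfl
  · simp
  · rw [h.z3_eq, h.xz3]
  · rw [h.z3_eq, h.xz3]
  · rw [h.xz3, h.z3_eq]

theorem x3_comm_A [Finite G] {a : G} (ha : a ∈ A) : x ^ 3 * a = a * x ^ 3 := by
  rcases h.mem_A ha with h1 | h1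
  · exact h.x3_comm_U h1
  · have h2 : Commute (x ^ 3) f := (show Commute x f from h.xf).pow_left 3
    have h3 : Commute (x ^ 3) (f * a) := h.x3_comm_U h1
    have h4 : a = f * (f * a) := by rw [← mul_assoc, h.sqA h.fA, one_mul]
    have h5 := (h2.mul_right h3).eq
    rwa [← h4] at h5

/-- `C_A(x) = {1, f}` -/
theorem fix_A' [Finite G] {a : G} (ha : a ∈ A) (hx : x * a = a * x) : a = 1 ∨ a = f := by
  rcases h.mem_A ha with h1 | h1
  · exact Or.inl (h.eq_one_of_comm h1 hx)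
  · right
    have h2 : Commute x (f * a) := (show Commute x f from h.xf).mul_right hx
    have h3 := h.eq_one_of_comm h1 h2.eq
    rw [← inv_eq_of_mul_eq_one_right h3, h.invA h.fA]

/-- `C_U(s) = ⟨z⟩` -/
theorem fix_s [Finite G] {u : G} (hu : u ∈ U) (hs : s * u = u * s) : u = 1 ∨ u = z := by
  by_contra hcon
  push Not at hcon
  apply h.sU
  refine mem_cent_iff.2 fun v hv => ?_
  have hz : Commute s z := h.zc s h.sS
  have hsu : Commute s u := hs
  rcases h.U_cases' hu hcon.1 hcon.2 v hv with rfl | rfl | rfl | rfl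
  · simp
  · exact hz.eq
  · exact hs
  · exact (hz.mul_right hsu).eq

theorem sxi' : s * x⁻¹ * s⁻¹ = x := by
  have h1 := h.sx
  have e : s * x⁻¹ * s⁻¹ = (s * x * s⁻¹)⁻¹ := by group
  rw [e, h1, inv_inv]

theorem sf' [Finite G] : s * f = f * s := by
  have hsN := h.hyp.norm h.sS
  have hA := mem_norm hsN h.fA
  have hx : x * (s * f * s⁻¹) = (s * f * s⁻¹) * x := by
    have e1 : x * s = s * x⁻¹ := by
      have := h.sxi'
      calc x * s = (s * x⁻¹ * s⁻¹) * s := by rw [this]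
        _ = s * x⁻¹ := by group
    have e2 : s⁻¹ * x = x⁻¹ * s⁻¹ := by
      have := h.sxi'
      calc s⁻¹ * x = s⁻¹ * (s * x⁻¹ * s⁻¹) := by rw [this]
        _ = _ := by group
    have e3 : x⁻¹ * f = f * x⁻¹ := ((show Commute x f from h.xf).inv_left).eq
    calc x * (s * f * s⁻¹) = (x * s) * f * s⁻¹ := by group
      _ = s * (x⁻¹ * f) * s⁻¹ := by rw [e1]; group
      _ = s * f * (x⁻¹ * s⁻¹) := by rw [e3]; group
      _ = s * f * (s⁻¹ * x) := by rw [e2]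
      _ = _ := by group
  rcases h.fix_A' hA hx with h1 | h1
  · exfalso
    rw [mul_inv_eq_one] at h1
    exact h.f1 (mul_eq_left.1 h1)
  · exact conj_eq_iff.1 h1

/-! ### The order of `E0` -/

/-- `A ∪ e₀⁻¹A` -/
def DD (e₀ : G) (he : e₀ ∈ h.E0) : Subgroup G where
  carrier := {c | c ∈ TT S A ∧ (c ∈ A ∨ e₀ * c ∈ A)}
  one_mem' := ⟨one_mem _, Or.inl (one_mem _)⟩
  mul_mem' := by
    rintro c d ⟨hcT, hc⟩ ⟨hdT, hd⟩
    refine ⟨mul_mem hcT hdT, ?_⟩
    rcases hc with hc | hc <;> rcases hd with hd | hd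
    · exact Or.inl (mul_mem hc hd)
    · right
      have e : e₀ * (c * d) = c * (e₀ * d) := by
        rw [← mul_assoc, h.T_comm he.1 hc, mul_assoc]
      rw [e]
      exact mul_mem hc hd
    · right
      rw [← mul_assoc]
      exact mul_mem hc hd
    · left
      have e : c * d = (e₀ * e₀)⁻¹ * (e₀ * (e₀ * c) * e₀⁻¹) * (e₀ * d) := by group
      rw [e, conj_eq_iff.2 (h.T_comm he.1 hc)]
      exact mul_mem (mul_mem (inv_mem he.2.1) hc) hd
  inv_mem' := by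
    rintro c ⟨hcT, hc⟩
    refine ⟨inv_mem hcT, ?_⟩
    rcases hc with hc | hc
    · exact Or.inl (inv_mem hc)
    · right
      have e : e₀ * c⁻¹ = (e₀ * (e₀ * c)⁻¹ * e₀⁻¹) * (e₀ * e₀) := by group
      rw [e, conj_eq_iff.2 (h.T_comm he.1 (inv_mem hc))]
      exact mul_mem (inv_mem hc) he.2.1

theorem mem_DD {e₀ : G} {he : e₀ ∈ h.E0} {c : G} : c ∈ h.DD e₀ he ↔ c ∈ TT S A ∧ (c ∈ A ∨ e₀ * c ∈ A) :=
  Iff.rfl

theorem ncard_DD [Finite G] {e₀ : G} {he : e₀ ∈ h.E0} : (h.DD e₀ he : Set G).ncard ≤ 16 := by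
  have h1 : (h.DD e₀ he : Set G) ⊆ (A : Set G) ∪ (fun a => e₀⁻¹ * a) '' (A : Set G) := by
    rintro c ⟨_, hc | hc⟩
    · exact Or.inl hc
    · exact Or.inr ⟨e₀ * c, hc, by group⟩
  have h2 : (A : Set G).ncard = 8 := by
    rw [← Nat.card_coe_set_eq]; exact h.hyp.oct.card
  have h3 : ((fun a => e₀⁻¹ * a) '' (A : Set G)).ncard ≤ 8 := (Set.ncard_image_le (Set.toFinite _)).trans h2.le
  have h4 := Set.ncard_le_ncard h1 (Set.toFinite _)
  have h5 := Set.ncard_union_le (A : Set G) ((fun a => e₀⁻¹ * a) '' (A : Set G))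
  omega

/-- squares outside `DD` -/
theorem sq_notMem [Finite G] {e₀ : G} (he : e₀ ∈ h.E0) {c : G} (hc : c ∈ h.E0)
    (hcc : c * e₀ = e₀ * c) (hcD : c ∉ h.DD e₀ he) : c * c ∉ zpowers (e₀ * e₀) := by
  intro h1
  have he2 := h.E0_sq he
  rcases zpowers_cases (h.sqA (h.UA he2)) _ h1 with h2 | h2
  · exact hcD ⟨hc.1, Or.inl (h.E0_sq1 hc h2)⟩
  · refine hcD ⟨hc.1, Or.inr (h.E0_sq1 (mul_mem he hc) ?_)⟩
    have e : e₀ * c * (e₀ * c) = (e₀ * e₀) * (c * c) := by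
      calc e₀ * c * (e₀ * c) = e₀ * (c * e₀) * c := by group
        _ = e₀ * (e₀ * c) * c := by rw [hcc]
        _ = _ := by group
    rw [e, h2]
    exact h.sqA (h.UA he2)

theorem card_C_le [Finite G] {e₀ : G} (he : e₀ ∈ h.E0) (heA : e₀ ∉ A) :
    Nat.card (h.E0 ⊓ centralizer {e₀} : Subgroup G) ≤ 64 := by
  by_contra hcon
  push Not at hcon
  set C : Subgroup G := h.E0 ⊓ centralizer {e₀} with hC
  set D := h.DD e₀ he with hD
  have he2 := h.E0_sq he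
  have he1 : e₀ * e₀ ≠ 1 := fun h1 => heA (h.E0_sq1 he h1)
  have hCe : ∀ c ∈ C, c * e₀ = e₀ * c := fun c hc => mem_centralizer_singleton_iff.1 hc.2
  -- avoid four sets
  have avoid : ∀ X₁ X₂ X₃ X₄ : Set G, X₁.ncard ≤ 16 → X₂.ncard ≤ 16 → X₃.ncard ≤ 16 → X₄.ncard ≤ 16 →
      ∃ c ∈ C, c ∉ X₁ ∧ c ∉ X₂ ∧ c ∉ X₃ ∧ c ∉ X₄ := by
    intro X₁ X₂ X₃ X₄ h1 h2 h3 h4
    by_contra h5
    push Not at h5
    have h6 : (C : Set G) ⊆ ((X₁ ∪ X₂) ∪ X₃) ∪ X₄ := by
      intro c hc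
      by_cases c1 : c ∈ X₁
      · exact Or.inl (Or.inl (Or.inl c1))
      by_cases c2 : c ∈ X₂
      · exact Or.inl (Or.inl (Or.inr c2))
      by_cases c3 : c ∈ X₃
      · exact Or.inl (Or.inr c3)
      exact Or.inr (h5 c hc c1 c2 c3)
    have h7 := Set.ncard_le_ncard h6 (Set.toFinite _)
    have h8 : (C : Set G).ncard = Nat.card C := (Nat.card_coe_set_eq _).symm
    have h9 := Set.ncard_union_le ((X₁ ∪ X₂) ∪ X₃) X₄
    have h10 := Set.ncard_union_le (X₁ ∪ X₂) X₃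
    have h11 := Set.ncard_union_le X₁ X₂
    omega
  have hD16 : (D : Set G).ncard ≤ 16 := h.ncard_DD
  have himg : ∀ g : G, ((fun d => g⁻¹ * d) '' (D : Set G)).ncard ≤ 16 := fun g =>
    (Set.ncard_image_le (Set.toFinite _)).trans hD16
  have hnot : ∀ g c : G, c ∉ (fun d => g⁻¹ * d) '' (D : Set G) → g * c ∉ D := by
    intro g c hc h1
    exact hc ⟨g * c, h1, by group⟩
  obtain ⟨w₁, hw₁, hw₁D, -⟩ := avoid D D D D hD16 hD16 hD16 hD16
  obtain ⟨w₂, hw₂, hw₂D, h12, -⟩ := avoid D _ D D hD16 (himg w₁) hD16 hD16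
  have h12 := hnot _ _ h12
  obtain ⟨w₃, hw₃, hw₃D, h13, h23, h123⟩ := avoid D _ _ _ hD16 (himg w₁) (himg w₂) (himg (w₁ * w₂))
  have h13 := hnot _ _ h13
  have h23 := hnot _ _ h23
  have h123 := hnot _ _ h123
  have hH : zpowers (e₀ * e₀) ≤ U := by rwa [zpowers_le]
  have hHc : Nat.card (zpowers (e₀ * e₀)) = 2 := by
    rw [Nat.card_zpowers]
    exact orderOf_eq_prime (by rw [pow_two]; exact h.sqA (h.UA he2)) he1
  have hHU : Nat.card U = 2 * Nat.card (zpowers (e₀ * e₀)) := by rw [hHc, h.cardU]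
  -- the commutator of two independent elements
  have gam : ∀ c ∈ C, ∀ d ∈ C, c ∉ D → d ∉ D → c * d ∉ D → c * d * c⁻¹ * d⁻¹ ∉ zpowers (e₀ * e₀) := by
    intro c hc d hd hcD hdD hcdD h1
    have hcd : c * d ∈ C := mul_mem hc hd
    have h2 := h.E0_mul_sq hc.1 hd.1
    have h3 := h.sq_notMem he hcd.1 (hCe _ hcd) hcdD
    have h4 := mul_mem_of_index_two hH hHU (h.E0_sq hc.1) (h.E0_sq hd.1)
      (h.sq_notMem he hc.1 (hCe _ hc) hcD) (h.sq_notMem he hd.1 (hCe _ hd) hdD)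
    apply h3
    rw [h2]
    exact mul_mem h1 h4
  have g12 := gam w₁ hw₁ w₂ hw₂ hw₁D hw₂D h12
  have g13 := gam w₁ hw₁ w₃ hw₃ hw₁D hw₃D h13
  have g123 := gam w₁ hw₁ (w₂ * w₃) (mul_mem hw₂ hw₃) hw₁D h23 (by rw [← mul_assoc]; exact h123)
  apply g123
  have e : w₁ * (w₂ * w₃) * w₁⁻¹ * (w₂ * w₃)⁻¹ =
      (w₁ * w₂ * w₁⁻¹ * w₂⁻¹) * (w₂ * (w₁ * w₃ * w₁⁻¹ * w₃⁻¹) * w₂⁻¹) := by group
  rw [e, conj_eq_iff.2 (h.T_comm hw₂.1.1 (h.E0_comm hw₁.1 hw₃.1))]
  exact mul_mem_of_index_two hH hHU (h.E0_comm_U hw₁.1 hw₂.1) (h.E0_comm_U hw₁.1 hw₃.1) g12 g13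

theorem card_E0_le [Finite G] : Nat.card h.E0 ≤ 256 := by
  obtain ⟨e₀, he, heA⟩ := h.exists_E0
  have h1 := h.card_C_le he heA
  let φ : h.E0 →* U :=
    { toFun := fun c => ⟨c * e₀ * (c : G)⁻¹ * e₀⁻¹, h.E0_comm_U c.2 he⟩
      map_one' := by
        apply Subtype.ext
        simp
      map_mul' := by
        intro c d
        apply Subtype.ext
        change (c * d : G) * e₀ * (c * d : G)⁻¹ * e₀⁻¹ =
          (c * e₀ * (c : G)⁻¹ * e₀⁻¹) * (d * e₀ * (d : G)⁻¹ * e₀⁻¹)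
        have h2 := h.E0_comm d.2 he
        have h3 : (c : G) * (d * e₀ * (d : G)⁻¹ * e₀⁻¹) * (c : G)⁻¹ = d * e₀ * (d : G)⁻¹ * e₀⁻¹ :=
          conj_eq_iff.2 (h.T_comm c.2.1 h2)
        have h4 := h.commA (h.E0_comm c.2 he) h2
        calc (c * d : G) * e₀ * (c * d : G)⁻¹ * e₀⁻¹
            = ((c : G) * (d * e₀ * (d : G)⁻¹ * e₀⁻¹) * (c : G)⁻¹) * (c * e₀ * (c : G)⁻¹ * e₀⁻¹) := by group
          _ = (d * e₀ * (d : G)⁻¹ * e₀⁻¹) * (c * e₀ * (c : G)⁻¹ * e₀⁻¹) := by rw [h3]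
          _ = _ := h4.symm }
  have hker : Nat.card φ.ker ≤ 64 := by
    refine le_trans ?_ h1
    refine Nat.card_le_card_of_injective
      (fun c : φ.ker => (⟨(c : h.E0), c.1.2, ?_⟩ : (h.E0 ⊓ centralizer {e₀} : Subgroup G))) ?_
    · have h2 : (c.1 : G) * e₀ * (c.1 : G)⁻¹ * e₀⁻¹ = 1 := congrArg Subtype.val c.2
      rw [mul_inv_eq_one] at h2
      exact mem_centralizer_singleton_iff.2 (conj_eq_iff.1 h2)
    · intro c d hcd
      apply Subtype.ext
      apply Subtype.ext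
      have h3 := congrArg (fun c : (h.E0 ⊓ centralizer {e₀} : Subgroup G) => (c : G)) hcd
      exact h3
  have h2 : Nat.card h.E0 = Nat.card φ.ker * Nat.card φ.range := by
    rw [← Subgroup.card_mul_index φ.ker, index_ker]
  have h3 : Nat.card φ.range ≤ 4 := by
    have := Nat.le_of_dvd (by rw [h.cardU]; norm_num) (Subgroup.card_subgroup_dvd_card φ.range)
    rwa [h.cardU] at this
  rw [h2]
  exact (Nat.mul_le_mul hker h3).trans (by norm_num)

/-! ### A good element of `E0` -/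

/-- some element of `E0 - A` commutes with `x ^ 3` -/
theorem exists_x3 [Finite G] : ∃ t ∈ h.E0, t ∉ A ∧ x ^ 3 * t = t * x ^ 3 := by
  classical
  have hn : ∀ g ∈ zpowers x, ∀ t, t ∈ h.E0 ∧ t ∉ A → g * t * g⁻¹ ∈ h.E0 ∧ g * t * g⁻¹ ∉ A := by
    intro g hg t ht
    have hgA : g ∈ normalizer (A : Set G) := (zpowers_le.2 h.xA) hg
    have hgT : g ∈ normalizer (TT S A : Set G) := (zpowers_le.2 h.xT) hg
    have hgQ : g ∈ normalizer (QQ S U : Set G) := (zpowers_le.2 h.xQ) hg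
    refine ⟨h.E0_norm hgA hgT hgQ ht.1, fun h1 => ht.2 ?_⟩
    have := mem_norm' hgA h1
    have e : g⁻¹ * (g * t * g⁻¹) * g = t := by group
    rwa [e] at this
  letI : MulAction (zpowers x) {t : G // t ∈ h.E0 ∧ t ∉ A} :=
    { smul := fun g t => ⟨g * t * (g : G)⁻¹, hn g g.2 t t.2⟩
      one_smul := by
        intro t
        apply Subtype.ext
        change ((1 : zpowers x) : G) * t * ((1 : zpowers x) : G)⁻¹ = t
        simp
      mul_smul := by
        intro g g' t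
        apply Subtype.ext
        change ((g * g' : zpowers x) : G) * t * ((g * g' : zpowers x) : G)⁻¹ =
          g * (g' * t * (g' : G)⁻¹) * (g : G)⁻¹
        rw [coe_mul]
        group }
  have hsm : ∀ (g : zpowers x) (t : {t : G // t ∈ h.E0 ∧ t ∉ A}), ((g • t : {t : G // t ∈ h.E0 ∧ t ∉ A}) : G) =
    g * t * (g : G)⁻¹ := fun _ _ => rfl
  have hP : IsPGroup 3 (zpowers x) := by
    obtain ⟨k, hk⟩ := h.xo
    exact IsPGroup.of_card (n := k) (by rw [Nat.card_zpowers, hk])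
  have hcard : ¬ 9 ∣ Nat.card {t : G // t ∈ h.E0 ∧ t ∉ A} := by
    haveI : Fact (Nat.Prime 2) := ⟨Nat.prime_two⟩
    have h1 : Nat.card {t : G // t ∈ h.E0 ∧ t ∉ A} = ((h.E0 : Set G) \ (A : Set G)).ncard := by
      rw [← Nat.card_coe_set_eq]; rfl
    have h2 : ((h.E0 : Set G) \ (A : Set G)).ncard + (A : Set G).ncard = (h.E0 : Set G).ncard :=
      Set.ncard_sdiff_add_ncard_of_subset h.A_le_E0 (Set.toFinite _)
    have h3 : (A : Set G).ncard = 8 := by rw [← Nat.card_coe_set_eq]; exact h.hyp.oct.card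
    have h4 : (h.E0 : Set G).ncard = Nat.card h.E0 := (Nat.card_coe_set_eq _).symm
    obtain ⟨m, hm⟩ := IsPGroup.iff_card.1 (S.2.to_le (show h.E0 ≤ (S : Subgroup G) from fun t ht => ht.1.1))
    have h5 := h.card_E0_le
    obtain ⟨t, ht, htA⟩ := h.exists_E0
    have h6 : 0 < ((h.E0 : Set G) \ (A : Set G)).ncard :=
      (Set.ncard_pos (Set.toFinite _)).2 ⟨t, ht, htA⟩
    rw [h1]
    rw [h3, h4, hm] at h2
    rw [hm] at h5
    have h7 : m ≤ 8 := by
      by_contra h8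
      have : 2 ^ 9 ≤ 2 ^ m := Nat.pow_le_pow_right (by norm_num) (by omega)
      omega
    interval_cases m <;> omega
  obtain ⟨t, ht⟩ := Claim.exists_short hP hcard
  refine ⟨t, t.2.1, t.2.2, ?_⟩
  let g : Fin 4 → zpowers x := fun i => ⟨x ^ (i : ℕ), ⟨i, by simp⟩⟩
  have hex : ∃ i j : Fin 4, i < j ∧ g i • t = g j • t := by
    by_contra hcon
    push Not at hcon
    have hinj : Function.Injective (fun i : Fin 4 => g i • t) := by
      intro i j hij
      rcases lt_trichotomy i j with h1 | h1 | h1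
      · exact absurd hij (hcon i j h1)
      · exact h1
      · exact absurd hij.symm (hcon j i h1)
    have h1 : (Set.range (fun i : Fin 4 => g i • t)).ncard = 4 := by
      rw [← Set.image_univ, Set.ncard_image_of_injective _ hinj, Set.ncard_univ]
      simp
    have h2 : (Set.range (fun i : Fin 4 => g i • t)).ncard ≤ (MulAction.orbit (zpowers x) t).ncard :=
      Set.ncard_le_ncard (by rintro _ ⟨i, rfl⟩; exact ⟨g i, rfl⟩) (Set.toFinite _)
    omega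
  obtain ⟨i, j, hij, hE⟩ := hex
  have hE' : x ^ (i : ℕ) * (t : G) * (x ^ (i : ℕ))⁻¹ = x ^ (j : ℕ) * (t : G) * (x ^ (j : ℕ))⁻¹ := by
    have := congrArg Subtype.val hE
    rw [hsm, hsm] at this
    exact this
  obtain ⟨d, hd⟩ : ∃ d, (j : ℕ) = i + d := ⟨j - i, by omega⟩
  have hd0 : 0 < d := by omega
  have hd3 : d ≤ 3 := by omega
  have hdt : x ^ d * (t : G) = t * x ^ d := by
    rw [← conj_eq_iff]
    rw [hd, pow_add] at hE'
    have e1 : x ^ (i : ℕ) * x ^ d * (t : G) * (x ^ (i : ℕ) * x ^ d)⁻¹ =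
        x ^ (i : ℕ) * (x ^ d * t * (x ^ d)⁻¹) * (x ^ (i : ℕ))⁻¹ := by group
    rw [e1] at hE'
    exact (mul_left_cancel (mul_right_cancel hE')).symm
  interval_cases d
  · rw [pow_one] at hdt
    exact ((show Commute x (t : G) from hdt).pow_left 3).eq
  · rw [pow_two] at hdt
    exact ((show Commute x (t : G) from h.comm_of_sq_x hdt).pow_left 3).eq
  · exact hdt

theorem s_sq_mem_Q' [Finite G] : s * s ∈ QQ S U := by
  refine ⟨mul_mem h.sS h.sS, mem_cent_iff.2 fun u hu => ?_⟩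
  -- `s` acts on `U` fixing `z`
  have hz : Commute s z := h.zc s h.sS
  have hsN := h.nU (h.hyp.norm h.sS)
  have key : ∀ v ∈ U, v ≠ 1 → v ≠ z → s * (s * v * s⁻¹) * s⁻¹ = v := by
    intro v hv hv1 hvz
    rcases h.U_cases' hv hv1 hvz _ (mem_norm hsN hv) with h1 | h1 | h1 | h1
    · exfalso
      rw [mul_inv_eq_one] at h1
      exact hv1 (mul_eq_left.1 h1)
    · exfalso
      apply hvz
      have h2 : s * z * s⁻¹ = z := conj_eq_iff.2 hz.eq
      rw [← h2] at h1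
      exact mul_left_cancel (mul_right_cancel h1)
    · rw [h1, h1]
    · rw [h1]
      have e : s * (z * v) * s⁻¹ = (s * z * s⁻¹) * (s * v * s⁻¹) := by group
      rw [e, conj_eq_iff.2 hz.eq, h1, ← mul_assoc, h.sqA h.zA, one_mul]
  rw [← conj_eq_iff]
  have e : s * s * u * (s * s)⁻¹ = s * (s * u * s⁻¹) * s⁻¹ := by group
  rw [e]
  by_cases hu1 : u = 1
  · rw [hu1]; simp
  by_cases huz : u = z
  · rw [huz, conj_eq_iff.2 hz.eq, conj_eq_iff.2 hz.eq]
  exact key u hu hu1 huz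

/-- An element `t` of `E0` with `t² = z`, fixed by `s` modulo `A`, with trivial `x`-trace. -/
theorem exists_t [Finite G] : ∃ t ∈ h.E0, t * t = z ∧ x ^ 3 * t = t * x ^ 3 ∧ s * t * s⁻¹ * t⁻¹ ∈ A ∧
    t * (x * t * x⁻¹) * (x * (x * t * x⁻¹) * x⁻¹) = 1 := by
  obtain ⟨r, hr, hrA, hr3⟩ := h.exists_x3
  have hsr := h.E0_S h.sS hr
  have hsx3 : s * x ^ 3 * s⁻¹ = (x ^ 3)⁻¹ := by
    have e : s * x ^ 3 * s⁻¹ = (s * x * s⁻¹) ^ 3 := by rw [conj_pow]
    rw [e, h.sx, inv_pow]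
  have hsr3 : x ^ 3 * (s * r * s⁻¹) = (s * r * s⁻¹) * x ^ 3 := by
    have e1 : s⁻¹ * x ^ 3 * s = (x ^ 3)⁻¹ := by
      have e2 : s⁻¹ * x ^ 3 * s = (s⁻¹ * (x ^ 3)⁻¹ * s)⁻¹ := by group
      have e3 : s⁻¹ * (s * x ^ 3 * s⁻¹) * s = x ^ 3 := by group
      rw [hsx3] at e3
      rw [e2, e3]
    have h1 : Commute ((x ^ 3)⁻¹) r := (show Commute (x ^ 3) r from hr3).inv_left
    rw [← conj_eq_iff]
    have e3 : x ^ 3 * (s * r * s⁻¹) * (x ^ 3)⁻¹ = s * ((s⁻¹ * x ^ 3 * s) * r * (s⁻¹ * x ^ 3 * s)⁻¹) * s⁻¹ := by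
      group
    rw [e3, e1, conj_eq_iff.2 h1.eq]
  -- an `s`-fixed coset
  obtain ⟨t₁, ht₁, ht₁A, ht₁3, ht₁s⟩ : ∃ t ∈ h.E0, t ∉ A ∧ x ^ 3 * t = t * x ^ 3 ∧ s * t * s⁻¹ * t⁻¹ ∈ A := by
    by_cases h1 : r * (s * r * s⁻¹) ∈ A
    · refine ⟨r, hr, hrA, hr3, ?_⟩
      have e : s * r * s⁻¹ * r⁻¹ = r⁻¹ * (r * (s * r * s⁻¹)) * r⁻¹⁻¹ * (r * r)⁻¹ := by group
      rw [e, conj_eq_iff.2 (h.T_comm (inv_mem hr.1) h1)]
      exact mul_mem h1 (inv_mem hr.2.1)
    · refine ⟨r * (s * r * s⁻¹), mul_mem hr hsr, h1, ?_, ?_⟩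
      · exact ((show Commute (x ^ 3) r from hr3).mul_right (show Commute (x ^ 3) (s * r * s⁻¹) from hsr3)).eq
      · have h2 := hr.2.2 _ h.s_sq_mem_Q'
        have h3 := h.E0_comm hsr hr
        have e : s * (r * (s * r * s⁻¹)) * s⁻¹ * (r * (s * r * s⁻¹))⁻¹ =
            (s * r * s⁻¹) * ((s * s) * r * (s * s)⁻¹ * r⁻¹) * (s * r * s⁻¹)⁻¹ *
              ((s * r * s⁻¹) * r * (s * r * s⁻¹)⁻¹ * r⁻¹) := by group
        rw [e, conj_eq_iff.2 (h.T_comm hsr.1 h2)]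
        exact mul_mem h2 h3
  -- its square
  have hsqU := h.E0_sq ht₁
  have hsq : t₁ * t₁ = z := by
    have h1 : s * (t₁ * t₁) = (t₁ * t₁) * s := by
      rw [← conj_eq_iff]
      set a := s * t₁ * s⁻¹ * t₁⁻¹ with ha
      have h2 : s * t₁ * s⁻¹ = a * t₁ := by rw [ha]; group
      have h3 : s * (t₁ * t₁) * s⁻¹ = (s * t₁ * s⁻¹) * (s * t₁ * s⁻¹) := by group
      have h4 := h.T_comm ht₁.1 ht₁s
      rw [h3, h2]
      calc (a * t₁) * (a * t₁) = a * (t₁ * a) * t₁ := by group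
        _ = a * (a * t₁) * t₁ := by rw [h4]
        _ = (a * a) * (t₁ * t₁) := by group
        _ = t₁ * t₁ := by rw [h.sqA ht₁s, one_mul]
    rcases h.fix_s hsqU h1 with h2 | h2
    · exact absurd (h.E0_sq1 ht₁ h2) ht₁A
    · exact h2
  -- the trace
  set r₁ := x * t₁ * x⁻¹ with hr₁
  set r₂ := x * r₁ * x⁻¹ with hr₂
  have hr₁E : r₁ ∈ h.E0 := h.E0_x ht₁
  have hr₂E : r₂ ∈ h.E0 := h.E0_x hr₁E
  have hr₃ : x * r₂ * x⁻¹ = t₁ := by
    have e : x * r₂ * x⁻¹ = x ^ 3 * t₁ * (x ^ 3)⁻¹ := by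
      rw [hr₂, hr₁]
      have e4 : x ^ 3 = x * x * x := by rw [pow_succ, pow_two]
      rw [e4]; group
    rw [e, conj_eq_iff.2 ht₁3]
  set p := t₁ * r₁ * r₂ with hp
  have hpE : p ∈ h.E0 := mul_mem (mul_mem ht₁ hr₁E) hr₂E
  have hxp : x * p * x⁻¹ = t₁⁻¹ * p * t₁ := by
    have e : x * p * x⁻¹ = (x * t₁ * x⁻¹) * (x * r₁ * x⁻¹) * (x * r₂ * x⁻¹) := by rw [hp]; group
    rw [e, hr₃, ← hr₁, ← hr₂, hp]
    group
  have hpA : p ∈ A := by
    apply h.E0_sq1 hpE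
    apply h.eq_one_of_comm (h.E0_sq hpE)
    rw [← conj_eq_iff]
    have e : x * (p * p) * x⁻¹ = (x * p * x⁻¹) * (x * p * x⁻¹) := by group
    rw [e, hxp]
    have e2 : t₁⁻¹ * p * t₁ * (t₁⁻¹ * p * t₁) = t₁⁻¹ * (p * p) * t₁⁻¹⁻¹ := by group
    rw [e2, conj_eq_iff.2 (h.T_comm (inv_mem ht₁.1) (h.UA (h.E0_sq hpE)))]
  have hxp' : x * p = p * x := by
    rw [← conj_eq_iff, hxp]
    have e : t₁⁻¹ * p * t₁ = t₁⁻¹ * p * t₁⁻¹⁻¹ := by group
    rw [e, conj_eq_iff.2 (h.T_comm (inv_mem ht₁.1) hpA)]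
  rcases h.fix_A' hpA hxp' with h1 | h1
  · exact ⟨t₁, ht₁, hsq, ht₁3, ht₁s, h1⟩
  · have hfT := h.A_le_T h.fA
    have hxf : x * f * x⁻¹ = f := conj_eq_iff.2 h.xf
    have htf : t₁ * f = f * t₁ := h.T_comm ht₁.1 h.fA
    have e1 : x * (t₁ * f) * x⁻¹ = r₁ * f := by
      have e : x * (t₁ * f) * x⁻¹ = (x * t₁ * x⁻¹) * (x * f * x⁻¹) := by group
      rw [e, hxf]
    have e2 : x * (r₁ * f) * x⁻¹ = r₂ * f := by
      have e : x * (r₁ * f) * x⁻¹ = (x * r₁ * x⁻¹) * (x * f * x⁻¹) := by group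
      rw [e, hxf]
    refine ⟨t₁ * f, mul_mem ht₁ (h.A_le_E0 h.fA), ?_, ?_, ?_, ?_⟩
    · calc t₁ * f * (t₁ * f) = t₁ * (f * t₁) * f := by group
        _ = t₁ * (t₁ * f) * f := by rw [htf]
        _ = (t₁ * t₁) * (f * f) := by group
        _ = z := by rw [hsq, h.sqA h.fA, mul_one]
    · exact ((show Commute (x ^ 3) t₁ from ht₁3).mul_right (show Commute (x ^ 3) f from h.x3_comm_A h.fA)).eq
    · have e : s * (t₁ * f) * s⁻¹ * (t₁ * f)⁻¹ = (s * t₁ * s⁻¹) * (s * f * s⁻¹) * f⁻¹ * t₁⁻¹ := by group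
      rw [e, conj_eq_iff.2 h.sf']
      have e3 : s * t₁ * s⁻¹ * f * f⁻¹ * t₁⁻¹ = s * t₁ * s⁻¹ * t₁⁻¹ := by group
      rw [e3]
      exact ht₁s
    · rw [e1, e2]
      have hr₁f : r₁ * f = f * r₁ := h.T_comm hr₁E.1 h.fA
      have hr₂f : r₂ * f = f * r₂ := h.T_comm hr₂E.1 h.fA
      calc t₁ * f * (r₁ * f) * (r₂ * f) = t₁ * (f * r₁) * (f * r₂) * f := by group
        _ = t₁ * (r₁ * f) * (r₂ * f) * f := by rw [← hr₁f, ← hr₂f]
        _ = t₁ * r₁ * (f * r₂) * (f * f) := by group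
        _ = t₁ * r₁ * (r₂ * f) * (f * f) := by rw [← hr₂f]
        _ = (t₁ * r₁ * r₂) * f * (f * f) := by group
        _ = 1 := by rw [← hp, h1, h.sqA h.fA, mul_one]

end Fr

/-- `Y = Y₀ ≅ Z₄ × Z₄ × Z₂` with its generators `t`, `x t x⁻¹` modulo `A`. -/
structure Yz (S : Sylow 2 G) (A U : Subgroup G) (z f x s : G) (Y : Subgroup G) (t : G) : Prop where
  fr : Fr S A U z f x s
  AY : A ≤ Y
  YT : Y ≤ TT S A
  cardY : Nat.card Y = 32
  comm : ∀ y ∈ Y, ∀ y' ∈ Y, y * y' = y' * y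
  nS : (S : Subgroup G) ≤ normalizer (Y : Set G)
  nx : x ∈ normalizer (Y : Set G)
  QY : ∀ q ∈ QQ S U, ∀ y ∈ Y, q * y * q⁻¹ * y⁻¹ ∈ A
  tY : t ∈ Y
  tt : t * t = z
  tr : t * (x * t * x⁻¹) * (x * (x * t * x⁻¹) * x⁻¹) = 1
  st : s * t * s⁻¹ * t⁻¹ ∈ A
  x3 : ∀ y ∈ Y, x ^ 3 * y = y * x ^ 3
  sqU : ∀ y ∈ Y, y * y ∈ U
  sq1 : ∀ y ∈ Y, y * y = 1 → y ∈ A
  mem : ∀ y ∈ Y, ∃ a ∈ A, y = a ∨ y = a * t ∨ y = a * (x * t * x⁻¹) ∨ y = a * (t * (x * t * x⁻¹))

/-- **Existence of `Y₀`.** -/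
theorem Fr.exists_yz [Finite G] {S : Sylow 2 G} {A U : Subgroup G} {z f x s : G} (h : Fr S A U z f x s) :
    ∃ (Y : Subgroup G) (t : G), Yz S A U z f x s Y t := by
  obtain ⟨t, ht, htt, ht3, hst, htr⟩ := h.exists_t
  obtain ⟨r, hr⟩ : ∃ r, r = x * t * x⁻¹ := ⟨_, rfl⟩
  rw [← hr] at htr
  have hrE : r ∈ h.E0 := by rw [hr]; exact h.E0_x ht
  have hrr : r * r = x * z * x⁻¹ := by rw [← htt, hr]; group
  -- `t` and `r` commute
  have hx2 : x * r * x⁻¹ = (t * r)⁻¹ := by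
    rw [eq_comm]
    exact inv_eq_of_mul_eq_one_right htr
  have hcm : t * r = r * t := by
    have h1 := h.E0_mul_sq ht hrE
    have hgU := h.E0_comm_U ht hrE
    have h2 : (x * r * x⁻¹) * (x * r * x⁻¹) = z * (x * z * x⁻¹) := by
      have e : (x * r * x⁻¹) * (x * r * x⁻¹) = x * (r * r) * x⁻¹ := by group
      rw [e, hrr, h.z3_eq]
    rw [hx2] at h2
    have h3 : (t * r)⁻¹ * (t * r)⁻¹ = ((t * r) * (t * r))⁻¹ := by group
    rw [h3, h1, htt, hrr] at h2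
    have hzz := mul_mem h.zU h.z2_mem
    have h4 : t * r * t⁻¹ * r⁻¹ * (z * (x * z * x⁻¹)) = z * (x * z * x⁻¹) := by
      have h5 := h.invA (h.UA (mul_mem hgU hzz))
      rw [h5] at h2
      exact h2
    have h6 : t * r * t⁻¹ * r⁻¹ = 1 := mul_eq_right.1 h4
    have e : t * r = (t * r * t⁻¹ * r⁻¹) * (r * t) := by group
    rw [e, h6, one_mul]
  have hta : ∀ a ∈ A, t * a = a * t := fun a ha => h.T_comm ht.1 ha
  have hra : ∀ a ∈ A, r * a = a * r := fun a ha => h.T_comm hrE.1 ha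
  have ht2A : t * t ∈ A := ht.2.1
  have hr2A : r * r ∈ A := hrE.2.1
  -- the subgroup
  let Y : Subgroup G :=
    { carrier := {y | ∃ a ∈ A, ∃ i j : ℤ, y = a * (t ^ i * r ^ j)}
      one_mem' := ⟨1, one_mem _, 0, 0, by simp⟩
      mul_mem' := by
        rintro _ _ ⟨a, ha, i, j, rfl⟩ ⟨b, hb, k, l, rfl⟩
        refine ⟨a * b, mul_mem ha hb, i + k, j + l, ?_⟩
        have c1 : Commute (t ^ i * r ^ j) b :=
          ((show Commute t b from hta b hb).zpow_left i).mul_left ((show Commute r b from hra b hb).zpow_left j)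
        have c2 : Commute (r ^ j) (t ^ k) := ((show Commute r t from hcm.symm).zpow_left j).zpow_right k
        calc a * (t ^ i * r ^ j) * (b * (t ^ k * r ^ l))
            = a * ((t ^ i * r ^ j) * b) * (t ^ k * r ^ l) := by group
          _ = a * (b * (t ^ i * r ^ j)) * (t ^ k * r ^ l) := by rw [c1.eq]
          _ = a * b * t ^ i * (r ^ j * t ^ k) * r ^ l := by group
          _ = a * b * t ^ i * (t ^ k * r ^ j) * r ^ l := by rw [c2.eq]
          _ = a * b * (t ^ (i + k) * r ^ (j + l)) := by rw [zpow_add, zpow_add]; group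
      inv_mem' := by
        rintro _ ⟨a, ha, i, j, rfl⟩
        refine ⟨a⁻¹, inv_mem ha, -i, -j, ?_⟩
        have c1 : Commute (t ^ i * r ^ j) a :=
          ((show Commute t a from hta a ha).zpow_left i).mul_left ((show Commute r a from hra a ha).zpow_left j)
        have c2 : Commute (t ^ i) (r ^ j) := ((show Commute t r from hcm).zpow_left i).zpow_right j
        rw [← c1.eq, mul_inv_rev, c2.eq, mul_inv_rev, zpow_neg, zpow_neg] }
  have hmemY : ∀ y, y ∈ Y ↔ ∃ a ∈ A, ∃ i j : ℤ, y = a * (t ^ i * r ^ j) := fun _ => Iff.rfl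
  have hAY : A ≤ Y := fun a ha => ⟨a, ha, 0, 0, by simp⟩
  have htY : t ∈ Y := ⟨1, one_mem _, 1, 0, by simp⟩
  have hrY : r ∈ Y := ⟨1, one_mem _, 0, 1, by simp⟩
  have hYE : Y ≤ h.E0 := by
    rintro _ ⟨a, ha, i, j, rfl⟩
    exact mul_mem (h.A_le_E0 ha) (mul_mem (zpow_mem ht i) (zpow_mem hrE j))
  have hcommY : ∀ y ∈ Y, ∀ y' ∈ Y, y * y' = y' * y := by
    rintro _ ⟨a, ha, i, j, rfl⟩ _ ⟨b, hb, k, l, rfl⟩
    have ctr : Commute t r := hcm
    have hgen : ∀ c ∈ A, Commute c (t ^ k * r ^ l) := fun c hc =>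
      ((show Commute c t from (hta c hc).symm).zpow_right k).mul_right
        ((show Commute c r from (hra c hc).symm).zpow_right l)
    have hgen2 : Commute (t ^ i * r ^ j) b :=
      ((show Commute t b from hta b hb).zpow_left i).mul_left ((show Commute r b from hra b hb).zpow_left j)
    have hgen3 : Commute (t ^ i * r ^ j) (t ^ k * r ^ l) :=
      Commute.mul_left
        (((Commute.refl t).zpow_zpow i k).mul_right ((ctr.zpow_left i).zpow_right l))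
        (((ctr.symm.zpow_left j).zpow_right k).mul_right ((Commute.refl r).zpow_zpow j l))
    have hab : Commute a b := h.commA ha hb
    exact (Commute.mul_left (hab.mul_right (hgen a ha)) (hgen2.mul_right hgen3)).eq
  -- elements
  have hpow : ∀ (w : G), (∀ a ∈ A, w * a = a * w) → w * w ∈ A → ∀ i : ℤ, ∃ a ∈ A, w ^ i = a ∨ w ^ i = a * w := by
    intro w hwa hw i
    obtain ⟨k, hk⟩ := Int.even_or_odd' i
    rcases hk with rfl | rfl
    · refine ⟨w ^ (2 * k), ?_, Or.inl rfl⟩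
      rw [zpow_mul, zpow_two]
      exact zpow_mem hw k
    · refine ⟨w ^ (2 * k), ?_, Or.inr (by rw [zpow_add, zpow_one])⟩
      rw [zpow_mul, zpow_two]
      exact zpow_mem hw k
  have hel : ∀ y ∈ Y, ∃ a ∈ A, y = a ∨ y = a * t ∨ y = a * r ∨ y = a * (t * r) := by
    rintro _ ⟨a, ha, i, j, rfl⟩
    obtain ⟨b, hb, hbi⟩ := hpow t hta ht2A i
    obtain ⟨c, hc, hcj⟩ := hpow r hra hr2A j
    refine ⟨a * b * c, mul_mem (mul_mem ha hb) hc, ?_⟩
    have e1 : t * c = c * t := hta c hc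
    rcases hbi with hbi | hbi <;> rcases hcj with hcj | hcj <;> rw [hbi, hcj]
    · left; group
    · right; right; left; group
    · right; left
      calc a * (b * t * c) = a * b * (t * c) := by group
        _ = a * b * (c * t) := by rw [e1]
        _ = _ := by group
    · right; right; right
      calc a * (b * t * (c * r)) = a * b * (t * c) * r := by group
        _ = a * b * (c * t) * r := by rw [e1]
        _ = _ := by group
  -- normalisation by `x` and `S`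
  have hnorm : ∀ g ∈ normalizer (A : Set G), g * t * g⁻¹ ∈ Y → g * r * g⁻¹ ∈ Y → g ∈ normalizer (Y : Set G) := by
    intro g hgA hgt hgr
    refine mem_norm_of_conj ?_
    rintro _ ⟨a, ha, i, j, rfl⟩
    have e : g * (a * (t ^ i * r ^ j)) * g⁻¹ = (g * a * g⁻¹) * ((g * t * g⁻¹) ^ i * (g * r * g⁻¹) ^ j) := by
      rw [conj_zpow, conj_zpow]; group
    rw [e]
    exact mul_mem (hAY (mem_norm hgA ha)) (mul_mem (zpow_mem hgt i) (zpow_mem hgr j))
  have hnx : x ∈ normalizer (Y : Set G) := by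
    refine hnorm x h.xA (by rw [← hr]; exact hrY) ?_
    rw [hx2]
    exact inv_mem (mul_mem htY hrY)
  have hQY : ∀ q ∈ QQ S U, ∀ y ∈ Y, q * y * q⁻¹ * y⁻¹ ∈ A := fun q hq y hy => (hYE hy).2.2 q hq
  have hnQ : QQ S U ≤ normalizer (Y : Set G) := by
    intro q hq
    refine hnorm q (h.hyp.norm hq.1) ?_ ?_
    · have e : q * t * q⁻¹ = (q * t * q⁻¹ * t⁻¹) * t := by group
      rw [e]; exact mul_mem (hAY (hQY q hq t htY)) htY
    · have e : q * r * q⁻¹ = (q * r * q⁻¹ * r⁻¹) * r := by group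
      rw [e]; exact mul_mem (hAY (hQY q hq r hrY)) hrY
  have hsA := h.hyp.norm h.sS
  have hst' : s * t * s⁻¹ ∈ Y := by
    have e : s * t * s⁻¹ = (s * t * s⁻¹ * t⁻¹) * t := by group
    rw [e]; exact mul_mem (hAY hst) htY
  have hns : s ∈ normalizer (Y : Set G) := by
    refine hnorm s hsA hst' ?_
    have e : s * r * s⁻¹ = (s * x * s⁻¹) * (s * t * s⁻¹) * (s * x * s⁻¹)⁻¹ := by rw [hr]; group
    rw [e, h.sx]
    have h1 : x⁻¹ ∈ normalizer (Y : Set G) := inv_mem hnx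
    exact mem_norm h1 hst'
  have hnS : (S : Subgroup G) ≤ normalizer (Y : Set G) := by
    intro g hg
    by_cases hgQ : g ∈ QQ S U
    · exact hnQ hgQ
    · -- `g s⁻¹ ∈ Q`
      have hcS : Nat.card S = 2 * Nat.card (QQ S U) := by
        rw [h.cardS, h.cardQ]; ring
      have hsQ : s⁻¹ ∉ QQ S U := fun h1 => h.sU (by
        have := inv_mem h1
        rw [inv_inv] at this
        exact this.2)
      have h1 := mul_mem_of_index_two (inf_le_left : QQ S U ≤ (S : Subgroup G)) hcS hg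
        (inv_mem h.sS) hgQ hsQ
      have e : g = (g * s⁻¹) * s := by group
      rw [e]
      exact mul_mem (hnQ h1) hns
  have hx3Y : ∀ y ∈ Y, x ^ 3 * y = y * x ^ 3 := by
    rintro _ ⟨a, ha, i, j, rfl⟩
    have c1 : Commute (x ^ 3) t := ht3
    have c2 : Commute (x ^ 3) r := by
      have hxx : Commute (x ^ 3) x := (Commute.refl x).pow_left 3
      rw [hr]
      exact (hxx.mul_right c1).mul_right hxx.inv_right
    exact ((show Commute (x ^ 3) a from h.x3_comm_A ha).mul_right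
      ((c1.zpow_right i).mul_right (c2.zpow_right j))).eq
  -- the order
  have hcard : Nat.card Y = 32 := by
    let φ : Y →* U :=
      { toFun := fun y => ⟨y * y, h.E0_sq (hYE y.2)⟩
        map_one' := by apply Subtype.ext; simp
        map_mul' := by
          intro y y'
          apply Subtype.ext
          change (y * y' : G) * (y * y') = (y * y) * (y' * y')
          have := hcommY y' y'.2 y y.2
          calc (y * y' : G) * (y * y') = y * (y' * y) * y' := by group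
            _ = y * (y * y') * y' := by rw [this]
            _ = _ := by group }
    have hker : φ.ker = A.subgroupOf Y := by
      ext y
      rw [MonoidHom.mem_ker, mem_subgroupOf]
      constructor
      · intro h1
        exact h.E0_sq1 (hYE y.2) (congrArg Subtype.val h1)
      · intro h1
        exact Subtype.ext (h.sqA h1)
    have hsurj : Function.Surjective φ := by
      rintro ⟨u, hu⟩
      rcases h.U_cases' h.z2_mem h.z2_ne_one h.xz u hu with rfl | rfl | rfl | rfl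
      · exact ⟨1, map_one φ⟩
      · exact ⟨⟨t, htY⟩, Subtype.ext htt⟩
      · exact ⟨⟨r, hrY⟩, Subtype.ext hrr⟩
      · refine ⟨⟨t, htY⟩ * ⟨r, hrY⟩, ?_⟩
        rw [map_mul]
        apply Subtype.ext
        change (t * t) * (r * r) = _
        rw [htt, hrr]
    have h1 : A.relIndex Y = 4 := by
      rw [relIndex, ← hker, index_ker, MonoidHom.range_eq_top.2 hsurj, card_top, h.cardU]
    have h2 := relIndex_mul_card' hAY
    rw [h1, h.hyp.oct.card] at h2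
    exact h2.symm
  exact ⟨Y, t, { fr := h, AY := hAY, YT := fun y hy => (hYE hy).1, cardY := hcard, comm := hcommY, nS := hnS
                 nx := hnx, QY := hQY, tY := htY, tt := htt, tr := by rw [← hr]; exact htr, st := hst, x3 := hx3Y
                 sqU := fun y hy => h.E0_sq (hYE hy), sq1 := fun y hy h1 => h.E0_sq1 (hYE hy) h1
                 mem := by rw [← hr]; exact hel }⟩

end Cfsg.Agent.RankThreeFus
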