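import Cfsg.Agent.RankThreeFus.CaseIBase
import Cfsg.Agent.RankThreeFus.Eone

/-!
# S1730, (B8*): changing `x` without changing `Y`

`Yz.adapt`: for an involution `e ∈ S - Q` there are `f'`, `x'`, `t'` with `Yz S A U z f' x' e Y t'` (the same `Y`)
and `e t' = t' e`.
-/

set_option autoImplicit false
set_option linter.style.haveILetI false
set_option linter.unusedSectionVars false
set_option linter.unusedVariables false

namespace Cfsg.Agent.RankThreeFus

open Subgroup Cfsg.Agent.Lib.GoldschmidtFusion Cfsg.Agent.StdL2.G23Aut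

variable {G : Type*} [Group G]

namespace Fr

variable {S : Sylow 2 G} {A U : Subgroup G} {z f x s : G} (h : Fr S A U z f x s)

include h

/-- A new `x`, inverted by a given involution of `S - Q`. -/
theorem adapt_norm [Finite G] {e : G} (heS : e ∈ (S : Subgroup G)) (heU : e ∉ centralizer (U : Set G))
    (hee : e * e = 1) : ∃ f' x' : G, Fr S A U z f' x' e ∧ f * f' ∈ U ∧
    ∀ N : Subgroup G, e ∈ normalizer (N : Set G) → x ∈ normalizer (N : Set G) → x' ∈ normalizer (N : Set G) := by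
  have hei : e⁻¹ = e := inv_eq_of_mul_eq_one_right hee
  have hcS : Nat.card S = 2 * Nat.card (QQ S U) := by
    rw [h.cardS, h.cardQ]; ring
  have hsQ : s⁻¹ ∉ QQ S U := fun h1 => h.sU (by
    have := inv_mem h1
    rw [inv_inv] at this
    exact this.2)
  have hq : e * s⁻¹ ∈ QQ S U := mul_mem_of_index_two (inf_le_left : QQ S U ≤ (S : Subgroup G)) hcS heS
    (inv_mem h.sS) (fun h1 => heU h1.2) hsQ
  obtain ⟨q, hqe⟩ : ∃ q, q = e * s⁻¹ := ⟨_, rfl⟩
  rw [← hqe] at hq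
  have heq : e = q * s := by rw [hqe]; group
  obtain ⟨w, hw⟩ : ∃ w, w = e * x⁻¹ * e * x := ⟨_, rfl⟩
  have hwinv : e * w * e⁻¹ = w⁻¹ := by
    have e1 : w⁻¹ = x⁻¹ * e⁻¹ * x * e⁻¹ := by rw [hw]; group
    rw [e1, hei, hw]
    calc e * (e * x⁻¹ * e * x) * e = (e * e) * x⁻¹ * e * x * e := by group
      _ = _ := by rw [hee, one_mul]
  obtain ⟨r, hr⟩ : ∃ r, r = q * (x * ((s * q * s⁻¹) * (s * s)) * x⁻¹) := ⟨_, rfl⟩
  have hrQ : r ∈ QQ S U := by
    rw [hr]
    exact mul_mem hq (mem_norm h.xQ (mul_mem (mem_norm (h.SnQ h.sS) hq) h.s_sq_mem_Q'))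
  have hwr : w = r * (x * x) := by
    have e1 : w = q * (s * x⁻¹ * s⁻¹) * (s * q * s⁻¹) * (s * s) * x := by rw [hw, heq]; group
    rw [e1, h.sxi, hr]; group
  have hwU : ∀ u ∈ U, w * u * w⁻¹ = x * (x * u * x⁻¹) * x⁻¹ := by
    intro u hu
    have h1 := h.Q_comm hrQ (mem_norm h.xU (mem_norm h.xU hu))
    have e1 : w * u * w⁻¹ = r * (x * (x * u * x⁻¹) * x⁻¹) * r⁻¹ := by rw [hwr]; group
    rw [e1]
    exact conj_eq_iff.2 h1
  have hxN := h.xA
  have heN := h.hyp.norm heS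
  have hwA : w ∈ normalizer (A : Set G) := by
    rw [hw]; exact mul_mem (mul_mem (mul_mem heN (inv_mem hxN)) heN) hxN
  have hwT : w ∈ normalizer (TT S A : Set G) := by
    rw [hw]; exact mul_mem (mul_mem (mul_mem (h.SnT heS) (inv_mem h.xT)) (h.SnT heS)) h.xT
  have hwQ : w ∈ normalizer (QQ S U : Set G) := by
    rw [hw]; exact mul_mem (mul_mem (mul_mem (h.SnQ heS) (inv_mem h.xQ)) (h.SnQ heS)) h.xQ
  -- the new `f`
  have hxf : x * f * x⁻¹ = f := conj_eq_iff.2 h.xf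
  have hwf : w * f * w⁻¹ = r * f * r⁻¹ := by
    have e1 : w * f * w⁻¹ = r * (x * (x * f * x⁻¹) * x⁻¹) * r⁻¹ := by rw [hwr]; group
    rw [e1, hxf, hxf]
  have hrfA : r * f * r⁻¹ ∈ A := mem_norm (h.hyp.norm hrQ.1) h.fA
  have hrfU : f * (r * f * r⁻¹) ∈ U := by
    rcases h.mem_A hrfA with h1 | h1
    · exfalso
      apply h.fU
      have h2 := mem_norm' (h.SnU hrQ.1) h1
      have e1 : r⁻¹ * (r * f * r⁻¹) * r = f := by group
      rwa [e1] at h2
    · exact h1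
  obtain ⟨u, hu⟩ : ∃ u, u = f * (r * f * r⁻¹) := ⟨_, rfl⟩
  rw [← hu] at hrfU
  have hfu : w * f * w⁻¹ = f * u := by
    rw [hwf, hu, ← mul_assoc, h.sqA h.fA, one_mul]
  obtain ⟨v, hv⟩ : ∃ v, v = w * u * w⁻¹ := ⟨_, rfl⟩
  have hvx : v = x * (x * u * x⁻¹) * x⁻¹ := by rw [hv]; exact hwU u hrfU
  have hvU : v ∈ U := by rw [hvx]; exact mem_norm h.xU (mem_norm h.xU hrfU)
  have hwv : w * v * w⁻¹ = x * u * x⁻¹ := by
    rw [hwU v hvU, hvx]
    have e1 : x * (x * (x * (x * u * x⁻¹) * x⁻¹) * x⁻¹) * x⁻¹ = x ^ 3 * (x * u * x⁻¹) * (x ^ 3)⁻¹ := by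
      have e4 : x ^ 3 = x * x * x := by rw [pow_succ, pow_two]
      rw [e4]; group
    rw [e1]
    exact conj_eq_iff.2 (h.x3_comm_U (mem_norm h.xU hrfU))
  have htr := h.trace_U hrfU
  rw [← hvx] at htr
  have huv : u * (x * u * x⁻¹) = v := by
    rw [← inv_eq_of_mul_eq_one_left htr]
    exact h.invA (h.UA hvU)
  have hwf' : w * (f * v) * w⁻¹ = f * v := by
    have e1 : w * (f * v) * w⁻¹ = (w * f * w⁻¹) * (w * v * w⁻¹) := by group
    rw [e1, hfu, hwv, mul_assoc, huv]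
  have hcwf : Commute w (f * v) := conj_eq_iff.1 hwf'
  -- the power
  have hn0 : orderOf w ≠ 0 := (orderOf_pos w).ne'
  obtain ⟨k, m, hm, hkm⟩ := Nat.exists_eq_pow_mul_and_not_dvd hn0 3 (by norm_num)
  have hm0 : m ≠ 0 := by
    rintro rfl
    exact hm (dvd_zero 3)
  have hord : orderOf (w ^ m) = 3 ^ k := by
    rw [orderOf_pow_of_dvd hm0 (by rw [hkm]; exact dvd_mul_left _ _), hkm, Nat.mul_div_cancel _
      (Nat.pos_of_ne_zero hm0)]
  have hw3 : Commute (w ^ 3) z := by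
    have h1 := h.zU
    have h2 : w ^ 3 * z * (w ^ 3)⁻¹ = z := by
      have e4 : w ^ 3 = w * w * w := by rw [pow_succ, pow_two]
      have e1 : w ^ 3 * z * (w ^ 3)⁻¹ = w * (w * (w * z * w⁻¹) * w⁻¹) * w⁻¹ := by rw [e4]; group
      have m1 := mem_norm h.xU (mem_norm h.xU h1)
      have m2 := mem_norm h.xU (mem_norm h.xU m1)
      rw [e1, hwU z h1, hwU _ m1, hwU _ m2]
      have e5 : x * (x * (x * (x * (x * (x * z * x⁻¹) * x⁻¹) * x⁻¹) * x⁻¹) * x⁻¹) * x⁻¹ =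
          x ^ 3 * (x ^ 3 * z * (x ^ 3)⁻¹) * (x ^ 3)⁻¹ := by
        have e4 : x ^ 3 = x * x * x := by rw [pow_succ, pow_two]
        rw [e4]; group
      rw [e5, conj_eq_iff.2 (h.x3_comm_U h1), conj_eq_iff.2 (h.x3_comm_U h1)]
    exact conj_eq_iff.1 h2
  have hwz : w * z ≠ z * w := by
    intro h1
    apply h.xz
    rw [conj_eq_iff]
    apply h.comm_of_sq_x
    have h2 := hwU z h.zU
    rw [conj_eq_iff.2 h1] at h2
    rw [← conj_eq_iff]
    have e : x * x * z * (x * x)⁻¹ = x * (x * z * x⁻¹) * x⁻¹ := by group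
    rw [e, ← h2]
  have hwmz : w ^ m * z ≠ z * w ^ m := by
    intro h1
    have hc1 : Commute (w ^ m) z := h1
    have hcop : IsCoprime (m : ℤ) (3 : ℤ) := by
      have : Nat.Coprime 3 m := (Nat.Prime.coprime_iff_not_dvd Nat.prime_three).2 hm
      exact (Nat.isCoprime_iff_coprime.2 this.symm)
    obtain ⟨a, b, hab⟩ := hcop
    have h2 : w = (w ^ m) ^ a * (w ^ 3) ^ b := by
      have : w = w ^ (a * (m : ℤ) + b * 3) := by rw [hab, zpow_one]
      conv_lhs => rw [this]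
      rw [zpow_add, mul_comm a, mul_comm b, zpow_mul, zpow_mul, zpow_natCast]
      norm_cast
    apply hwz
    have h3 : Commute ((w ^ m) ^ a * (w ^ 3) ^ b) z := (hc1.zpow_left a).mul_left (hw3.zpow_left b)
    rw [← h2] at h3
    exact h3.eq
  refine ⟨f * v, w ^ m, ?_, ?_, ?_⟩
  · exact { hyp := h.hyp, UA := h.UA, cardU := h.cardU, nU := h.nU, zU := h.zU, z1 := h.z1, zc := h.zc
            zuniq := h.zuniq, fA := mul_mem h.fA (h.UA hvU)
            fU := fun h1 => h.fU ((mul_mem_cancel_right hvU).1 h1)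
            xA := pow_mem hwA m, xT := pow_mem hwT m, xQ := pow_mem hwQ m
            xz := fun h1 => hwmz (conj_eq_iff.1 h1)
            xf := (hcwf.pow_left m).eq, xo := ⟨k, hord⟩, sS := heS, sU := heU
            sx := by rw [← conj_pow, hwinv, inv_pow]
            cardS := h.cardS, cardQ := h.cardQ
            tv := by
              intro c hc
              obtain ⟨b, hb, hbf⟩ := h.tv c hc
              refine ⟨b, hb, ?_⟩
              have h1 : b * v * b⁻¹ = v := conj_eq_iff.2 (h.Q_comm hb hvU)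
              have e1 : b * (f * v) * b⁻¹ = (b * f * b⁻¹) * (b * v * b⁻¹) := by group
              rw [e1, hbf, h1, mul_assoc, mul_assoc, h.commA (h.UA hc) (h.UA hvU)] }
  · rw [← mul_assoc, h.sqA h.fA, one_mul]
    exact hvU
  · intro N heN hxN
    refine pow_mem ?_ m
    rw [hw]
    exact mul_mem (mul_mem (mul_mem heN (inv_mem hxN)) heN) hxN

end Fr

namespace Yz

variable {S : Sylow 2 G} {A U : Subgroup G} {z f x s : G} {Y : Subgroup G} {t : G}

/-- Transfer of `Yz` to another frame with the same `A`, `U`, `z` whose `x'` normalises `Y`. -/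
theorem transfer [Finite G] (h : Yz S A U z f x s Y t) {f' x' s' : G} (h' : Fr S A U z f' x' s')
    (hx' : x' ∈ normalizer (Y : Set G)) : ∃ t' : G, Yz S A U z f' x' s' Y t' := by
  have hYA : ∀ y ∈ Y, ∀ y' ∈ Y, y * y = y' * y' → y * y'⁻¹ ∈ A := by
    intro y hy y' hy' hyy
    refine h.sq1 _ (mul_mem hy (inv_mem hy')) ?_
    have h1 := h.comm y hy y'⁻¹ (inv_mem hy')
    calc y * y'⁻¹ * (y * y'⁻¹) = y * (y'⁻¹ * y) * y'⁻¹ := by group
      _ = y * (y * y'⁻¹) * y'⁻¹ := by rw [h1]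
      _ = (y * y) * (y' * y')⁻¹ := by group
      _ = 1 := by rw [hyy, mul_inv_cancel]
  -- `x'³` centralises `Y`
  have hx3 : ∀ y ∈ Y, x' ^ 3 * y = y * x' ^ 3 := by
    intro y hy
    have h1 : x' ^ 3 * y * (x' ^ 3)⁻¹ ∈ Y := mem_norm (pow_mem hx' 3) hy
    have h2 : (x' ^ 3 * y * (x' ^ 3)⁻¹) * (x' ^ 3 * y * (x' ^ 3)⁻¹) = y * y := by
      have e : (x' ^ 3 * y * (x' ^ 3)⁻¹) * (x' ^ 3 * y * (x' ^ 3)⁻¹) = x' ^ 3 * (y * y) * (x' ^ 3)⁻¹ := by group
      rw [e]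
      exact conj_eq_iff.2 (h'.x3_comm_U (h.sqU y hy))
    have h3 := hYA _ h1 y hy h2
    obtain ⟨a, ha⟩ : ∃ a, a = x' ^ 3 * y * (x' ^ 3)⁻¹ * y⁻¹ := ⟨_, rfl⟩
    rw [← ha] at h3
    have h4 : x' ^ 3 * y * (x' ^ 3)⁻¹ = y * a := by
      have e : x' ^ 3 * y * (x' ^ 3)⁻¹ = a * y := by rw [ha]; group
      rw [e]; exact h.comm a (h.AY h3) y hy
    have h5 := Eone.odd_trick (y := x' ^ 3) (g := y) (a := a) ?_ h4 (h'.x3_comm_A h3) (h'.sqA h3)
    · rw [h5, mul_one] at h4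
      exact conj_eq_iff.1 h4
    · obtain ⟨k, hk⟩ := h'.xo
      have h6 : Odd (orderOf x') := by rw [hk]; exact Odd.pow (by decide)
      exact Odd.of_dvd_nat h6 (orderOf_pow_dvd 3)
  have hcub : ∀ y ∈ Y, x' * (x' * (x' * y * x'⁻¹) * x'⁻¹) * x'⁻¹ = y := by
    intro y hy
    have e : x' * (x' * (x' * y * x'⁻¹) * x'⁻¹) * x'⁻¹ = x' ^ 3 * y * (x' ^ 3)⁻¹ := by
      have e4 : x' ^ 3 = x' * x' * x' := by rw [pow_succ, pow_two]
      rw [e4]; group
    rw [e]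
    exact conj_eq_iff.2 (hx3 y hy)
  -- the norm of `t`
  obtain ⟨r, hr⟩ : ∃ r, r = x' * t * x'⁻¹ := ⟨_, rfl⟩
  obtain ⟨w, hw⟩ : ∃ w, w = x' * r * x'⁻¹ := ⟨_, rfl⟩
  have hrY : r ∈ Y := by rw [hr]; exact mem_norm hx' h.tY
  have hwY : w ∈ Y := by rw [hw]; exact mem_norm hx' hrY
  have hrr : r * r = x' * z * x'⁻¹ := by rw [hr, ← h.tt]; group
  have hww : w * w = x' * (x' * z * x'⁻¹) * x'⁻¹ := by rw [hw, ← hrr]; group
  have hFY : t * r * w ∈ Y := mul_mem (mul_mem h.tY hrY) hwY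
  have hFF : (t * r * w) * (t * r * w) = 1 := by
    have c1 := h.comm t h.tY r hrY
    have c2 := h.comm (t * r) (mul_mem h.tY hrY) w hwY
    calc (t * r * w) * (t * r * w) = (t * r) * (w * (t * r)) * w := by group
      _ = (t * r) * ((t * r) * w) * w := by rw [c2]
      _ = t * (r * t) * r * (w * w) := by group
      _ = t * (t * r) * r * (w * w) := by rw [c1]
      _ = (t * t) * (r * r) * (w * w) := by group
      _ = 1 := by rw [h.tt, hrr, hww]; exact h'.trace_U h'.zU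
  have hFA : t * r * w ∈ A := h.sq1 _ hFY hFF
  have hFx : x' * (t * r * w) * x'⁻¹ = t * r * w := by
    have e : x' * (t * r * w) * x'⁻¹ = (x' * t * x'⁻¹) * (x' * r * x'⁻¹) * (x' * w * x'⁻¹) := by group
    have e2 : x' * w * x'⁻¹ = t := by rw [hw, hr]; exact hcub t h.tY
    rw [e, e2, ← hr, ← hw]
    have c2 := h.comm (r * w) (mul_mem hrY hwY) t h.tY
    rw [c2, ← mul_assoc]
  have hF := h'.fix_A hFA (conj_eq_iff.1 hFx)
  -- the new `t`
  obtain ⟨c, hc⟩ : ∃ c, c = t * r * w := ⟨_, rfl⟩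
  rw [← hc] at hF hFA hFx
  have hcA := hFA
  have hcc : c * c = 1 := h'.sqA hcA
  have hcY := h.AY hcA
  obtain ⟨t', ht'⟩ : ∃ t', t' = c * t := ⟨_, rfl⟩
  have ht'Y : t' ∈ Y := by rw [ht']; exact mul_mem hcY h.tY
  have ht't' : t' * t' = z := by
    have c1 := h.comm t h.tY c hcY
    rw [ht']
    calc c * t * (c * t) = c * (t * c) * t := by group
      _ = c * (c * t) * t := by rw [c1]
      _ = (c * c) * (t * t) := by group
      _ = z := by rw [hcc, h.tt, one_mul]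
  have hx1 : x' * t' * x'⁻¹ = c * r := by
    have e : x' * (c * t) * x'⁻¹ = (x' * c * x'⁻¹) * (x' * t * x'⁻¹) := by group
    rw [ht', e, hFx, ← hr]
  have hx2 : x' * (c * r) * x'⁻¹ = c * w := by
    have e : x' * (c * r) * x'⁻¹ = (x' * c * x'⁻¹) * (x' * r * x'⁻¹) := by group
    rw [e, hFx, ← hw]
  have htr : t' * (x' * t' * x'⁻¹) * (x' * (x' * t' * x'⁻¹) * x'⁻¹) = 1 := by
    rw [hx1, hx2, ht']
    have c1 := h.comm t h.tY c hcY
    have c2 := h.comm (t * r) (mul_mem h.tY hrY) c hcY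
    calc c * t * (c * r) * (c * w) = c * (t * c) * r * (c * w) := by group
      _ = c * (c * t) * r * (c * w) := by rw [c1]
      _ = (c * c) * ((t * r) * c) * w := by group
      _ = (c * c) * (c * (t * r)) * w := by rw [c2]
      _ = (c * c) * (c * (t * r * w)) := by group
      _ = 1 := by rw [← hc, hcc, one_mul]
  refine ⟨t', { fr := h', AY := h.AY, YT := h.YT, cardY := h.cardY, comm := h.comm, nS := h.nS, nx := hx'
                QY := h.QY, tY := ht'Y, tt := ht't', tr := htr, st := ?_, x3 := hx3, sqU := h.sqU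
                sq1 := h.sq1, mem := ?_ }⟩
  · refine hYA _ (mem_norm (h.nS h'.sS) ht'Y) _ ht'Y ?_
    have e : s' * t' * s'⁻¹ * (s' * t' * s'⁻¹) = s' * (t' * t') * s'⁻¹ := by group
    rw [e, ht't']
    exact conj_eq_iff.2 (h'.zc s' h'.sS)
  · intro y hy
    have hr'Y : x' * t' * x'⁻¹ ∈ Y := mem_norm hx' ht'Y
    have hr'r' : (x' * t' * x'⁻¹) * (x' * t' * x'⁻¹) = x' * z * x'⁻¹ := by rw [← ht't']; group
    have key : ∀ g ∈ Y, y * y = g * g → ∃ a ∈ A, y = a * g := by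
      intro g hg hyg
      exact ⟨y * g⁻¹, hYA y hy g hg hyg, by group⟩
    rcases h'.U_cases h'.xzU h'.xz1 h'.xz (h.sqU y hy) with h1 | h1 | h1 | h1
    · exact ⟨y, h.sq1 y hy h1, Or.inl rfl⟩
    · obtain ⟨a, ha, hya⟩ := key t' ht'Y (by rw [h1, ht't'])
      exact ⟨a, ha, Or.inr (Or.inl hya)⟩
    · obtain ⟨a, ha, hya⟩ := key _ hr'Y (by rw [h1, hr'r'])
      exact ⟨a, ha, Or.inr (Or.inr (Or.inl hya))⟩
    · obtain ⟨a, ha, hya⟩ := key _ (mul_mem ht'Y hr'Y) (by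
        have c1 := h.comm t' ht'Y _ hr'Y
        rw [h1]
        calc z * (x' * z * x'⁻¹) = (t' * t') * ((x' * t' * x'⁻¹) * (x' * t' * x'⁻¹)) := by rw [ht't', hr'r']
          _ = t' * (t' * (x' * t' * x'⁻¹)) * (x' * t' * x'⁻¹) := by group
          _ = t' * ((x' * t' * x'⁻¹) * t') * (x' * t' * x'⁻¹) := by rw [c1]
          _ = _ := by group)
      exact ⟨a, ha, Or.inr (Or.inr (Or.inr hya))⟩

/-- **A new `x`, `f`, `t` for an involution `e ∈ S - Q`, with the same `Y`.** -/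
theorem adapt [Finite G] (h : Yz S A U z f x s Y t) {e : G} (heS : e ∈ (S : Subgroup G))
    (heU : e ∉ centralizer (U : Set G)) (hee : e * e = 1) :
    ∃ f' x' t' : G, Yz S A U z f' x' e Y t' ∧ e * t' = t' * e ∧ f * f' ∈ U := by
  obtain ⟨f', x', h', hff, hN⟩ := h.fr.adapt_norm heS heU hee
  obtain ⟨t₁, h1⟩ := h.transfer h' (hN Y (h.nS heS) h.nx)
  obtain ⟨t', h2, h3⟩ := h1.exists_comm hee
  exact ⟨f', x', t', h2, h3, hff⟩

/-- **The data of CASE I**, with the same `Y`. -/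
theorem exists_ci [Finite G] (h : Yz S A U z f x s Y t) {e b : G} (heS : e ∈ (S : Subgroup G))
    (heU : e ∉ centralizer (U : Set G)) (hee : e * e = 1) (hb : b ∈ QQ S U) (hbb : b * b = 1)
    (hbf : b * f * b⁻¹ = f * z) (hbe : b * e = e * b) :
    ∃ f' x' t' : G, Ci S A U z f' x' e Y t' b ∧ f * f' ∈ U := by
  obtain ⟨f', x', t', hY', hst, hff⟩ := h.adapt heS heU hee
  refine ⟨f', x', t', ⟨hY', hee, hst, hb, hbb, ?_, hbe⟩, hff⟩
  have hF := h.fr
  obtain ⟨v, hv⟩ : ∃ v, v = f * f' := ⟨_, rfl⟩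
  rw [← hv] at hff
  have hf' : f' = f * v := by rw [hv, ← mul_assoc, hF.sqA hF.fA, one_mul]
  have h1 : b * v * b⁻¹ = v := conj_eq_iff.2 (hF.Q_comm hb hff)
  have e1 : b * (f * v) * b⁻¹ = (b * f * b⁻¹) * (b * v * b⁻¹) := by group
  rw [hf', e1, hbf, h1, mul_assoc, mul_assoc, hF.commA hF.zA (hF.UA hff)]

end Yz

end Cfsg.Agent.RankThreeFus
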